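import Mathlib

set_option autoImplicit false

/-!
# Coprime automorphisms of `p`-groups fixing the elements of order `p` (or `4`)

Gorenstein 5.3.10 / Huppert IV.5.12, in a relative form: `α` is an automorphism of an ambient group `G`,
`H` an `α`-invariant finite `p`-subgroup on which a power `α ^ m` with `m` prime to `p` is trivial.
The class-two power formulas are as in `Lib/Helper66/ClassTwo.lean` (re-proved here to keep this file
self-contained).
-/

namespace Cfsg.Agent.Helper87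

/-- triangular numbers -/
def tri : ℕ → ℕ
  | 0 => 0
  | n + 1 => tri n + n

theorem two_mul_tri (n : ℕ) : 2 * tri n = n * (n - 1) := by
  induction n with
  | zero => rfl
  | succ n ih =>
    rw [tri, mul_add, ih]
    cases n with
    | zero => rfl
    | succ k => simp only [Nat.add_sub_cancel]; ring

theorem dvd_tri_of_odd_prime (p : ℕ) (hp : p.Prime) (hodd : p ≠ 2) : p ∣ tri p := by
  have h1 : p ∣ 2 * tri p := by rw [two_mul_tri]; exact Dvd.intro _ rfl
  have h2 : Nat.Coprime p 2 := (Nat.coprime_primes hp Nat.prime_two).mpr hodd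
  exact h2.dvd_of_dvd_mul_left h1

theorem tri_two : tri 2 = 1 := rfl

theorem tri_four : tri 4 = 6 := rfl

section
variable {G : Type*} [Group G]

theorem pow_mul_comm_class_two (x y c : G) (hc : c = y⁻¹ * x⁻¹ * y * x) (hcy : Commute c y) :
    ∀ n : ℕ, y ^ n * x = x * y ^ n * c ^ n := by
  have hyx : y * x = x * y * c := by rw [hc]; group
  intro n
  induction n with
  | zero => simp
  | succ n ih =>
    calc y ^ (n + 1) * x = y ^ n * (y * x) := by rw [pow_succ, mul_assoc]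
      _ = y ^ n * x * (y * c) := by rw [hyx]; simp only [mul_assoc]
      _ = x * y ^ n * (c ^ n * y) * c := by rw [ih]; simp only [mul_assoc]
      _ = x * y ^ n * (y * c ^ n) * c := by rw [(hcy.pow_left n).eq]
      _ = x * y ^ (n + 1) * c ^ (n + 1) := by rw [pow_succ, pow_succ]; simp only [mul_assoc]

theorem mul_pow_class_two (x y c : G) (hc : c = y⁻¹ * x⁻¹ * y * x) (hcx : Commute c x)
    (hcy : Commute c y) : ∀ n : ℕ, (x * y) ^ n = x ^ n * y ^ n * c ^ tri n := by
  intro n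
  induction n with
  | zero => simp [tri]
  | succ n ih =>
    have h1 := pow_mul_comm_class_two x y c hc hcy n
    have hcx' : Commute (c ^ tri n) x := hcx.pow_left _
    have hcy' : Commute (c ^ n) y := hcy.pow_left _
    have hcy'' : Commute (c ^ tri n) y := hcy.pow_left _
    calc (x * y) ^ (n + 1) = x ^ n * y ^ n * c ^ tri n * (x * y) := by rw [pow_succ, ih]
      _ = x ^ n * y ^ n * (c ^ tri n * x) * y := by simp only [mul_assoc]
      _ = x ^ n * y ^ n * (x * c ^ tri n) * y := by rw [hcx'.eq]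
      _ = x ^ n * (y ^ n * x) * (c ^ tri n * y) := by simp only [mul_assoc]
      _ = x ^ n * (x * y ^ n * c ^ n) * (y * c ^ tri n) := by rw [h1, hcy''.eq]
      _ = x ^ n * x * y ^ n * (c ^ n * y) * c ^ tri n := by simp only [mul_assoc]
      _ = x ^ n * x * y ^ n * (y * c ^ n) * c ^ tri n := by rw [hcy'.eq]
      _ = x ^ (n + 1) * y ^ (n + 1) * c ^ tri (n + 1) := by
          rw [pow_succ, pow_succ, tri, add_comm (tri n) n, pow_add]; simp only [mul_assoc]

/-- `(y ^ n)⁻¹ * x⁻¹ * y ^ n * x = c ^ n` -/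
theorem comm_pow_class_two (x y c : G) (hc : c = y⁻¹ * x⁻¹ * y * x) (hcy : Commute c y)
    (n : ℕ) : (y ^ n)⁻¹ * x⁻¹ * y ^ n * x = c ^ n := by
  have h1 := pow_mul_comm_class_two x y c hc hcy n
  calc (y ^ n)⁻¹ * x⁻¹ * y ^ n * x = (y ^ n)⁻¹ * x⁻¹ * (y ^ n * x) := by simp only [mul_assoc]
    _ = (y ^ n)⁻¹ * x⁻¹ * (x * y ^ n * c ^ n) := by rw [h1]
    _ = c ^ n := by group

/-- the exponent `p` (odd `p`) or `4` (`p = 2`) -/
def omegaExp (p : ℕ) : ℕ := if p = 2 then 4 else p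

theorem omegaExp_two : omegaExp 2 = 4 := rfl

theorem omegaExp_odd {p : ℕ} (hp : p ≠ 2) : omegaExp p = p := if_neg hp

theorem aut_pow_apply_of_fixed (α : MulAut G) (x y : G) (hx : α x = x * y) (hy : α y = y)
    (k : ℕ) : (α ^ k) x = x * y ^ k := by
  induction k with
  | zero => simp
  | succ k ih =>
    rw [pow_succ', MulAut.mul_apply, ih, map_mul, map_pow, hx, hy, mul_assoc, ← pow_succ']

theorem aut_pow_mem (α : MulAut G) (H : Subgroup G) (hinv : ∀ x ∈ H, α x ∈ H) (j : ℕ) :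
    ∀ x ∈ H, (α ^ j) x ∈ H := by
  induction j with
  | zero => intro x hx; simpa using hx
  | succ j ih =>
    intro x hx
    rw [pow_succ', MulAut.mul_apply]
    exact hinv _ (ih x hx)

/-- an automorphism of order prime to `p` acting trivially on `H` modulo its fixed points is trivial on
the `p`-group `H` -/
theorem fixes_of_commutator_fixed {p : ℕ} [Fact p.Prime] (α : MulAut G) (H : Subgroup G)
    (hH : IsPGroup p H) (hinv : ∀ x ∈ H, α x ∈ H) (m : ℕ) (hm : m.Coprime p)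
    (hαm : ∀ x ∈ H, (α ^ m) x = x) (h : ∀ x ∈ H, α (x⁻¹ * α x) = x⁻¹ * α x) :
    ∀ x ∈ H, α x = x := by
  intro x hx
  obtain ⟨y, hy⟩ : ∃ y, y = x⁻¹ * α x := ⟨_, rfl⟩
  have hyH : y ∈ H := by rw [hy]; exact H.mul_mem (H.inv_mem hx) (hinv x hx)
  have hαx : α x = x * y := by rw [hy]; group
  have hαy : α y = y := by rw [hy]; exact h x hx
  have h1 := aut_pow_apply_of_fixed α x y hαx hαy m
  rw [hαm x hx] at h1
  have hym : y ^ m = 1 := by
    have : x * 1 = x * y ^ m := by rw [mul_one]; exact h1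
    exact (mul_left_cancel this).symm
  obtain ⟨k, hk⟩ := hH ⟨y, hyH⟩
  have hk' : y ^ p ^ k = 1 := by
    have := congrArg Subtype.val hk
    simpa using this
  have hd1 : orderOf y ∣ m := orderOf_dvd_of_pow_eq_one hym
  have hd2 : orderOf y ∣ p ^ k := orderOf_dvd_of_pow_eq_one hk'
  have hc : (orderOf y).Coprime (p ^ k) := (hm.pow_right k).coprime_dvd_left hd1
  have ho : orderOf y = 1 := hc.eq_one_of_dvd hd2
  have hy1 : y = 1 := orderOf_eq_one_iff.mp ho
  rw [hαx, hy1, mul_one]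

/-- a nontrivial finite `p`-subgroup has a proper subgroup, normalized by it, containing all `p`-th powers
and all commutators -/
theorem exists_maximal_normal {p : ℕ} [Fact p.Prime] (H : Subgroup G) [Finite H] (hH : IsPGroup p H)
    (hne : H ≠ ⊥) :
    ∃ M : Subgroup G, M < H ∧ (∀ h ∈ H, ∀ x ∈ M, h * x * h⁻¹ ∈ M) ∧ (∀ x ∈ H, x ^ p ∈ M) ∧
      (∀ x ∈ H, ∀ y ∈ H, y⁻¹ * x⁻¹ * y * x ∈ M) := by
  have hp : p.Prime := Fact.out
  obtain ⟨n, hn⟩ := IsPGroup.iff_card.1 hH
  have hn0 : n ≠ 0 := by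
    rintro rfl
    rw [pow_zero] at hn
    apply hne
    exact (Subgroup.card_eq_one).1 hn
  obtain ⟨n', rfl⟩ := Nat.exists_eq_succ_of_ne_zero hn0
  have hdvd : p ^ n' ∣ Nat.card H := by rw [hn]; exact pow_dvd_pow p (Nat.le_succ n')
  obtain ⟨M', hM'⟩ := Sylow.exists_subgroup_card_pow_prime p hdvd
  have hidx : M'.index = p := by
    have h1 := M'.card_mul_index
    rw [hM', hn, pow_succ] at h1
    exact Nat.eq_of_mul_eq_mul_left (pow_pos hp.pos n') h1
  have hnorm : M'.Normal := by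
    apply Subgroup.normal_of_index_eq_minFac_card
    rw [hidx, hn, Nat.Prime.pow_minFac hp (Nat.succ_ne_zero n')]
  have hcardq : Nat.card (↥H ⧸ M') = p := by rw [← Subgroup.index_eq_card, hidx]
  have hcyc : IsCyclic (↥H ⧸ M') := isCyclic_of_prime_card hcardq
  refine ⟨M'.map H.subtype, ?_, ?_, ?_, ?_⟩
  · refine lt_of_le_of_ne (Subgroup.map_subtype_le M') ?_
    intro heq
    have h1 : Nat.card (M'.map H.subtype) = Nat.card M' :=
      Subgroup.card_map_of_injective (Subgroup.subtype_injective H)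
    rw [heq, hn, hM'] at h1
    have := Nat.pow_right_injective hp.two_le h1
    omega
  · rintro h hh _ ⟨x, hx, rfl⟩
    refine ⟨⟨h, hh⟩ * x * ⟨h, hh⟩⁻¹, hnorm.conj_mem x hx _, rfl⟩
  · intro x hx
    refine ⟨⟨x, hx⟩ ^ p, ?_, rfl⟩
    show (⟨x, hx⟩ : H) ^ p ∈ M'
    rw [← QuotientGroup.eq_one_iff, QuotientGroup.mk_pow, ← hcardq]
    exact pow_card_eq_one'
  · intro x hx y hy
    refine ⟨(⟨y, hy⟩ : H)⁻¹ * (⟨x, hx⟩ : H)⁻¹ * ⟨y, hy⟩ * ⟨x, hx⟩, ?_, rfl⟩
    show (⟨y, hy⟩ : H)⁻¹ * (⟨x, hx⟩ : H)⁻¹ * ⟨y, hy⟩ * ⟨x, hx⟩ ∈ M'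
    rw [← QuotientGroup.eq_one_iff]
    let _ := IsCyclic.commGroup (α := ↥H ⧸ M')
    simp only [QuotientGroup.mk_mul, QuotientGroup.mk_inv]
    rw [mul_comm ((QuotientGroup.mk (⟨y, hy⟩ : H) : ↥H ⧸ M')⁻¹) _]
    simp

/-- the largest `α`-invariant subgroup of `H ⊓ M` -/
def invCore (α : MulAut G) (H M : Subgroup G) : Subgroup G where
  carrier := {x | x ∈ H ∧ ∀ j : ℕ, (α ^ j) x ∈ M}
  mul_mem' := fun ⟨ha, ha'⟩ ⟨hb, hb'⟩ =>
    ⟨H.mul_mem ha hb, fun j => by rw [map_mul]; exact M.mul_mem (ha' j) (hb' j)⟩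
  one_mem' := ⟨H.one_mem, fun j => by rw [map_one]; exact M.one_mem⟩
  inv_mem' := fun ⟨ha, ha'⟩ => ⟨H.inv_mem ha, fun j => by rw [map_inv]; exact M.inv_mem (ha' j)⟩

theorem mem_invCore {α : MulAut G} {H M : Subgroup G} {x : G} :
    x ∈ invCore α H M ↔ x ∈ H ∧ ∀ j : ℕ, (α ^ j) x ∈ M := Iff.rfl

/-- minimal nontrivial coprime action: `α` acts nontrivially on the `p`-group `H`, trivially on every proper
invariant subgroup, and `α ^ m` is trivial on `H` with `m` prime to `p` -/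
structure MinAct (p : ℕ) (α : MulAut G) (H : Subgroup G) (m : ℕ) : Prop where
  pgroup : IsPGroup p H
  inv : ∀ x ∈ H, α x ∈ H
  cop : m.Coprime p
  pow : ∀ x ∈ H, (α ^ m) x = x
  min : ∀ K : Subgroup G, K < H → (∀ x ∈ K, α x ∈ K) → ∀ x ∈ K, α x = x
  nontriv : ¬ ∀ x ∈ H, α x = x

namespace MinAct

variable {p : ℕ} [Fact p.Prime] {α : MulAut G} {H : Subgroup G} {m : ℕ}

/-- `H = [H, α]` -/
theorem closure_eq (h : MinAct p α H m) :
    Subgroup.closure {y | ∃ x ∈ H, y = x⁻¹ * α x} = H := by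
  have hDH : Subgroup.closure {y | ∃ x ∈ H, y = x⁻¹ * α x} ≤ H := by
    rw [Subgroup.closure_le]
    rintro _ ⟨x, hx, rfl⟩
    exact H.mul_mem (H.inv_mem hx) (h.inv x hx)
  by_contra hne
  have hlt : Subgroup.closure {y | ∃ x ∈ H, y = x⁻¹ * α x} < H := lt_of_le_of_ne hDH hne
  have hDinv : ∀ x ∈ Subgroup.closure {y | ∃ x ∈ H, y = x⁻¹ * α x},
      α x ∈ Subgroup.closure {y | ∃ x ∈ H, y = x⁻¹ * α x} := by
    intro x hx
    induction hx using Subgroup.closure_induction with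
    | mem y hy =>
      obtain ⟨x, hx, rfl⟩ := hy
      apply Subgroup.subset_closure
      exact ⟨α x, h.inv x hx, by simp⟩
    | one => rw [map_one]; exact Subgroup.one_mem _
    | mul a b _ _ ha hb => rw [map_mul]; exact Subgroup.mul_mem _ ha hb
    | inv a _ ha => rw [map_inv]; exact Subgroup.inv_mem _ ha
  have hfix := h.min _ hlt hDinv
  apply h.nontriv
  apply fixes_of_commutator_fixed α H h.pgroup h.inv m h.cop h.pow
  intro x hx
  exact hfix _ (Subgroup.subset_closure ⟨x, hx, rfl⟩)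

/-- proper invariant subgroups normalized by `H` are central in `H` -/
theorem central_of_normal (h : MinAct p α H m) {K : Subgroup G} (hK : K < H)
    (hKinv : ∀ x ∈ K, α x ∈ K) (hKn : ∀ g ∈ H, ∀ x ∈ K, g * x * g⁻¹ ∈ K) :
    ∀ k ∈ K, ∀ g ∈ H, g * k = k * g := by
  intro k hk
  have hfix := h.min K hK hKinv
  have hle : H ≤ Subgroup.centralizer {k} := by
    rw [← h.closure_eq, Subgroup.closure_le]
    rintro _ ⟨x, hx, rfl⟩
    show x⁻¹ * α x ∈ Subgroup.centralizer {k}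
    rw [Subgroup.mem_centralizer_iff]
    intro k' hk'
    rw [Set.mem_singleton_iff] at hk'
    subst hk'
    have h1 : α (x * k' * x⁻¹) = x * k' * x⁻¹ := hfix _ (hKn x hx k' hk)
    rw [map_mul, map_mul, map_inv, hfix k' hk] at h1
    calc k' * (x⁻¹ * α x) = x⁻¹ * (x * k' * x⁻¹) * α x := by group
      _ = x⁻¹ * (α x * k' * (α x)⁻¹) * α x := by rw [h1]
      _ = x⁻¹ * α x * k' := by group
  intro g hg
  have := Subgroup.mem_centralizer_iff.1 (hle hg) k rfl
  exact this.symm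

/-- the central, pointwise fixed subgroup containing `p`-th powers and commutators -/
theorem exists_core [Finite H] (h : MinAct p α H m) :
    ∃ K : Subgroup G, K ≤ H ∧ (∀ k ∈ K, α k = k) ∧ (∀ k ∈ K, ∀ g ∈ H, g * k = k * g) ∧
      (∀ x ∈ H, x ^ p ∈ K) ∧ (∀ x ∈ H, ∀ y ∈ H, y⁻¹ * x⁻¹ * y * x ∈ K) := by
  have hne : H ≠ ⊥ := by
    rintro rfl
    apply h.nontriv
    intro x hx
    rw [Subgroup.mem_bot] at hx
    rw [hx, map_one]
  obtain ⟨M, hMlt, hMn, hMp, hMc⟩ := exists_maximal_normal H h.pgroup hne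
  have hpow := aut_pow_mem α H h.inv
  have hKH : invCore α H M ≤ H := fun x hx => hx.1
  have hKlt : invCore α H M < H := by
    refine lt_of_le_of_lt ?_ hMlt
    intro x hx
    have := hx.2 0
    simpa using this
  have hKinv : ∀ x ∈ invCore α H M, α x ∈ invCore α H M := by
    rintro x ⟨hx, hx'⟩
    refine ⟨h.inv x hx, fun j => ?_⟩
    have := hx' (j + 1)
    rwa [pow_succ, MulAut.mul_apply] at this
  have hKn : ∀ g ∈ H, ∀ x ∈ invCore α H M, g * x * g⁻¹ ∈ invCore α H M := by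
    rintro g hg x ⟨hx, hx'⟩
    refine ⟨H.mul_mem (H.mul_mem hg hx) (H.inv_mem hg), fun j => ?_⟩
    rw [map_mul, map_mul, map_inv]
    exact hMn _ (hpow j g hg) _ (hx' j)
  refine ⟨invCore α H M, hKH, h.min _ hKlt hKinv, h.central_of_normal hKlt hKinv hKn, ?_, ?_⟩
  · intro x hx
    refine ⟨H.pow_mem hx p, fun j => ?_⟩
    rw [map_pow]
    exact hMp _ (hpow j x hx)
  · intro x hx y hy
    refine ⟨H.mul_mem (H.mul_mem (H.mul_mem (H.inv_mem hy) (H.inv_mem hx)) hy) hx, fun j => ?_⟩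
    rw [map_mul, map_mul, map_mul, map_inv, map_inv]
    exact hMc _ (hpow j x hx) _ (hpow j y hy)

/-- commutators have order dividing `p` -/
theorem comm_pow [Finite H] (h : MinAct p α H m) {x y : G} (hx : x ∈ H) (hy : y ∈ H) :
    (y⁻¹ * x⁻¹ * y * x) ^ p = 1 := by
  obtain ⟨K, -, -, hKc, hKp, hKcomm⟩ := h.exists_core
  have hc : y⁻¹ * x⁻¹ * y * x ∈ K := hKcomm x hx y hy
  have hcy : Commute (y⁻¹ * x⁻¹ * y * x) y := (hKc _ hc y hy).symm
  have h1 := comm_pow_class_two x y _ rfl hcy p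
  rw [← h1]
  have h2 : x⁻¹ * y ^ p = y ^ p * x⁻¹ := hKc _ (hKp y hy) _ (H.inv_mem hx)
  calc (y ^ p)⁻¹ * x⁻¹ * y ^ p * x = (y ^ p)⁻¹ * (x⁻¹ * y ^ p) * x := by group
    _ = (y ^ p)⁻¹ * (y ^ p * x⁻¹) * x := by rw [h2]
    _ = 1 := by group

theorem comm_pow_tri_omegaExp [Finite H] (h : MinAct p α H m) {x y : G} (hx : x ∈ H) (hy : y ∈ H) :
    (y⁻¹ * x⁻¹ * y * x) ^ tri (omegaExp p) = 1 := by
  have hp : p.Prime := Fact.out
  have hc := h.comm_pow hx hy
  by_cases h2 : p = 2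
  · subst h2
    rw [omegaExp_two, tri_four, show 6 = 2 * 3 from rfl, pow_mul, hc, one_pow]
  · rw [omegaExp_odd h2]
    obtain ⟨k, hk⟩ := dvd_tri_of_odd_prime p hp h2
    rw [hk, pow_mul, hc, one_pow]

/-- the elements `x⁻¹ α(x)` have order dividing `p` (`p` odd) or `4` (`p = 2`) -/
theorem commutator_pow [Finite H] (h : MinAct p α H m) {x : G} (hx : x ∈ H) :
    (x⁻¹ * α x) ^ omegaExp p = 1 := by
  have hp : p.Prime := Fact.out
  obtain ⟨K, -, hKfix, hKc, hKp, hKcomm⟩ := h.exists_core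
  obtain ⟨y, hy⟩ : ∃ y, y = x⁻¹ * α x := ⟨_, rfl⟩
  rw [← hy]
  have hyH : y ∈ H := by rw [hy]; exact H.mul_mem (H.inv_mem hx) (h.inv x hx)
  have hαx : α x = x * y := by rw [hy]; group
  have hc : y⁻¹ * x⁻¹ * y * x ∈ K := hKcomm x hx y hyH
  have hcx : Commute (y⁻¹ * x⁻¹ * y * x) x := (hKc _ hc x hx).symm
  have hcy : Commute (y⁻¹ * x⁻¹ * y * x) y := (hKc _ hc y hyH).symm
  have h1 := mul_pow_class_two x y _ rfl hcx hcy p
  have h2 : (x * y) ^ p = x ^ p := by
    rw [← hαx, ← map_pow]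
    exact hKfix _ (hKp x hx)
  rw [h2] at h1
  have h3 : y ^ p * (y⁻¹ * x⁻¹ * y * x) ^ tri p = 1 := by
    have : x ^ p * 1 = x ^ p * (y ^ p * (y⁻¹ * x⁻¹ * y * x) ^ tri p) := by
      rw [mul_one, ← mul_assoc]
      exact h1
    exact (mul_left_cancel this).symm
  have hcp := h.comm_pow hx hyH
  by_cases h2 : p = 2
  · subst h2
    rw [tri_two, pow_one] at h3
    rw [omegaExp_two, show 4 = 2 * 2 from rfl, pow_mul, eq_inv_of_mul_eq_one_left h3, inv_pow, hcp,
      inv_one]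
  · rw [omegaExp_odd h2]
    obtain ⟨k, hk⟩ := dvd_tri_of_odd_prime p hp h2
    rw [hk, pow_mul, hcp, one_pow, mul_one] at h3
    exact h3

/-- `H` has exponent dividing `p` (`p` odd) or `4` (`p = 2`) -/
theorem pow_eq_one [Finite H] (h : MinAct p α H m) : ∀ z ∈ H, z ^ omegaExp p = 1 := by
  obtain ⟨K, -, -, hKc, -, hKcomm⟩ := h.exists_core
  intro z hz
  rw [← h.closure_eq] at hz
  induction hz using Subgroup.closure_induction with
  | mem y hy =>
    obtain ⟨x, hx, rfl⟩ := hy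
    exact h.commutator_pow hx
  | one => exact one_pow _
  | mul a b ha hb iha ihb =>
    rw [h.closure_eq] at ha hb
    have hc : b⁻¹ * a⁻¹ * b * a ∈ K := hKcomm a ha b hb
    have hca : Commute (b⁻¹ * a⁻¹ * b * a) a := (hKc _ hc a ha).symm
    have hcb : Commute (b⁻¹ * a⁻¹ * b * a) b := (hKc _ hc b hb).symm
    rw [mul_pow_class_two a b _ rfl hca hcb, iha, ihb, h.comm_pow_tri_omegaExp ha hb]
    simp
  | inv a _ iha => rw [inv_pow, iha, inv_one]

end MinAct

/-- **Gorenstein 5.3.10** (relative form): an automorphism of order prime to `p` fixing all elements of the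
invariant finite `p`-subgroup `H` of order dividing `p` (`p` odd) or `4` (`p = 2`) fixes `H` pointwise. -/
theorem omega_lemma {p : ℕ} [Fact p.Prime] (α : MulAut G) (m : ℕ) (hm : m.Coprime p) :
    ∀ (H : Subgroup G) [Finite H], IsPGroup p H → (∀ x ∈ H, α x ∈ H) → (∀ x ∈ H, (α ^ m) x = x) →
      (∀ x ∈ H, x ^ omegaExp p = 1 → α x = x) → ∀ x ∈ H, α x = x := by
  intro H
  induction' hn : Nat.card H using Nat.strong_induction_on with n ih generalizing H
  intro _ hH hinv hpow hfix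
  by_contra hcon
  have hmin : MinAct p α H m :=
    { pgroup := hH, inv := hinv, cop := hm, pow := hpow, nontriv := hcon
      min := by
        intro K hK hKinv
        have hfinK : Finite K :=
          Finite.of_injective (Subgroup.inclusion hK.le) (Subgroup.inclusion_injective _)
        have hcard : Nat.card K < Nat.card H := by
          by_contra hge
          push Not at hge
          exact hK.ne (Subgroup.eq_of_le_of_card_ge hK.le hge)
        exact ih (Nat.card K) (hn ▸ hcard) K rfl (hH.to_le hK.le) hKinv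
          (fun x hx => hpow x (hK.le hx)) (fun x hx => hfix x (hK.le hx)) }
  apply hcon
  apply fixes_of_commutator_fixed α H hH hinv m hm hpow
  intro x hx
  exact hfix _ (H.mul_mem (H.inv_mem hx) (hinv x hx)) (hmin.commutator_pow hx)

/-- **Gorenstein 5.3.10**: a `p'`-automorphism of a finite `p`-group fixing all elements of order dividing
`p` (`p` odd) or `4` (`p = 2`) is trivial. -/
theorem omega_lemma_top [Finite G] {p : ℕ} [Fact p.Prime] (hG : IsPGroup p G) (a : MulAut G)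
    (ha : Nat.Coprime (orderOf a) p) (h : ∀ x : G, x ^ omegaExp p = 1 → a x = x) : a = 1 := by
  ext x
  exact omega_lemma a (orderOf a) ha ⊤ (hG.to_subgroup ⊤) (fun _ _ => trivial)
    (fun x _ => by rw [pow_orderOf_eq_one]; rfl) (fun x _ hx => h x hx) x trivial

/-- odd `p` form (statement `S0120`) -/
theorem omega_lemma_odd [Finite G] {p : ℕ} [Fact p.Prime] (hp : p ≠ 2) (hG : IsPGroup p G)
    (a : MulAut G) (ha : Nat.Coprime (orderOf a) p) (h : ∀ x : G, x ^ p = 1 → a x = x) : a = 1 :=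
  omega_lemma_top hG a ha (fun x hx => h x (by rwa [omegaExp_odd hp] at hx))

end

end Cfsg.Agent.Helper87
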