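import Mathlib
import Cfsg.Prelude.Def_FusionSystem

set_option autoImplicit false

namespace Cfsg.Agent.Helper87

open Cfsg Cfsg.FusionSystem

variable {Ω : Type*} [Group Ω] {S : Subgroup Ω}

/-! ### Function-level calculus for maps of a fusion system -/

/-- extension of a homomorphism on a subgroup to a total function (junk value `1` outside) -/
noncomputable def extFun {P : Subgroup Ω} (φ : P →* Ω) : Ω → Ω :=
  fun x => by classical exact if h : x ∈ P then φ ⟨x, h⟩ else 1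

theorem extFun_apply {P : Subgroup Ω} (φ : P →* Ω) (x : P) : extFun φ x = φ x := by
  unfold extFun
  simp [x.2]

theorem extFun_mem {P : Subgroup Ω} (φ : P →* Ω) {x : Ω} (hx : x ∈ P) : extFun φ x = φ ⟨x, hx⟩ :=
  extFun_apply φ ⟨x, hx⟩

/-- `f` restricted to `P` is a map of the system -/
def Mor (F : FusionSystem S) (P : Subgroup Ω) (f : Ω → Ω) : Prop :=
  ∃ φ ∈ F.Hom P, ∀ x : P, φ x = f x

theorem mor_of_mem {F : FusionSystem S} {P : Subgroup Ω} {φ : P →* Ω} (h : φ ∈ F.Hom P) :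
    Mor F P (extFun φ) :=
  ⟨φ, h, fun x => (extFun_apply φ x).symm⟩

namespace Mor

variable {F : FusionSystem S} {P Q : Subgroup Ω} {f g : Ω → Ω}

theorem congr (h : Mor F P f) (hfg : ∀ x ∈ P, f x = g x) : Mor F P g := by
  obtain ⟨φ, hφ, h1⟩ := h
  exact ⟨φ, hφ, fun x => (h1 x).trans (hfg x x.2)⟩

theorem le (h : Mor F P f) : P ≤ S := by
  obtain ⟨φ, hφ, -⟩ := h
  exact (F.le_of_mem hφ).1

theorem mem (h : Mor F P f) {x : Ω} (hx : x ∈ P) : f x ∈ S := by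
  obtain ⟨φ, hφ, h1⟩ := h
  rw [← h1 ⟨x, hx⟩]
  exact (F.le_of_mem hφ).2 _

theorem map_mul (h : Mor F P f) {x y : Ω} (hx : x ∈ P) (hy : y ∈ P) : f (x * y) = f x * f y := by
  obtain ⟨φ, hφ, h1⟩ := h
  have := φ.map_mul ⟨x, hx⟩ ⟨y, hy⟩
  rw [← h1 ⟨x, hx⟩, ← h1 ⟨y, hy⟩, ← this, ← h1 ⟨x * y, P.mul_mem hx hy⟩]
  rfl

theorem map_one (h : Mor F P f) : f 1 = 1 := by
  obtain ⟨φ, hφ, h1⟩ := h
  have := h1 1
  rw [_root_.map_one] at this
  exact this.symm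

theorem map_inv (h : Mor F P f) {x : Ω} (hx : x ∈ P) : f x⁻¹ = (f x)⁻¹ := by
  have h1 := h.map_mul hx (P.inv_mem hx)
  rw [mul_inv_cancel, h.map_one] at h1
  exact eq_inv_of_mul_eq_one_right h1.symm

theorem inj (h : Mor F P f) {x y : Ω} (hx : x ∈ P) (hy : y ∈ P) (hxy : f x = f y) : x = y := by
  obtain ⟨φ, hφ, h1⟩ := h
  have := F.injective_of_mem hφ (a₁ := ⟨x, hx⟩) (a₂ := ⟨y, hy⟩) (by rw [h1, h1]; exact hxy)
  exact congrArg Subtype.val this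

theorem conj (hP : P ≤ S) {s : Ω} (hs : s ∈ S) : Mor F P (fun x => s * x * s⁻¹) :=
  ⟨conjHom P s, F.conj_mem hP hs, fun _ => rfl⟩

theorem id (hP : P ≤ S) : Mor F P (fun x => x) := by
  have := conj (F := F) hP S.one_mem
  exact this.congr (fun x _ => by simp)

theorem comp (h1 : Mor F P f) (h2 : Mor F Q g) (hPQ : ∀ x ∈ P, f x ∈ Q) :
    Mor F P (fun x => g (f x)) := by
  obtain ⟨φ, hφ, e1⟩ := h1
  obtain ⟨ψ, hψ, e2⟩ := h2
  have hh : ∀ x : P, φ x ∈ Q := fun x => by rw [e1]; exact hPQ x x.2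
  refine ⟨ψ.comp (φ.codRestrict Q hh), F.comp_mem hφ hψ hh, fun x => ?_⟩
  show ψ ⟨φ x, hh x⟩ = g (f x)
  rw [e2 ⟨φ x, hh x⟩]
  show g (φ x) = g (f x)
  rw [e1]

theorem restrict (h : Mor F P f) (hQP : Q ≤ P) : Mor F Q f := by
  have h1 : Mor F Q (fun x => x) := id (hQP.trans h.le)
  exact (h1.comp h (fun x hx => hQP hx)).congr (fun x _ => rfl)

/-- the image of `P` under a map of the system, as a subgroup -/
def image (_h : Mor F P f) : Subgroup Ω where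
  carrier := f '' P
  mul_mem' := by
    rintro _ _ ⟨x, hx, rfl⟩ ⟨y, hy, rfl⟩
    exact ⟨x * y, P.mul_mem hx hy, _h.map_mul hx hy⟩
  one_mem' := ⟨1, P.one_mem, _h.map_one⟩
  inv_mem' := by
    rintro _ ⟨x, hx, rfl⟩
    exact ⟨x⁻¹, P.inv_mem hx, _h.map_inv hx⟩

theorem mem_image (h : Mor F P f) {y : Ω} : y ∈ h.image ↔ ∃ x ∈ P, f x = y := Iff.rfl

theorem image_le (h : Mor F P f) : h.image ≤ S := by
  rintro _ ⟨x, hx, rfl⟩
  exact h.mem hx

end Mor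

/-- `f` restricts to an isomorphism of the system from `P` onto `Q` -/
def Iso (F : FusionSystem S) (P Q : Subgroup Ω) (f : Ω → Ω) : Prop :=
  Mor F P f ∧ ∀ y, y ∈ Q ↔ ∃ x ∈ P, f x = y

namespace Iso

variable {F : FusionSystem S} {P Q R : Subgroup Ω} {f g : Ω → Ω}

theorem mor (h : Iso F P Q f) : Mor F P f := h.1

theorem map_mem (h : Iso F P Q f) {x : Ω} (hx : x ∈ P) : f x ∈ Q := (h.2 _).2 ⟨x, hx, rfl⟩

theorem surj (h : Iso F P Q f) {y : Ω} (hy : y ∈ Q) : ∃ x ∈ P, f x = y := (h.2 _).1 hy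

theorem le_left (h : Iso F P Q f) : P ≤ S := h.1.le

theorem le_right (h : Iso F P Q f) : Q ≤ S := by
  intro y hy
  obtain ⟨x, hx, rfl⟩ := h.surj hy
  exact h.1.mem hx

theorem congr (h : Iso F P Q f) (hfg : ∀ x ∈ P, f x = g x) : Iso F P Q g := by
  refine ⟨h.1.congr hfg, fun y => ?_⟩
  rw [h.2]
  constructor
  · rintro ⟨x, hx, rfl⟩; exact ⟨x, hx, (hfg x hx).symm⟩
  · rintro ⟨x, hx, rfl⟩; exact ⟨x, hx, hfg x hx⟩

theorem of_mor (h : Mor F P f) : Iso F P h.image f := ⟨h, fun _ => Iff.rfl⟩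

theorem refl (hP : P ≤ S) : Iso F P P (fun x => x) :=
  ⟨Mor.id hP, fun y => ⟨fun hy => ⟨y, hy, rfl⟩, by rintro ⟨x, hx, rfl⟩; exact hx⟩⟩

theorem comp (h1 : Iso F P Q f) (h2 : Iso F Q R g) : Iso F P R (fun x => g (f x)) := by
  refine ⟨h1.1.comp h2.1 (fun x hx => h1.map_mem hx), fun z => ?_⟩
  constructor
  · intro hz
    obtain ⟨y, hy, rfl⟩ := h2.surj hz
    obtain ⟨x, hx, rfl⟩ := h1.surj hy
    exact ⟨x, hx, rfl⟩
  · rintro ⟨x, hx, rfl⟩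
    exact h2.map_mem (h1.map_mem hx)

/-- restriction of an isomorphism to a subgroup, onto its image -/
theorem restrict (h : Iso F P Q f) {P' : Subgroup Ω} (hP' : P' ≤ P) :
    Iso F P' (h.1.restrict hP').image f := of_mor _

theorem eq_of_iso (h1 : Iso F P Q f) (h2 : Iso F P R f) : Q = R := by
  ext y; rw [h1.2, h2.2]

theorem card_eq [Finite S] (h : Iso F P Q f) : Nat.card P = Nat.card Q := by
  apply Nat.card_congr
  refine Equiv.ofBijective (fun x => ⟨f x, h.map_mem x.2⟩) ⟨?_, ?_⟩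
  · intro a b hab
    exact Subtype.ext (h.1.inj a.2 b.2 (congrArg Subtype.val hab))
  · rintro ⟨y, hy⟩
    obtain ⟨x, hx, rfl⟩ := h.surj hy
    exact ⟨⟨x, hx⟩, rfl⟩

end Iso

/-- bridging: a map `φ ∈ F.Hom P` gives an isomorphism onto its range -/
theorem iso_of_mem {F : FusionSystem S} {P : Subgroup Ω} {φ : P →* Ω} (h : φ ∈ F.Hom P) :
    Iso F P φ.range (extFun φ) := by
  refine ⟨mor_of_mem h, fun y => ?_⟩
  constructor
  · rintro ⟨x, rfl⟩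
    exact ⟨x, x.2, extFun_apply φ x⟩
  · rintro ⟨x, hx, rfl⟩
    exact ⟨⟨x, hx⟩, (extFun_mem φ hx).symm⟩

/-- inverse of an isomorphism of the system -/
theorem Iso.symm {F : FusionSystem S} {P Q : Subgroup Ω} {f : Ω → Ω} (h : Iso F P Q f) :
    ∃ g, Iso F Q P g ∧ (∀ x ∈ P, g (f x) = x) ∧ ∀ y ∈ Q, f (g y) = y := by
  obtain ⟨φ, hφ, e1⟩ := h.1
  obtain ⟨ψ, hψ, e2⟩ := F.inv_mem hφ
  have hQ : φ.range = Q := by
    ext y
    rw [h.2]
    constructor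
    · rintro ⟨x, rfl⟩; exact ⟨x, x.2, (e1 x).symm⟩
    · rintro ⟨x, hx, rfl⟩; exact ⟨⟨x, hx⟩, e1 ⟨x, hx⟩⟩
  subst hQ
  have key : ∀ x ∈ P, extFun ψ (f x) = x := by
    intro x hx
    have hx' : f x ∈ φ.range := ⟨⟨x, hx⟩, e1 ⟨x, hx⟩⟩
    rw [extFun_mem ψ hx']
    have := e2 ⟨x, hx⟩
    simp only [e1] at this
    exact this
  refine ⟨extFun ψ, ⟨mor_of_mem hψ, fun x => ?_⟩, key, ?_⟩
  · constructor
    · intro hx
      exact ⟨f x, h.map_mem hx, key x hx⟩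
    · rintro ⟨y, hy, rfl⟩
      obtain ⟨x, hx, rfl⟩ := h.surj hy
      rw [key x hx]; exact hx
  · intro y hy
    obtain ⟨x, hx, rfl⟩ := h.surj hy
    rw [key x hx]

theorem isConj_iff {F : FusionSystem S} {P Q : Subgroup Ω} :
    F.IsConj P Q ↔ ∃ f, Iso F P Q f := by
  constructor
  · rintro ⟨φ, hφ, rfl⟩
    exact ⟨_, iso_of_mem hφ⟩
  · rintro ⟨f, ⟨φ, hφ, e1⟩, h2⟩
    refine ⟨φ, hφ, ?_⟩
    ext y
    rw [h2]
    constructor
    · rintro ⟨x, rfl⟩; exact ⟨x, x.2, (e1 x).symm⟩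
    · rintro ⟨x, hx, rfl⟩; exact ⟨⟨x, hx⟩, e1 ⟨x, hx⟩⟩

theorem isConj_refl {F : FusionSystem S} {P : Subgroup Ω} (hP : P ≤ S) : F.IsConj P P :=
  isConj_iff.2 ⟨_, Iso.refl hP⟩

theorem isConj_symm {F : FusionSystem S} {P Q : Subgroup Ω} (h : F.IsConj P Q) : F.IsConj Q P := by
  obtain ⟨f, hf⟩ := isConj_iff.1 h
  obtain ⟨g, hg, -, -⟩ := hf.symm
  exact isConj_iff.2 ⟨g, hg⟩

theorem isConj_trans {F : FusionSystem S} {P Q R : Subgroup Ω} (h1 : F.IsConj P Q)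
    (h2 : F.IsConj Q R) : F.IsConj P R := by
  obtain ⟨f, hf⟩ := isConj_iff.1 h1
  obtain ⟨g, hg⟩ := isConj_iff.1 h2
  exact isConj_iff.2 ⟨_, hf.comp hg⟩

theorem isConj_le {F : FusionSystem S} {P Q : Subgroup Ω} (h : F.IsConj P Q) : P ≤ S ∧ Q ≤ S := by
  obtain ⟨f, hf⟩ := isConj_iff.1 h
  exact ⟨hf.le_left, hf.le_right⟩

end Cfsg.Agent.Helper87
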