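import Mathlib
import Cfsg.Agent.Lib.Helper87.FusionBasic

set_option autoImplicit false

namespace Cfsg.Agent.Helper87

open Cfsg Cfsg.FusionSystem

variable {Ω : Type*} [Group Ω] {S : Subgroup Ω}

/-! ### fully normalized conjugates exist -/

theorem card_normalizerIn_le [Finite S] (Q : Subgroup Ω) :
    Nat.card (normalizerIn S Q) ≤ Nat.card S :=
  Subgroup.card_le_of_le (inf_le_left : normalizerIn S Q ≤ S)

theorem card_centralizerIn_le [Finite S] (Q : Subgroup Ω) :
    Nat.card (centralizerIn S Q) ≤ Nat.card S :=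
  Subgroup.card_le_of_le (inf_le_left : centralizerIn S Q ≤ S)

theorem exists_max_conj [Finite S] (F : FusionSystem S) (c : Subgroup Ω → ℕ)
    (hc : ∀ Q, c Q ≤ Nat.card S) {P : Subgroup Ω} (hP : P ≤ S) :
    ∃ Q, F.IsConj P Q ∧ ∀ Q', F.IsConj Q Q' → c Q' ≤ c Q := by
  classical
  let s : Set (Subgroup Ω) := {Q | F.IsConj P Q}
  have hs : P ∈ s := isConj_refl hP
  let f : Subgroup Ω → ℕ := fun Q => Nat.card S - c Q
  obtain ⟨Q0, hQ0, hmin⟩ : ∃ Q0 ∈ s, ∀ Q' ∈ s, f Q0 ≤ f Q' :=
    ⟨Function.argminOn f s ⟨P, hs⟩, Function.argminOn_mem f s _,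
      fun Q' hQ' => Function.argminOn_le f s hQ'⟩
  refine ⟨Q0, hQ0, fun Q' hQ' => ?_⟩
  have h1 : Q' ∈ s := isConj_trans hQ0 hQ'
  have h2 : Nat.card S - c Q0 ≤ Nat.card S - c Q' := hmin Q' h1
  have h3 := hc Q'
  have h4 := hc Q0
  omega

theorem exists_fullyNormalized_conj [Finite S] (F : FusionSystem S) {P : Subgroup Ω} (hP : P ≤ S) :
    ∃ Q, F.IsConj P Q ∧ F.IsFullyNormalized Q := by
  obtain ⟨Q, hQ, h⟩ := exists_max_conj F (fun Q => Nat.card (normalizerIn S Q))
    (fun Q => card_normalizerIn_le Q) hP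
  exact ⟨Q, hQ, (isConj_le hQ).2, h⟩

theorem exists_fullyCentralized_conj [Finite S] (F : FusionSystem S) {P : Subgroup Ω} (hP : P ≤ S) :
    ∃ Q, F.IsConj P Q ∧ F.IsFullyCentralized Q := by
  obtain ⟨Q, hQ, h⟩ := exists_max_conj F (fun Q => Nat.card (centralizerIn S Q))
    (fun Q => card_centralizerIn_le Q) hP
  exact ⟨Q, hQ, (isConj_le hQ).2, h⟩

theorem IsFullyNormalized.of_conj {F : FusionSystem S} {P Q : Subgroup Ω}
    (hP : F.IsFullyNormalized P) (h : F.IsConj P Q)
    (hc : Nat.card (normalizerIn S P) ≤ Nat.card (normalizerIn S Q)) : F.IsFullyNormalized Q := by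
  refine ⟨(isConj_le h).2, fun R hR => ?_⟩
  exact (hP.2 R (isConj_trans h hR)).trans hc

/-! ### automorphism groups -/

/-- an automorphism of `P` as a total function -/
noncomputable def extAut {P : Subgroup Ω} (α : MulAut P) : Ω → Ω :=
  extFun (P.subtype.comp α.toMonoidHom)

theorem extAut_apply {P : Subgroup Ω} (α : MulAut P) (x : P) : extAut α x = α x :=
  extFun_apply _ x

theorem extAut_mem {P : Subgroup Ω} (α : MulAut P) {x : Ω} (hx : x ∈ P) :
    extAut α x = α ⟨x, hx⟩ :=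
  extFun_mem _ hx

theorem extAut_mem_self {P : Subgroup Ω} (α : MulAut P) {x : Ω} (hx : x ∈ P) :
    extAut α x ∈ P := by
  rw [extAut_mem α hx]; exact (α ⟨x, hx⟩).2

theorem mem_hom_iff_mor {F : FusionSystem S} {P : Subgroup Ω} {φ : P →* Ω} :
    φ ∈ F.Hom P ↔ Mor F P (extFun φ) := by
  constructor
  · exact mor_of_mem
  · rintro ⟨φ', h, e⟩
    have : φ' = φ := by
      ext x
      rw [e, extFun_apply]
    rwa [← this]

theorem extAut_one {P : Subgroup Ω} {x : Ω} (hx : x ∈ P) : extAut (1 : MulAut P) x = x := by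
  rw [extAut_mem _ hx]; rfl

theorem extAut_mul {P : Subgroup Ω} (α β : MulAut P) {x : Ω} (hx : x ∈ P) :
    extAut (α * β) x = extAut α (extAut β x) := by
  rw [extAut_mem _ hx, extAut_mem β hx, extAut_apply]; rfl

theorem extAut_inv_left {P : Subgroup Ω} (α : MulAut P) {x : Ω} (hx : x ∈ P) :
    extAut α⁻¹ (extAut α x) = x := by
  rw [extAut_mem α hx, extAut_apply]
  simp

theorem extAut_inv_right {P : Subgroup Ω} (α : MulAut P) {x : Ω} (hx : x ∈ P) :
    extAut α (extAut α⁻¹ x) = x := by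
  rw [extAut_mem α⁻¹ hx, extAut_apply]
  simp

theorem extAut_surj {P : Subgroup Ω} (α : MulAut P) {y : Ω} (hy : y ∈ P) :
    ∃ x ∈ P, extAut α x = y :=
  ⟨extAut α⁻¹ y, extAut_mem_self _ hy, extAut_inv_right α hy⟩

theorem iso_of_mor_extAut {F : FusionSystem S} {P : Subgroup Ω} {α : MulAut P}
    (h : Mor F P (extAut α)) : Iso F P P (extAut α) := by
  refine ⟨h, fun y => ⟨fun hy => extAut_surj α hy, ?_⟩⟩
  rintro ⟨x, hx, rfl⟩
  exact extAut_mem_self α hx

/-- the set of automorphisms of `P` that are maps of the system is a subgroup -/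
def autSub (F : FusionSystem S) (P : Subgroup Ω) (hP : P ≤ S) : Subgroup (MulAut P) where
  carrier := {α | Mor F P (extAut α)}
  mul_mem' := by
    intro α β hα hβ
    have := Mor.comp hβ hα (fun x hx => extAut_mem_self β hx)
    exact this.congr (fun x hx => (extAut_mul α β hx).symm)
  one_mem' := (Mor.id hP).congr (fun x hx => (extAut_one hx).symm)
  inv_mem' := by
    intro α hα
    obtain ⟨g, hg, h1, -⟩ := (iso_of_mor_extAut hα).symm
    refine hg.1.congr (fun y hy => ?_)
    obtain ⟨x, hx, rfl⟩ := extAut_surj α hy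
    rw [h1 x hx, extAut_inv_left α hx]

theorem autGroup_eq_autSub (F : FusionSystem S) (P : Subgroup Ω) (hP : P ≤ S) :
    F.autGroup P = autSub F P hP := by
  unfold autGroup
  apply le_antisymm
  · rw [Subgroup.closure_le]
    intro α hα
    exact mem_hom_iff_mor.1 hα
  · intro α hα
    exact Subgroup.subset_closure (mem_hom_iff_mor.2 hα)

theorem mem_autGroup_iff {F : FusionSystem S} {P : Subgroup Ω} (hP : P ≤ S) {α : MulAut P} :
    α ∈ F.autGroup P ↔ Mor F P (extAut α) := by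
  rw [autGroup_eq_autSub F P hP]; rfl

/-- the multiplicative equivalence given by an isomorphism of the system -/
noncomputable def Iso.equiv {F : FusionSystem S} {P Q : Subgroup Ω} {f : Ω → Ω} (h : Iso F P Q f) :
    P ≃* Q :=
  MulEquiv.ofBijective
    ({ toFun := fun x => ⟨f x, h.map_mem x.2⟩
       map_one' := Subtype.ext h.1.map_one
       map_mul' := fun a b => Subtype.ext (h.1.map_mul a.2 b.2) } : P →* Q)
    ⟨fun a b hab => Subtype.ext (h.1.inj a.2 b.2 (congrArg Subtype.val hab)),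
     fun y => by
      obtain ⟨x, hx, hxy⟩ := h.surj y.2
      exact ⟨⟨x, hx⟩, Subtype.ext hxy⟩⟩

theorem Iso.equiv_apply {F : FusionSystem S} {P Q : Subgroup Ω} {f : Ω → Ω} (h : Iso F P Q f)
    (x : P) : (h.equiv x : Ω) = f x := rfl

theorem Iso.equiv_symm_apply {F : FusionSystem S} {P Q : Subgroup Ω} {f g : Ω → Ω}
    (h : Iso F P Q f) (hg : ∀ x ∈ P, g (f x) = x) (y : Q) : ((h.equiv.symm y : P) : Ω) = g y := by
  obtain ⟨x, rfl⟩ := h.equiv.surjective y
  rw [MulEquiv.symm_apply_apply, h.equiv_apply, hg x x.2]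

/-- an automorphism of `P` in the system, from a self-isomorphism -/
theorem Iso.equiv_mem_autGroup {F : FusionSystem S} {P : Subgroup Ω} {f : Ω → Ω} (h : Iso F P P f) :
    h.equiv ∈ F.autGroup P := by
  rw [mem_autGroup_iff h.le_left]
  refine h.1.congr (fun x hx => ?_)
  rw [extAut_mem _ hx]; rfl

theorem extAut_equiv {F : FusionSystem S} {P : Subgroup Ω} {f : Ω → Ω} (h : Iso F P P f)
    {x : Ω} (hx : x ∈ P) : extAut (h.equiv : MulAut P) x = f x := by
  rw [extAut_mem _ hx]; rfl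

/-- transport of automorphisms along an isomorphism of the system -/
theorem congr_mem_autGroup {F : FusionSystem S} {P Q : Subgroup Ω} {f : Ω → Ω} (h : Iso F P Q f)
    {α : MulAut P} (hα : α ∈ F.autGroup P) : MulAut.congr h.equiv α ∈ F.autGroup Q := by
  rw [mem_autGroup_iff h.le_right]
  rw [mem_autGroup_iff h.le_left] at hα
  obtain ⟨g, hg, h1, h2⟩ := h.symm
  have h3 := (hg.1.comp hα (fun y hy => hg.map_mem hy)).comp h.1
    (fun y hy => extAut_mem_self α (hg.map_mem hy))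
  refine h3.congr (fun y hy => ?_)
  rw [extAut_mem _ hy]
  show f (extAut α (g y)) = ((MulAut.congr h.equiv α) ⟨y, hy⟩ : Q)
  have : (MulAut.congr h.equiv α) ⟨y, hy⟩ = h.equiv (α (h.equiv.symm ⟨y, hy⟩)) := rfl
  rw [this, h.equiv_apply]
  congr 1
  rw [extAut_mem α (hg.map_mem hy)]
  congr 2
  apply Subtype.ext
  rw [h.equiv_symm_apply h1]

theorem congr_symm_mem_autGroup {F : FusionSystem S} {P Q : Subgroup Ω} {f : Ω → Ω}
    (h : Iso F P Q f) {β : MulAut Q} (hβ : β ∈ F.autGroup Q) :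
    (MulAut.congr h.equiv).symm β ∈ F.autGroup P := by
  rw [mem_autGroup_iff h.le_left]
  rw [mem_autGroup_iff h.le_right] at hβ
  obtain ⟨g, hg, h1, h2⟩ := h.symm
  have h3 := (h.1.comp hβ (fun y hy => h.map_mem hy)).comp hg.1
    (fun y hy => extAut_mem_self β (h.map_mem hy))
  refine h3.congr (fun x hx => ?_)
  rw [extAut_mem _ hx]
  show g (extAut β (f x)) = (((MulAut.congr h.equiv).symm β) ⟨x, hx⟩ : P)
  have : ((MulAut.congr h.equiv).symm β) ⟨x, hx⟩ = h.equiv.symm (β (h.equiv ⟨x, hx⟩)) := rfl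
  rw [this, h.equiv_symm_apply h1]
  congr 1
  rw [extAut_mem β (h.map_mem hx)]
  rfl

/-! ### automorphisms induced by a subgroup -/

theorem mem_autInducedBy_iff {K P : Subgroup Ω} {α : MulAut P} :
    α ∈ autInducedBy K P ↔ ∃ g ∈ K, ∀ x : P, ((α x : P) : Ω) = g * (x : Ω) * g⁻¹ := by
  constructor
  · intro h
    unfold autInducedBy at h
    induction h using Subgroup.closure_induction with
    | mem α hα => exact hα
    | one => exact ⟨1, K.one_mem, fun x => by simp⟩
    | mul α β _ _ hα hβ =>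
      obtain ⟨g, hg, e1⟩ := hα
      obtain ⟨k, hk, e2⟩ := hβ
      refine ⟨g * k, K.mul_mem hg hk, fun x => ?_⟩
      show ((α (β x) : P) : Ω) = _
      rw [e1, e2]; group
    | inv α _ hα =>
      obtain ⟨g, hg, e1⟩ := hα
      refine ⟨g⁻¹, K.inv_mem hg, fun x => ?_⟩
      have := e1 (α⁻¹ x)
      have h2 : α (α⁻¹ x) = x := by simp
      rw [h2] at this
      rw [this]; group
  · intro h
    exact Subgroup.subset_closure h

theorem autInducedBy_le_autGroup (F : FusionSystem S) {P : Subgroup Ω} (hP : P ≤ S) :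
    autInducedBy S P ≤ F.autGroup P := by
  intro α hα
  obtain ⟨g, hg, e⟩ := mem_autInducedBy_iff.1 hα
  rw [mem_autGroup_iff hP]
  refine (Mor.conj hP hg).congr (fun x hx => ?_)
  rw [extAut_mem α hx, e]

theorem isPGroup_autInducedBy {p : ℕ} {K : Subgroup Ω} (hK : IsPGroup p K) (P : Subgroup Ω) :
    IsPGroup p (autInducedBy K P) := by
  rintro ⟨α, hα⟩
  obtain ⟨g, hg, e⟩ := mem_autInducedBy_iff.1 hα
  obtain ⟨k, hk⟩ := hK ⟨g, hg⟩
  refine ⟨k, Subtype.ext ?_⟩
  have key : ∀ m : ℕ, ∀ x : P, (((α ^ m) x : P) : Ω) = g ^ m * (x : Ω) * (g ^ m)⁻¹ := by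
    intro m
    induction m with
    | zero => intro x; simp
    | succ m ih =>
      intro x
      rw [pow_succ]
      show (((α ^ m) (α x) : P) : Ω) = _
      rw [ih, e, pow_succ]; group
  have hg' : g ^ p ^ k = 1 := congrArg Subtype.val hk
  show α ^ p ^ k = 1
  ext x
  rw [key, hg']
  simp

end Cfsg.Agent.Helper87
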