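import Mathlib
import Cfsg.Agent.Lib.Helper87.FusionAut

set_option autoImplicit false

namespace Cfsg.Agent.Helper87

open Cfsg Cfsg.FusionSystem

variable {Ω : Type*} [Group Ω] {S : Subgroup Ω}

/-! ### the extender `N_φ` at function level -/

/-- `N_f` for an isomorphism `f : P → Q` of the system, as a subgroup -/
def Iso.ext {F : FusionSystem S} {P Q : Subgroup Ω} {f : Ω → Ω} (h : Iso F P Q f) : Subgroup Ω where
  carrier := {g | g ∈ S ∧ g ∈ Subgroup.normalizer (P : Set Ω) ∧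
    ∃ k ∈ S, ∀ x ∈ P, f (g * x * g⁻¹) = k * f x * k⁻¹}
  mul_mem' := by
    rintro a b ⟨haS, haN, k, hk, ek⟩ ⟨hbS, hbN, l, hl, el⟩
    refine ⟨S.mul_mem haS hbS, Subgroup.mul_mem _ haN hbN, k * l, S.mul_mem hk hl, fun x hx => ?_⟩
    have hbx : b * x * b⁻¹ ∈ P := (Subgroup.mem_normalizer_iff.1 hbN x).1 hx
    have : a * b * x * (a * b)⁻¹ = a * (b * x * b⁻¹) * a⁻¹ := by group
    rw [this, ek _ hbx, el x hx]; group
  one_mem' := ⟨S.one_mem, Subgroup.one_mem _, 1, S.one_mem, fun x _ => by simp⟩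
  inv_mem' := by
    rintro a ⟨haS, haN, k, hk, ek⟩
    refine ⟨S.inv_mem haS, Subgroup.inv_mem _ haN, k⁻¹, S.inv_mem hk, fun x hx => ?_⟩
    have hax : a⁻¹ * x * a ∈ P := by
      have := (Subgroup.mem_normalizer_iff.1 (Subgroup.inv_mem _ haN) x).1 hx
      simpa using this
    have h1 := ek _ hax
    have h2 : a * (a⁻¹ * x * a) * a⁻¹ = x := by group
    rw [h2] at h1
    rw [inv_inv, h1]; group

theorem Iso.mem_ext {F : FusionSystem S} {P Q : Subgroup Ω} {f : Ω → Ω} (h : Iso F P Q f) {g : Ω} :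
    g ∈ h.ext ↔ g ∈ S ∧ g ∈ Subgroup.normalizer (P : Set Ω) ∧
      ∃ k ∈ S, ∀ x ∈ P, f (g * x * g⁻¹) = k * f x * k⁻¹ := Iff.rfl

theorem Iso.ext_le_normalizerIn {F : FusionSystem S} {P Q : Subgroup Ω} {f : Ω → Ω}
    (h : Iso F P Q f) : h.ext ≤ normalizerIn S P :=
  fun _ hg => ⟨hg.1, hg.2.1⟩

theorem Iso.le_ext {F : FusionSystem S} {P Q : Subgroup Ω} {f : Ω → Ω} (h : Iso F P Q f) :
    P ≤ h.ext := by
  intro g hg
  refine ⟨h.le_left hg, Subgroup.le_normalizer hg, f g, h.1.mem hg, fun x hx => ?_⟩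
  rw [h.1.map_mul (P.mul_mem hg hx) (P.inv_mem hg), h.1.map_mul hg hx, h.1.map_inv hg]

theorem Iso.centralizerIn_le_ext {F : FusionSystem S} {P Q : Subgroup Ω} {f : Ω → Ω}
    (h : Iso F P Q f) : centralizerIn S P ≤ h.ext := by
  intro g hg
  have hc : ∀ x ∈ P, g * x * g⁻¹ = x := by
    intro x hx
    have := hg.2 x hx
    rw [← this]; group
  refine ⟨hg.1, ?_, 1, S.one_mem, fun x hx => ?_⟩
  · rw [Subgroup.mem_normalizer_iff]
    intro x
    constructor
    · intro hx; rw [hc x hx]; exact hx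
    · intro hx
      have h1 : g⁻¹ * (g * x * g⁻¹) * g = x := by group
      have h2 := hg.2 _ hx
      have h3 : g * x * g⁻¹ = x := by
        have : g * x * g⁻¹ * g = g * (g * x * g⁻¹) := h2
        have h4 : g * x = g * (g * x * g⁻¹) := by rw [← this]; group
        exact (mul_left_cancel h4).symm
      rw [← h3]; exact hx
  · rw [hc x hx]; simp

theorem extender_eq {F : FusionSystem S} {P : Subgroup Ω} {φ : P →* Ω} {Q : Subgroup Ω}
    (h : Iso F P Q (extFun φ)) : extender S P φ = h.ext := by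
  unfold extender
  apply le_antisymm
  · rw [Subgroup.closure_le]
    rintro g ⟨hgS, hgN, k, hk, e⟩
    refine ⟨hgS, hgN, k, hk, fun x hx => ?_⟩
    have hx' : g * x * g⁻¹ ∈ P := (Subgroup.mem_normalizer_iff.1 hgN x).1 hx
    rw [extFun_mem φ hx', extFun_mem φ hx]
    exact e ⟨x, hx⟩ hx'
  · intro g hg
    apply Subgroup.subset_closure
    obtain ⟨hgS, hgN, k, hk, e⟩ := hg
    refine ⟨hgS, hgN, k, hk, fun x hx' => ?_⟩
    have := e x x.2
    rw [extFun_mem φ hx', extFun_mem φ x.2] at this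
    exact this

theorem Iso.ext_congr {F : FusionSystem S} {P Q : Subgroup Ω} {f f' : Ω → Ω} (h : Iso F P Q f)
    (h' : Iso F P Q f') (hff : ∀ x ∈ P, f x = f' x) : h.ext = h'.ext := by
  ext g
  rw [h.mem_ext, h'.mem_ext]
  constructor
  · rintro ⟨h1, h2, k, hk, e⟩
    refine ⟨h1, h2, k, hk, fun x hx => ?_⟩
    rw [← hff x hx, ← hff _ ((Subgroup.mem_normalizer_iff.1 h2 x).1 hx)]
    exact e x hx
  · rintro ⟨h1, h2, k, hk, e⟩
    refine ⟨h1, h2, k, hk, fun x hx => ?_⟩
    rw [hff x hx, hff _ ((Subgroup.mem_normalizer_iff.1 h2 x).1 hx)]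
    exact e x hx

/-- receptivity at function level -/
theorem isReceptive_iff {F : FusionSystem S} {Q : Subgroup Ω} :
    F.IsReceptive Q ↔ Q ≤ S ∧ ∀ (P : Subgroup Ω) (f : Ω → Ω) (h : Iso F P Q f),
      ∃ g, Mor F h.ext g ∧ ∀ x ∈ P, g x = f x := by
  constructor
  · rintro ⟨hQ, hrec⟩
    refine ⟨hQ, fun P f h => ?_⟩
    obtain ⟨φ, hφ, e1⟩ := h.1
    have hf : ∀ x ∈ P, f x = extFun φ x := fun x hx => by rw [extFun_mem φ hx, e1 ⟨x, hx⟩]
    have h' : Iso F P Q (extFun φ) := h.congr hf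
    have hr : φ.range = Q := (iso_of_mem hφ).eq_of_iso h'
    obtain ⟨ψ, hψ, e2⟩ := hrec P φ hφ hr
    have hext : extender S P φ = h.ext := (extender_eq h').trans (h'.ext_congr h (fun x hx => (hf x hx).symm))
    refine ⟨extFun ψ, ?_, fun x hx => ?_⟩
    · rw [← hext]; exact mor_of_mem hψ
    · have hxN : x ∈ extender S P φ := by rw [hext]; exact h.le_ext hx
      rw [extFun_mem ψ hxN, e2 x hx hxN, e1 ⟨x, hx⟩]
  · rintro ⟨hQ, hrec⟩
    refine ⟨hQ, fun P φ hφ hr => ?_⟩
    have h : Iso F P Q (extFun φ) := hr ▸ iso_of_mem hφ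
    obtain ⟨g, hg, e⟩ := hrec P _ h
    rw [← extender_eq h] at hg
    obtain ⟨ψ, hψ, e2⟩ := hg
    refine ⟨ψ, hψ, fun x hP hN => ?_⟩
    rw [e2 ⟨x, hN⟩]
    show g x = _
    rw [e x hP, extFun_mem φ hP]

/-! ### conjugation automorphisms -/

/-- conjugation by an element of the normalizer, as an automorphism of `P` -/
def conjAut (P : Subgroup Ω) (g : Ω) (hg : g ∈ Subgroup.normalizer (P : Set Ω)) : MulAut P where
  toFun x := ⟨g * x * g⁻¹, (Subgroup.mem_normalizer_iff.1 hg x).1 x.2⟩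
  invFun x := ⟨g⁻¹ * x * g, by
    have := (Subgroup.mem_normalizer_iff.1 (Subgroup.inv_mem _ hg) x).1 x.2
    simpa using this⟩
  left_inv x := by apply Subtype.ext; simp only; group
  right_inv x := by apply Subtype.ext; simp only; group
  map_mul' x y := by apply Subtype.ext; simp only [Subgroup.coe_mul]; group

theorem conjAut_apply (P : Subgroup Ω) (g : Ω) (hg : g ∈ Subgroup.normalizer (P : Set Ω)) (x : P) :
    ((conjAut P g hg x : P) : Ω) = g * x * g⁻¹ := rfl

theorem conjAut_mem_autInducedBy {K P : Subgroup Ω} {g : Ω} (hgK : g ∈ K)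
    (hg : g ∈ Subgroup.normalizer (P : Set Ω)) : conjAut P g hg ∈ autInducedBy K P :=
  mem_autInducedBy_iff.2 ⟨g, hgK, fun _ => rfl⟩

/-- if conjugation by `k` induces an automorphism of `P` then `k` normalizes `P` -/
theorem mem_normalizer_of_aut {P : Subgroup Ω} {k : Ω} (β : MulAut P)
    (e : ∀ x : P, ((β x : P) : Ω) = k * (x : Ω) * k⁻¹) : k ∈ Subgroup.normalizer (P : Set Ω) := by
  rw [Subgroup.mem_normalizer_iff]
  intro y
  constructor
  · intro hy
    rw [← e ⟨y, hy⟩]; exact (β ⟨y, hy⟩).2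
  · intro hy
    obtain ⟨x, hx⟩ := β.surjective ⟨_, hy⟩
    have h1 := e x
    rw [hx] at h1
    have h2 : y = x := mul_left_cancel (mul_right_cancel h1)
    rw [h2]; exact x.2

theorem mem_autInducedBy_iff' {K P : Subgroup Ω} {α : MulAut P} :
    α ∈ autInducedBy K P ↔ ∃ g ∈ K, g ∈ Subgroup.normalizer (P : Set Ω) ∧
      ∀ x : P, ((α x : P) : Ω) = g * (x : Ω) * g⁻¹ := by
  rw [mem_autInducedBy_iff]
  constructor
  · rintro ⟨g, hg, e⟩; exact ⟨g, hg, mem_normalizer_of_aut α e, e⟩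
  · rintro ⟨g, hg, -, e⟩; exact ⟨g, hg, e⟩

/-- images of normalizing elements normalize the image -/
theorem Mor.map_normalizer {F : FusionSystem S} {N P Q : Subgroup Ω} {g : Ω → Ω}
    (hN : Mor F N g) (hPN : P ≤ N) (hPQ : Iso F P Q g) {n : Ω} (hn : n ∈ N)
    (hnP : n ∈ Subgroup.normalizer (P : Set Ω)) : g n ∈ Subgroup.normalizer (Q : Set Ω) := by
  have key : ∀ m ∈ N, m ∈ Subgroup.normalizer (P : Set Ω) → ∀ y ∈ Q, g m * y * (g m)⁻¹ ∈ Q := by
    intro m hm hmP y hy
    obtain ⟨x, hx, rfl⟩ := hPQ.surj hy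
    have hx' : m * x * m⁻¹ ∈ P := (Subgroup.mem_normalizer_iff.1 hmP x).1 hx
    have : g (m * x * m⁻¹) = g m * g x * (g m)⁻¹ := by
      rw [hN.map_mul (N.mul_mem hm (hPN hx)) (N.inv_mem hm), hN.map_mul hm (hPN hx), hN.map_inv hm]
    rw [← this]
    exact hPQ.map_mem hx'
  rw [Subgroup.mem_normalizer_iff]
  intro y
  constructor
  · exact key n hn hnP y
  · intro hy
    have := key n⁻¹ (N.inv_mem hn) (Subgroup.inv_mem _ hnP) _ hy
    rw [hN.map_inv hn] at this
    have h2 : (g n)⁻¹ * (g n * y * (g n)⁻¹) * (g n)⁻¹⁻¹ = y := by group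
    rwa [h2] at this

/-! ### the key extension lemma -/

theorem finite_of_le [Finite S] {P : Subgroup Ω} (hP : P ≤ S) : Finite P :=
  Finite.of_injective _ (Subgroup.inclusion_injective hP)

/-- Roberts–Shpectorov key lemma: if `Q` is fully automized and receptive and `f : P → Q` is an isomorphism
of the system, then some map of the system defined on `N_S(P)` carries `P` onto `Q`. -/
theorem exists_extension_to_normalizer {p : ℕ} [Fact p.Prime] [Finite S] (hS : IsPGroup p S)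
    {F : FusionSystem S} {P Q : Subgroup Ω} {f : Ω → Ω} (hQa : F.IsFullyAutomized p Q)
    (hQr : F.IsReceptive Q) (h : Iso F P Q f) :
    ∃ g, Mor F (normalizerIn S P) g ∧ Iso F P Q g := by
  classical
  obtain ⟨hQS, R, hR⟩ := hQa
  have hfinQ : Finite Q := finite_of_le hQS
  let A := F.autGroup Q
  let e := h.equiv
  let B : Subgroup (MulAut Q) := (autInducedBy S P).map (MulAut.congr e).toMonoidHom
  have hBA : B ≤ A := by
    rintro _ ⟨α, hα, rfl⟩
    exact congr_mem_autGroup h (autInducedBy_le_autGroup F h.le_left hα)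
  have hBp : IsPGroup p B := (isPGroup_autInducedBy hS P).map _
  have hB'p : IsPGroup p (B.subgroupOf A) := hBp.comap_subtype
  obtain ⟨R', hR'⟩ := hB'p.exists_le_sylow
  obtain ⟨a, ha⟩ := MulAction.exists_smul_eq A R' R
  -- for β ∈ B, a β a⁻¹ lies in Aut_S(Q)
  have hconj : ∀ β ∈ B, (a : MulAut Q) * β * (a : MulAut Q)⁻¹ ∈ autInducedBy S Q := by
    intro β hβ
    have h1 : (⟨β, hBA hβ⟩ : A) ∈ (R' : Subgroup A) := hR' (by
      rw [Subgroup.mem_subgroupOf]; exact hβ)
    have h2 : a * (⟨β, hBA hβ⟩ : A) * a⁻¹ ∈ (R : Subgroup A) := by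
      rw [← ha]
      exact ⟨_, h1, rfl⟩
    rw [hR, Subgroup.mem_subgroupOf] at h2
    exact h2
  -- new isomorphism f' = a ∘ f
  have haA : (a : MulAut Q) ∈ F.autGroup Q := a.2
  have hχ : Iso F Q Q (extAut (a : MulAut Q)) :=
    iso_of_mor_extAut ((mem_autGroup_iff hQS).1 haA)
  have h' : Iso F P Q (fun x => extAut (a : MulAut Q) (f x)) := h.comp hχ
  -- N_S(P) ≤ N_{f'}
  have hle : normalizerIn S P ≤ h'.ext := by
    intro n hn
    have hnN : n ∈ Subgroup.normalizer (P : Set Ω) := hn.2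
    have hβ : MulAut.congr e (conjAut P n hnN) ∈ B :=
      ⟨_, conjAut_mem_autInducedBy hn.1 hnN, rfl⟩
    obtain ⟨k, hk, ek⟩ := mem_autInducedBy_iff.1 (hconj _ hβ)
    refine ⟨hn.1, hnN, k, hk, fun x hx => ?_⟩
    have hx' : n * x * n⁻¹ ∈ P := (Subgroup.mem_normalizer_iff.1 hnN x).1 hx
    -- evaluate ek at y = a (f x)
    have hfx : f x ∈ Q := h.map_mem hx
    have := ek ((a : MulAut Q) ⟨f x, hfx⟩)
    show extAut (a : MulAut Q) (f (n * x * n⁻¹)) = k * extAut (a : MulAut Q) (f x) * k⁻¹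
    rw [extAut_mem _ hfx, ← this, extAut_mem _ (h.map_mem hx')]
    congr 1
    show (a : MulAut Q) ⟨f (n * x * n⁻¹), _⟩ =
      (a : MulAut Q) ((MulAut.congr e (conjAut P n hnN)) ((a : MulAut Q)⁻¹ ((a : MulAut Q) ⟨f x, hfx⟩)))
    congr 1
    have h3 : (a : MulAut Q)⁻¹ ((a : MulAut Q) ⟨f x, hfx⟩) = ⟨f x, hfx⟩ := by simp
    rw [h3]
    have h4 : (MulAut.congr e (conjAut P n hnN)) ⟨f x, hfx⟩ =
        e (conjAut P n hnN (e.symm ⟨f x, hfx⟩)) := rfl
    rw [h4]
    have h5 : e.symm ⟨f x, hfx⟩ = ⟨x, hx⟩ := by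
      rw [MulEquiv.symm_apply_eq]; rfl
    rw [h5]
    rfl
  obtain ⟨g, hg, eg⟩ := (isReceptive_iff.1 hQr).2 P _ h'
  exact ⟨g, hg.restrict hle, h'.congr (fun x hx => (eg x hx).symm)⟩

theorem le_normalizerIn {P : Subgroup Ω} (hP : P ≤ S) : P ≤ normalizerIn S P :=
  fun _ hx => ⟨hP hx, Subgroup.le_normalizer hx⟩

/-- a map on `N_S(P)` carrying `P` onto `Q` sends `N_S(P)` into `N_S(Q)` -/
theorem map_normalizerIn {F : FusionSystem S} {P Q : Subgroup Ω} {g : Ω → Ω}
    (hg : Mor F (normalizerIn S P) g) (hPQ : Iso F P Q g) {n : Ω} (hn : n ∈ normalizerIn S P) :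
    g n ∈ normalizerIn S Q :=
  ⟨hg.mem hn, hg.map_normalizer (le_normalizerIn hPQ.le_left) hPQ hn hn.2⟩

theorem card_le_of_mor [Finite S] {F : FusionSystem S} {N M : Subgroup Ω} {g : Ω → Ω}
    (hg : Mor F N g) (hM : M ≤ S) (hNM : ∀ n ∈ N, g n ∈ M) : Nat.card N ≤ Nat.card M := by
  have : Finite M := finite_of_le hM
  apply Nat.card_le_card_of_injective (fun n : N => (⟨g n, hNM n n.2⟩ : M))
  intro a b hab
  exact Subtype.ext (hg.inj a.2 b.2 (congrArg Subtype.val hab))

theorem iso_of_card_le [Finite S] {F : FusionSystem S} {N M : Subgroup Ω} {g : Ω → Ω}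
    (hg : Mor F N g) (hM : M ≤ S) (hNM : ∀ n ∈ N, g n ∈ M) (hc : Nat.card M ≤ Nat.card N) :
    Iso F N M g := by
  have : Finite M := finite_of_le hM
  have : Finite N := finite_of_le hg.le
  refine ⟨hg, fun y => ⟨fun hy => ?_, ?_⟩⟩
  · have hinj : Function.Injective (fun n : N => (⟨g n, hNM n n.2⟩ : M)) := by
      intro a b hab
      exact Subtype.ext (hg.inj a.2 b.2 (congrArg Subtype.val hab))
    have hsurj : Function.Surjective (fun n : N => (⟨g n, hNM n n.2⟩ : M)) := by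
      have hbij := (Nat.bijective_iff_injective_and_card _).2
        ⟨hinj, le_antisymm (Nat.card_le_card_of_injective _ hinj) hc⟩
      exact hbij.2
    obtain ⟨n, hn⟩ := hsurj ⟨y, hy⟩
    exact ⟨n, n.2, congrArg Subtype.val hn⟩
  · rintro ⟨x, hx, rfl⟩
    exact hNM x hx

theorem Mor.map_conj {F : FusionSystem S} {N : Subgroup Ω} {g : Ω → Ω} (h : Mor F N g) {n x : Ω}
    (hn : n ∈ N) (hx : x ∈ N) : g (n * x * n⁻¹) = g n * g x * (g n)⁻¹ := by
  rw [h.map_mul (N.mul_mem hn hx) (N.inv_mem hn), h.map_mul hn hx, h.map_inv hn]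

theorem congr_apply {P Q : Subgroup Ω} (e : P ≃* Q) (α : MulAut P) (y : Q) :
    MulAut.congr e α y = e (α (e.symm y)) := rfl

/-- for an isomorphism `g : N_S(P) → N_S(Q)` with `g(P) = Q`, transport carries `Aut_S(P)` onto `Aut_S(Q)` -/
theorem map_autInducedBy_eq {F : FusionSystem S} {P Q : Subgroup Ω} {g : Ω → Ω}
    (hgN : Iso F (normalizerIn S P) (normalizerIn S Q) g) (hgPQ : Iso F P Q g) :
    (autInducedBy S P).map (MulAut.congr hgPQ.equiv).toMonoidHom = autInducedBy S Q := by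
  have hPN : P ≤ normalizerIn S P := le_normalizerIn hgPQ.le_left
  apply le_antisymm
  · rintro _ ⟨α, hα, rfl⟩
    obtain ⟨n, hnS, hnN, en⟩ := mem_autInducedBy_iff'.1 hα
    have hn : n ∈ normalizerIn S P := ⟨hnS, hnN⟩
    refine mem_autInducedBy_iff.2 ⟨g n, hgN.1.mem hn, fun y => ?_⟩
    show ((MulAut.congr hgPQ.equiv α y : Q) : Ω) = _
    rw [congr_apply, hgPQ.equiv_apply, en, hgN.1.map_conj hn (hPN (hgPQ.equiv.symm y).2)]
    have : g ((hgPQ.equiv.symm y : P) : Ω) = y := by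
      rw [← hgPQ.equiv_apply, MulEquiv.apply_symm_apply]
    rw [this]
  · intro β hβ
    obtain ⟨k, hkS, hkN, ek⟩ := mem_autInducedBy_iff'.1 hβ
    obtain ⟨n, hn, rfl⟩ := hgN.surj (show k ∈ normalizerIn S Q from ⟨hkS, hkN⟩)
    refine ⟨conjAut P n hn.2, conjAut_mem_autInducedBy hn.1 hn.2, ?_⟩
    ext y
    show ((MulAut.congr hgPQ.equiv (conjAut P n hn.2) y : Q) : Ω) = _
    rw [congr_apply, hgPQ.equiv_apply, conjAut_apply, hgN.1.map_conj hn (hPN (hgPQ.equiv.symm y).2), ek]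
    have : g ((hgPQ.equiv.symm y : P) : Ω) = y := by
      rw [← hgPQ.equiv_apply, MulEquiv.apply_symm_apply]
    rw [this]

theorem map_autGroup_eq {F : FusionSystem S} {P Q : Subgroup Ω} {g : Ω → Ω} (h : Iso F P Q g) :
    (F.autGroup P).map (MulAut.congr h.equiv).toMonoidHom = F.autGroup Q := by
  apply le_antisymm
  · rintro _ ⟨α, hα, rfl⟩
    exact congr_mem_autGroup h hα
  · intro β hβ
    exact ⟨_, congr_symm_mem_autGroup h hβ, (MulAut.congr h.equiv).apply_symm_apply β⟩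

/-- **Roberts–Shpectorov**: in a saturated system over a finite `p`-group, a fully normalized subgroup is fully
automized and receptive. -/
theorem fullyAutomized_and_receptive_of_fullyNormalized {p : ℕ} [Fact p.Prime] [Finite S]
    (hS : IsPGroup p S) {F : FusionSystem S} (hF : F.IsSaturated p) {P : Subgroup Ω}
    (hP : F.IsFullyNormalized P) : F.IsFullyAutomized p P ∧ F.IsReceptive P := by
  classical
  obtain ⟨Q, hPQ, hQa, hQr⟩ := hF P hP.1
  obtain ⟨f, hf⟩ := isConj_iff.1 hPQ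
  obtain ⟨g, hg, hgPQ⟩ := exists_extension_to_normalizer hS hQa hQr hf
  have hcard : Nat.card (normalizerIn S Q) ≤ Nat.card (normalizerIn S P) := hP.2 Q hPQ
  have hgN : Iso F (normalizerIn S P) (normalizerIn S Q) g :=
    iso_of_card_le hg inf_le_left (fun n hn => map_normalizerIn hg hgPQ hn) hcard
  have hPN : P ≤ normalizerIn S P := le_normalizerIn hP.1
  have hfinP : Finite P := finite_of_le hP.1
  have hfinQ : Finite Q := finite_of_le hgPQ.le_right
  constructor
  · -- fully automized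
    refine ⟨hP.1, ?_⟩
    obtain ⟨-, R, hR⟩ := hQa
    have hinj : Function.Injective (MulAut.congr hgPQ.equiv).toMonoidHom :=
      (MulAut.congr hgPQ.equiv).injective
    have c1 : Nat.card (F.autGroup P) = Nat.card (F.autGroup Q) := by
      rw [← map_autGroup_eq hgPQ]
      exact (Subgroup.card_map_of_injective hinj).symm
    have c2 : Nat.card (autInducedBy S P) = Nat.card (autInducedBy S Q) := by
      rw [← map_autInducedBy_eq hgN hgPQ]
      exact (Subgroup.card_map_of_injective hinj).symm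
    have c3 : Nat.card ((autInducedBy S P).subgroupOf (F.autGroup P)) = Nat.card (autInducedBy S P) :=
      Nat.card_congr (Subgroup.subgroupOfEquivOfLe (autInducedBy_le_autGroup F hP.1)).toEquiv
    have c4 : Nat.card ((autInducedBy S Q).subgroupOf (F.autGroup Q)) = Nat.card (autInducedBy S Q) :=
      Nat.card_congr (Subgroup.subgroupOfEquivOfLe (autInducedBy_le_autGroup F hgPQ.le_right)).toEquiv
    have c5 := R.card_eq_multiplicity
    rw [hR, c4] at c5
    have c6 : Nat.card ((autInducedBy S P).subgroupOf (F.autGroup P)) =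
        p ^ (Nat.card (F.autGroup P)).factorization p := by rw [c3, c2, c5, c1]
    exact ⟨Sylow.ofCard _ c6, rfl⟩
  · -- receptive
    rw [isReceptive_iff]
    refine ⟨hP.1, fun R t ht => ?_⟩
    have hgt : Iso F R Q (fun x => g (t x)) := ht.comp hgPQ
    obtain ⟨ρ, hρ, eρ⟩ := (isReceptive_iff.1 hQr).2 R _ hgt
    have hle : ht.ext ≤ hgt.ext := by
      rintro n ⟨hnS, hnN, k, hk, ek⟩
      have hkN : k ∈ Subgroup.normalizer (P : Set Ω) := by
        rw [Subgroup.mem_normalizer_iff]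
        intro y
        constructor
        · intro hy
          obtain ⟨x, hx, rfl⟩ := ht.surj hy
          rw [← ek x hx]
          exact ht.map_mem ((Subgroup.mem_normalizer_iff.1 hnN x).1 hx)
        · intro hy
          obtain ⟨x', hx', e'⟩ := ht.surj hy
          have hx'' : n⁻¹ * x' * n ∈ R := by
            have := (Subgroup.mem_normalizer_iff.1 (Subgroup.inv_mem _ hnN) x').1 hx'
            simpa using this
          have h1 := ek _ hx''
          have h2 : n * (n⁻¹ * x' * n) * n⁻¹ = x' := by group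
          rw [h2, e'] at h1
          have h3 : y = t (n⁻¹ * x' * n) := mul_left_cancel (mul_right_cancel h1)
          rw [h3]
          exact ht.map_mem hx''
      refine ⟨hnS, hnN, g k, hg.mem ⟨hk, hkN⟩, fun x hx => ?_⟩
      show g (t (n * x * n⁻¹)) = g k * g (t x) * (g k)⁻¹
      rw [ek x hx, hg.map_conj ⟨hk, hkN⟩ (hPN (ht.map_mem hx))]
    have hρ' : Mor F ht.ext ρ := hρ.restrict hle
    have hρQ : Iso F R Q ρ := hgt.congr (fun x hx => (eρ x hx).symm)
    have hmaps : ∀ n ∈ ht.ext, ρ n ∈ normalizerIn S Q := by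
      intro n hn
      exact ⟨hρ'.mem hn, hρ'.map_normalizer ht.le_ext hρQ hn hn.2.1⟩
    obtain ⟨g', hg', e1, e2⟩ := hgN.symm
    refine ⟨fun x => g' (ρ x), hρ'.comp hg'.1 hmaps, fun x hx => ?_⟩
    show g' (ρ x) = t x
    rw [eρ x hx]
    exact e1 _ (hPN (ht.map_mem hx))

theorem fullyAutomized_of_fullyNormalized {p : ℕ} [Fact p.Prime] [Finite S]
    (hS : IsPGroup p S) {F : FusionSystem S} (hF : F.IsSaturated p) {P : Subgroup Ω}
    (hP : F.IsFullyNormalized P) : F.IsFullyAutomized p P :=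
  (fullyAutomized_and_receptive_of_fullyNormalized hS hF hP).1

theorem receptive_of_fullyNormalized {p : ℕ} [Fact p.Prime] [Finite S]
    (hS : IsPGroup p S) {F : FusionSystem S} (hF : F.IsSaturated p) {P : Subgroup Ω}
    (hP : F.IsFullyNormalized P) : F.IsReceptive P :=
  (fullyAutomized_and_receptive_of_fullyNormalized hS hF hP).2

/-- for `P` fully normalized and `Q` conjugate to `P`, a map of the system on `N_S(Q)` carries `Q` onto `P` -/
theorem exists_map_normalizer_to_fullyNormalized {p : ℕ} [Fact p.Prime] [Finite S]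
    (hS : IsPGroup p S) {F : FusionSystem S} (hF : F.IsSaturated p) {P Q : Subgroup Ω}
    (hP : F.IsFullyNormalized P) (hQP : F.IsConj Q P) :
    ∃ g, Mor F (normalizerIn S Q) g ∧ Iso F Q P g := by
  obtain ⟨f, hf⟩ := isConj_iff.1 hQP
  exact exists_extension_to_normalizer hS (fullyAutomized_of_fullyNormalized hS hF hP)
    (receptive_of_fullyNormalized hS hF hP) hf

end Cfsg.Agent.Helper87
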