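import Mathlib
import Cfsg.Agent.Lib.Helper87.FusionSaturated

set_option autoImplicit false

namespace Cfsg.Agent.Helper87

open Cfsg Cfsg.FusionSystem

/-! ### general lemmas on `pCore` -/

section pcore

variable {G : Type*} [Group G] {p : ℕ}

theorem le_pCore {N : Subgroup G} (hN : N.Normal) (hp : IsPGroup p N) : N ≤ pCore p G :=
  le_sSup ⟨hN, hp⟩

theorem pCore_normal (p : ℕ) (G : Type*) [Group G] : (pCore p G).Normal :=
  Subgroup.sSup_normal _ (fun _ h => h.1)

theorem normal_pGroup_le_sylow [Fact p.Prime] [Finite G] {N : Subgroup G} (hN : N.Normal)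
    (hp : IsPGroup p N) (P : Sylow p G) : N ≤ P := by
  obtain ⟨P₀, hP₀⟩ := hp.exists_le_sylow
  obtain ⟨g, hg⟩ := MulAction.exists_smul_eq G P₀ P
  intro n hn
  rw [← hg]
  have h1 : g⁻¹ * n * g⁻¹⁻¹ ∈ N := hN.conj_mem n hn g⁻¹
  refine ⟨g⁻¹ * n * g⁻¹⁻¹, hP₀ h1, ?_⟩
  simp [MulAut.conj_apply, mul_assoc]

theorem pCore_le_sylow [Fact p.Prime] [Finite G] (P : Sylow p G) : pCore p G ≤ P :=
  sSup_le (fun _ h => normal_pGroup_le_sylow h.1 h.2 P)

theorem pCore_isPGroup [Fact p.Prime] [Finite G] : IsPGroup p (pCore p G) := by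
  obtain ⟨P⟩ : Nonempty (Sylow p G) := Sylow.nonempty
  exact P.isPGroup'.to_le (pCore_le_sylow P)

end pcore

variable {Ω : Type*} [Group Ω] {S : Subgroup Ω}

theorem card_lt_of_not_mem [Finite S] {P N : Subgroup Ω} (hPN : P ≤ N) (hN : N ≤ S) {n : Ω}
    (hn : n ∈ N) (hnP : n ∉ P) : Nat.card P < Nat.card N := by
  have : Finite N := finite_of_le hN
  by_contra h
  push Not at h
  have := Subgroup.eq_of_le_of_card_ge hPN h
  rw [this] at hnP
  exact hnP hn

/-- normalizers grow in finite `p`-groups -/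
theorem exists_normalizer_not_mem {p : ℕ} [Fact p.Prime] [Finite S] (hS : IsPGroup p S)
    {P : Subgroup Ω} (hP : P ≤ S) (hne : P ≠ S) : ∃ n ∈ normalizerIn S P, n ∉ P := by
  have hnil : Group.IsNilpotent S := hS.isNilpotent
  have hcond : NormalizerCondition S := Group.normalizerCondition_of_isNilpotent
  have hlt : P.subgroupOf S < ⊤ := by
    rw [lt_top_iff_ne_top]
    intro h
    apply hne
    apply le_antisymm hP
    intro s hs
    have : (⟨s, hs⟩ : S) ∈ P.subgroupOf S := by rw [h]; trivial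
    exact this
  have h2 := hcond _ hlt
  obtain ⟨s, hs, hsP⟩ := SetLike.exists_of_lt h2
  refine ⟨s, ⟨s.2, ?_⟩, fun h => hsP h⟩
  show (s : Ω) ∈ Subgroup.normalizer (P : Set Ω)
  rw [Subgroup.mem_normalizer_iff] at hs ⊢
  intro x
  constructor
  · intro hx
    exact (hs ⟨x, hP hx⟩).1 hx
  · intro hx
    have hxS : x ∈ S := by
      have h3 : (s : Ω)⁻¹ * ((s : Ω) * x * (s : Ω)⁻¹) * (s : Ω) ∈ S :=
        S.mul_mem (S.mul_mem (S.inv_mem s.2) (hP hx)) s.2
      have h4 : (s : Ω)⁻¹ * ((s : Ω) * x * (s : Ω)⁻¹) * (s : Ω) = x := by group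
      rwa [h4] at h3
    exact (hs ⟨x, hxS⟩).2 hx

theorem normalizerIn_self : normalizerIn S S = S := by
  unfold normalizerIn
  exact inf_eq_left.2 Subgroup.le_normalizer

theorem fullyNormalized_self [Finite S] (F : FusionSystem S) : F.IsFullyNormalized S := by
  refine ⟨le_rfl, fun Q _ => ?_⟩
  rw [normalizerIn_self]
  exact card_normalizerIn_le Q

/-- a receptive non-centric subgroup has a centralizing element of `S` outside itself -/
theorem exists_centralizer_not_mem_of_not_centric [Finite S] {F : FusionSystem S} {P : Subgroup Ω}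
    (hrec : F.IsReceptive P) (hnc : ¬ F.IsCentric P) : ∃ c ∈ centralizerIn S P, c ∉ P := by
  by_contra hcon
  push Not at hcon
  apply hnc
  refine ⟨hrec.1, fun Q hPQ => ?_⟩
  obtain ⟨t, ht⟩ := isConj_iff.1 (isConj_symm hPQ)
  obtain ⟨t', ht', et⟩ := (isReceptive_iff.1 hrec).2 Q t ht
  intro c hc
  have hcE : c ∈ ht.ext := ht.centralizerIn_le_ext hc
  have hQE : Q ≤ ht.ext := ht.le_ext
  have h1 : t' c ∈ centralizerIn S P := by
    refine ⟨ht'.mem hcE, ?_⟩
    intro y hy
    obtain ⟨x, hx, rfl⟩ := ht.surj hy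
    rw [← et x hx, ← ht'.map_mul (hQE hx) hcE, ← ht'.map_mul hcE (hQE hx), hc.2 x hx]
  have h2 := hcon _ h1
  obtain ⟨x, hx, hxc⟩ := ht.surj h2
  rw [← et x hx] at hxc
  have := ht'.inj (hQE hx) hcE hxc
  rw [← this]; exact hx

theorem inn_le_autInducedBy {P : Subgroup Ω} (hP : P ≤ S) : Inn P ≤ autInducedBy S P := by
  rintro _ ⟨x, rfl⟩
  exact mem_autInducedBy_iff.2 ⟨x, hP x.2, fun y => by simp [MulAut.conj_apply]⟩

theorem inn_normal (G : Type*) [Group G] : (Inn G).Normal := by
  constructor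
  rintro _ ⟨x, rfl⟩ a
  refine ⟨a x, ?_⟩
  ext y
  simp [MulAut.conj_apply]

theorem inn_isPGroup {p : ℕ} {G : Type*} [Group G] (hG : IsPGroup p G) : IsPGroup p (Inn G) := by
  have : Inn G = (⊤ : Subgroup G).map (MulAut.conj : G →* MulAut G) := by
    rw [← MonoidHom.range_eq_map]
  rw [this]
  exact (hG.to_subgroup ⊤).map _

/-- a fully automized non-radical subgroup: every automorphism in the system has an extender element outside -/
theorem exists_ext_not_mem_of_not_radical {p : ℕ} [Fact p.Prime] [Finite S] (hS : IsPGroup p S)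
    {F : FusionSystem S} {P : Subgroup Ω} (hfa : F.IsFullyAutomized p P) (hnr : ¬ F.IsRadical p P)
    {α : Ω → Ω} (hα : Iso F P P α) : ∃ n ∈ hα.ext, n ∉ P := by
  classical
  obtain ⟨hPS, R, hR⟩ := hfa
  have hfinP : Finite P := finite_of_le hPS
  have hInnA : Inn P ≤ F.autGroup P :=
    (inn_le_autInducedBy hPS).trans (autInducedBy_le_autGroup F hPS)
  have hInnK : Inn P ≤ (pCore p (F.autGroup P)).map (F.autGroup P).subtype := by
    have hn : ((Inn P).subgroupOf (F.autGroup P)).Normal := (inn_normal P).subgroupOf _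
    have hp : IsPGroup p ((Inn P).subgroupOf (F.autGroup P)) :=
      (inn_isPGroup (hS.to_le hPS)).comap_subtype
    have h1 := le_pCore hn hp
    intro x hx
    exact ⟨⟨x, hInnA hx⟩, h1 (Subgroup.mem_subgroupOf.2 hx), rfl⟩
  have hKne : (pCore p (F.autGroup P)).map (F.autGroup P).subtype ≠ Inn P := fun h => hnr ⟨hPS, h⟩
  have hex : ∃ κ ∈ (pCore p (F.autGroup P)).map (F.autGroup P).subtype, κ ∉ Inn P := by
    by_contra h
    push Not at h
    exact hKne (le_antisymm h hInnK)
  obtain ⟨_, ⟨κ', hκ', rfl⟩, hκI⟩ := hex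
  have h1 : κ' ∈ (R : Subgroup (F.autGroup P)) := pCore_le_sylow R hκ'
  rw [hR, Subgroup.mem_subgroupOf] at h1
  obtain ⟨n, hnS, hnN, en⟩ := mem_autInducedBy_iff'.1 h1
  refine ⟨n, ⟨hnS, hnN, ?_⟩, ?_⟩
  · let a : F.autGroup P := ⟨hα.equiv, hα.equiv_mem_autGroup⟩
    have h2 : a * κ' * a⁻¹ ∈ pCore p (F.autGroup P) := (pCore_normal p _).conj_mem κ' hκ' a
    have h3 : a * κ' * a⁻¹ ∈ (R : Subgroup (F.autGroup P)) := pCore_le_sylow R h2
    rw [hR, Subgroup.mem_subgroupOf] at h3
    obtain ⟨k, hk, ek⟩ := mem_autInducedBy_iff.1 h3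
    refine ⟨k, hk, fun x hx => ?_⟩
    have h4 := ek (hα.equiv ⟨x, hx⟩)
    have hx' : n * x * n⁻¹ ∈ P := (Subgroup.mem_normalizer_iff.1 hnN x).1 hx
    have h5 : ((a * κ' * a⁻¹ : F.autGroup P) : MulAut P) (hα.equiv ⟨x, hx⟩) =
        hα.equiv ((κ' : MulAut P) ⟨x, hx⟩) := by
      show hα.equiv ((κ' : MulAut P) (hα.equiv.symm (hα.equiv ⟨x, hx⟩))) = _
      rw [MulEquiv.symm_apply_apply]
    rw [h5] at h4
    have h6 : (κ' : MulAut P) ⟨x, hx⟩ = ⟨n * x * n⁻¹, hx'⟩ := Subtype.ext (en ⟨x, hx⟩)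
    rw [h6] at h4
    exact h4
  · intro hnP
    apply hκI
    refine ⟨⟨n, hnP⟩, ?_⟩
    ext y
    show ((MulAut.conj (⟨n, hnP⟩ : P) y : P) : Ω) = (((κ' : MulAut P) y : P) : Ω)
    rw [en y]
    simp [MulAut.conj_apply]

/-- closure conditions for the predicate in Alperin's theorem -/
structure AlperinClosed (F : FusionSystem S) (C : Subgroup Ω → (Ω → Ω) → Prop) : Prop where
  congr : ∀ {P : Subgroup Ω} {f f' : Ω → Ω}, C P f → (∀ x ∈ P, f x = f' x) → C P f'
  restrict : ∀ {P Q : Subgroup Ω} {f : Ω → Ω}, Mor F P f → C P f → Q ≤ P → C Q f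
  comp : ∀ {P Q : Subgroup Ω} {f g : Ω → Ω}, Mor F P f → Mor F Q g → (∀ x ∈ P, f x ∈ Q) →
    C P f → C Q g → C P (fun x => g (f x))

/-- **Alperin's fusion theorem** (centric radical fully normalized form), as an induction principle; in the
automorphism step the predicate may be assumed for all maps with strictly larger source -/
theorem alperin_strong {p : ℕ} [Fact p.Prime] [Finite S] (hS : IsPGroup p S) {F : FusionSystem S}
    (hF : F.IsSaturated p) (C : Subgroup Ω → (Ω → Ω) → Prop) (hC : AlperinClosed F C)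
    (haut : ∀ R : Subgroup Ω, F.IsFullyNormalized R → F.IsCentric R → F.IsRadical p R →
      (∀ (P' : Subgroup Ω) (f' : Ω → Ω), Mor F P' f' → Nat.card R < Nat.card P' → C P' f') →
      ∀ α ∈ F.autGroup R, C R (extAut α)) :
    ∀ (P : Subgroup Ω) (f : Ω → Ω), Mor F P f → C P f := by
  classical
  suffices H : ∀ n : ℕ, ∀ (P : Subgroup Ω) (f : Ω → Ω), Mor F P f →
      Nat.card S - Nat.card P = n → C P f from fun P f h => H _ P f h rfl
  intro n
  induction n using Nat.strong_induction_on with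
  | _ n ih =>
  intro P f hf hn
  have hPle := Subgroup.card_le_of_le hf.le
  have IH : ∀ (P' : Subgroup Ω) (f' : Ω → Ω), Mor F P' f' → Nat.card P < Nat.card P' → C P' f' := by
    intro P' f' hf' hlt
    have hle := Subgroup.card_le_of_le hf'.le
    exact ih (Nat.card S - Nat.card P') (by omega) P' f' hf' rfl
  -- automorphisms of fully normalized subgroups of the same order
  have stepC : ∀ (Pst : Subgroup Ω) (α : Ω → Ω), F.IsFullyNormalized Pst →
      Nat.card Pst = Nat.card P → Iso F Pst Pst α → C Pst α := by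
    intro Pst α hfn hcard hα
    have hrec := receptive_of_fullyNormalized hS hF hfn
    have hfa := fullyAutomized_of_fullyNormalized hS hF hfn
    obtain ⟨α', hα', eα⟩ := (isReceptive_iff.1 hrec).2 Pst α hα
    have big : (∃ n ∈ hα.ext, n ∉ Pst) → C Pst α := by
      rintro ⟨n, hn, hnP⟩
      have hlt : Nat.card Pst < Nat.card hα.ext :=
        card_lt_of_not_mem hα.le_ext (hα.ext_le_normalizerIn.trans inf_le_left) hn hnP
      rw [hcard] at hlt
      have h1 := IH _ _ hα' hlt
      exact hC.congr (hC.restrict hα' h1 hα.le_ext) eα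
    by_cases hcen : F.IsCentric Pst
    · by_cases hrad : F.IsRadical p Pst
      · have h1 := haut Pst hfn hcen hrad
          (fun P' f' h hlt => IH P' f' h (hcard ▸ hlt)) _ hα.equiv_mem_autGroup
        exact hC.congr h1 (fun x hx => extAut_equiv hα hx)
      · exact big (exists_ext_not_mem_of_not_radical hS hfa hrad hα)
    · obtain ⟨c, hc, hcP⟩ := exists_centralizer_not_mem_of_not_centric hrec hcen
      exact big ⟨c, hα.centralizerIn_le_ext hc, hcP⟩
  by_cases hPS : P = S
  · subst hPS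
    have hiso : Iso F P P f := iso_of_card_le hf le_rfl (fun n hn => hf.mem hn) le_rfl
    exact stepC P f (fullyNormalized_self F) rfl hiso
  · obtain ⟨Pst, hconj, hfn⟩ := exists_fullyNormalized_conj F hf.le
    have hQ : Iso F P hf.image f := Iso.of_mor hf
    obtain ⟨ψ1, hψ1, hψ1i⟩ := exists_map_normalizer_to_fullyNormalized hS hF hfn hconj
    have hconj2 : F.IsConj hf.image Pst :=
      isConj_trans (isConj_symm (isConj_iff.2 ⟨f, hQ⟩)) hconj
    obtain ⟨ψ2, hψ2, hψ2i⟩ := exists_map_normalizer_to_fullyNormalized hS hF hfn hconj2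
    -- strict growth of normalizers
    obtain ⟨n1, hn1, hn1P⟩ := exists_normalizer_not_mem hS hf.le hPS
    have hlt1 : Nat.card P < Nat.card (normalizerIn S P) :=
      card_lt_of_not_mem (le_normalizerIn hf.le) inf_le_left hn1 hn1P
    have hcardQ : Nat.card P = Nat.card hf.image := hQ.card_eq
    have hQS : hf.image ≠ S := by
      intro h
      have h1 : Nat.card P = Nat.card S := by rw [hcardQ, h]
      exact hPS (Subgroup.eq_of_le_of_card_ge hf.le (le_of_eq h1.symm))
    obtain ⟨n2, hn2, hn2Q⟩ := exists_normalizer_not_mem hS hf.image_le hQS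
    have hlt2 : Nat.card P < Nat.card (normalizerIn S hf.image) := by
      rw [hcardQ]
      exact card_lt_of_not_mem (le_normalizerIn hf.image_le) inf_le_left hn2 hn2Q
    have C1 : C (normalizerIn S P) ψ1 := IH _ _ hψ1 hlt1
    -- the inverse of ψ2 on its image
    have hM : Iso F (normalizerIn S hf.image) hψ2.image ψ2 := Iso.of_mor hψ2
    obtain ⟨ψ2', hψ2', e1, e2⟩ := hM.symm
    have hlt3 : Nat.card P < Nat.card hψ2.image := by
      rw [← hM.card_eq]; exact hlt2
    have C3 : C hψ2.image ψ2' := IH _ _ hψ2'.1 hlt3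
    obtain ⟨ψ1', hψ1', d1, d2⟩ := hψ1i.symm
    have hα : Iso F Pst Pst (fun x => ψ2 (f (ψ1' x))) := (hψ1'.comp hQ).comp hψ2i
    have hcardPst : Nat.card Pst = Nat.card P := hψ1i.card_eq.symm
    have Cα := stepC Pst _ hfn hcardPst hα
    have hPstM : Pst ≤ hψ2.image := by
      intro y hy
      obtain ⟨x, hx, rfl⟩ := hψ2i.surj hy
      exact ⟨x, le_normalizerIn hf.image_le hx, rfl⟩
    have CP1 : C P ψ1 := hC.restrict hψ1 C1 (le_normalizerIn hf.le)
    have CPst3 : C Pst ψ2' := hC.restrict hψ2'.1 C3 hPstM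
    have step1 := hC.comp hψ1i.1 hα.1 (fun x hx => hψ1i.map_mem hx) CP1 Cα
    have hmor1 : Mor F P (fun x => (fun x => ψ2 (f (ψ1' x))) (ψ1 x)) :=
      hψ1i.1.comp hα.1 (fun x hx => hψ1i.map_mem hx)
    have step2 := hC.comp hmor1 (hψ2'.1.restrict hPstM)
      (fun x hx => hα.map_mem (hψ1i.map_mem hx)) step1 CPst3
    refine hC.congr step2 (fun x hx => ?_)
    show ψ2' (ψ2 (f (ψ1' (ψ1 x)))) = f x
    rw [d1 x hx]
    exact e1 _ (le_normalizerIn hf.image_le (hQ.map_mem hx))

/-- **Alperin's fusion theorem** (centric radical fully normalized form), as an induction principle -/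
theorem alperin {p : ℕ} [Fact p.Prime] [Finite S] (hS : IsPGroup p S) {F : FusionSystem S}
    (hF : F.IsSaturated p) (C : Subgroup Ω → (Ω → Ω) → Prop) (hC : AlperinClosed F C)
    (haut : ∀ R : Subgroup Ω, F.IsFullyNormalized R → F.IsCentric R → F.IsRadical p R →
      ∀ α ∈ F.autGroup R, C R (extAut α)) :
    ∀ (P : Subgroup Ω) (f : Ω → Ω), Mor F P f → C P f :=
  alperin_strong hS hF C hC (fun R h1 h2 h3 _ => haut R h1 h2 h3)

/-- variant of Alperin's theorem: it suffices to treat automorphisms of fully normalized subgroups, assuming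
the predicate for all maps with strictly larger source -/
theorem alperin_fullyNormalized {p : ℕ} [Fact p.Prime] [Finite S] (hS : IsPGroup p S)
    {F : FusionSystem S} (hF : F.IsSaturated p) (C : Subgroup Ω → (Ω → Ω) → Prop)
    (hC : AlperinClosed F C)
    (haut : ∀ R : Subgroup Ω, F.IsFullyNormalized R →
      (∀ (P' : Subgroup Ω) (f' : Ω → Ω), Mor F P' f' → Nat.card R < Nat.card P' → C P' f') →
      ∀ α ∈ F.autGroup R, C R (extAut α)) :
    ∀ (P : Subgroup Ω) (f : Ω → Ω), Mor F P f → C P f :=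
  alperin_strong hS hF C hC (fun R h1 _ _ => haut R h1)

end Cfsg.Agent.Helper87
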