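import Mathlib
import Cfsg.Agent.Lib.Helper87.FusionAlperin

set_option autoImplicit false

namespace Cfsg.Agent.Helper87

section ChainAut

variable {G : Type*} [Group G]

/-- automorphisms mapping `L` onto itself -/
def presSub (L : Subgroup G) : Subgroup (MulAut G) where
  carrier := {α | ∀ x, α x ∈ L ↔ x ∈ L}
  one_mem' := fun x => Iff.rfl
  mul_mem' := fun {α β} hα hβ x => by
    show α (β x) ∈ L ↔ x ∈ L
    rw [hα, hβ]
  inv_mem' := fun {α} hα x => by
    have := hα (α⁻¹ x)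
    rw [MulAut.apply_inv_self] at this
    exact this.symm

theorem mem_presSub {L : Subgroup G} {α : MulAut G} :
    α ∈ presSub L ↔ ∀ x, α x ∈ L ↔ x ∈ L := Iff.rfl

/-- automorphisms preserving `L` and `U` and acting trivially on `U` modulo `L` -/
def stepStab (L U : Subgroup G) : Subgroup (MulAut G) where
  carrier := {α | (∀ x, α x ∈ L ↔ x ∈ L) ∧ (∀ x, α x ∈ U ↔ x ∈ U) ∧ ∀ x ∈ U, x⁻¹ * α x ∈ L}
  one_mem' := ⟨fun x => Iff.rfl, fun x => Iff.rfl, fun x _ => by simp⟩
  mul_mem' := fun {α β} hα hβ => by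
    refine ⟨fun x => ?_, fun x => ?_, fun x hx => ?_⟩
    · show α (β x) ∈ L ↔ x ∈ L
      rw [hα.1, hβ.1]
    · show α (β x) ∈ U ↔ x ∈ U
      rw [hα.2.1, hβ.2.1]
    · show x⁻¹ * α (β x) ∈ L
      have h1 : x⁻¹ * β x ∈ L := hβ.2.2 x hx
      have h2 : α (x⁻¹ * β x) ∈ L := (hα.1 _).2 h1
      have h3 : x⁻¹ * α x ∈ L := hα.2.2 x hx
      have : x⁻¹ * α (β x) = (x⁻¹ * α x) * α (x⁻¹ * β x) := by
        rw [map_mul, map_inv]; group
      rw [this]
      exact L.mul_mem h3 h2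
  inv_mem' := fun {α} hα => by
    have hL : ∀ x, α⁻¹ x ∈ L ↔ x ∈ L := fun x => by
      have := hα.1 (α⁻¹ x)
      rw [MulAut.apply_inv_self] at this
      exact this.symm
    have hU : ∀ x, α⁻¹ x ∈ U ↔ x ∈ U := fun x => by
      have := hα.2.1 (α⁻¹ x)
      rw [MulAut.apply_inv_self] at this
      exact this.symm
    refine ⟨hL, hU, fun x hx => ?_⟩
    have h1 := hα.2.2 (α⁻¹ x) ((hU x).2 hx)
    rw [MulAut.apply_inv_self] at h1
    have := L.inv_mem h1
    rwa [mul_inv_rev, inv_inv] at this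

theorem mem_stepStab {L U : Subgroup G} {α : MulAut G} :
    α ∈ stepStab L U ↔
      (∀ x, α x ∈ L ↔ x ∈ L) ∧ (∀ x, α x ∈ U ↔ x ∈ U) ∧ ∀ x ∈ U, x⁻¹ * α x ∈ L := Iff.rfl

/-- conjugation by an automorphism preserving `L`, `U` normalizes `stepStab L U` -/
theorem stepStab_conj {L U : Subgroup G} {α γ : MulAut G} (hα : α ∈ stepStab L U)
    (hγL : γ ∈ presSub L) (hγU : γ ∈ presSub U) : γ * α * γ⁻¹ ∈ stepStab L U := by
  have hγL' := (presSub L).inv_mem hγL
  have hγU' := (presSub U).inv_mem hγU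
  refine ⟨fun x => ?_, fun x => ?_, fun x hx => ?_⟩
  · show γ (α (γ⁻¹ x)) ∈ L ↔ x ∈ L
    rw [hγL, hα.1, hγL']
  · show γ (α (γ⁻¹ x)) ∈ U ↔ x ∈ U
    rw [hγU, hα.2.1, hγU']
  · show x⁻¹ * γ (α (γ⁻¹ x)) ∈ L
    have h1 := hα.2.2 (γ⁻¹ x) ((hγU' x).2 hx)
    have h2 := (hγL _).2 h1
    rw [map_mul, map_inv, MulAut.apply_inv_self] at h2
    exact h2

/-- if `β` acts trivially on `U` mod `L` and fixes `L` pointwise then `β ^ |G|` fixes `U` -/
theorem stepStab_pow_card_fix [Finite G] {L U : Subgroup G} {β : MulAut G}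
    (hβ : β ∈ stepStab L U) (hfix : ∀ x ∈ L, β x = x) :
    ∀ x ∈ U, (β ^ Nat.card G) x = x := by
  intro x hx
  have hn : x⁻¹ * β x ∈ L := hβ.2.2 x hx
  have key : ∀ k : ℕ, (β ^ k) x = x * (x⁻¹ * β x) ^ k := by
    intro k
    induction k with
    | zero => simp
    | succ k ih =>
      rw [pow_succ', MulAut.mul_apply, ih, map_mul, map_pow, hfix _ hn, pow_succ', ← mul_assoc,
        ← mul_assoc, mul_inv_cancel, one_mul]
  rw [key, pow_card_eq_one', mul_one]

/-- `U` is generated modulo `L` by one element -/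
def CyclicStep (L U : Subgroup G) : Prop :=
  ∃ y ∈ U, ∀ x ∈ U, ∃ k : ℤ, (y ^ k)⁻¹ * x ∈ L

/-- two endomorphisms mapping `y` into `zpowers y` commute on `zpowers y` -/
theorem comm_on_zpowers {Q : Type*} [Group Q] (f g : Q →* Q) (y : Q)
    (hf : f y ∈ Subgroup.zpowers y) (hg : g y ∈ Subgroup.zpowers y) :
    ∀ z ∈ Subgroup.zpowers y, f (g z) = g (f z) := by
  obtain ⟨a, ha⟩ := Subgroup.mem_zpowers_iff.1 hf
  obtain ⟨b, hb⟩ := Subgroup.mem_zpowers_iff.1 hg
  intro z hz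
  obtain ⟨k, rfl⟩ := Subgroup.mem_zpowers_iff.1 hz
  have e1 : f (g (y ^ k)) = y ^ (a * b * k) := by
    rw [map_zpow, ← hb, map_zpow, map_zpow, ← ha, ← zpow_mul, ← zpow_mul, mul_assoc]
  have e2 : g (f (y ^ k)) = y ^ (b * a * k) := by
    rw [map_zpow, ← ha, map_zpow, map_zpow, ← hb, ← zpow_mul, ← zpow_mul, mul_assoc]
  rw [e1, e2, mul_comm a b]

/-- the map induced on `G ⧸ L` by an automorphism preserving `L` -/
noncomputable def quotMap (L : Subgroup G) [L.Normal] (α : MulAut G) (hα : α ∈ presSub L) :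
    G ⧸ L →* G ⧸ L :=
  QuotientGroup.map L L α.toMonoidHom (fun x hx => (hα x).2 hx)

theorem quotMap_mk (L : Subgroup G) [L.Normal] (α : MulAut G) (hα : α ∈ presSub L) (x : G) :
    quotMap L α hα (x : G ⧸ L) = ((α x : G) : G ⧸ L) := rfl

theorem mk_mem_zpowers_of_cyclicStep {L U : Subgroup G} [L.Normal] {y : G}
    (hy : ∀ x ∈ U, ∃ k : ℤ, (y ^ k)⁻¹ * x ∈ L) {x : G} (hx : x ∈ U) :
    (x : G ⧸ L) ∈ Subgroup.zpowers (y : G ⧸ L) := by
  obtain ⟨k, hk⟩ := hy x hx
  refine Subgroup.mem_zpowers_iff.2 ⟨k, ?_⟩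
  rw [← QuotientGroup.mk_zpow]
  exact QuotientGroup.eq.2 hk

/-- commutators of automorphisms preserving a cyclic step act trivially on it -/
theorem commutator_mem_stepStab {L U : Subgroup G} [L.Normal] (hc : CyclicStep L U)
    {α β : MulAut G} (hαL : α ∈ presSub L) (hαU : α ∈ presSub U) (hβL : β ∈ presSub L)
    (hβU : β ∈ presSub U) : α * β * α⁻¹ * β⁻¹ ∈ stepStab L U := by
  obtain ⟨y, hyU, hy⟩ := hc
  have hL : α * β * α⁻¹ * β⁻¹ ∈ presSub L :=
    (presSub L).mul_mem ((presSub L).mul_mem ((presSub L).mul_mem hαL hβL)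
      ((presSub L).inv_mem hαL)) ((presSub L).inv_mem hβL)
  have hU : α * β * α⁻¹ * β⁻¹ ∈ presSub U :=
    (presSub U).mul_mem ((presSub U).mul_mem ((presSub U).mul_mem hαU hβU)
      ((presSub U).inv_mem hαU)) ((presSub U).inv_mem hβU)
  refine ⟨hL, hU, fun x hx => ?_⟩
  have hz : α⁻¹ (β⁻¹ x) ∈ U :=
    (((presSub U).inv_mem hαU) _).2 ((((presSub U).inv_mem hβU) _).2 hx)
  have h1 := comm_on_zpowers (quotMap L α hαL) (quotMap L β hβL) (y : G ⧸ L)
    (by rw [quotMap_mk]; exact mk_mem_zpowers_of_cyclicStep hy ((hαU y).2 hyU))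
    (by rw [quotMap_mk]; exact mk_mem_zpowers_of_cyclicStep hy ((hβU y).2 hyU))
    _ (mk_mem_zpowers_of_cyclicStep hy hz)
  rw [quotMap_mk, quotMap_mk, quotMap_mk, quotMap_mk, MulAut.apply_inv_self,
    MulAut.apply_inv_self] at h1
  exact QuotientGroup.eq.1 h1.symm

theorem quotMap_iterate_mk (L : Subgroup G) [L.Normal] (α : MulAut G) (hα : α ∈ presSub L)
    (j : ℕ) (x : G) : (quotMap L α hα)^[j] (x : G ⧸ L) = (((α ^ j) x : G) : G ⧸ L) := by
  induction j with
  | zero => simp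
  | succ j ih =>
    rw [Function.iterate_succ_apply', ih, quotMap_mk, pow_succ', MulAut.mul_apply]

/-- in a finite `p`-group, the `(p - 1) * |G|`-th power of an automorphism preserving a cyclic
step acts trivially on it -/
theorem pow_mem_stepStab [Finite G] {p : ℕ} [hp : Fact p.Prime] (hG : IsPGroup p G)
    {L U : Subgroup G} [L.Normal] (hc : CyclicStep L U) {α : MulAut G} (hαL : α ∈ presSub L)
    (hαU : α ∈ presSub U) : α ^ ((p - 1) * Nat.card G) ∈ stepStab L U := by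
  obtain ⟨y, hyU, hy⟩ := hc
  refine ⟨(presSub L).pow_mem hαL _, (presSub U).pow_mem hαU _, fun x hx => ?_⟩
  set f := quotMap L α hαL with hf
  set yb : G ⧸ L := (y : G ⧸ L) with hyb
  have hfy : f yb ∈ Subgroup.zpowers yb := by
    rw [hf, hyb, quotMap_mk]; exact mk_mem_zpowers_of_cyclicStep hy ((hαU y).2 hyU)
  obtain ⟨a, ha⟩ := (Submonoid.mem_powers_iff _ _).1 (mem_powers_iff_mem_zpowers.2 hfy)
  have hz : ∀ z ∈ Subgroup.zpowers yb, f z = z ^ a := by
    intro z hz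
    obtain ⟨k, rfl⟩ := Subgroup.mem_zpowers_iff.1 hz
    rw [map_zpow, ← ha, ← zpow_natCast, ← zpow_natCast, ← zpow_mul, ← zpow_mul, mul_comm]
  have hiter : ∀ j : ℕ, ∀ z ∈ Subgroup.zpowers yb, f^[j] z = z ^ (a ^ j) := by
    intro j
    induction j with
    | zero => intro z _; simp
    | succ j ih =>
      intro z hz'
      rw [Function.iterate_succ_apply, hz z hz', ih _ (Subgroup.pow_mem _ hz' _), ← pow_mul,
        pow_succ']
  -- `a` is prime to the order of `yb`
  obtain ⟨e, he⟩ := (IsPGroup.iff_orderOf.1 (hG.to_quotient L)) yb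
  have hr : 0 < orderOf α := orderOf_pos α
  have h1 : yb ^ (a ^ orderOf α) = yb ^ 1 := by
    rw [← hiter _ yb (Subgroup.mem_zpowers yb), hf, hyb, quotMap_iterate_mk, pow_orderOf_eq_one,
      pow_one]
    rfl
  have h2 : a ^ orderOf α ≡ 1 [MOD p ^ e] := by
    rw [← he]; exact pow_eq_pow_iff_modEq.1 h1
  have h3 : a ^ ((p - 1) * Nat.card G) ≡ 1 [MOD p ^ e] := by
    rcases Nat.eq_zero_or_pos e with h0 | hepos
    · rw [h0, pow_zero]; exact Nat.modEq_one
    · have hcop : Nat.Coprime a (p ^ e) := by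
        have h4 : Nat.Coprime (a ^ orderOf α) (p ^ e) := by
          have := h2.gcd_eq
          rwa [Nat.gcd_one_left] at this
        exact Nat.Coprime.coprime_dvd_left (dvd_pow_self a hr.ne') h4
      have h5 := Nat.ModEq.pow_totient hcop
      have h6 : Nat.totient (p ^ e) ∣ (p - 1) * Nat.card G := by
        rw [Nat.totient_prime_pow hp.out hepos, mul_comm]
        apply Nat.mul_dvd_mul_left
        have h7 : p ^ e ∣ Nat.card G := by
          rw [← he]
          exact (orderOf_dvd_natCard yb).trans (Subgroup.card_quotient_dvd_card L)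
        exact (pow_dvd_pow p (Nat.sub_le e 1)).trans h7
      obtain ⟨t, ht⟩ := h6
      rw [ht, pow_mul]
      simpa using h5.pow t
  have h8 : yb ^ (a ^ ((p - 1) * Nat.card G)) = yb := by
    have := pow_eq_pow_iff_modEq.2 (he ▸ h3 : a ^ ((p - 1) * Nat.card G) ≡ 1 [MOD orderOf yb])
    rwa [pow_one] at this
  have hxz := mk_mem_zpowers_of_cyclicStep hy hx
  have h9 : (((α ^ ((p - 1) * Nat.card G)) x : G) : G ⧸ L) = (x : G ⧸ L) := by
    rw [← quotMap_iterate_mk L α hαL, ← hf, hiter _ _ hxz]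
    obtain ⟨k, hk⟩ := Subgroup.mem_zpowers_iff.1 hxz
    rw [← hk, ← zpow_natCast, ← zpow_mul, mul_comm, zpow_mul, zpow_natCast, h8]
  exact QuotientGroup.eq.1 h9.symm

variable {m : ℕ}

/-- automorphisms preserving every term of a chain -/
def chainPres (N : Fin (m + 1) → Subgroup G) : Subgroup (MulAut G) := ⨅ i, presSub (N i)

/-- automorphisms preserving every term of a chain and acting trivially on every step -/
def chainStab (N : Fin (m + 1) → Subgroup G) : Subgroup (MulAut G) :=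
  ⨅ i : Fin m, stepStab (N i.castSucc) (N i.succ)

theorem chainStab_pow_eq_one [Finite G] {N : Fin (m + 1) → Subgroup G} (h0 : N 0 = ⊥)
    (hlast : N (Fin.last m) = ⊤) {α : MulAut G} (hα : α ∈ chainStab N) :
    α ^ (Nat.card G ^ m) = 1 := by
  have key : ∀ j : ℕ, ∀ hj : j ≤ m, ∀ x ∈ N ⟨j, Nat.lt_succ_of_le hj⟩,
      (α ^ (Nat.card G ^ j)) x = x := by
    intro j
    induction j with
    | zero =>
      intro hj x hx
      have : x ∈ N 0 := hx
      rw [h0, Subgroup.mem_bot] at this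
      rw [this, map_one]
    | succ j ih =>
      intro hj x hx
      have hj' : j < m := hj
      have hβ : α ^ (Nat.card G ^ j) ∈ stepStab (N (Fin.castSucc ⟨j, hj'⟩)) (N (Fin.succ ⟨j, hj'⟩)) :=
        Subgroup.pow_mem _ (Subgroup.mem_iInf.1 hα ⟨j, hj'⟩) _
      have := stepStab_pow_card_fix hβ (fun z hz => ih hj'.le z hz) x hx
      rwa [← pow_mul, ← pow_succ] at this
  apply MulEquiv.ext
  intro x
  have hx : x ∈ N ⟨m, Nat.lt_succ_of_le le_rfl⟩ := by
    have : (⟨m, Nat.lt_succ_of_le le_rfl⟩ : Fin (m + 1)) = Fin.last m := rfl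
    rw [this, hlast]; exact Subgroup.mem_top x
  exact key m le_rfl x hx

theorem commutator_mem_chainStab {N : Fin (m + 1) → Subgroup G} (hnorm : ∀ i, (N i).Normal)
    (hcyc : ∀ i : Fin m, CyclicStep (N i.castSucc) (N i.succ)) {α β : MulAut G}
    (hα : α ∈ chainPres N) (hβ : β ∈ chainPres N) : α * β * α⁻¹ * β⁻¹ ∈ chainStab N := by
  refine Subgroup.mem_iInf.2 (fun i => ?_)
  have := hnorm i.castSucc
  exact commutator_mem_stepStab (hcyc i) (Subgroup.mem_iInf.1 hα _) (Subgroup.mem_iInf.1 hα _)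
    (Subgroup.mem_iInf.1 hβ _) (Subgroup.mem_iInf.1 hβ _)

theorem pow_mem_chainStab [Finite G] {p : ℕ} [hp : Fact p.Prime] (hG : IsPGroup p G)
    {N : Fin (m + 1) → Subgroup G} (hnorm : ∀ i, (N i).Normal)
    (hcyc : ∀ i : Fin m, CyclicStep (N i.castSucc) (N i.succ)) {α : MulAut G}
    (hα : α ∈ chainPres N) : α ^ ((p - 1) * Nat.card G) ∈ chainStab N := by
  refine Subgroup.mem_iInf.2 (fun i => ?_)
  have := hnorm i.castSucc
  exact pow_mem_stepStab hG (hcyc i) (Subgroup.mem_iInf.1 hα _) (Subgroup.mem_iInf.1 hα _)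

theorem chainStab_conj {N : Fin (m + 1) → Subgroup G} {α γ : MulAut G} (hα : α ∈ chainStab N)
    (hγ : γ ∈ chainPres N) : γ * α * γ⁻¹ ∈ chainStab N := by
  refine Subgroup.mem_iInf.2 (fun i => ?_)
  exact stepStab_conj (Subgroup.mem_iInf.1 hα i) (Subgroup.mem_iInf.1 hγ _)
    (Subgroup.mem_iInf.1 hγ _)

/-- a group of automorphisms of a finite `p`-group preserving a normal chain with cyclic steps
has a normal Sylow `p`-subgroup -/
theorem sylow_normal_of_chain [Finite G] {p : ℕ} [hp : Fact p.Prime] (hG : IsPGroup p G)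
    {N : Fin (m + 1) → Subgroup G} (h0 : N 0 = ⊥) (hlast : N (Fin.last m) = ⊤)
    (hnorm : ∀ i, (N i).Normal)
    (hcyc : ∀ i : Fin m, CyclicStep (N i.castSucc) (N i.succ)) (A : Subgroup (MulAut G))
    (hA : A ≤ chainPres N) (P : Sylow p A) : (P : Subgroup A).Normal := by
  obtain ⟨n, hn⟩ := IsPGroup.iff_card.1 hG
  have hKn : ((chainStab N).subgroupOf A).Normal := by
    constructor
    intro k hk a
    rw [Subgroup.mem_subgroupOf] at hk ⊢
    exact chainStab_conj hk (hA a.2)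
  have hKp : IsPGroup p ((chainStab N).subgroupOf A) := by
    intro g
    refine ⟨n * m, ?_⟩
    apply Subtype.ext
    apply Subtype.ext
    have := chainStab_pow_eq_one h0 hlast (Subgroup.mem_subgroupOf.1 g.2)
    rw [hn, ← pow_mul] at this
    simpa using this
  have hKP := normal_pGroup_le_sylow hKn hKp P
  constructor
  intro x hx g
  have h1 : g * x * g⁻¹ * x⁻¹ ∈ (chainStab N).subgroupOf A := by
    rw [Subgroup.mem_subgroupOf]
    exact commutator_mem_chainStab hnorm hcyc (hA g.2) (hA x.2)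
  have h2 := (P : Subgroup A).mul_mem (hKP h1) hx
  rwa [inv_mul_cancel_right] at h2

/-- a `p'`-group of automorphisms of a finite `p`-group preserving a normal chain with cyclic
steps is abelian of exponent dividing `p - 1` -/
theorem comm_exp_of_chain [Finite G] {p : ℕ} [hp : Fact p.Prime] (hG : IsPGroup p G)
    {N : Fin (m + 1) → Subgroup G} (h0 : N 0 = ⊥) (hlast : N (Fin.last m) = ⊤)
    (hnorm : ∀ i, (N i).Normal)
    (hcyc : ∀ i : Fin m, CyclicStep (N i.castSucc) (N i.succ)) (H : Subgroup (MulAut G))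
    (hH : H ≤ chainPres N) (hcop : (Nat.card H).Coprime p) :
    IsMulCommutative H ∧ ∀ h ∈ H, h ^ (p - 1) = 1 := by
  obtain ⟨n, hn⟩ := IsPGroup.iff_card.1 hG
  have hcard : ∀ α ∈ H, α ^ Nat.card H = 1 := by
    intro α hα
    have h1 : (⟨α, hα⟩ : H) ^ Nat.card H = 1 := pow_card_eq_one'
    have h2 := congrArg Subtype.val h1
    rwa [Subgroup.coe_pow, Subgroup.coe_one] at h2
  have key : ∀ α ∈ H, α ∈ chainStab N → α = 1 := by
    intro α hα hαK
    have h1 := chainStab_pow_eq_one h0 hlast hαK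
    rw [hn, ← pow_mul] at h1
    have h2 := pow_gcd_eq_one.2 ⟨h1, hcard α hα⟩
    have h3 : Nat.gcd (p ^ (n * m)) (Nat.card H) = 1 :=
      Nat.Coprime.pow_left _ hcop.symm
    rwa [h3, pow_one] at h2
  constructor
  · refine ⟨⟨fun a b => Subtype.ext ?_⟩⟩
    have h1 := key _ (H.mul_mem (H.mul_mem (H.mul_mem a.2 b.2) (H.inv_mem a.2)) (H.inv_mem b.2))
      (commutator_mem_chainStab hnorm hcyc (hH a.2) (hH b.2))
    rw [mul_inv_eq_one, mul_inv_eq_iff_eq_mul] at h1
    exact h1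
  · intro h hh
    have h1 := key _ (H.pow_mem hh _) (pow_mem_chainStab hG hnorm hcyc (hH hh))
    have h2 := pow_gcd_eq_one.2 ⟨h1, hcard h hh⟩
    have h3 : Nat.gcd ((p - 1) * Nat.card G) (Nat.card H) ∣ p - 1 := by
      apply Nat.Coprime.dvd_of_dvd_mul_right _ (Nat.gcd_dvd_left _ _)
      rw [hn]
      apply Nat.Coprime.pow_right
      exact Nat.Coprime.coprime_dvd_left (Nat.gcd_dvd_right _ _) hcop
    obtain ⟨t, ht⟩ := h3
    rw [ht, pow_mul, h2, one_pow]

end ChainAut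

end Cfsg.Agent.Helper87
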