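import Mathlib

set_option autoImplicit false
set_option linter.style.haveILetI false
set_option linter.unusedSectionVars false

/-!
# Additive maps of a finite field of characteristic two are linearised polynomials

Every additive map `F → F` of a finite field of order `2 ^ n` is of the form
`x ↦ ∑ i < n, c i * x ^ 2 ^ i` with unique coefficients.  As a consequence a multiplicative map
whose polar form is biadditive and non-zero is `u ↦ u ^ 2 ^ a * u ^ 2 ^ b` with `a ≠ b`.
-/

namespace Cfsg.Agent.Helper87.LinPoly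

open Polynomial

variable {F : Type*} [Field F] [Fintype F]

/-- the linearised polynomial function with coefficients `c` -/
def L (n : ℕ) (c : ℕ → F) (x : F) : F := ∑ i ∈ Finset.range n, c i * x ^ (2 ^ i)

theorem L_sub (n : ℕ) (c d : ℕ → F) (x : F) :
    L n (fun i => c i - d i) x = L n c x - L n d x := by
  unfold L
  rw [← Finset.sum_sub_distrib]
  exact Finset.sum_congr rfl fun i _ => sub_mul _ _ _

theorem L_add_coeff (n : ℕ) (c d : ℕ → F) (x : F) :
    L n (fun i => c i + d i) x = L n c x + L n d x := by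
  unfold L
  rw [← Finset.sum_add_distrib]
  exact Finset.sum_congr rfl fun i _ => add_mul _ _ _

theorem L_smul (n : ℕ) (a : F) (c : ℕ → F) (x : F) :
    L n (fun i => a * c i) x = a * L n c x := by
  unfold L
  rw [Finset.mul_sum]
  exact Finset.sum_congr rfl fun i _ => mul_assoc _ _ _

theorem L_scale (n : ℕ) (u : F) (c : ℕ → F) (x : F) :
    L n (fun i => c i * u ^ (2 ^ i)) x = L n c (u * x) := by
  unfold L
  exact Finset.sum_congr rfl fun i _ => by rw [mul_pow, mul_assoc]

theorem L_uniq {n : ℕ} (hq : Fintype.card F = 2 ^ n) (c : ℕ → F) (h : ∀ x, L n c x = 0) :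
    ∀ i < n, c i = 0 := by
  classical
  let p : F[X] := ∑ i ∈ Finset.range n, C (c i) * X ^ (2 ^ i)
  have hev : ∀ x, p.eval x = 0 := by
    intro x
    simp only [p, eval_finsetSum, eval_mul, eval_C, eval_pow, eval_X]
    exact h x
  have hdeg : p.natDegree < Fintype.card F := by
    rw [hq]
    have h1 : p.natDegree ≤ 2 ^ n - 1 := by
      apply natDegree_sum_le_of_forall_le
      intro i hi
      refine (natDegree_C_mul_X_pow_le _ _).trans ?_
      have : 2 ^ i < 2 ^ n := Nat.pow_lt_pow_right (by norm_num) (Finset.mem_range.mp hi)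
      omega
    have : 0 < 2 ^ n := Nat.pos_of_ne_zero (by positivity)
    omega
  have hp : p = 0 :=
    eq_zero_of_natDegree_lt_card_of_eval_eq_zero p Function.injective_id hev hdeg
  intro j hj
  have h2 := congrArg (fun q => q.coeff (2 ^ j)) hp
  simp only [p, finsetSum_coeff, coeff_C_mul_X_pow, coeff_zero] at h2
  rw [Finset.sum_eq_single j] at h2
  · simpa using h2
  · intro i _ hij
    rw [if_neg]
    intro h3
    exact hij (Nat.pow_right_injective le_rfl h3).symm
  · intro hj'
    exact absurd (Finset.mem_range.mpr hj) hj'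

theorem L_add [CharP F 2] (n : ℕ) (c : ℕ → F) (x y : F) :
    L n c (x + y) = L n c x + L n c y := by
  unfold L
  rw [← Finset.sum_add_distrib]
  refine Finset.sum_congr rfl fun i _ => ?_
  rw [add_pow_char_pow, mul_add]

/-- extend coefficients indexed by `Fin n` by zero -/
def extc (n : ℕ) (c : Fin n → F) (i : ℕ) : F := if h : i < n then c ⟨i, h⟩ else 0

theorem L_exists [CharP F 2] {n : ℕ} (hq : Fintype.card F = 2 ^ n) (f : F → F)
    (hf : ∀ x y, f (x + y) = f x + f y) : ∃ c : ℕ → F, ∀ x, f x = L n c x := by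
  classical
  letI : Algebra (ZMod 2) F := ZMod.algebra F 2
  have hd : Module.finrank (ZMod 2) F = n := by
    have h1 := Module.card_fintype (Module.finBasis (ZMod 2) F)
    rw [hq, ZMod.card, Fintype.card_fin] at h1
    exact (Nat.pow_right_injective le_rfl h1).symm
  let b : Module.Basis (Fin n) (ZMod 2) F := (Module.finBasis (ZMod 2) F).reindex (finCongr hd)
  -- additive maps agreeing on the basis agree
  have hagree : ∀ g₁ g₂ : F → F, (∀ x y, g₁ (x + y) = g₁ x + g₁ y) →
      (∀ x y, g₂ (x + y) = g₂ x + g₂ y) → (∀ j, g₁ (b j) = g₂ (b j)) → ∀ x, g₁ x = g₂ x := by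
    intro g₁ g₂ h₁ h₂ hb x
    have h3 : (AddMonoidHom.mk' g₁ h₁).toZModLinearMap 2 = (AddMonoidHom.mk' g₂ h₂).toZModLinearMap 2 :=
      b.ext fun j => hb j
    exact LinearMap.congr_fun h3 x
  let T : (Fin n → F) → (Fin n → F) := fun c j => L n (extc n c) (b j)
  have hT : Function.Injective T := by
    intro c c' hcc
    have h1 : ∀ x, L n (extc n c) x = L n (extc n c') x :=
      hagree _ _ (L_add n _) (L_add n _) (fun j => congrFun hcc j)
    have h2 := L_uniq hq (fun i => extc n c i - extc n c' i) (fun x => by rw [L_sub, h1, sub_self])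
    funext j
    have h3 := h2 j j.2
    simp only [extc, dif_pos j.2, Fin.eta, sub_eq_zero] at h3
    exact h3
  have hTs : Function.Surjective T := Finite.injective_iff_surjective.mp hT
  obtain ⟨c, hc⟩ := hTs (fun j => f (b j))
  refine ⟨extc n c, ?_⟩
  exact hagree f _ hf (L_add n _) (fun j => (congrFun hc j).symm)

/-- a multiplicative map with biadditive non-zero polar form is a product of two distinct
Frobenius powers -/
theorem mono [CharP F 2] {n : ℕ} (hq : Fintype.card F = 2 ^ n) (ι : F → F)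
    (hmul : ∀ u v, ι (u * v) = ι u * ι v)
    (hB : ∀ x x' y, ι (x + x' + y) - ι (x + x') - ι y =
      (ι (x + y) - ι x - ι y) + (ι (x' + y) - ι x' - ι y))
    (hne : ∃ x y, ι (x + y) - ι x - ι y ≠ 0) :
    ∃ a b, a < n ∧ b < n ∧ a ≠ b ∧ ∀ u, ι u = u ^ (2 ^ a) * u ^ (2 ^ b) := by
  classical
  set B : F → F → F := fun x y => ι (x + y) - ι x - ι y with hBdef
  have hB1 : ∀ x x' y, B (x + x') y = B x y + B x' y := hB
  have hBsymm : ∀ x y, B x y = B y x := by
    intro x y
    simp only [hBdef]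
    rw [add_comm x y]; ring
  have hB2 : ∀ x y y', B x (y + y') = B x y + B x y' := by
    intro x y y'
    rw [hBsymm x (y + y'), hB1, hBsymm y x, hBsymm y' x]
  have hBh : ∀ u x y, B (u * x) (u * y) = ι u * B x y := by
    intro u x y
    simp only [hBdef]
    rw [← mul_add, hmul, hmul, hmul]; ring
  -- expansion in x
  choose bb hbb using fun y => L_exists hq (fun x => B x y) (fun x x' => hB1 x x' y)
  have hbb' : ∀ y x, B x y = L n (bb y) x := hbb
  have hbadd : ∀ y y' i, i < n → bb (y + y') i = bb y i + bb y' i := by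
    intro y y' i hi
    have h1 := L_uniq hq (fun i => bb (y + y') i - (bb y i + bb y' i)) (fun x => by
      rw [L_sub, L_add_coeff, ← hbb', ← hbb', ← hbb', hB2, sub_self]) i hi
    exact sub_eq_zero.mp h1
  have hbh : ∀ u y i, i < n → bb (u * y) i * u ^ (2 ^ i) = ι u * bb y i := by
    intro u y i hi
    have h1 := L_uniq hq (fun i => bb (u * y) i * u ^ (2 ^ i) - ι u * bb y i) (fun x => by
      rw [L_sub, L_scale, L_smul, ← hbb', ← hbb', hBh, sub_self]) i hi
    exact sub_eq_zero.mp h1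
  obtain ⟨x₀, y₀, h0⟩ := hne
  have h0' : L n (bb y₀) x₀ ≠ 0 := by rw [← hbb']; exact h0
  obtain ⟨a, ha, hba⟩ : ∃ a, a < n ∧ bb y₀ a ≠ 0 := by
    by_contra hcon
    push Not at hcon
    apply h0'
    unfold L
    exact Finset.sum_eq_zero fun i hi => by rw [hcon i (Finset.mem_range.mp hi), zero_mul]
  -- expansion of the coefficient `bb · a`
  obtain ⟨d, hd⟩ := L_exists hq (fun y => bb y a) (fun y y' => hbadd y y' a ha)
  have hd' : ∀ y, bb y a = L n d y := hd
  have hdh : ∀ u j, j < n → d j * u ^ (2 ^ j) * u ^ (2 ^ a) = ι u * d j := by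
    intro u j hj
    have h1 := L_uniq hq (fun j => d j * u ^ (2 ^ j) * u ^ (2 ^ a) - ι u * d j) (fun y => by
      rw [L_sub, L_smul, ← hd']
      have h2 : L n (fun j => d j * u ^ (2 ^ j) * u ^ (2 ^ a)) y = bb (u * y) a * u ^ (2 ^ a) := by
        rw [hd', ← L_scale]
        unfold L
        rw [Finset.sum_mul]
        exact Finset.sum_congr rfl fun i _ => by ring
      rw [h2, hbh u y a ha, sub_self]) j hj
    exact sub_eq_zero.mp h1
  obtain ⟨b, hb, hdb⟩ : ∃ b, b < n ∧ d b ≠ 0 := by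
    by_contra hcon
    push Not at hcon
    apply hba
    rw [hd']
    unfold L
    exact Finset.sum_eq_zero fun i hi => by rw [hcon i (Finset.mem_range.mp hi), zero_mul]
  have hι : ∀ u, ι u = u ^ (2 ^ a) * u ^ (2 ^ b) := by
    intro u
    have h1 := hdh u b hb
    have h2 : d b * (u ^ (2 ^ b) * u ^ (2 ^ a)) = d b * ι u := by rw [← mul_assoc, h1, mul_comm]
    rw [mul_comm]
    exact (mul_left_cancel₀ hdb h2).symm
  refine ⟨a, b, ha, hb, ?_, hι⟩
  intro hab
  apply h0
  have hι' : ∀ u, ι u = u ^ (2 ^ (a + 1)) := by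
    intro u
    rw [hι, ← hab, ← pow_add, ← two_mul, ← pow_succ']
  rw [hι', hι', hι', add_pow_char_pow]; ring

section Frob

variable [CharP F 2]

theorem iter_mul_eq_refl {n : ℕ} (hq : Fintype.card F = 2 ^ n) (t : ℕ) :
    iterateFrobeniusEquiv F 2 (n * t) = RingEquiv.refl F := by
  ext x
  rw [iterateFrobeniusEquiv_def, pow_mul, ← hq, FiniteField.pow_card_pow]
  rfl

theorem iter_ne_refl {n s : ℕ} (hq : Fintype.card F = 2 ^ n) (hs : 0 < s) (hsn : s < n) :
    iterateFrobeniusEquiv F 2 s ≠ RingEquiv.refl F := by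
  intro h
  have hx : ∀ x : F, x ^ 2 ^ s = x := by
    intro x
    have h2 : iterateFrobeniusEquiv F 2 s x = (RingEquiv.refl F) x := by rw [h]
    rwa [iterateFrobeniusEquiv_def, RingEquiv.refl_apply] at h2
  have h1 := L_uniq hq (fun i => (if i = s then (1 : F) else 0) - (if i = 0 then 1 else 0))
    (fun x => by
      rw [L_sub]
      unfold L
      simp only [ite_mul, one_mul, zero_mul]
      rw [Finset.sum_ite_eq', Finset.sum_ite_eq', if_pos (Finset.mem_range.mpr hsn),
        if_pos (Finset.mem_range.mpr (hs.trans hsn)), hx, pow_zero, pow_one, sub_self])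
    0 (hs.trans hsn)
  simp only [if_neg hs.ne, if_true, zero_sub, neg_eq_zero] at h1
  exact one_ne_zero h1

theorem iter_pow (s m : ℕ) :
    (iterateFrobeniusEquiv F 2 s) ^ m = iterateFrobeniusEquiv F 2 (s * m) := by
  rw [iterateFrobeniusEquiv_eq_pow, iterateFrobeniusEquiv_eq_pow, pow_mul]

theorem orderOf_iter_dvd {n : ℕ} (hq : Fintype.card F = 2 ^ n) (s : ℕ) :
    orderOf (iterateFrobeniusEquiv F 2 s) ∣ n / Nat.gcd n s := by
  apply orderOf_dvd_of_pow_eq_one
  rw [iter_pow]
  have h1 : s * (n / Nat.gcd n s) = n * (s / Nat.gcd n s) := by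
    rw [← Nat.mul_div_assoc _ (Nat.gcd_dvd_left n s), ← Nat.mul_div_assoc _ (Nat.gcd_dvd_right n s),
      mul_comm]
  rw [h1, iter_mul_eq_refl hq]
  rfl

theorem odd_quot {n s : ℕ} (hq : Fintype.card F = 2 ^ n) (hs : 0 < s)
    (hinj : ∀ v : F, v * v ^ (2 ^ s) = 1 → v = 1) : Odd (n / Nat.gcd n s) := by
  classical
  by_contra hodd
  rw [Nat.not_odd_iff_even] at hodd
  set d := Nat.gcd n s with hd
  have hd0 : 0 < d := Nat.gcd_pos_of_pos_right n hs
  obtain ⟨m, hm⟩ : d ∣ n := Nat.gcd_dvd_left n s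
  obtain ⟨s', hs'⟩ : d ∣ s := Nat.gcd_dvd_right n s
  have hnm : n / d = m := by rw [hm, Nat.mul_div_cancel_left _ hd0]
  have hsd : s / d = s' := by rw [hs', Nat.mul_div_cancel_left _ hd0]
  have hcop : Nat.Coprime m s' := by
    have h1 := Nat.coprime_div_gcd_div_gcd (m := n) (n := s) hd0
    rwa [hnm, hsd] at h1
  rw [hnm] at hodd
  have hs'odd : Odd s' := by
    rcases Nat.even_or_odd s' with h | h
    · exfalso
      have h2 : 2 ∣ Nat.gcd m s' := Nat.dvd_gcd hodd.two_dvd h.two_dvd
      rw [hcop] at h2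
      omega
    · exact h
  have hr1 : 2 ^ d + 1 ∣ 2 ^ s + 1 := by
    have h1 := Odd.nat_add_dvd_pow_add_pow (2 ^ d) 1 hs'odd
    rwa [one_pow, ← pow_mul, ← hs'] at h1
  have hr2 : 2 ^ d + 1 ∣ 2 ^ n - 1 := by
    obtain ⟨m', hm'⟩ := hodd
    have h1 : 2 ^ (2 * d) - 1 ∣ 2 ^ n - 1 :=
      Nat.pow_sub_one_dvd_pow_sub_one 2 ⟨m', by rw [hm, hm']; ring⟩
    have h2 : 2 ^ d + 1 ∣ 2 ^ (2 * d) - 1 := by
      have h3 := Nat.sq_sub_sq (2 ^ d) 1
      rw [one_pow, ← pow_mul, mul_comm d 2] at h3
      rw [h3]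
      exact Dvd.intro _ rfl
    exact h2.trans h1
  have hrne : 2 ^ d + 1 ≠ 1 := by
    have : 0 < 2 ^ d := by positivity
    omega
  have hp := Nat.minFac_prime hrne
  haveI : Fact (Nat.Prime (2 ^ d + 1).minFac) := ⟨hp⟩
  have hpr : (2 ^ d + 1).minFac ∣ 2 ^ d + 1 := Nat.minFac_dvd _
  have hcardu : Fintype.card Fˣ = 2 ^ n - 1 := by rw [Fintype.card_units, hq]
  obtain ⟨v, hv⟩ := exists_prime_orderOf_dvd_card (G := Fˣ) (2 ^ d + 1).minFac
    (by rw [hcardu]; exact hpr.trans hr2)
  have hv1 : v ^ (2 ^ s + 1) = 1 :=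
    orderOf_dvd_iff_pow_eq_one.mp (by rw [hv]; exact hpr.trans hr1)
  have hv2 : (v : F) * (v : F) ^ (2 ^ s) = 1 := by
    have h1 := congrArg (fun u : Fˣ => (u : F)) hv1
    simp only [Units.val_pow_eq_pow_val, Units.val_one] at h1
    rw [← h1, pow_succ']
  have hv3 : v = 1 := Units.ext (hinj _ hv2)
  rw [hv3, orderOf_one] at hv
  exact hp.one_lt.ne hv

end Frob

end Cfsg.Agent.Helper87.LinPoly
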