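import Mathlib

set_option autoImplicit false
set_option linter.style.haveILetI false

/-!
# A field structure from a regular commutative group of automorphisms

If a commutative group `K` acts by automorphisms on a finite abelian group `A`, regularly on
the non-zero elements, then `A` carries a field structure for which `K` acts by multiplications.
-/

namespace Cfsg.Agent.Helper87.RegField

open Classical in
/-- the element of `K` moving the base point to `a` (junk value `1` if there is none) -/
noncomputable def kap {A K : Type*} [One K] (act : K → A → A) (a₀ a : A) : K :=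
  if ha : ∃ k, act k a₀ = a then Classical.choose ha else 1

open Classical in
/-- the multiplication on `A` -/
noncomputable def mulR {A K : Type*} [Zero A] [One K] (act : K → A → A) (a₀ a b : A) : A :=
  if a = 0 then 0 else act (kap act a₀ a) b

/-- the hypotheses: a commutative group acting additively and regularly off zero -/
structure Reg (A K : Type*) [AddCommGroup A] [Group K] (act : K → A → A) (a₀ : A) : Prop where
  comm : ∀ k l : K, k * l = l * k
  one : ∀ a, act 1 a = a
  mul : ∀ k l a, act (k * l) a = act k (act l a)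
  add : ∀ k a b, act k (a + b) = act k a + act k b
  ne : a₀ ≠ 0
  reg : ∀ a, a ≠ 0 → ∃! k, act k a₀ = a

section Add

variable {A K : Type*} [AddCommGroup A] [Group K] {act : K → A → A} {a₀ : A}

theorem Reg.act_zero (h : Reg A K act a₀) (k : K) : act k 0 = 0 := by
  have := h.add k 0 0
  rw [add_zero] at this
  exact left_eq_add.mp this

theorem Reg.eq_zero_of_act (h : Reg A K act a₀) (k : K) (a : A) (ha : act k a = 0) : a = 0 := by
  have : act k⁻¹ (act k a) = a := by rw [← h.mul, inv_mul_cancel, h.one]
  rw [← this, ha, h.act_zero]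

theorem Reg.kap_spec (h : Reg A K act a₀) (a : A) (ha : a ≠ 0) : act (kap act a₀ a) a₀ = a := by
  have hex : ∃ k, act k a₀ = a := (h.reg a ha).exists
  unfold kap
  rw [dif_pos hex]
  exact Classical.choose_spec hex

theorem Reg.kap_uniq (h : Reg A K act a₀) (a : A) (ha : a ≠ 0) (k : K) (hk : act k a₀ = a) :
    kap act a₀ a = k :=
  (h.reg a ha).unique (h.kap_spec a ha) hk

theorem Reg.act_base_ne (h : Reg A K act a₀) (k : K) : act k a₀ ≠ 0 :=
  fun hk => h.ne (h.eq_zero_of_act k a₀ hk)

theorem Reg.kap_act (h : Reg A K act a₀) (k : K) : kap act a₀ (act k a₀) = k :=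
  h.kap_uniq _ (h.act_base_ne k) k rfl

theorem mulR_zero_left (b : A) : mulR act a₀ 0 b = 0 := by
  unfold mulR; rw [if_pos rfl]

theorem mulR_of_ne (a b : A) (ha : a ≠ 0) : mulR act a₀ a b = act (kap act a₀ a) b := by
  unfold mulR; rw [if_neg ha]

theorem Reg.mulR_zero_right (h : Reg A K act a₀) (a : A) : mulR act a₀ a 0 = 0 := by
  by_cases ha : a = 0
  · rw [ha, mulR_zero_left]
  · rw [mulR_of_ne a 0 ha, h.act_zero]

theorem Reg.mulR_act (h : Reg A K act a₀) (k : K) (b : A) :
    mulR act a₀ (act k a₀) b = act k b := by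
  rw [mulR_of_ne _ _ (h.act_base_ne k), h.kap_act]

theorem Reg.mulR_one_left (h : Reg A K act a₀) (b : A) : mulR act a₀ a₀ b = b := by
  have := h.mulR_act 1 b
  rwa [h.one, h.one] at this

theorem Reg.mulR_one_right (h : Reg A K act a₀) (a : A) : mulR act a₀ a a₀ = a := by
  by_cases ha : a = 0
  · rw [ha, mulR_zero_left]
  · rw [mulR_of_ne a _ ha, h.kap_spec a ha]

theorem Reg.mulR_comm (h : Reg A K act a₀) (a b : A) : mulR act a₀ a b = mulR act a₀ b a := by
  by_cases ha : a = 0
  · rw [ha, mulR_zero_left, h.mulR_zero_right]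
  by_cases hb : b = 0
  · rw [hb, mulR_zero_left, h.mulR_zero_right]
  rw [mulR_of_ne a b ha, mulR_of_ne b a hb]
  conv_lhs => rw [← h.kap_spec b hb]
  conv_rhs => rw [← h.kap_spec a ha]
  rw [← h.mul, ← h.mul, h.comm]

theorem Reg.mulR_add (h : Reg A K act a₀) (a b c : A) :
    mulR act a₀ a (b + c) = mulR act a₀ a b + mulR act a₀ a c := by
  by_cases ha : a = 0
  · rw [ha, mulR_zero_left, mulR_zero_left, mulR_zero_left, add_zero]
  · rw [mulR_of_ne a _ ha, mulR_of_ne a _ ha, mulR_of_ne a _ ha, h.add]

theorem Reg.mulR_eq_zero (h : Reg A K act a₀) (a b : A) (hab : mulR act a₀ a b = 0) :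
    a = 0 ∨ b = 0 := by
  by_cases ha : a = 0
  · exact Or.inl ha
  · right
    rw [mulR_of_ne a b ha] at hab
    exact h.eq_zero_of_act _ _ hab

theorem Reg.mulR_assoc (h : Reg A K act a₀) (a b c : A) :
    mulR act a₀ (mulR act a₀ a b) c = mulR act a₀ a (mulR act a₀ b c) := by
  by_cases ha : a = 0
  · rw [ha, mulR_zero_left, mulR_zero_left, mulR_zero_left]
  by_cases hb : b = 0
  · rw [hb, mulR_zero_left, h.mulR_zero_right, mulR_zero_left]
  have hab : mulR act a₀ a b = act (kap act a₀ a * kap act a₀ b) a₀ := by
    rw [mulR_of_ne a b ha, h.mul, h.kap_spec b hb]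
  rw [hab, h.mulR_act, h.mul, mulR_of_ne a _ ha, mulR_of_ne b _ hb]

/-- the commutative ring structure on `A` -/
@[reducible]
noncomputable def Reg.commRing (h : Reg A K act a₀) : CommRing A :=
  { (inferInstance : AddCommGroup A) with
    mul := mulR act a₀
    one := a₀
    left_distrib := h.mulR_add
    right_distrib := fun a b c => by
      show mulR act a₀ (a + b) c = mulR act a₀ a c + mulR act a₀ b c
      rw [h.mulR_comm, h.mulR_add, h.mulR_comm c a, h.mulR_comm c b]
    zero_mul := mulR_zero_left
    mul_zero := h.mulR_zero_right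
    mul_assoc := h.mulR_assoc
    one_mul := h.mulR_one_left
    mul_one := h.mulR_one_right
    mul_comm := h.mulR_comm }

theorem exists_equiv_add [Finite A] {F : Type*} [Field F] [Finite F] (h : Reg A K act a₀)
    (hcard : Nat.card A = Nat.card F) :
    ∃ (e : A → F) (χ : K →* Fˣ), Function.Bijective e ∧ Function.Bijective χ ∧ e a₀ = 1 ∧
      (∀ a b, e (a + b) = e a + e b) ∧ ∀ k a, e (act k a) = χ k * e a := by
  classical
  letI := Fintype.ofFinite A
  letI := Fintype.ofFinite F
  letI R : CommRing A := h.commRing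
  haveI : Nontrivial A := ⟨⟨a₀, 0, h.ne⟩⟩
  haveI : NoZeroDivisors A := ⟨fun {a b} hab => h.mulR_eq_zero a b hab⟩
  haveI : IsDomain A := NoZeroDivisors.to_isDomain A
  letI Fd : Field A := Fintype.fieldOfDomain A
  have hc : Fintype.card A = Fintype.card F := by
    rw [← Nat.card_eq_fintype_card, ← Nat.card_eq_fintype_card]; exact hcard
  let r : A ≃+* F := FiniteField.ringEquivOfCardEq hc
  have hradd : ∀ a b : A, r (a + b) = r a + r b := fun a b => map_add r a b
  have hrmul : ∀ a b : A, r (mulR act a₀ a b) = r a * r b := fun a b => map_mul r a b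
  have hrone : r a₀ = 1 := map_one r
  have hrzero : ∀ a : A, r a = 0 → a = 0 := fun a ha => (map_eq_zero_iff r r.injective).mp ha
  have hact : ∀ k a, r (act k a) = r (act k a₀) * r a := by
    intro k a
    rw [← hrmul, h.mulR_act]
  have hne : ∀ k, r (act k a₀) ≠ 0 := fun k hk => h.act_base_ne k (hrzero _ hk)
  let χ : K →* Fˣ :=
    { toFun := fun k => Units.mk0 (r (act k a₀)) (hne k)
      map_one' := by
        apply Units.ext
        simp only [Units.val_mk0, Units.val_one]
        rw [h.one, hrone]
      map_mul' := by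
        intro k l
        apply Units.ext
        simp only [Units.val_mk0, Units.val_mul]
        rw [h.mul, hact] }
  have hχ : ∀ k, ((χ k : Fˣ) : F) = r (act k a₀) := fun k => rfl
  refine ⟨r, χ, r.bijective, ⟨?_, ?_⟩, hrone, hradd, fun k a => by rw [hχ, hact]⟩
  · intro k l hkl
    have h1 : r (act k a₀) = r (act l a₀) := by rw [← hχ, ← hχ, hkl]
    have h2 : act k a₀ = act l a₀ := r.injective h1
    have := h.kap_act k
    rw [h2, h.kap_act] at this
    exact this.symm
  · intro u
    obtain ⟨a, ha⟩ := r.surjective (u : F)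
    have ha0 : a ≠ 0 := by
      intro h0
      rw [h0] at ha
      have : r 0 = 0 := map_zero r
      rw [this] at ha
      exact u.ne_zero ha.symm
    refine ⟨kap act a₀ a, ?_⟩
    apply Units.ext
    rw [hχ, h.kap_spec a ha0, ha]

end Add

/-- multiplicative version -/
theorem exists_coords {A K F : Type*} [Group A] [Finite A] [Group K] [Field F] [Finite F]
    (hcomm : ∀ a b : A, a * b = b * a) (hKc : ∀ k l : K, k * l = l * k)
    (act : K → A → A) (h1 : ∀ a, act 1 a = a)
    (hmul : ∀ k l a, act (k * l) a = act k (act l a))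
    (hhom : ∀ k a b, act k (a * b) = act k a * act k b) (a₀ : A) (ha₀ : a₀ ≠ 1)
    (hreg : ∀ a, a ≠ 1 → ∃! k, act k a₀ = a) (hcard : Nat.card A = Nat.card F) :
    ∃ (e : A → F) (χ : K →* Fˣ), Function.Bijective e ∧ Function.Bijective χ ∧ e a₀ = 1 ∧
      (∀ a b, e (a * b) = e a + e b) ∧ ∀ k a, e (act k a) = χ k * e a := by
  letI : CommGroup A := { (inferInstance : Group A) with mul_comm := hcomm }
  have h : Reg (Additive A) K (fun k a => Additive.ofMul (act k a.toMul)) (Additive.ofMul a₀) :=
    { comm := hKc
      one := fun a => by simp [h1]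
      mul := fun k l a => by simp [hmul]
      add := fun k a b => by simp [hhom]
      ne := fun h0 => ha₀ (by simpa using h0)
      reg := fun a ha => by
        have ha' : a.toMul ≠ 1 := fun h0 => ha (by simpa using h0)
        obtain ⟨k, hk, hu⟩ := hreg a.toMul ha'
        refine ⟨k, ?_, ?_⟩
        · show Additive.ofMul (act k a₀) = a
          rw [hk]; rfl
        · intro l hl
          apply hu
          have : Additive.ofMul (act l a₀) = a := hl
          rw [← this]; rfl }
  have hcard' : Nat.card (Additive A) = Nat.card F := hcard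
  obtain ⟨e, χ, he, hχ, he0, hadd, hek⟩ := exists_equiv_add h hcard'
  refine ⟨fun a => e (Additive.ofMul a), χ, ?_, hχ, he0, ?_, ?_⟩
  · exact he.comp Additive.ofMul.bijective
  · intro a b
    exact hadd _ _
  · intro k a
    exact hek k (Additive.ofMul a)

end Cfsg.Agent.Helper87.RegField
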