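import Mathlib
import Cfsg.Agent.Lib.Helper87.OmegaLemma

set_option autoImplicit false

namespace Cfsg.Agent.Helper87

open scoped commutatorElement

variable {G : Type*} [Group G]

theorem commutatorElement_mul_left' (a b g : G) : ⁅a * b, g⁆ = a * ⁅b, g⁆ * a⁻¹ * ⁅a, g⁆ := by
  simp only [commutatorElement_def]; group

theorem commutatorElement_inv_left' (a g : G) : ⁅a⁻¹, g⁆ = a⁻¹ * ⁅a, g⁆⁻¹ * a := by
  simp only [commutatorElement_def]; group

section PGroup

variable [Finite G] {p : ℕ} [hp : Fact p.Prime]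

/-- between two normal subgroups `K < L` of a finite `p`-group there is an element of `L` outside `K`
that is central modulo `K` -/
theorem exists_central_mod (hG : IsPGroup p G) {K L : Subgroup G} (hL : L.Normal) (hKL : K < L) :
    ∃ x ∈ L, x ∉ K ∧ ∀ g : G, ⁅x, g⁆ ∈ K := by
  classical
  have hnil : Group.IsNilpotent G := hG.isNilpotent
  have hex : ∃ n, ¬ (L ⊓ Subgroup.upperCentralSeries G n ≤ K) := by
    obtain ⟨n, hn⟩ := Group.IsNilpotent.nilpotent G
    refine ⟨n, fun h => hKL.not_ge ?_⟩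
    rwa [hn, inf_top_eq] at h
  have hn : ¬ (L ⊓ Subgroup.upperCentralSeries G (Nat.find hex) ≤ K) := Nat.find_spec hex
  have hn0 : Nat.find hex ≠ 0 := by
    intro h0
    apply hn
    rw [h0, Subgroup.upperCentralSeries_zero, inf_bot_eq]
    exact bot_le
  obtain ⟨m, hm⟩ := Nat.exists_eq_succ_of_ne_zero hn0
  have hmin : L ⊓ Subgroup.upperCentralSeries G m ≤ K := by
    by_contra h
    exact Nat.find_min hex (by omega : m < Nat.find hex) h
  obtain ⟨x, hx, hxK⟩ := SetLike.not_le_iff_exists.1 hn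
  refine ⟨x, hx.1, hxK, fun g => hmin ⟨?_, ?_⟩⟩
  · rw [commutatorElement_def]
    have : x * g * x⁻¹ * g⁻¹ = x * (g * x⁻¹ * g⁻¹) := by group
    rw [this]
    exact L.mul_mem hx.1 (hL.conj_mem _ (L.inv_mem hx.1) g)
  · have := hx.2
    rw [hm] at this
    exact Subgroup.mem_upperCentralSeries_succ_iff.1 this g

/-- the same, with the `p`-th power of the element in `K` -/
theorem exists_central_mod_pow (hG : IsPGroup p G) {K L : Subgroup G} (hK : K.Normal) (hL : L.Normal)
    (hKL : K < L) : ∃ x ∈ L, x ∉ K ∧ x ^ p ∈ K ∧ ∀ g : G, ⁅x, g⁆ ∈ K := by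
  classical
  obtain ⟨x, hxL, hxK, hc⟩ := exists_central_mod hG hL hKL
  have hpowc : ∀ j : ℕ, ∀ g : G, ⁅x ^ j, g⁆ ∈ K := by
    intro j
    induction j with
    | zero => intro g; simp [commutatorElement_def, K.one_mem]
    | succ j ih =>
      intro g
      rw [pow_succ, commutatorElement_mul_left']
      exact K.mul_mem (hK.conj_mem _ (hc g) _) (ih g)
  obtain ⟨k0, hk0⟩ := IsPGroup.iff_orderOf.1 hG x
  have hex : ∃ k, x ^ (p ^ k) ∈ K := ⟨k0, by rw [← hk0, pow_orderOf_eq_one]; exact K.one_mem⟩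
  have hk : x ^ (p ^ Nat.find hex) ∈ K := Nat.find_spec hex
  have hk0' : Nat.find hex ≠ 0 := by
    intro h0
    rw [h0, pow_zero, pow_one] at hk
    exact hxK hk
  obtain ⟨j, hj⟩ := Nat.exists_eq_succ_of_ne_zero hk0'
  have hjmin : x ^ (p ^ j) ∉ K := Nat.find_min hex (by omega : j < Nat.find hex)
  refine ⟨x ^ (p ^ j), L.pow_mem hxL _, hjmin, ?_, hpowc _⟩
  rw [← pow_mul, ← pow_succ, ← Nat.succ_eq_add_one, ← hj]
  exact hk

/-- **Thompson's critical subgroup**: a finite `p`-group has a characteristic subgroup `C` containing its own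
centralizer, whose commutators and `p`-th powers are central in `C` -/
theorem exists_critical (hG : IsPGroup p G) :
    ∃ C : Subgroup G, C.Characteristic ∧ Subgroup.centralizer (C : Set G) ≤ C ∧
      (∀ x ∈ C, ∀ y ∈ C, ∀ z ∈ C, ⁅x, y⁆ * z = z * ⁅x, y⁆) ∧
      (∀ x ∈ C, ∀ z ∈ C, x ^ p * z = z * x ^ p) := by
  classical
  -- a maximal characteristic abelian subgroup
  let 𝒮 : Set (Subgroup G) := {M | M.Characteristic ∧ ∀ a ∈ M, ∀ b ∈ M, a * b = b * a}
  have h𝒮fin : 𝒮.Finite := Set.toFinite 𝒮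
  have h𝒮ne : 𝒮.Nonempty := ⟨⊥, Subgroup.botCharacteristic, fun a ha b hb => by
    rw [Subgroup.mem_bot.1 ha, Subgroup.mem_bot.1 hb]⟩
  obtain ⟨M, ⟨hMchar, hMab⟩, hMmax⟩ := Set.exists_max_image 𝒮 (fun M => Nat.card M) h𝒮fin h𝒮ne
  have hMmax' : ∀ M' : Subgroup G, M'.Characteristic → (∀ a ∈ M', ∀ b ∈ M', a * b = b * a) → M ≤ M' →
      M' = M := by
    intro M' h1 h2 h3
    exact (Subgroup.eq_of_le_of_card_ge h3 (hMmax M' ⟨h1, h2⟩)).symm
  have hMn : M.Normal := Subgroup.normal_of_characteristic M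
  have hHchar : (Subgroup.centralizer (M : Set G)).Characteristic := Subgroup.characteristic_centralizer
  have hHn : (Subgroup.centralizer (M : Set G)).Normal :=
    Subgroup.normal_of_characteristic _
  have hMH : M ≤ Subgroup.centralizer (M : Set G) := by
    intro a ha
    rw [Subgroup.mem_centralizer_iff]
    intro b hb
    exact hMab b hb a ha
  have hcharmem : ∀ {K : Subgroup G}, K.Characteristic → ∀ (φ : G ≃* G) {x : G}, x ∈ K → φ x ∈ K := by
    intro K hK φ x hx
    exact (Subgroup.characteristic_iff_map_le.1 hK φ) ⟨x, hx, rfl⟩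
  by_cases hcase : Subgroup.centralizer (M : Set G) ≤ M
  · refine ⟨M, hMchar, hcase, fun x hx y hy z hz => ?_, fun x hx z hz => ?_⟩
    · have : ⁅x, y⁆ = 1 := by rw [commutatorElement_def, hMab x hx y hy]; group
      rw [this, one_mul, mul_one]
    · exact hMab _ (M.pow_mem hx p) z hz
  · have hlt : M < Subgroup.centralizer (M : Set G) := lt_of_le_of_ne hMH (fun h => hcase h.ge)
    -- the subgroup C
    let C : Subgroup G :=
      { carrier := {x | x ∈ Subgroup.centralizer (M : Set G) ∧ x ^ p ∈ M ∧ ∀ g : G, ⁅x, g⁆ ∈ M}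
        mul_mem' := by
          rintro x y ⟨hx1, hx2, hx3⟩ ⟨hy1, hy2, hy3⟩
          refine ⟨Subgroup.mul_mem _ hx1 hy1, ?_, fun g => ?_⟩
          · have hcomm : Commute ((x : G ⧸ M)) ((y : G ⧸ M)) := by
              have h1 : ⁅x, y⁆ ∈ M := hx3 y
              have h2 : ((⁅x, y⁆ : G) : G ⧸ M) = 1 := (QuotientGroup.eq_one_iff _).2 h1
              rw [commutatorElement_def] at h2
              have h3 : ((x : G ⧸ M)) * (y : G ⧸ M) * (x : G ⧸ M)⁻¹ * (y : G ⧸ M)⁻¹ = 1 := by
                simpa using h2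
              have h4 : ((x : G ⧸ M)) * (y : G ⧸ M) = (y : G ⧸ M) * (x : G ⧸ M) := by
                calc ((x : G ⧸ M)) * (y : G ⧸ M)
                    = ((x : G ⧸ M) * (y : G ⧸ M) * (x : G ⧸ M)⁻¹ * (y : G ⧸ M)⁻¹) *
                        ((y : G ⧸ M) * (x : G ⧸ M)) := by group
                  _ = (y : G ⧸ M) * (x : G ⧸ M) := by rw [h3, one_mul]
              exact h4
            have h5 : (((x * y) ^ p : G) : G ⧸ M) = 1 := by
              have : (((x * y) ^ p : G) : G ⧸ M) = ((x : G ⧸ M) * (y : G ⧸ M)) ^ p := by simp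
              rw [this, hcomm.mul_pow]
              have hx2' : ((x : G ⧸ M)) ^ p = 1 := by
                have := (QuotientGroup.eq_one_iff (N := M) (x ^ p)).2 hx2
                simpa using this
              have hy2' : ((y : G ⧸ M)) ^ p = 1 := by
                have := (QuotientGroup.eq_one_iff (N := M) (y ^ p)).2 hy2
                simpa using this
              rw [hx2', hy2', one_mul]
            exact (QuotientGroup.eq_one_iff _).1 h5
          · rw [commutatorElement_mul_left']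
            exact M.mul_mem (hMn.conj_mem _ (hy3 g) _) (hx3 g)
        one_mem' := ⟨Subgroup.one_mem _, by rw [one_pow]; exact M.one_mem, fun g => by
          simp [commutatorElement_def, M.one_mem]⟩
        inv_mem' := by
          rintro x ⟨hx1, hx2, hx3⟩
          refine ⟨Subgroup.inv_mem _ hx1, by rw [inv_pow]; exact M.inv_mem hx2, fun g => ?_⟩
          rw [commutatorElement_inv_left']
          have := hMn.conj_mem _ (M.inv_mem (hx3 g)) x⁻¹
          rwa [inv_inv] at this }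
    have hCmem : ∀ {x : G}, x ∈ C ↔ x ∈ Subgroup.centralizer (M : Set G) ∧ x ^ p ∈ M ∧
        ∀ g : G, ⁅x, g⁆ ∈ M := fun {x} => Iff.rfl
    have hMC : M ≤ C := by
      intro m hm
      refine hCmem.2 ⟨hMH hm, M.pow_mem hm p, fun g => ?_⟩
      rw [commutatorElement_def]
      have : m * g * m⁻¹ * g⁻¹ = m * (g * m⁻¹ * g⁻¹) := by group
      rw [this]
      exact M.mul_mem hm (hMn.conj_mem _ (M.inv_mem hm) g)
    have hCchar : C.Characteristic := by
      rw [Subgroup.characteristic_iff_map_le]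
      rintro φ _ ⟨x, hx, rfl⟩
      obtain ⟨hx1, hx2, hx3⟩ := hCmem.1 hx
      refine hCmem.2 ⟨hcharmem hHchar φ hx1, ?_, fun g => ?_⟩
      · have := hcharmem hMchar φ hx2
        rwa [map_pow] at this
      · have h1 := hcharmem hMchar φ (hx3 (φ.symm g))
        have h2 : φ ⁅x, φ.symm g⁆ = ⁅φ x, g⁆ := by
          rw [commutatorElement_def, commutatorElement_def]
          simp
        rw [h2] at h1
        exact h1
    -- M commutes with C
    have hMcomm : ∀ m ∈ M, ∀ z ∈ C, m * z = z * m := by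
      intro m hm z hz
      have hz1 : z ∈ Subgroup.centralizer (M : Set G) := (hCmem.1 hz).1
      rw [Subgroup.mem_centralizer_iff] at hz1
      exact hz1 m hm
    refine ⟨C, hCchar, ?_, fun x hx y hy z hz => hMcomm _ ((hCmem.1 hx).2.2 y) z hz,
      fun x hx z hz => hMcomm _ (hCmem.1 hx).2.1 z hz⟩
    -- the centralizer of C lies in C
    by_contra hQC
    have hQchar : (Subgroup.centralizer (C : Set G)).Characteristic :=
      @Subgroup.characteristic_centralizer _ _ C hCchar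
    have hQn : (Subgroup.centralizer (C : Set G)).Normal := Subgroup.normal_of_characteristic _
    have hMQ : M ≤ Subgroup.centralizer (C : Set G) := by
      intro m hm
      rw [Subgroup.mem_centralizer_iff]
      intro z hz
      exact (hMcomm m hm z hz).symm
    have hQH : Subgroup.centralizer (C : Set G) ≤ Subgroup.centralizer (M : Set G) :=
      Subgroup.centralizer_le hMC
    have hMQlt : M < Subgroup.centralizer (C : Set G) :=
      lt_of_le_of_ne hMQ (fun h => hQC (h ▸ hMC))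
    obtain ⟨x, hxQ, hxM, hxp, hxc⟩ := exists_central_mod_pow hG hMn hQn hMQlt
    have hxC : x ∈ C := hCmem.2 ⟨hQH hxQ, hxp, hxc⟩
    -- Z(C) is characteristic abelian containing M
    have hZchar : (C ⊓ Subgroup.centralizer (C : Set G)).Characteristic :=
      @Subgroup.characteristic_inf _ _ _ _ hCchar hQchar
    have hZab : ∀ a ∈ C ⊓ Subgroup.centralizer (C : Set G), ∀ b ∈ C ⊓ Subgroup.centralizer (C : Set G),
        a * b = b * a := by
      intro a ha b hb
      have hb2 : b ∈ Subgroup.centralizer (C : Set G) := hb.2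
      rw [Subgroup.mem_centralizer_iff] at hb2
      exact hb2 a ha.1
    have hZ := hMmax' _ hZchar hZab (le_inf hMC hMQ)
    exact hxM (hZ ▸ ⟨hxC, hxQ⟩)


end PGroup

/-! ### the elements of small order in a critical subgroup -/

theorem pow_tri_omegaExp_eq_one {p : ℕ} [Fact p.Prime] {c : G} (hc : c ^ p = 1) :
    c ^ tri (omegaExp p) = 1 := by
  have hp : p.Prime := Fact.out
  by_cases h2 : p = 2
  · subst h2
    rw [omegaExp_two, tri_four, show 6 = 2 * 3 from rfl, pow_mul, hc, one_pow]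
  · rw [omegaExp_odd h2]
    obtain ⟨k, hk⟩ := dvd_tri_of_odd_prime p hp h2
    rw [hk, pow_mul, hc, one_pow]

/-- the elements of order dividing `p` (resp. `4`) in a subgroup whose commutators and `p`-th powers are
central in it form a subgroup -/
def critOmegaSub (p : ℕ) [Fact p.Prime] (C : Subgroup G)
    (hcomm : ∀ x ∈ C, ∀ y ∈ C, ∀ z ∈ C, ⁅x, y⁆ * z = z * ⁅x, y⁆)
    (hpow : ∀ x ∈ C, ∀ z ∈ C, x ^ p * z = z * x ^ p) : Subgroup G where
  carrier := {x | x ∈ C ∧ x ^ omegaExp p = 1}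
  mul_mem' := by
    rintro a b ⟨ha, ha'⟩ ⟨hb, hb'⟩
    refine ⟨C.mul_mem ha hb, ?_⟩
    have hc : b⁻¹ * a⁻¹ * b * a = ⁅b⁻¹, a⁻¹⁆ := by rw [commutatorElement_def]; group
    have hca : Commute (b⁻¹ * a⁻¹ * b * a) a := by
      rw [hc]; exact hcomm _ (C.inv_mem hb) _ (C.inv_mem ha) a ha
    have hcb : Commute (b⁻¹ * a⁻¹ * b * a) b := by
      rw [hc]; exact hcomm _ (C.inv_mem hb) _ (C.inv_mem ha) b hb
    have hcp : (b⁻¹ * a⁻¹ * b * a) ^ p = 1 := by
      have h1 := comm_pow_class_two a b _ rfl hcb p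
      rw [← h1]
      have h2 : b ^ p * a⁻¹ = a⁻¹ * b ^ p := hpow b hb a⁻¹ (C.inv_mem ha)
      calc (b ^ p)⁻¹ * a⁻¹ * b ^ p * a = (b ^ p)⁻¹ * (a⁻¹ * b ^ p) * a := by group
        _ = (b ^ p)⁻¹ * (b ^ p * a⁻¹) * a := by rw [h2]
        _ = 1 := by group
    show (a * b) ^ omegaExp p = 1
    rw [mul_pow_class_two a b _ rfl hca hcb, ha', hb', pow_tri_omegaExp_eq_one hcp]
    simp
  one_mem' := ⟨C.one_mem, one_pow _⟩
  inv_mem' := by
    rintro a ⟨ha, ha'⟩
    exact ⟨C.inv_mem ha, by rw [inv_pow, ha', inv_one]⟩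

theorem mem_critOmegaSub {p : ℕ} [Fact p.Prime] {C : Subgroup G}
    {hcomm : ∀ x ∈ C, ∀ y ∈ C, ∀ z ∈ C, ⁅x, y⁆ * z = z * ⁅x, y⁆}
    {hpow : ∀ x ∈ C, ∀ z ∈ C, x ^ p * z = z * x ^ p} {x : G} :
    x ∈ critOmegaSub p C hcomm hpow ↔ x ∈ C ∧ x ^ omegaExp p = 1 := Iff.rfl

/-! ### a special case of Thompson's `A × B` lemma -/

theorem normalizer_of_conj_mem {H K : Subgroup G} (h : ∀ g ∈ K, ∀ x ∈ H, g * x * g⁻¹ ∈ H) :
    K ≤ Subgroup.normalizer (H : Set G) := by
  intro g hg
  rw [Subgroup.mem_normalizer_iff]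
  intro x
  constructor
  · exact h g hg x
  · intro hx
    have := h g⁻¹ (K.inv_mem hg) _ hx
    have e : g⁻¹ * (g * x * g⁻¹) * g⁻¹⁻¹ = x := by group
    rwa [e] at this

theorem finite_subgroups_le (D : Subgroup G) [Finite D] : {N : Subgroup G | N ≤ D}.Finite := by
  have hinj : Set.InjOn (fun N : Subgroup G => N.subgroupOf D) {N : Subgroup G | N ≤ D} := by
    intro N hN N' hN' h
    have h1 : N.subgroupOf D = N'.subgroupOf D := h
    rw [Subgroup.subgroupOf_inj, inf_eq_left.2 hN, inf_eq_left.2 hN'] at h1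
    exact h1
  exact Set.Finite.of_finite_image (Set.toFinite _) hinj

/-- an automorphism of order prime to `p` of a finite `p`-subgroup `D` that fixes pointwise a subgroup
`Λ` containing its centralizer in `D` fixes `D` pointwise -/
theorem fixes_of_fixes_self_centralizing {p : ℕ} [Fact p.Prime] (α : MulAut G) (m : ℕ)
    (hm : m.Coprime p) (D : Subgroup G) [Finite D] (hD : IsPGroup p D) (hinv : ∀ x ∈ D, α x ∈ D)
    (hpow : ∀ x ∈ D, (α ^ m) x = x) (Λ : Subgroup G) (hΛD : Λ ≤ D)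
    (hΛc : D ⊓ Subgroup.centralizer (Λ : Set G) ≤ Λ) (hfix : ∀ x ∈ Λ, α x = x) :
    ∀ x ∈ D, α x = x := by
  classical
  let 𝒩 : Set (Subgroup G) := {N | Λ ≤ N ∧ N ≤ D ∧ ∀ x ∈ N, α x = x}
  have h𝒩fin : 𝒩.Finite := (finite_subgroups_le D).subset (fun N hN => hN.2.1)
  have h𝒩ne : 𝒩.Nonempty := ⟨Λ, le_rfl, hΛD, hfix⟩
  obtain ⟨N, ⟨hΛN, hND, hNfix⟩, hNmax⟩ := Set.exists_max_image 𝒩 (fun N => Nat.card N) h𝒩fin h𝒩ne
  by_cases hNeq : N = D
  · rw [← hNeq]; exact hNfix
  exfalso
  -- the normalizer of `N` in `D`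
  let N' : Subgroup G := D ⊓ Subgroup.normalizer (N : Set G)
  have hN'D : N' ≤ D := inf_le_left
  have hNN' : N ≤ N' := le_inf hND Subgroup.le_normalizer
  have hfinN' : Finite N' := Finite.of_injective (fun x : N' => (⟨x, hN'D x.2⟩ : D))
    (fun a b h => Subtype.ext (congrArg (fun z : D => (z : G)) h))
  have hfinN : Finite N := Finite.of_injective (fun x : N => (⟨x, hND x.2⟩ : D))
    (fun a b h => Subtype.ext (congrArg (fun z : D => (z : G)) h))
  -- `N'` is invariant
  have hN'inv : ∀ x ∈ N', α x ∈ N' := by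
    intro x hx
    refine ⟨hinv x hx.1, ?_⟩
    have hle : Subgroup.zpowers (α x) ≤ Subgroup.normalizer (N : Set G) := by
      apply normalizer_of_conj_mem
      intro g hg k hk
      obtain ⟨j, rfl⟩ := Subgroup.mem_zpowers_iff.1 hg
      have hxj : x ^ j ∈ Subgroup.normalizer (N : Set G) := Subgroup.zpow_mem _ hx.2 j
      have h1 : x ^ j * k * (x ^ j)⁻¹ ∈ N := (Subgroup.mem_normalizer_iff.1 hxj k).1 hk
      have h2 := hNfix _ h1
      rw [map_mul, map_mul, map_inv, map_zpow, hNfix k hk] at h2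
      rw [h2]; exact h1
    exact hle (Subgroup.mem_zpowers _)
  -- commutators with `α` lie in `Λ`
  have hcomm : ∀ x ∈ N', α (x⁻¹ * α x) = x⁻¹ * α x := by
    intro x hx
    apply hfix
    apply hΛc
    refine ⟨D.mul_mem (D.inv_mem hx.1) (hinv x hx.1), ?_⟩
    show x⁻¹ * α x ∈ Subgroup.centralizer (Λ : Set G)
    rw [Subgroup.mem_centralizer_iff]
    intro k hk
    have hkN := hΛN hk
    have h1 : x * k * x⁻¹ ∈ N := (Subgroup.mem_normalizer_iff.1 hx.2 k).1 hkN
    have h2 := hNfix _ h1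
    rw [map_mul, map_mul, map_inv, hNfix k hkN] at h2
    calc k * (x⁻¹ * α x) = x⁻¹ * (x * k * x⁻¹) * α x := by group
      _ = x⁻¹ * (α x * k * (α x)⁻¹) * α x := by rw [h2]
      _ = x⁻¹ * α x * k := by group
  have hN'fix := fixes_of_commutator_fixed α N' (hD.to_le hN'D) hN'inv m hm
    (fun x hx => hpow x (hN'D hx)) hcomm
  have hN'mem : N' ∈ 𝒩 := ⟨hΛN.trans hNN', hN'D, hN'fix⟩
  have hcard := hNmax N' hN'mem
  have hN'eq : N = N' := Subgroup.eq_of_le_of_card_ge hNN' hcard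
  -- normalizers grow
  have hnil : Group.IsNilpotent D := hD.isNilpotent
  have hlt : N.subgroupOf D < ⊤ := by
    rw [lt_top_iff_ne_top]
    intro h
    apply hNeq
    apply le_antisymm hND
    intro x hx
    have : (⟨x, hx⟩ : D) ∈ N.subgroupOf D := h ▸ Subgroup.mem_top _
    exact Subgroup.mem_subgroupOf.1 this
  have hgrow := normalizerCondition_of_isNilpotent (G := D) (N.subgroupOf D) hlt
  obtain ⟨n, hn, hnN⟩ := SetLike.exists_of_lt hgrow
  apply hnN
  rw [Subgroup.mem_subgroupOf, hN'eq]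
  refine ⟨n.2, ?_⟩
  show (n : G) ∈ Subgroup.normalizer (N : Set G)
  rw [Subgroup.mem_normalizer_iff]
  intro k
  have hn' := Subgroup.mem_normalizer_iff.1 hn
  constructor
  · intro hk
    have := (hn' ⟨k, hND hk⟩).1 (Subgroup.mem_subgroupOf.2 hk)
    exact Subgroup.mem_subgroupOf.1 this
  · intro hk
    have hkD : k ∈ D := by
      have h1 : (n : G) * k * (n : G)⁻¹ ∈ D := hND hk
      have h2 : k = (n : G)⁻¹ * ((n : G) * k * (n : G)⁻¹) * (n : G) := by group
      rw [h2]
      exact D.mul_mem (D.mul_mem (D.inv_mem n.2) h1) n.2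
    have := (hn' ⟨k, hkD⟩).2 (Subgroup.mem_subgroupOf.2 hk)
    exact Subgroup.mem_subgroupOf.1 this

/-! ### the small exponent core of a `p`-subgroup -/

/-- restriction of an automorphism preserving the subgroup `Y` -/
def restrictAut (α : MulAut G) (Y : Subgroup G) (h : ∀ x, x ∈ Y ↔ α x ∈ Y) : MulAut Y where
  toFun x := ⟨α x, (h x).1 x.2⟩
  invFun x := ⟨α⁻¹ x, (h _).2 (by rw [MulAut.apply_inv_self]; exact x.2)⟩
  left_inv x := by apply Subtype.ext; simp
  right_inv x := by apply Subtype.ext; simp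
  map_mul' x y := by apply Subtype.ext; simp

theorem restrictAut_apply (α : MulAut G) (Y : Subgroup G) (h : ∀ x, x ∈ Y ↔ α x ∈ Y) (x : Y) :
    ((restrictAut α Y h x : Y) : G) = α x := rfl

/-- every finite `p`-subgroup `Y` contains a subgroup `D` of exponent dividing `p` (resp. `4`), invariant under
all automorphisms preserving `Y`, such that an automorphism of order prime to `p` preserving `Y` and fixing
pointwise a self-centralizing subgroup of `D` fixes `Y` pointwise -/
theorem exists_small_exponent_core {p : ℕ} [Fact p.Prime] (Y : Subgroup G) [Finite Y]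
    (hY : IsPGroup p Y) :
    ∃ D : Subgroup G, D ≤ Y ∧ (∀ x ∈ D, x ^ omegaExp p = 1) ∧
      (∀ α : MulAut G, (∀ x, x ∈ Y ↔ α x ∈ Y) → ∀ x ∈ D, α x ∈ D) ∧
      (∀ α : MulAut G, (∀ x, x ∈ Y ↔ α x ∈ Y) → ∀ m : ℕ, m.Coprime p → (∀ y ∈ Y, (α ^ m) y = y) →
        ∀ Λ : Subgroup G, Λ ≤ D → D ⊓ Subgroup.centralizer (Λ : Set G) ≤ Λ → (∀ x ∈ Λ, α x = x) →
        ∀ y ∈ Y, α y = y) := by
  classical
  obtain ⟨C₀, hchar, hcent, hcomm₀, hpow₀⟩ := exists_critical (G := Y) hY
  let C : Subgroup G := C₀.map Y.subtype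
  have hCY : C ≤ Y := by
    rintro _ ⟨x, -, rfl⟩
    exact x.2
  have hCmem : ∀ {x : G} (hx : x ∈ Y), x ∈ C ↔ (⟨x, hx⟩ : Y) ∈ C₀ := by
    intro x hx
    constructor
    · rintro ⟨z, hz, hzx⟩
      have : z = ⟨x, hx⟩ := Subtype.ext hzx
      rwa [← this]
    · intro h
      exact ⟨⟨x, hx⟩, h, rfl⟩
  have hcomm : ∀ x ∈ C, ∀ y ∈ C, ∀ z ∈ C, ⁅x, y⁆ * z = z * ⁅x, y⁆ := by
    intro x hx y hy z hz
    have := hcomm₀ _ ((hCmem (hCY hx)).1 hx) _ ((hCmem (hCY hy)).1 hy) _ ((hCmem (hCY hz)).1 hz)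
    have h2 := congrArg Subtype.val this
    simpa [commutatorElement_def] using h2
  have hpow : ∀ x ∈ C, ∀ z ∈ C, x ^ p * z = z * x ^ p := by
    intro x hx z hz
    have := hpow₀ _ ((hCmem (hCY hx)).1 hx) _ ((hCmem (hCY hz)).1 hz)
    have h2 := congrArg Subtype.val this
    simpa using h2
  have hCcent : Y ⊓ Subgroup.centralizer (C : Set G) ≤ C := by
    rintro x ⟨hxY, hxc⟩
    have hxc' : x ∈ Subgroup.centralizer (C : Set G) := hxc
    rw [Subgroup.mem_centralizer_iff] at hxc'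
    rw [hCmem hxY]
    apply hcent
    rw [Subgroup.mem_centralizer_iff]
    intro z hz
    apply Subtype.ext
    exact hxc' z ⟨z, hz, rfl⟩
  have hCinv : ∀ α : MulAut G, (∀ x, x ∈ Y ↔ α x ∈ Y) → ∀ x ∈ C, α x ∈ C := by
    rintro α h _ ⟨x', hx', rfl⟩
    have := (Subgroup.characteristic_iff_map_le.1 hchar (restrictAut α Y h)) ⟨x', hx', rfl⟩
    exact ⟨_, this, rfl⟩
  have hfinC : Finite C := Finite.of_injective (fun x : C => (⟨x, hCY x.2⟩ : Y))
    (fun a b h => Subtype.ext (congrArg (fun z : Y => (z : G)) h))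
  have hDC : critOmegaSub p C hcomm hpow ≤ C := fun x hx => hx.1
  have hfinD : Finite (critOmegaSub p C hcomm hpow) :=
    Finite.of_injective (fun x : critOmegaSub p C hcomm hpow => (⟨x, hDC x.2⟩ : C))
    (fun a b h => Subtype.ext (congrArg (fun z : C => (z : G)) h))
  have hDinv : ∀ α : MulAut G, (∀ x, x ∈ Y ↔ α x ∈ Y) → ∀ x ∈ critOmegaSub p C hcomm hpow,
      α x ∈ critOmegaSub p C hcomm hpow := by
    intro α h x hx
    refine ⟨hCinv α h x hx.1, ?_⟩
    rw [← map_pow, hx.2, map_one]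
  refine ⟨critOmegaSub p C hcomm hpow, hDC.trans hCY, fun x hx => hx.2, hDinv, ?_⟩
  intro α hα m hm hpowm Λ hΛD hΛc hfix
  have h1 := fixes_of_fixes_self_centralizing α m hm (critOmegaSub p C hcomm hpow)
    (hY.to_le (hDC.trans hCY)) (hDinv α hα) (fun x hx => hpowm x (hCY (hDC hx))) Λ hΛD hΛc hfix
  have h2 := omega_lemma α m hm C (hY.to_le hCY) (hCinv α hα) (fun x hx => hpowm x (hCY hx))
    (fun x hx hxe => h1 x ⟨hx, hxe⟩)
  exact fixes_of_fixes_self_centralizing α m hm Y hY (fun x hx => (hα x).1 hx) hpowm C hCY hCcent h2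

end Cfsg.Agent.Helper87
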