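import Mathlib
import Cfsg.Agent.Lib.Helper87.Critical

set_option autoImplicit false

namespace Cfsg.Agent.Helper87

open scoped commutatorElement

variable {G : Type*} [Group G]

/-- relative form of `exists_central_mod`: `K < L ≤ N`, `L` normalized by the finite `p`-subgroup `N` -/
theorem exists_central_mod_rel {p : ℕ} [Fact p.Prime] (N : Subgroup G) [Finite N] (hN : IsPGroup p N)
    {K L : Subgroup G} (hLN : L ≤ N) (hLnorm : ∀ g ∈ N, ∀ x ∈ L, g * x * g⁻¹ ∈ L) (hKL : K < L) :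
    ∃ x ∈ L, x ∉ K ∧ ∀ g ∈ N, ⁅x, g⁆ ∈ K := by
  classical
  have hL' : (L.subgroupOf N).Normal := by
    refine ⟨fun x hx g => ?_⟩
    rw [Subgroup.mem_subgroupOf] at hx ⊢
    exact hLnorm g g.2 x hx
  have hKL' : K.subgroupOf N < L.subgroupOf N := by
    rw [lt_iff_le_not_ge]
    constructor
    · intro x hx
      rw [Subgroup.mem_subgroupOf] at hx ⊢
      exact hKL.le hx
    · intro hle
      apply hKL.not_ge
      intro y hy
      have : (⟨y, hLN hy⟩ : N) ∈ K.subgroupOf N := hle (by rw [Subgroup.mem_subgroupOf]; exact hy)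
      rw [Subgroup.mem_subgroupOf] at this
      exact this
  obtain ⟨x, hxL, hxK, hc⟩ := exists_central_mod hN hL' hKL'
  refine ⟨x, ?_, ?_, fun g hg => ?_⟩
  · rw [Subgroup.mem_subgroupOf] at hxL; exact hxL
  · intro h; apply hxK; rw [Subgroup.mem_subgroupOf]; exact h
  · have := hc ⟨g, hg⟩
    rw [Subgroup.mem_subgroupOf] at this
    simpa [commutatorElement_def] using this

/-- a maximal abelian `N`-invariant subgroup of an `N`-invariant subgroup `D ≤ N` is self-centralizing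
in `D` -/
theorem exists_max_abelian_invariant {p : ℕ} [Fact p.Prime] (N : Subgroup G) [Finite N]
    (hN : IsPGroup p N) (D : Subgroup G) (hDN : D ≤ N) (hDnorm : ∀ g ∈ N, ∀ x ∈ D, g * x * g⁻¹ ∈ D) :
    ∃ Λ : Subgroup G, Λ ≤ D ∧ (∀ x ∈ Λ, ∀ y ∈ Λ, x * y = y * x) ∧
      (∀ g ∈ N, ∀ x ∈ Λ, g * x * g⁻¹ ∈ Λ) ∧ D ⊓ Subgroup.centralizer (Λ : Set G) ≤ Λ := by
  classical
  have hfinD : Finite D := Finite.of_injective (Subgroup.inclusion hDN) (Subgroup.inclusion_injective _)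
  let 𝒜 : Set (Subgroup G) := {Λ | Λ ≤ D ∧ (∀ x ∈ Λ, ∀ y ∈ Λ, x * y = y * x) ∧
    ∀ g ∈ N, ∀ x ∈ Λ, g * x * g⁻¹ ∈ Λ}
  have h𝒜fin : 𝒜.Finite := (finite_subgroups_le D).subset (fun Λ hΛ => hΛ.1)
  have h𝒜ne : 𝒜.Nonempty := by
    refine ⟨⊥, bot_le, ?_, ?_⟩
    · intro x hx y hy
      rw [Subgroup.mem_bot] at hx hy
      rw [hx, hy]
    · intro g _ x hx
      rw [Subgroup.mem_bot] at hx ⊢
      rw [hx]; group
  obtain ⟨Λ, ⟨hΛD, hΛc, hΛn⟩, hΛmax⟩ := Set.exists_max_image 𝒜 (fun Λ => Nat.card Λ) h𝒜fin h𝒜ne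
  refine ⟨Λ, hΛD, hΛc, hΛn, ?_⟩
  by_contra hcon
  -- `L := C_D(Λ)` properly contains `Λ`
  let L : Subgroup G := D ⊓ Subgroup.centralizer (Λ : Set G)
  have hΛL : Λ ≤ L := by
    intro x hx
    refine ⟨hΛD hx, ?_⟩
    show x ∈ Subgroup.centralizer (Λ : Set G)
    rw [Subgroup.mem_centralizer_iff]
    intro y hy
    exact hΛc y hy x hx
  have hlt : Λ < L := lt_of_le_of_ne hΛL (fun h => hcon h.ge)
  have hLN : L ≤ N := inf_le_left.trans hDN
  have hLnorm : ∀ g ∈ N, ∀ x ∈ L, g * x * g⁻¹ ∈ L := by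
    intro g hg x hx
    refine ⟨hDnorm g hg x hx.1, ?_⟩
    show g * x * g⁻¹ ∈ Subgroup.centralizer (Λ : Set G)
    rw [Subgroup.mem_centralizer_iff]
    intro y hy
    have hy' : g⁻¹ * y * g⁻¹⁻¹ ∈ Λ := hΛn g⁻¹ (N.inv_mem hg) y hy
    have hxc := (Subgroup.mem_centralizer_iff.1 hx.2) _ hy'
    -- hxc : g⁻¹ * y * g⁻¹⁻¹ * x = x * (g⁻¹ * y * g⁻¹⁻¹)
    calc y * (g * x * g⁻¹) = g * ((g⁻¹ * y * g⁻¹⁻¹) * x) * g⁻¹ := by group
      _ = g * (x * (g⁻¹ * y * g⁻¹⁻¹)) * g⁻¹ := by rw [hxc]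
      _ = g * x * g⁻¹ * y := by group
  obtain ⟨x, hxL, hxΛ, hxc⟩ := exists_central_mod_rel N hN hLN hLnorm hlt
  -- the bigger subgroup
  let Λ' : Subgroup G := Subgroup.closure ((Λ : Set G) ∪ {x})
  have hcomm' : ∀ a ∈ ((Λ : Set G) ∪ {x}), ∀ b ∈ ((Λ : Set G) ∪ {x}), a * b = b * a := by
    have hxcent := Subgroup.mem_centralizer_iff.1 hxL.2
    rintro a (ha | ha) b (hb | hb)
    · exact hΛc a ha b hb
    · rw [Set.mem_singleton_iff] at hb; subst hb
      exact hxcent a ha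
    · rw [Set.mem_singleton_iff] at ha; subst ha
      exact (hxcent b hb).symm
    · rw [Set.mem_singleton_iff] at ha hb; rw [ha, hb]
  have hΛ'comm : IsMulCommutative Λ' := Subgroup.isMulCommutative_closure hcomm'
  have hΛΛ' : Λ ≤ Λ' := fun y hy => Subgroup.subset_closure (Or.inl hy)
  have hxΛ' : x ∈ Λ' := Subgroup.subset_closure (Or.inr rfl)
  have hΛ'mem : Λ' ∈ 𝒜 := by
    refine ⟨?_, ?_, ?_⟩
    · rw [Subgroup.closure_le]
      rintro a (ha | ha)
      · exact hΛD ha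
      · rw [Set.mem_singleton_iff] at ha; subst ha; exact hxL.1
    · intro a ha b hb
      have := hΛ'comm.is_comm.comm ⟨a, ha⟩ ⟨b, hb⟩
      exact congrArg Subtype.val this
    · intro g hg a ha
      have hmap : Λ'.map (MulAut.conj g).toMonoidHom ≤ Λ' := by
        rw [MonoidHom.map_closure, Subgroup.closure_le]
        rintro _ ⟨a, (ha | ha), rfl⟩
        · exact hΛΛ' (by simpa using hΛn g hg a ha)
        · rw [Set.mem_singleton_iff] at ha; subst ha
          have h1 : ⁅a, g⁆ ∈ Λ := hxc g hg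
          have h2 : g * a * g⁻¹ = ⁅a, g⁆⁻¹ * a := by
            simp only [commutatorElement_def]; group
          show (MulAut.conj g) a ∈ Λ'
          rw [MulAut.conj_apply, h2]
          exact Λ'.mul_mem (Λ'.inv_mem (hΛΛ' h1)) hxΛ'
      have := hmap ⟨a, ha, rfl⟩
      simpa using this
  have hcard : Nat.card Λ < Nat.card Λ' := by
    have hfin' : Finite Λ' := Finite.of_injective (Subgroup.inclusion hΛ'mem.1)
      (Subgroup.inclusion_injective _)
    by_contra h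
    push Not at h
    have h2 := Subgroup.eq_of_le_of_card_ge hΛΛ' h
    exact hxΛ (h2 ▸ hxΛ')
  have := hΛmax Λ' hΛ'mem
  omega

/-- the set of commutators `x⁻¹ β(x)`, `β ∈ A` of order prime to `p` -/
def coprimeCommSet (A : Subgroup (MulAut G)) (p : ℕ) : Set G :=
  {y | ∃ β ∈ A, (orderOf β).Coprime p ∧ ∃ x : G, y = x⁻¹ * β x}

/-- for a group `A` of automorphisms of a finite `p`-group there is an `A`-invariant subgroup `D` of small
exponent, inside the subgroup generated by the commutators with the `p'`-elements of `A`, such that a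
`p'`-element of `A` fixing pointwise a self-centralizing subgroup of `D` is trivial -/
theorem exists_detecting {p : ℕ} [Fact p.Prime] [Finite G] (hG : IsPGroup p G)
    (A : Subgroup (MulAut G)) :
    ∃ D : Subgroup G, D ≤ Subgroup.closure (coprimeCommSet A p) ∧ (∀ x ∈ D, x ^ omegaExp p = 1) ∧
      (∀ α ∈ A, ∀ x ∈ D, α x ∈ D) ∧
      ∀ Λ : Subgroup G, Λ ≤ D → D ⊓ Subgroup.centralizer (Λ : Set G) ≤ Λ →
        ∀ β ∈ A, (orderOf β).Coprime p → (∀ x ∈ Λ, β x = x) → β = 1 := by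
  classical
  let Y : Subgroup G := Subgroup.closure (coprimeCommSet A p)
  have hYinv : ∀ α ∈ A, ∀ x ∈ Y, α x ∈ Y := by
    intro α hα x hx
    have hmap : Y.map α.toMonoidHom ≤ Y := by
      rw [MonoidHom.map_closure, Subgroup.closure_le]
      rintro _ ⟨y, ⟨β, hβ, hc, x, rfl⟩, rfl⟩
      apply Subgroup.subset_closure
      refine ⟨α * β * α⁻¹, A.mul_mem (A.mul_mem hα hβ) (A.inv_mem hα), ?_, α x, ?_⟩
      · rw [← (SemiconjBy.conj_mk α β).orderOf_eq]
        exact hc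
      · simp
    exact hmap ⟨x, hx, rfl⟩
  have hYiff : ∀ α ∈ A, ∀ x, x ∈ Y ↔ α x ∈ Y := by
    intro α hα x
    constructor
    · exact hYinv α hα x
    · intro h
      have := hYinv α⁻¹ (A.inv_mem hα) _ h
      simpa using this
  obtain ⟨D, hDY, hDexp, hDinv, hDfix⟩ := exists_small_exponent_core Y (hG.to_subgroup Y)
  refine ⟨D, hDY, hDexp, fun α hα => hDinv α (hYiff α hα), ?_⟩
  intro Λ hΛD hΛc β hβ hc hfix
  have hY1 : ∀ y ∈ Y, β y = y :=
    hDfix β (hYiff β hβ) (orderOf β) hc (fun y _ => by rw [pow_orderOf_eq_one]; rfl) Λ hΛD hΛc hfix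
  have hall := fixes_of_commutator_fixed β ⊤ (hG.to_subgroup ⊤) (fun _ _ => trivial) (orderOf β) hc
    (fun x _ => by rw [pow_orderOf_eq_one]; rfl)
    (fun x _ => hY1 _ (Subgroup.subset_closure ⟨β, hβ, hc, x, rfl⟩))
  ext x
  exact hall x trivial

/-- a `p`-subgroup normalized by a Sylow `p`-subgroup lies in it -/
theorem le_sylow_of_le_normalizer {A : Type*} [Group A] {p : ℕ} [Fact p.Prime] (P : Sylow p A)
    {C : Subgroup A} (hC : IsPGroup p C) (hn : (P : Subgroup A) ≤ Subgroup.normalizer (C : Set A)) :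
    C ≤ (P : Subgroup A) := by
  have h := P.is_maximal' (hC.to_sup_of_normal_left' P.isPGroup' hn) le_sup_right
  rw [← h]
  exact le_sup_left

end Cfsg.Agent.Helper87
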