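import Mathlib
import Cfsg.Agent.Lib.Helper87.PsuA

/-!
# Definitions for the fusion system of `SU_n(q)`: the subgroups `Qv`, `RW`, the torus elements
-/

set_option autoImplicit false
set_option linter.unusedSectionVars false
set_option linter.unusedSimpArgs false
set_option linter.unusedVariables false
set_option quotPrecheck false
set_option linter.unreachableTactic false
set_option linter.unusedTactic false

namespace Cfsg.Agent.Helper87.PsuD

open Matrix Cfsg Cfsg.Agent.Helper13 Cfsg.Agent.Helper87.PsuA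

variable {F : Type*} [Field F] [Fintype F] {q n : ℕ}

local notation "V" => Fin n → F
local notation "G" => ↥(Cfsg.SU n F q)
local notation "H" => Cfsg.hermForm n F q

/-- the elements fixing `u` and acting trivially on `u^⊥ / u` -/
def Qv (q : ℕ) (u : Fin n → F) : Subgroup ↥(Cfsg.SU n F q) where
  carrier := {g | actv g u = u ∧
    ∀ y : Fin n → F, Cfsg.hermForm n F q y u = 0 → ∃ c : F, actv g y - y = c • u}
  mul_mem' := by
    rintro g h ⟨hg1, hg2⟩ ⟨hh1, hh2⟩
    refine ⟨by rw [actv_mul, hh1, hg1], fun y hy => ?_⟩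
    obtain ⟨c, hc⟩ := hh2 y hy
    obtain ⟨c', hc'⟩ := hg2 y hy
    refine ⟨c' + c, ?_⟩
    have e : actv h y = y + c • u := by rw [← hc]; abel
    rw [actv_mul, e, actv_add, actv_smul, hg1, add_smul, ← hc']
    abel
  one_mem' := ⟨actv_one u, fun y _ => ⟨0, by rw [actv_one, sub_self, zero_smul]⟩⟩
  inv_mem' := by
    rintro g ⟨hg1, hg2⟩
    refine ⟨actv_inv g u u hg1, fun y hy => ?_⟩
    obtain ⟨c, hc⟩ := hg2 y hy
    refine ⟨-c, ?_⟩
    have e : actv g y = y + c • u := by rw [← hc]; abel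
    have e2 : actv g⁻¹ (actv g y) = y := actv_inv_actv g y
    rw [e, actv_add, actv_smul, actv_inv g u u hg1] at e2
    rw [neg_smul, eq_sub_of_add_eq e2]
    abel

theorem mem_Qv {u : V} {g : G} : g ∈ Qv q u ↔ actv g u = u ∧
    ∀ y : V, H y u = 0 → ∃ c : F, actv g y - y = c • u := Iff.rfl

/-- membership in `W = span (b i : i < rev i)` -/
def InW (q : ℕ) (b : Fin n → Fin n → F) (y : Fin n → F) : Prop :=
  ∀ i : Fin n, Fin.rev i ≤ i → co q b y i = 0

/-- membership in `W^⊥` -/
def InWp (q : ℕ) (b : Fin n → Fin n → F) (y : Fin n → F) : Prop :=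
  ∀ w : Fin n → F, InW q b w → Cfsg.hermForm n F q y w = 0

section

variable (hF : Fintype.card F = q ^ 2) {b : Fin n → Fin n → F}

theorem InW.add {y z : V} (hy : InW q b y) (hz : InW q b z) : InW q b (y + z) := by
  intro i hi
  rw [co_add, hy i hi, hz i hi, add_zero]

include hF in
theorem InW.neg {y : V} (hy : InW q b y) : InW q b (-y) := by
  intro i hi
  rw [co_neg hF, hy i hi, neg_zero]

include hF in
theorem inW_zero : InW q b (0 : V) := fun i _ => co_zero hF i

theorem InW.smul {y : V} (c : F) (hy : InW q b y) : InW q b (c • y) := by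
  intro i hi
  rw [co_smul, hy i hi, mul_zero]

/-- the unipotent radical of the stabilizer of `W` -/
def RW (b : Fin n → Fin n → F) : Subgroup G where
  carrier := {g | (∀ y : V, InW q b y → actv g y = y) ∧
    ∀ y : V, InWp q b y → InW q b (actv g y - y)}
  mul_mem' := by
    rintro g h ⟨hg1, hg2⟩ ⟨hh1, hh2⟩
    refine ⟨fun y hy => by rw [actv_mul, hh1 y hy, hg1 y hy], fun y hy => ?_⟩
    have e : actv (g * h) y - y = (actv h y - y) + (actv g y - y) := by
      have e1 : actv h y = y + (actv h y - y) := by abel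
      rw [actv_mul]
      conv_lhs => rw [e1, actv_add, hg1 _ (hh2 y hy)]
      abel
    rw [e]
    exact (hh2 y hy).add (hg2 y hy)
  one_mem' := ⟨fun y _ => actv_one y, fun y _ => by rw [actv_one, sub_self]; exact inW_zero hF⟩
  inv_mem' := by
    rintro g ⟨hg1, hg2⟩
    refine ⟨fun y hy => actv_inv g y y (hg1 y hy), fun y hy => ?_⟩
    have e1 : actv g⁻¹ (actv g y - y) = actv g y - y := actv_inv g _ _ (hg1 _ (hg2 y hy))
    rw [actv_sub, actv_inv_actv] at e1
    have e : actv g⁻¹ y - y = -(actv g y - y) := by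
      rw [← e1]
      abel
    rw [e]
    exact (hg2 y hy).neg hF

theorem mem_RW {g : G} : g ∈ RW hF b ↔ (∀ y : V, InW q b y → actv g y = y) ∧
    ∀ y : V, InWp q b y → InW q b (actv g y - y) := Iff.rfl

/-- the subgroup generated by the `p`-elements of the normalizer of `R` -/
def PG {Γ : Type*} [Group Γ] (p : ℕ) (R : Subgroup Γ) : Subgroup Γ :=
  Subgroup.closure {x : Γ | x ∈ Subgroup.normalizer (R : Set Γ) ∧ ∃ m : ℕ, orderOf x = p ^ m}

/-- the first basis index -/
def i0 (hn : 4 ≤ n) : Fin n := ⟨0, lt_of_lt_of_le (Nat.succ_pos 3) hn⟩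

/-- the second basis index -/
def i1 (hn : 4 ≤ n) : Fin n := ⟨1, lt_of_lt_of_le (Nat.succ_lt_succ (Nat.succ_pos 2)) hn⟩

/-- root element `b_1 ↦ b_1 + t b_0` -/
noncomputable def xp (b : Fin n → Fin n → F) (hn : 4 ≤ n) (t : F) : G :=
  eich hF (b (i0 hn)) ((-(t ^ q)) • b (Fin.rev (i1 hn))) 0

/-- root element `b_0 ↦ b_0 + t b_1` -/
noncomputable def xm (b : Fin n → Fin n → F) (hn : 4 ≤ n) (t : F) : G :=
  eich hF (b (i1 hn)) ((-(t ^ q)) • b (Fin.rev (i0 hn))) 0

/-- torus element `b_0 ↦ s b_0`, `b_1 ↦ s⁻¹ b_1` -/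
noncomputable def hel (b : Fin n → Fin n → F) (hn : 4 ≤ n) (s : F) : G :=
  xp hF b hn (s - 1) * xm hF b hn 1 * xp hF b hn (s⁻¹ - 1) * xm hF b hn (-s)

end

end Cfsg.Agent.Helper87.PsuD
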