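import Mathlib
import Cfsg.Agent.Lib.Helper87.PsuD
import Cfsg.Agent.Lib.Helper13.NormSurj

/-!
# Common tools: field facts, Eichler elements on the hyperbolic basis, membership in `Usub`
-/

set_option autoImplicit false
set_option linter.unusedSectionVars false
set_option linter.unusedSimpArgs false
set_option linter.unusedVariables false
set_option quotPrecheck false
set_option linter.unreachableTactic false
set_option linter.unusedTactic false

namespace Cfsg.Agent.Helper87.PsuB0

open Matrix Cfsg Cfsg.Agent.Helper13 Cfsg.Agent.Helper87.PsuA Cfsg.Agent.Helper87.PsuD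

variable {F : Type*} [Field F] [Fintype F] {q n : ℕ}

local notation "V" => Fin n → F
local notation "G" => ↥(Cfsg.SU n F q)
local notation "H" => Cfsg.hermForm n F q

variable (hF : Fintype.card F = q ^ 2) {b : Fin n → Fin n → F}

/-! ### field facts -/

include hF in
/-- the trace `a ↦ a + a^q` is onto the fixed field -/
theorem exists_trace (s : F) (hs : s ^ q = s) : ∃ a : F, a + a ^ q = s :=
  trace_surj_involution (frobQ hF) (frobQ_ne_id hF) (frobQ_frobQ hF) s hs

include hF in
/-- the norm `a ↦ a * a^q` is onto the fixed field -/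
theorem exists_norm (t : F) (ht : t ^ q = t) : ∃ s : F, s * s ^ q = t := by
  by_cases h0 : t = 0
  · exact ⟨0, by rw [h0, zero_mul]⟩
  · exact norm_surj_involution (frobQ hF) (frobQ_ne_id hF) (frobQ_frobQ hF) t h0 ht

include hF in
theorem exists_kappa : ∃ κ : F, κ ≠ 0 ∧ κ + κ ^ q = 0 := by
  obtain ⟨x, hx⟩ : ∃ x : F, x ^ q ≠ x := by
    by_contra hcon
    push Not at hcon
    exact frobQ_ne_id hF (RingHom.ext hcon)
  refine ⟨x - x ^ q, sub_ne_zero.2 (Ne.symm hx), ?_⟩
  rw [frob_sub hF, frob_frob hF]
  ring

include hF in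
/-- a valid third parameter for `eich u w a` always exists -/
theorem exists_eich_param (w : V) : ∃ a : F, a + a ^ q + H w w = 0 := by
  obtain ⟨a, ha⟩ := exists_trace hF (-H w w) (by rw [frob_neg hF, hermForm_conj hF])
  exact ⟨a, by rw [ha]; ring⟩

include hF in
/-- there is an element not fixed by the Frobenius -/
theorem exists_not_fixed : ∃ x : F, x ^ q ≠ x := by
  by_contra hcon
  push Not at hcon
  exact frobQ_ne_id hF (RingHom.ext hcon)

/-! ### transvections -/

theorem tvSU_eq_eich (u : V) (a : F) (huu : H u u = 0) (ha : a ^ q + a = 0) :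
    tvSU hF u a huu ha = eich hF u 0 a := by
  apply G_ext
  intro x
  rw [actv_tvSU, eich_act hF huu (H_zero_right hF u)
    (by rw [H_zero_right hF, add_zero, add_comm]; exact ha), H_zero_right hF]
  rw [stdB_apply]
  module

/-! ### Eichler elements along basis vectors -/

theorem b_isotropic (hb : HB q b) {k : Fin n} (hk : k ≠ Fin.rev k) : H (b k) (b k) = 0 := by
  rw [hb k k, if_neg hk]

include hF in
theorem eich_b (hb : HB q b) (k : Fin n) (hk : k ≠ Fin.rev k) (w : V) (a : F)
    (huw : H (b k) w = 0) (ha : a + a ^ q + H w w = 0) (j : Fin n) :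
    actv (eich hF (b k) w a) (b j) =
      b j + (if k = Fin.rev j then (1 : F) else 0) • w - ((co q b w (Fin.rev j)) ^ q) • b k
        + (a * (if k = Fin.rev j then (1 : F) else 0)) • b k := by
  rw [eich_act hF (b_isotropic hb hk) huw ha, hb j k, H_b_right hF]

include hF in
/-- coordinates of the image of a basis vector under an Eichler element -/
theorem co_eich_b (hb : HB q b) (k : Fin n) (hk : k ≠ Fin.rev k) (w : V) (a : F)
    (huw : H (b k) w = 0) (ha : a + a ^ q + H w w = 0) (j i : Fin n) :
    co q b (actv (eich hF (b k) w a) (b j)) i =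
      (if i = j then (1 : F) else 0) + (if k = Fin.rev j then (1 : F) else 0) * co q b w i
        - (co q b w (Fin.rev j)) ^ q * (if i = k then (1 : F) else 0)
        + a * (if k = Fin.rev j then (1 : F) else 0) * (if i = k then (1 : F) else 0) := by
  rw [eich_b hF hb k hk w a huw ha j]
  simp only [co_add, co_sub hF, co_smul, co_b hb]

include hF in
/-- `E(b_k, w, a)` is unitriangular when `k < rev k` and `w ∈ span (b_i : i < rev k)` -/
theorem eich_mem_Usub (hb : HB q b) (k : Fin n) (hk : k < Fin.rev k) (w : V) (a : F)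
    (hw : ∀ i : Fin n, Fin.rev k ≤ i → co q b w i = 0) (ha : a + a ^ q + H w w = 0) :
    eich hF (b k) w a ∈ Usub hb := by
  have huw : H (b k) w = 0 := by
    rw [H_b_right hF, hw _ le_rfl, frob_zero hF]
  rw [mem_Usub_iff]
  intro i j hji
  rw [co_eich_b hF hb k hk.ne w a huw ha j i]
  have h2 : (if k = Fin.rev j then (1 : F) else 0) * co q b w i = 0 := by
    by_cases h : k = Fin.rev j
    · have : Fin.rev k ≤ i := by
        rw [h, Fin.rev_rev]; exact hji
      rw [hw i this, mul_zero]
    · rw [if_neg h, zero_mul]
  have h3 : (co q b w (Fin.rev j)) ^ q * (if i = k then (1 : F) else 0) = 0 := by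
    by_cases h : i = k
    · have : Fin.rev k ≤ Fin.rev j := by
        rw [Fin.rev_le_rev, ← h]; exact hji
      rw [hw _ this, frob_zero hF, zero_mul]
    · rw [if_neg h, mul_zero]
  have h4 : a * (if k = Fin.rev j then (1 : F) else 0) * (if i = k then (1 : F) else 0) = 0 := by
    by_cases h : k = Fin.rev j
    · by_cases h' : i = k
      · exfalso
        have h5 : Fin.rev k ≤ k := by
          have : Fin.rev k = j := by rw [h, Fin.rev_rev]
          rw [this, ← h']; exact hji
        exact absurd hk (not_lt.2 h5)
      · rw [if_neg h', mul_zero]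
    · rw [if_neg h, mul_zero, zero_mul]
  rw [h2, h3, h4]
  ring

end Cfsg.Agent.Helper87.PsuB0
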