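import Mathlib
import Cfsg.Agent.Lib.Helper13.HermStd
import Cfsg.Agent.Lib.Helper13.NormSurj

/-!
# A hyperbolic basis of the standard hermitian form `Σ uᵢ vᵢ^q`

`exists_hb`: vectors `b i` with `hermForm (b i) (b j) = 1` if `j = Fin.rev i` and `0` otherwise.
(Piece P2 of helper87's S5172 server; written by helper64.)
-/

set_option autoImplicit false

namespace Cfsg.Agent.Helper87.PsuHB

open Cfsg.Agent.Helper13

variable {F : Type*} [Field F] [Fintype F] {q : ℕ}

/-- the form on the standard basis vectors -/
theorem helper64_herm_single (hF : Fintype.card F = q ^ 2) (n : ℕ) (a b : Fin n) :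
    Cfsg.hermForm n F q (Pi.single a 1) (Pi.single b 1) = if a = b then 1 else 0 := by
  rw [hermForm_single_left']
  by_cases h : a = b
  · subst h; simp
  · rw [if_neg h, Pi.single_apply, if_neg h, zero_pow (q_pos hF).ne']

/-- expansion of the form on two vectors each supported on two coordinates -/
theorem helper64_herm_expand (hF : Fintype.card F = q ^ 2) (n : ℕ) (x y x' y' : F)
    (i i' j j' : Fin n) :
    Cfsg.hermForm n F q (x • Pi.single i 1 + y • Pi.single i' 1)
        (x' • Pi.single j 1 + y' • Pi.single j' 1) =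
      x * x' ^ q * (if i = j then 1 else 0) + x * y' ^ q * (if i = j' then 1 else 0) +
        y * x' ^ q * (if i' = j then 1 else 0) + y * y' ^ q * (if i' = j' then 1 else 0) := by
  rw [hermForm_add_left, hermForm_smul_left, hermForm_smul_left, hermForm_add_right hF,
    hermForm_add_right hF, hermForm_smul_right, hermForm_smul_right, hermForm_smul_right,
    hermForm_smul_right, helper64_herm_single hF, helper64_herm_single hF,
    helper64_herm_single hF, helper64_herm_single hF]
  ring

theorem exists_hb {F : Type*} [Field F] [Fintype F] {q : ℕ} (hF : Fintype.card F = q ^ 2)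
    (n : ℕ) : ∃ b : Fin n → (Fin n → F), ∀ i j,
      Cfsg.hermForm n F q (b i) (b j) = if j = Fin.rev i then 1 else 0 := by
  classical
  -- the scalars
  have hσne := frobQ_ne_id hF
  have hσ2 : ∀ a : F, frobQ hF (frobQ hF a) = a := frobQ_frobQ hF
  obtain ⟨lam, hlam⟩ := norm_surj_involution (frobQ hF) hσne hσ2 (-1)
    (neg_ne_zero.2 one_ne_zero) (by rw [map_neg, map_one])
  rw [frobQ_apply] at hlam
  have hex : ∃ a : F, a ^ q ≠ a := by
    by_contra hcon
    push Not at hcon
    apply hσne
    ext a
    rw [frobQ_apply, hcon a]; rfl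
  obtain ⟨a, ha⟩ := hex
  have ha0 : a ≠ 0 := by
    rintro rfl
    exact ha (zero_pow (q_pos hF).ne')
  have haq0 : a ^ q ≠ 0 := pow_ne_zero q ha0
  set zeta : F := a ^ q / a with hzeta
  have hzeta1 : zeta ≠ 1 := by
    intro h
    rw [hzeta, div_eq_one_iff_eq ha0] at h
    exact ha h
  have hzetaN : zeta * zeta ^ q = 1 := by
    rw [hzeta, div_pow, frob_frob hF]
    field_simp
  have hzetaq1 : zeta ^ q ≠ 1 := by
    intro h
    apply hzeta1
    have := frob_frob hF zeta
    rw [h, one_pow] at this
    exact this.symm
  set mu : F := lam * zeta with hmu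
  have hmuN : mu * mu ^ q = -1 := by
    rw [hmu, mul_pow]
    linear_combination zeta * zeta ^ q * hlam - hzetaN
  set t : F := 1 + lam * mu ^ q with ht
  have ht0 : t ≠ 0 := by
    intro h0
    apply hzetaq1
    have h1 : t = 1 - zeta ^ q := by
      rw [ht, hmu, mul_pow]
      linear_combination zeta ^ q * hlam
    rw [h1] at h0
    linear_combination -h0
  set beta : F := t⁻¹ with hbeta
  have hbt : beta * t = 1 := inv_mul_cancel₀ ht0
  set alpha : F := beta ^ q with halpha
  have halphaq : alpha ^ q = beta := frob_frob hF beta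
  have htq : t ^ q = 1 + mu * lam ^ q := by
    rw [ht, frob_add hF, one_pow, mul_pow, frob_frob hF]
    ring
  have hI3 : alpha ^ q * (1 + lam * mu ^ q) = 1 := by rw [halphaq]; exact hbt
  have hI4 : alpha * (1 + mu * lam ^ q) = 1 := by
    rw [← htq, halpha, ← mul_pow, hbt, one_pow]
  -- the coefficient functions
  let x : Fin n → F := fun i =>
    if (i : ℕ) < (Fin.rev i : ℕ) then 1 else if (i : ℕ) = (Fin.rev i : ℕ) then 1 else alpha * mu
  let y : Fin n → F := fun i =>
    if (i : ℕ) < (Fin.rev i : ℕ) then lam else if (i : ℕ) = (Fin.rev i : ℕ) then 0 else alpha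
  refine ⟨fun i => x i • Pi.single i 1 + y i • Pi.single (Fin.rev i) 1, ?_⟩
  intro i j
  show Cfsg.hermForm n F q (x i • Pi.single i 1 + y i • Pi.single (Fin.rev i) 1)
    (x j • Pi.single j 1 + y j • Pi.single (Fin.rev j) 1) = _
  rw [helper64_herm_expand hF]
  have hrv : ∀ k : Fin n, (Fin.rev k : ℕ) = n - (k + 1) := fun k => Fin.val_rev k
  by_cases hij : j = i
  · subst hij
    by_cases hfix : (j : ℕ) = (Fin.rev j : ℕ)
    · have hfix' : j = Fin.rev j := Fin.ext hfix
      have hx : x j = 1 := by
        show (if (j : ℕ) < (Fin.rev j : ℕ) then (1 : F) else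
          if (j : ℕ) = (Fin.rev j : ℕ) then 1 else alpha * mu) = 1
        rw [if_neg (by omega), if_pos hfix]
      have hy : y j = 0 := by
        show (if (j : ℕ) < (Fin.rev j : ℕ) then lam else
          if (j : ℕ) = (Fin.rev j : ℕ) then 0 else alpha) = 0
        rw [if_neg (by omega), if_pos hfix]
      rw [hx, hy, if_pos rfl, if_pos hfix']
      simp [zero_pow (q_pos hF).ne']
    · have hfix' : ¬ j = Fin.rev j := fun h => hfix (congrArg Fin.val h)
      have hfix'' : ¬ Fin.rev j = j := fun h => hfix' h.symm
      rw [if_pos rfl, if_neg hfix', if_neg hfix'', if_pos rfl]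
      rcases Nat.lt_or_gt_of_ne hfix with hlt | hgt
      · have hx : x j = 1 := by
          show (if (j : ℕ) < (Fin.rev j : ℕ) then (1 : F) else
            if (j : ℕ) = (Fin.rev j : ℕ) then 1 else alpha * mu) = 1
          rw [if_pos hlt]
        have hy : y j = lam := by
          show (if (j : ℕ) < (Fin.rev j : ℕ) then lam else
            if (j : ℕ) = (Fin.rev j : ℕ) then 0 else alpha) = lam
          rw [if_pos hlt]
        rw [hx, hy]
        linear_combination hlam
      · have hx : x j = alpha * mu := by
          show (if (j : ℕ) < (Fin.rev j : ℕ) then (1 : F) else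
            if (j : ℕ) = (Fin.rev j : ℕ) then 1 else alpha * mu) = alpha * mu
          rw [if_neg (by omega), if_neg hfix]
        have hy : y j = alpha := by
          show (if (j : ℕ) < (Fin.rev j : ℕ) then lam else
            if (j : ℕ) = (Fin.rev j : ℕ) then 0 else alpha) = alpha
          rw [if_neg (by omega), if_neg hfix]
        rw [hx, hy, mul_pow]
        linear_combination alpha * alpha ^ q * hmuN
  · have hij' : ¬ i = j := fun h => hij h.symm
    by_cases hjr : j = Fin.rev i
    · subst hjr
      have hne : (i : ℕ) ≠ (Fin.rev i : ℕ) := fun h => hij' (Fin.ext h)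
      have hrr : Fin.rev (Fin.rev i) = i := Fin.rev_rev i
      have h4 : ¬ Fin.rev i = Fin.rev (Fin.rev i) := by
        rw [hrr]; exact fun h => hij' h.symm
      rw [if_neg hij', hrr, if_pos rfl, if_pos rfl, if_neg (fun h => hij' h.symm)]
      have hrrv : ((Fin.rev (Fin.rev i) : Fin n) : ℕ) = (i : ℕ) := by rw [hrr]
      rcases Nat.lt_or_gt_of_ne hne with hlt | hgt
      · have hx : x i = 1 := by
          show (if (i : ℕ) < (Fin.rev i : ℕ) then (1 : F) else
            if (i : ℕ) = (Fin.rev i : ℕ) then 1 else alpha * mu) = 1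
          rw [if_pos hlt]
        have hy : y i = lam := by
          show (if (i : ℕ) < (Fin.rev i : ℕ) then lam else
            if (i : ℕ) = (Fin.rev i : ℕ) then 0 else alpha) = lam
          rw [if_pos hlt]
        have hx' : x (Fin.rev i) = alpha * mu := by
          show (if ((Fin.rev i : Fin n) : ℕ) < ((Fin.rev (Fin.rev i) : Fin n) : ℕ) then (1 : F) else
            if ((Fin.rev i : Fin n) : ℕ) = ((Fin.rev (Fin.rev i) : Fin n) : ℕ) then 1
            else alpha * mu) = alpha * mu
          rw [hrrv, if_neg (by omega), if_neg (by omega)]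
        have hy' : y (Fin.rev i) = alpha := by
          show (if ((Fin.rev i : Fin n) : ℕ) < ((Fin.rev (Fin.rev i) : Fin n) : ℕ) then lam else
            if ((Fin.rev i : Fin n) : ℕ) = ((Fin.rev (Fin.rev i) : Fin n) : ℕ) then 0
            else alpha) = alpha
          rw [hrrv, if_neg (by omega), if_neg (by omega)]
        rw [hx, hy, hx', hy', mul_pow]
        linear_combination hI3
      · have hx : x i = alpha * mu := by
          show (if (i : ℕ) < (Fin.rev i : ℕ) then (1 : F) else
            if (i : ℕ) = (Fin.rev i : ℕ) then 1 else alpha * mu) = alpha * mu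
          rw [if_neg (by omega), if_neg hne]
        have hy : y i = alpha := by
          show (if (i : ℕ) < (Fin.rev i : ℕ) then lam else
            if (i : ℕ) = (Fin.rev i : ℕ) then 0 else alpha) = alpha
          rw [if_neg (by omega), if_neg hne]
        have hx' : x (Fin.rev i) = 1 := by
          show (if ((Fin.rev i : Fin n) : ℕ) < ((Fin.rev (Fin.rev i) : Fin n) : ℕ) then (1 : F) else
            if ((Fin.rev i : Fin n) : ℕ) = ((Fin.rev (Fin.rev i) : Fin n) : ℕ) then 1
            else alpha * mu) = 1
          rw [hrrv, if_pos hgt]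
        have hy' : y (Fin.rev i) = lam := by
          show (if ((Fin.rev i : Fin n) : ℕ) < ((Fin.rev (Fin.rev i) : Fin n) : ℕ) then lam else
            if ((Fin.rev i : Fin n) : ℕ) = ((Fin.rev (Fin.rev i) : Fin n) : ℕ) then 0
            else alpha) = lam
          rw [hrrv, if_pos hgt]
        rw [hx, hy, hx', hy', one_pow]
        linear_combination hI4
    · have h2 : ¬ i = Fin.rev j := by
        intro h
        apply hjr
        rw [h, Fin.rev_rev]
      have h3 : ¬ Fin.rev i = j := fun h => hjr h.symm
      have h4 : ¬ Fin.rev i = Fin.rev j := fun h => hij' (Fin.rev_injective h)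
      rw [if_neg hij', if_neg h2, if_neg h3, if_neg h4, if_neg hjr]
      ring

end Cfsg.Agent.Helper87.PsuHB
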