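import Mathlib
import Cfsg.Agent.Lib.Helper62.SLN0

/-!
# SLN project (S2332), piece TOP-C: definitions of the sub-project (helper87)

`tvG x t = 1 + x tᵀ ∈ SL κ` (`t·x = 0`, junk `1` otherwise) and the mirror automorphism
`mir jn : g ↦ (g⁻¹)ᵀ` reindexed by the swap `inl () ↔ inr jn`.
-/

set_option autoImplicit false

namespace Cfsg.Agent.Helper87.SLN

open Matrix Cfsg.Agent.Helper62.SLN

section Defs

variable {F : Type*} [Field F] {κ : Type} [Fintype κ] [DecidableEq κ]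

theorem h87_sl_ext {n : Type*} [DecidableEq n] [Fintype n] {R : Type*} [CommRing R]
    (A B : SpecialLinearGroup n R) (h : (A : Matrix n n R) = (B : Matrix n n R)) : A = B :=
  Subtype.ext h

theorem h87_det_tv (x t : κ → F) (h : t ⬝ᵥ x = 0) : (1 + vecMulVec x t).det = 1 := by
  rw [vecMulVec_eq Unit, det_one_add_replicateCol_mul_replicateRow, h, add_zero]

/-- `1 + x tᵀ` with a proof of `t·x = 0` -/
def tvMk (x t : κ → F) (h : t ⬝ᵥ x = 0) : SpecialLinearGroup κ F :=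
  ⟨1 + vecMulVec x t, h87_det_tv x t h⟩

open Classical in
/-- the transvection `1 + x tᵀ` of `SL κ` (`t·x = 0`; junk value `1` otherwise) -/
noncomputable def tvG (x t : κ → F) : SpecialLinearGroup κ F :=
  if h : t ⬝ᵥ x = 0 then tvMk x t h else 1

theorem tvG_val (x t : κ → F) (h : t ⬝ᵥ x = 0) :
    (tvG x t : Matrix κ κ F) = 1 + vecMulVec x t := by
  unfold tvG
  rw [dif_pos h]
  rfl

/-- the swap `inl () ↔ inr jn` of the index set -/
def swp (jn : κ) : Unit ⊕ κ ≃ Unit ⊕ κ := Equiv.swap (Sum.inl ()) (Sum.inr jn)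

/-- the underlying map of the mirror automorphism -/
def mirF (jn : κ) (g : SpecialLinearGroup (Unit ⊕ κ) F) : SpecialLinearGroup (Unit ⊕ κ) F :=
  ⟨((g⁻¹ : SpecialLinearGroup (Unit ⊕ κ) F) : Matrix (Unit ⊕ κ) (Unit ⊕ κ) F)ᵀ.submatrix (swp jn) (swp jn), by
    rw [det_submatrix_equiv_self, det_transpose]
    exact (g⁻¹ : SpecialLinearGroup (Unit ⊕ κ) F).det_coe⟩

theorem mirF_val (jn : κ) (g : SpecialLinearGroup (Unit ⊕ κ) F) :
    (mirF jn g : Matrix (Unit ⊕ κ) (Unit ⊕ κ) F) =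
      ((g⁻¹ : SpecialLinearGroup (Unit ⊕ κ) F) : Matrix (Unit ⊕ κ) (Unit ⊕ κ) F)ᵀ.submatrix (swp jn) (swp jn) := rfl

theorem mirF_mul (jn : κ) (g h : SpecialLinearGroup (Unit ⊕ κ) F) :
    mirF jn (g * h) = mirF jn g * mirF jn h := by
  apply h87_sl_ext
  rw [Matrix.SpecialLinearGroup.coe_mul, mirF_val, mirF_val, mirF_val, _root_.mul_inv_rev,
    Matrix.SpecialLinearGroup.coe_mul, transpose_mul, submatrix_mul_equiv]

theorem mirF_mirF (jn : κ) (g : SpecialLinearGroup (Unit ⊕ κ) F) : mirF jn (mirF jn g) = g := by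
  have h1 : (mirF jn g)⁻¹ = mirF jn g⁻¹ := by
    apply inv_eq_of_mul_eq_one_right
    rw [← mirF_mul, mul_inv_cancel]
    apply h87_sl_ext
    rw [mirF_val, inv_one, Matrix.SpecialLinearGroup.coe_one, transpose_one, submatrix_one_equiv]
  apply h87_sl_ext
  rw [mirF_val, h1, mirF_val, inv_inv]
  ext a b
  simp [swp]

/-- the mirror automorphism `g ↦ (g⁻¹)ᵀ` reindexed by the swap `inl () ↔ inr jn` -/
def mir (jn : κ) : SpecialLinearGroup (Unit ⊕ κ) F ≃* SpecialLinearGroup (Unit ⊕ κ) F where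
  toFun := mirF jn
  invFun := mirF jn
  left_inv := mirF_mirF jn
  right_inv := mirF_mirF jn
  map_mul' := mirF_mul jn

theorem mir_val (jn : κ) (g : SpecialLinearGroup (Unit ⊕ κ) F) :
    (mir jn g : Matrix (Unit ⊕ κ) (Unit ⊕ κ) F) =
      ((g⁻¹ : SpecialLinearGroup (Unit ⊕ κ) F) : Matrix (Unit ⊕ κ) (Unit ⊕ κ) F)ᵀ.submatrix (swp jn) (swp jn) := rfl

end Defs

end Cfsg.Agent.Helper87.SLN
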