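import Mathlib
import Cfsg.Agent.Lib.Helper98.UT0
import Cfsg.Agent.Lib.Helper66.UTD2
import Cfsg.Agent.Lib.Helper42.UTD1

/-!
# UT piece D3 (S2283, helper98's UT server; helper87): explicit coordinate matrices of `x(a,β)`,
`x⁻(a,β)` and the diagonal element.
-/

set_option autoImplicit false
set_option quotPrecheck false
set_option linter.unusedSectionVars false
set_option linter.unusedVariables false

namespace Cfsg.Agent.Helper87.UT

open Matrix Cfsg Cfsg.Agent.Helper13 Cfsg.Agent.Helper87.PsuA Cfsg.Agent.Helper87.PsuB0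
  Cfsg.Agent.Helper98.UT

variable {F : Type*} [Field F] [Fintype F] {q : ℕ}

local notation "G" => ↥(Cfsg.SU 3 F q)
local notation "H" => Cfsg.hermForm 3 F q

variable (hF : Fintype.card F = q ^ 2) {b : Fin 3 → Fin 3 → F}

include hF in
/-- side conditions of the Eichler elements along `b k`, `k ≠ 1`, with `w = (-(a^q)) • b 1` -/
theorem h87_eich_side (hb : HB q b) (k : Fin 3) (hk1 : (1 : Fin 3) ≠ Fin.rev k) (a β : F)
    (hab : β + β ^ q + a * a ^ q = 0) :
    H (b k) ((-(a ^ q)) • b 1) = 0 ∧ β + β ^ q + H ((-(a ^ q)) • b 1) ((-(a ^ q)) • b 1) = 0 := by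
  constructor
  · rw [hermForm_smul_right, hb k 1, if_neg hk1, mul_zero]
  · rw [hermForm_smul_right, hermForm_smul_left, hb 1 1, if_pos (by decide), mul_one, frob_neg hF,
      frob_frob hF]
    linear_combination hab

include hF in
theorem h87_co_w (hb : HB q b) (a : F) (i : Fin 3) :
    co q b ((-(a ^ q)) • b 1) i = -(a ^ q) * (if i = 1 then 1 else 0) := by
  rw [co_smul, co_b hb]

/-- (D3a) matrix of `x(a,β)` -/
theorem cm_yEl (hb : HB q b) (a β : F) (hab : β + β ^ q + a * a ^ q = 0) :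
    cm b (yEl hF b a β) = !![1, a, β; 0, 1, -(a ^ q); 0, 0, 1] := by
  obtain ⟨h1, h2⟩ := h87_eich_side hF hb 0 (by decide) a β hab
  ext i j
  rw [Cfsg.Agent.Helper66.UT.cm_apply hb]
  unfold yEl
  rw [co_eich_b hF hb 0 (by decide) _ β h1 h2 j i]
  simp only [h87_co_w hF hb]
  fin_cases i <;> fin_cases j <;> simp [frob_neg hF, frob_frob hF, frob_zero hF]

/-- (D3b) matrix of `x⁻(a,β)` -/
theorem cm_lEl (hb : HB q b) (a β : F) (hab : β + β ^ q + a * a ^ q = 0) :
    cm b (lEl hF b a β) = !![1, 0, 0; -(a ^ q), 1, 0; β, a, 1] := by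
  obtain ⟨h1, h2⟩ := h87_eich_side hF hb 2 (by decide) a β hab
  ext i j
  rw [Cfsg.Agent.Helper66.UT.cm_apply hb]
  unfold lEl
  rw [co_eich_b hF hb 2 (by decide) _ β h1 h2 j i]
  simp only [h87_co_w hF hb]
  fin_cases i <;> fin_cases j <;> simp [frob_neg hF, frob_frob hF, frob_zero hF]

/-- (D3c) matrix of the diagonal element (from (D1)) -/
theorem cm_dEl (hb : HB q b) (d0 d1 d2 : F) (h02 : d0 * d2 ^ q = 1) (h11 : d1 * d1 ^ q = 1)
    (hdet : d0 * d1 * d2 = 1) :
    cm b (dEl hF b d0 d1 d2) = !![d0, 0, 0; 0, d1, 0; 0, 0, d2] := by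
  obtain ⟨e0, e1, e2⟩ := Cfsg.Agent.Helper42.UT.dEl_act hF hb d0 d1 d2 h02 h11 hdet
  ext i j
  rw [Cfsg.Agent.Helper66.UT.cm_apply hb]
  fin_cases j
  · show co q b (actv (dEl hF b d0 d1 d2) (b 0)) i = _
    rw [e0, co_smul, co_b hb]
    fin_cases i <;> simp
  · show co q b (actv (dEl hF b d0 d1 d2) (b 1)) i = _
    rw [e1, co_smul, co_b hb]
    fin_cases i <;> simp
  · show co q b (actv (dEl hF b d0 d1 d2) (b 2)) i = _
    rw [e2, co_smul, co_b hb]
    fin_cases i <;> simp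

end Cfsg.Agent.Helper87.UT
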