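import Mathlib
import Cfsg.Agent.Lib.Helper93.RU0
import Cfsg.Agent.Lib.Helper34.RUB3

/-!
# Integer powers of the upper Jordan block `u = 1 + N` (helper87): binomial entries.
`((uEl m F) ^ z).1 i j = Ring.choose z (j - i)` for `i ≤ j`, `0` below the diagonal, for EVERY `z : ℤ`.
-/

set_option autoImplicit false

namespace Cfsg.Agent.Helper87.RUPow

open Matrix Cfsg.Agent.Helper93.RU

variable {F : Type*} [Field F] {m : ℕ}

/-- the matrix with entries `Ring.choose z (j - i)` on and above the diagonal -/
def binM (m : ℕ) (F : Type*) [Field F] (z : ℤ) : Matrix (Fin (m + 3)) (Fin (m + 3)) F :=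
  Matrix.of fun i j => if i.val ≤ j.val then ((Ring.choose z (j.val - i.val) : ℤ) : F) else 0

theorem binM_apply (z : ℤ) (i j : Fin (m + 3)) :
    binM m F z i j = if i.val ≤ j.val then ((Ring.choose z (j.val - i.val) : ℤ) : F) else 0 := rfl

theorem binM_zero : binM m F 0 = 1 := by
  ext i j
  rw [binM_apply, Matrix.one_apply]
  by_cases h : i = j
  · subst h
    rw [if_pos le_rfl, if_pos rfl, Nat.sub_self, Ring.choose_zero_right]; simp
  · rw [if_neg h]
    by_cases hle : i.val ≤ j.val
    · rw [if_pos hle]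
      have hlt : 0 < j.val - i.val := by
        have : i.val ≠ j.val := fun h' => h (Fin.ext h')
        omega
      rw [Ring.choose_zero_pos ℤ hlt]; simp
    · rw [if_neg hle]

theorem binM_one : binM m F 1 = 1 + Nmat m F := by
  ext i j
  rw [binM_apply, Matrix.add_apply, Matrix.one_apply, Cfsg.Agent.Helper34.RU.h34_Nmat_apply]
  by_cases hle : i.val ≤ j.val
  · rw [if_pos hle]
    have h1 : (Ring.choose (1 : ℤ) (j.val - i.val)) = ((Nat.choose 1 (j.val - i.val) : ℕ) : ℤ) := by
      have := Ring.choose_natCast (R := ℤ) 1 (j.val - i.val)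
      simpa using this
    rw [h1]
    by_cases h : i = j
    · subst h; simp
    · have hne : i.val ≠ j.val := fun h' => h (Fin.ext h')
      rw [if_neg h, zero_add]
      by_cases h2 : i.val + 1 = j.val
      · rw [if_pos h2]
        have : j.val - i.val = 1 := by omega
        rw [this]; simp
      · rw [if_neg h2]
        have : 1 < j.val - i.val := by omega
        rw [Nat.choose_eq_zero_of_lt this]; simp
  · rw [if_neg hle, if_neg (fun h => hle (by rw [h])), if_neg (by omega), add_zero]

theorem binM_mul (z w : ℤ) : binM m F z * binM m F w = binM m F (z + w) := by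
  ext i j
  rw [Matrix.mul_apply, binM_apply]
  by_cases hle : i.val ≤ j.val
  · rw [if_pos hle, Ring.add_choose_eq _ (Commute.all z w), Int.cast_sum]
    -- reindex the sum over `l` with `i ≤ l ≤ j`
    have hstep : ∀ l : Fin (m + 3), binM m F z i l * binM m F w l j =
        if i.val ≤ l.val ∧ l.val ≤ j.val then
          ((Ring.choose z (l.val - i.val) * Ring.choose w (j.val - l.val) : ℤ) : F) else 0 := by
      intro l
      rw [binM_apply, binM_apply]
      by_cases h1 : i.val ≤ l.val
      · by_cases h2 : l.val ≤ j.val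
        · rw [if_pos h1, if_pos h2, if_pos ⟨h1, h2⟩, Int.cast_mul]
        · rw [if_neg h2, mul_zero, if_neg (fun h => h2 h.2)]
      · rw [if_neg h1, zero_mul, if_neg (fun h => h1 h.1)]
    rw [Finset.sum_congr rfl (fun l _ => hstep l)]
    rw [← Finset.sum_filter]
    rw [Finset.Nat.sum_antidiagonal_eq_sum_range_succ_mk]
    -- bijection `l ↦ l - i`
    refine Finset.sum_bij' (fun l _ => l.val - i.val)
      (fun k hk => (⟨i.val + k, by
        have := Finset.mem_range.mp hk; have := j.isLt; omega⟩ : Fin (m + 3))) ?_ ?_ ?_ ?_ ?_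
    · intro l hl
      have := (Finset.mem_filter.mp hl).2
      exact Finset.mem_range.mpr (by omega)
    · intro k hk
      have := Finset.mem_range.mp hk
      exact Finset.mem_filter.mpr ⟨Finset.mem_univ _, by simp only []; omega⟩
    · intro l hl
      have := (Finset.mem_filter.mp hl).2
      exact Fin.ext (by simp only []; omega)
    · intro k hk
      simp
    · intro l hl
      have := (Finset.mem_filter.mp hl).2
      have h3 : j.val - i.val - (l.val - i.val) = j.val - l.val := by omega
      simp only [h3, Int.cast_mul]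
  · rw [if_neg hle]
    apply Finset.sum_eq_zero
    intro l _
    rw [binM_apply, binM_apply]
    by_cases h1 : i.val ≤ l.val
    · rw [if_neg (by omega : ¬ l.val ≤ j.val), mul_zero]
    · rw [if_neg h1, zero_mul]

theorem uEl_pow_val (t : ℕ) : ((uEl m F) ^ t).1 = binM m F (t : ℤ) := by
  induction t with
  | zero => simp [binM_zero]
  | succ t ih =>
    rw [pow_succ, Matrix.SpecialLinearGroup.coe_mul, ih, Cfsg.Agent.Helper34.RU.h34_uEl_val,
      ← binM_one, binM_mul]
    push_cast; rfl

theorem uEl_zpow_val (z : ℤ) : ((uEl m F) ^ z).1 = binM m F z := by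
  cases z with
  | ofNat t =>
    rw [Int.ofNat_eq_natCast, zpow_natCast, uEl_pow_val]
  | negSucc t =>
    rw [Int.negSucc_eq, _root_.zpow_neg]
    have hA : (((uEl m F) ^ ((t : ℤ) + 1))).1 = binM m F ((t : ℤ) + 1) := by
      have := uEl_pow_val (F := F) (m := m) (t + 1)
      rw [← zpow_natCast] at this
      push_cast at this
      exact this
    have h1 : (((uEl m F) ^ ((t : ℤ) + 1)) * ((uEl m F) ^ ((t : ℤ) + 1))⁻¹).1 = 1 := by
      rw [mul_inv_cancel]; rfl
    rw [Matrix.SpecialLinearGroup.coe_mul, hA] at h1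
    have h2 : binM m F (-((t : ℤ) + 1)) * binM m F ((t : ℤ) + 1) = 1 := by
      rw [binM_mul, neg_add_cancel, binM_zero]
    calc (((uEl m F) ^ ((t : ℤ) + 1))⁻¹).1
        = (binM m F (-((t : ℤ) + 1)) * binM m F ((t : ℤ) + 1)) *
            (((uEl m F) ^ ((t : ℤ) + 1))⁻¹).1 := by rw [h2, one_mul]
      _ = binM m F (-((t : ℤ) + 1)) := by rw [Matrix.mul_assoc, h1, Matrix.mul_one]

/-- entries of natural powers: ordinary binomial coefficients -/
theorem uEl_pow_apply (t : ℕ) (i j : Fin (m + 3)) :
    ((uEl m F) ^ t).1 i j = if i.val ≤ j.val then ((Nat.choose t (j.val - i.val) : ℕ) : F) else 0 := by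
  rw [uEl_pow_val, binM_apply]
  by_cases hle : i.val ≤ j.val
  · rw [if_pos hle, if_pos hle, Ring.choose_natCast]; simp
  · rw [if_neg hle, if_neg hle]

/-- entries of negative powers: `(-1)^k C(s+k-1, k)`, `k = j - i` -/
theorem uEl_inv_pow_apply (s : ℕ) (i j : Fin (m + 3)) :
    (((uEl m F)⁻¹) ^ s).1 i j =
      if i.val ≤ j.val then
        (-1 : F) ^ (j.val - i.val) * ((Nat.choose (s + (j.val - i.val) - 1) (j.val - i.val) : ℕ) : F)
      else 0 := by
  have h0 : ((uEl m F)⁻¹) ^ s = (uEl m F) ^ (-(s : ℤ)) := by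
    rw [_root_.zpow_neg, zpow_natCast, inv_pow]
  rw [h0, uEl_zpow_val, binM_apply]
  by_cases hle : i.val ≤ j.val
  · rw [if_pos hle, if_pos hle]
    set k := j.val - i.val with hk
    rw [Ring.choose_neg]
    by_cases hk0 : k = 0
    · rw [hk0]; simp
    · have h1 : ((s : ℤ) + (k : ℤ) - 1) = ((s + k - 1 : ℕ) : ℤ) := by
        have : 1 ≤ s + k := by omega
        push_cast [Nat.cast_sub this]; ring
      rw [h1, Ring.choose_natCast]
      rcases Nat.even_or_odd k with he | ho
      · rw [Int.negOnePow_even _ (by exact_mod_cast he), he.neg_one_pow]; simp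
      · rw [Int.negOnePow_odd _ (by exact_mod_cast ho), ho.neg_one_pow]; simp
  · rw [if_neg hle, if_neg hle]

end Cfsg.Agent.Helper87.RUPow
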