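import Mathlib
import Cfsg.Agent.Lib.Helper2.SR0

/-!
# SR (G2): a finite field has a nonzero `x` whose square generates it in the sense of `IsGen`
(helper2's lemma server for S2281; name + statement verbatim from `tools/sr_sigs_helper2.lean.txt`)
-/

set_option autoImplicit false

namespace Cfsg.Agent.Helper87.SR

open Matrix Cfsg Cfsg.Agent.Helper13 Cfsg.Agent.Helper84.SpRoot Cfsg.Agent.Helper5.SpAut
  Cfsg.Agent.Helper2.SR

/-- the multipliers of an additive subgroup -/
def h87mult {F : Type*} [Field F] (S : AddSubgroup F) : AddSubgroup F where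
  carrier := {r | ∀ s ∈ S, r * s ∈ S}
  zero_mem' := fun s _ => by rw [zero_mul]; exact S.zero_mem
  add_mem' := fun {a b} ha hb s hs => by rw [add_mul]; exact S.add_mem (ha s hs) (hb s hs)
  neg_mem' := fun {a} ha s hs => by rw [neg_mul]; exact S.neg_mem (ha s hs)

theorem h87mult_mul {F : Type*} [Field F] (S : AddSubgroup F) {a b : F} (ha : a ∈ h87mult S)
    (hb : b ∈ h87mult S) : a * b ∈ h87mult S := fun s hs => by
  rw [mul_assoc]; exact ha _ (hb s hs)

theorem h87mult_one {F : Type*} [Field F] (S : AddSubgroup F) : (1 : F) ∈ h87mult S :=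
  fun s hs => by rw [one_mul]; exact hs

theorem h87mult_pow {F : Type*} [Field F] (S : AddSubgroup F) {a : F} (ha : a ∈ h87mult S)
    (k : ℕ) : a ^ k ∈ h87mult S := by
  induction k with
  | zero => rw [pow_zero]; exact h87mult_one S
  | succ k ih => rw [pow_succ]; exact h87mult_mul S ih ha

theorem h87mult_zpow {F : Type*} [Field F] [Finite F] (S : AddSubgroup F) (u : Fˣ)
    (hu : ((u : Fˣ) : F) ∈ h87mult S) (w : Fˣ) (hw : w ∈ Subgroup.zpowers u) :
    ((w : Fˣ) : F) ∈ h87mult S := by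
  have hfin : IsOfFinOrder u := isOfFinOrder_of_finite u
  obtain ⟨k, rfl⟩ := hfin.mem_powers_iff_mem_zpowers.2 hw
  rw [Units.val_pow_eq_pow_val]
  exact h87mult_pow S hu k

/-- (G2) -/
theorem exists_generator {F : Type*} [Field F] [Fintype F] : ∃ x : F, x ≠ 0 ∧ IsGen (x ^ 2) := by
  classical
  obtain ⟨ζ, hζ⟩ := IsCyclic.exists_generator (α := Fˣ)
  refine ⟨(ζ : F), ζ.ne_zero, ?_⟩
  rintro S ⟨a, haS, ha0⟩ hstab
  have hlam : (((ζ ^ 2 : Fˣ) : Fˣ) : F) ∈ h87mult S := by
    intro s hs
    rw [Units.val_pow_eq_pow_val]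
    exact hstab s hs
  have hpow : ∀ w ∈ Subgroup.zpowers (ζ ^ 2), ((w : Fˣ) : F) ∈ h87mult S :=
    h87mult_zpow S (ζ ^ 2) hlam
  have hord : orderOf ζ = Nat.card Fˣ := orderOf_eq_card_of_forall_mem_zpowers hζ
  have hq : Nat.card Fˣ = Nat.card F - 1 := Nat.card_units F
  have ho2 : orderOf (ζ ^ 2) = orderOf ζ / Nat.gcd (orderOf ζ) 2 := orderOf_pow ζ
  have hcz : Nat.card (Subgroup.zpowers (ζ ^ 2)) = orderOf (ζ ^ 2) := Nat.card_zpowers _
  have hinj : Nat.card (Subgroup.zpowers (ζ ^ 2)) + 1 ≤ Nat.card (h87mult S) := by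
    let f : Option (Subgroup.zpowers (ζ ^ 2)) → h87mult S := fun o =>
      match o with
      | none => ⟨0, (h87mult S).zero_mem⟩
      | some w => ⟨((w : Fˣ) : F), hpow w w.2⟩
    have hf : Function.Injective f := by
      intro o1 o2 h
      have h' := congrArg Subtype.val h
      cases o1 with
      | none =>
        cases o2 with
        | none => rfl
        | some w2 =>
          exfalso
          change (0 : F) = ((w2 : Fˣ) : F) at h'
          exact (w2 : Fˣ).ne_zero h'.symm
      | some w1 =>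
        cases o2 with
        | none =>
          exfalso
          change ((w1 : Fˣ) : F) = 0 at h'
          exact (w1 : Fˣ).ne_zero h'
        | some w2 =>
          change ((w1 : Fˣ) : F) = ((w2 : Fˣ) : F) at h'
          congr 1
          exact Subtype.ext (Units.ext h')
    have := Nat.card_le_card_of_injective f hf
    rwa [Finite.card_option] at this
  have hdvd : Nat.card (h87mult S) ∣ Nat.card F := AddSubgroup.card_addSubgroup_dvd_card _
  have hFpos : 0 < Nat.card F := Nat.card_pos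
  have hR : h87mult S = ⊤ := by
    apply AddSubgroup.eq_top_of_card_eq
    obtain ⟨k, hk⟩ := hdvd
    have hg2 : Nat.gcd (orderOf ζ) 2 ∣ 2 := Nat.gcd_dvd_right _ _
    have hgo : Nat.gcd (orderOf ζ) 2 ∣ orderOf ζ := Nat.gcd_dvd_left _ _
    have hgle : Nat.gcd (orderOf ζ) 2 ≤ 2 := Nat.le_of_dvd (by norm_num) hg2
    have hgpos : 0 < Nat.gcd (orderOf ζ) 2 := Nat.gcd_pos_of_pos_right _ (by norm_num)
    have hmul : orderOf ζ / Nat.gcd (orderOf ζ) 2 * Nat.gcd (orderOf ζ) 2 = orderOf ζ :=
      Nat.div_mul_cancel hgo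
    have hle : orderOf ζ ≤ 2 * (orderOf ζ / Nat.gcd (orderOf ζ) 2) := by
      calc orderOf ζ = orderOf ζ / Nat.gcd (orderOf ζ) 2 * Nat.gcd (orderOf ζ) 2 := hmul.symm
        _ ≤ orderOf ζ / Nat.gcd (orderOf ζ) 2 * 2 := Nat.mul_le_mul_left _ hgle
        _ = 2 * (orderOf ζ / Nat.gcd (orderOf ζ) 2) := Nat.mul_comm _ _
    rw [hcz, ho2] at hinj
    rw [hord, hq] at hle hinj
    have hk1 : k = 1 := by
      rcases Nat.lt_or_ge k 2 with h | h
      · interval_cases k
        · rw [mul_zero] at hk; omega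
        · rfl
      · exfalso
        have : Nat.card (h87mult S) * 2 ≤ Nat.card (h87mult S) * k := Nat.mul_le_mul_left _ h
        omega
    rw [hk, hk1, mul_one]
  rw [AddSubgroup.eq_top_iff']
  intro y
  have hy : y * a⁻¹ ∈ h87mult S := by rw [hR]; trivial
  have := hy a haS
  rwa [inv_mul_cancel_right₀ ha0] at this

end Cfsg.Agent.Helper87.SR
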