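import Mathlib

set_option autoImplicit false

namespace Cfsg.Agent.Helper87


variable {G : Type*} [Group G]

theorem mc_card_mul_relIndex_of_le {H K : Subgroup G} (h : H ≤ K) :
    Nat.card H * H.relIndex K = Nat.card K := by
  have := Subgroup.relIndex_mul_relIndex (⊥ : Subgroup G) H K bot_le h
  rwa [Subgroup.relIndex_bot_left, Subgroup.relIndex_bot_left] at this

section PGroup

variable [Finite G] {p : ℕ} [hp : Fact p.Prime]

theorem p_mul_card_dvd_of_lt (hG : IsPGroup p G) {H K : Subgroup G} (h : H < K) :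
    p * Nat.card H ∣ Nat.card K := by
  have h1 := mc_card_mul_relIndex_of_le h.le
  have h2 : H.relIndex K ≠ 1 := fun h3 => h.not_ge (Subgroup.relIndex_eq_one.1 h3)
  have hK : IsPGroup p K := hG.to_subgroup K
  obtain ⟨k, hk⟩ := hK.index (H.subgroupOf K)
  have h3 : H.relIndex K = p ^ k := hk
  have hk0 : k ≠ 0 := by
    rintro rfl
    exact h2 (by rw [h3, pow_zero])
  obtain ⟨k', rfl⟩ := Nat.exists_eq_succ_of_ne_zero hk0
  rw [← h1, h3, pow_succ]
  exact Dvd.intro (p ^ k') (by ring)

theorem ucs_lt_succ (hG : IsPGroup p G) {i : ℕ} (h : Subgroup.upperCentralSeries G i ≠ ⊤) :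
    Subgroup.upperCentralSeries G i < Subgroup.upperCentralSeries G (i + 1) := by
  have : Group.IsNilpotent G := hG.isNilpotent
  have h1 : ¬ Group.nilpotencyClass G ≤ i := fun hle =>
    h (Subgroup.upperCentralSeries_eq_top_iff_nilpotencyClass_le.2 hle)
  push Not at h1
  exact Subgroup.upperCentralSeries.StrictMonoOn G (Set.mem_Iic.2 h1.le) (Set.mem_Iic.2 h1)
    (Nat.lt_succ_self i)

omit [Finite G] hp in
/-- if the quotient by a term of the upper central series is generated by one element modulo the next term,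
that element lies in the next term -/
theorem mem_ucs_succ_of_sup_eq_top {j : ℕ} {g : G}
    (h : Subgroup.upperCentralSeries G (j + 1) ⊔ Subgroup.zpowers g = ⊤) : g ∈ Subgroup.upperCentralSeries G (j + 1) := by
  have hstep : Subgroup.upperCentralSeries G (j + 1) =
      Subgroup.comap (QuotientGroup.mk' (Subgroup.upperCentralSeries G j))
        (Subgroup.center (G ⧸ Subgroup.upperCentralSeries G j)) := by
    rw [← Subgroup.upperCentralSeriesStep_eq_comap_center]
    rfl
  set π := QuotientGroup.mk' (Subgroup.upperCentralSeries G j) with hπ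
  let K : Subgroup G := Subgroup.comap π (Subgroup.centralizer {π g})
  have h1 : Subgroup.upperCentralSeries G (j + 1) ≤ K := by
    intro u hu
    rw [hstep] at hu
    have hu' : π u ∈ Subgroup.center (G ⧸ Subgroup.upperCentralSeries G j) := hu
    exact Subgroup.center_le_centralizer _ hu'
  have h2 : Subgroup.zpowers g ≤ K := by
    rw [Subgroup.zpowers_le]
    show π g ∈ Subgroup.centralizer {π g}
    rw [Subgroup.mem_centralizer_iff]
    intro y hy
    rw [Set.mem_singleton_iff.1 hy]
  have h3 : K = ⊤ := top_le_iff.1 (h ▸ sup_le h1 h2)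
  rw [hstep]
  show π g ∈ Subgroup.center (G ⧸ Subgroup.upperCentralSeries G j)
  rw [Subgroup.mem_center_iff]
  intro q
  obtain ⟨y, rfl⟩ := QuotientGroup.mk'_surjective (Subgroup.upperCentralSeries G j) q
  have hy : y ∈ K := h3 ▸ Subgroup.mem_top y
  have hy' : π y ∈ Subgroup.centralizer {π g} := hy
  rw [Subgroup.mem_centralizer_iff] at hy'
  exact (hy' (π g) rfl).symm

omit [Finite G] in
theorem ucs_index_ne_prime {j : ℕ} (h : (Subgroup.upperCentralSeries G (j + 1)).index = p) : False := by
  have hp' : p.Prime := hp.out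
  have hne : Subgroup.upperCentralSeries G (j + 1) ≠ ⊤ := by
    intro h1
    rw [h1, Subgroup.index_top] at h
    exact hp'.one_lt.ne h
  obtain ⟨g, hg⟩ : ∃ g, g ∉ Subgroup.upperCentralSeries G (j + 1) := by
    by_contra hcon
    push Not at hcon
    exact hne (eq_top_iff.2 fun x _ => hcon x)
  apply hg
  apply mem_ucs_succ_of_sup_eq_top
  set Z := Subgroup.upperCentralSeries G (j + 1) with hZ
  have hle : Z ≤ Z ⊔ Subgroup.zpowers g := le_sup_left
  have h1 := Subgroup.relIndex_mul_index hle
  rw [h] at h1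
  have h2 : (Z ⊔ Subgroup.zpowers g).index ∣ p := Dvd.intro_left _ h1
  rcases (Nat.dvd_prime hp').1 h2 with h3 | h3
  · exact Subgroup.index_eq_one.1 h3
  · exfalso
    rw [h3] at h1
    have h4 : Z.relIndex (Z ⊔ Subgroup.zpowers g) = 1 := by
      have := Nat.eq_of_mul_eq_mul_right hp'.pos (h1.trans (one_mul p).symm)
      exact this
    have h5 := Subgroup.relIndex_eq_one.1 h4
    exact hg (h5 (le_sup_right (a := Z) (Subgroup.mem_zpowers g)))

/-- a `p`-group of order `p ^ n` whose class is at least `n - 1` has `|Z_i| = p ^ i` for `i ≤ n - 2` -/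
theorem card_ucs_of_maxClass (hG : IsPGroup p G) {n : ℕ} (hn : Nat.card G = p ^ n) (h3 : 3 ≤ n)
    (hmax : Subgroup.upperCentralSeries G (n - 2) ≠ ⊤) :
    ∀ i ≤ n - 2, Nat.card (Subgroup.upperCentralSeries G i) = p ^ i := by
  have hp' : p.Prime := hp.out
  have hne : ∀ i ≤ n - 2, Subgroup.upperCentralSeries G i ≠ ⊤ := by
    intro i hi h
    apply hmax
    exact top_le_iff.1 (h ▸ Subgroup.upperCentralSeries_mono G hi)
  have hgrow : ∀ k i, i + k ≤ n - 2 →
      p ^ k * Nat.card (Subgroup.upperCentralSeries G i) ∣ Nat.card (Subgroup.upperCentralSeries G (i + k)) := by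
    intro k
    induction k with
    | zero => intro i _; simp
    | succ k ih =>
      intro i hi
      have h1 := ih i (by omega)
      have h2 := p_mul_card_dvd_of_lt hG (ucs_lt_succ hG (hne (i + k) (by omega)))
      have h3 : p ^ (k + 1) * Nat.card (Subgroup.upperCentralSeries G i) =
          p * (p ^ k * Nat.card (Subgroup.upperCentralSeries G i)) := by ring
      rw [h3]
      exact (Nat.mul_dvd_mul_left p h1).trans h2
  -- the index of Z_{n-2}
  obtain ⟨a, ha⟩ := hG.index (Subgroup.upperCentralSeries G (n - 2))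
  have ha0 : a ≠ 0 := by
    rintro rfl
    rw [pow_zero] at ha
    exact hmax (Subgroup.index_eq_one.1 ha)
  have ha1 : a ≠ 1 := by
    rintro rfl
    rw [pow_one] at ha
    obtain ⟨j, hj⟩ : ∃ j, n - 2 = j + 1 := ⟨n - 3, by omega⟩
    rw [hj] at ha
    exact ucs_index_ne_prime ha
  have hcard := Subgroup.card_mul_index (Subgroup.upperCentralSeries G (n - 2))
  rw [hn, ha] at hcard
  intro i hi
  have h1 := hgrow (n - 2 - i) i (by omega)
  have hik : i + (n - 2 - i) = n - 2 := by omega
  rw [hik] at h1
  have h0 := hgrow i 0 (by omega)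
  rw [zero_add] at h0
  have hz : Nat.card (Subgroup.upperCentralSeries G 0) = 1 := by
    rw [Subgroup.upperCentralSeries_zero]; simp
  rw [hz, mul_one] at h0
  -- card Z_i divides p^i
  have h2 : p ^ (n - 2 - i) * Nat.card (Subgroup.upperCentralSeries G i) * p ^ a ∣ p ^ n := by
    rw [← hcard]
    exact Nat.mul_dvd_mul_right h1 _
  have h4 : Nat.card (Subgroup.upperCentralSeries G i) ∣ p ^ n := (Dvd.intro_left _ rfl).trans
    ((Dvd.intro _ rfl).trans h2)
  obtain ⟨b, hb, hbc⟩ := (Nat.dvd_prime_pow hp').1 h4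
  rw [hbc] at h2 h0 ⊢
  have h5 : p ^ (n - 2 - i) * p ^ b * p ^ a = p ^ (n - 2 - i + b + a) := by
    rw [pow_add, pow_add]
  rw [h5] at h2
  have h6 := (Nat.pow_dvd_pow_iff_le_right hp'.one_lt).1 h2
  have h7 := (Nat.pow_dvd_pow_iff_le_right hp'.one_lt).1 h0
  have ha2 : 2 ≤ a := by omega
  have : b = i := by omega
  rw [this]

/-- subgroups of order `p ^ 2` are abelian -/
theorem comm_of_card_sq {H : Subgroup G} (h : Nat.card H = p ^ 2) :
    ∀ a ∈ H, ∀ b ∈ H, a * b = b * a := by
  intro a ha b hb
  have hc : IsMulCommutative H := IsPGroup.isMulCommutative_of_card_eq_prime_sq h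
  have := hc.is_comm.comm (⟨a, ha⟩ : H) ⟨b, hb⟩
  exact congrArg Subtype.val this

theorem index_centralizer_ucs2 (hG : IsPGroup p G) (h1 : Nat.card (Subgroup.center G) = p)
    (h2 : Nat.card (Subgroup.upperCentralSeries G 2) = p ^ 2) :
    (Subgroup.centralizer (Subgroup.upperCentralSeries G 2 : Set G)).index = p := by
  have hp' : p.Prime := hp.out
  have hZle : Subgroup.center G ≤ Subgroup.upperCentralSeries G 2 := by
    rw [← Subgroup.upperCentralSeries_one]
    exact Subgroup.upperCentralSeries_mono G (by norm_num)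
  obtain ⟨x, hx2, hxZ⟩ : ∃ x ∈ Subgroup.upperCentralSeries G 2, x ∉ Subgroup.center G := by
    by_contra hcon
    push Not at hcon
    have hle : Subgroup.upperCentralSeries G 2 ≤ Subgroup.center G := hcon
    have := Subgroup.card_le_of_le hle
    rw [h1, h2] at this
    have : p * p ≤ p * 1 := by rw [mul_one, ← sq]; exact this
    have := Nat.le_of_mul_le_mul_left this hp'.pos
    exact absurd hp'.one_lt (by omega)
  have hcomm : ∀ g : G, g * x * g⁻¹ * x⁻¹ ∈ Subgroup.center G := by
    intro g
    have hx2' : x ∈ Subgroup.upperCentralSeries G (1 + 1) := hx2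
    rw [Subgroup.mem_upperCentralSeries_succ_iff] at hx2'
    have := hx2' g
    rw [Subgroup.upperCentralSeries_one] at this
    have h3 := Subgroup.inv_mem _ this
    rw [commutatorElement_def] at h3
    have e : (x * g * x⁻¹ * g⁻¹)⁻¹ = g * x * g⁻¹ * x⁻¹ := by group
    rwa [e] at h3
  let f : G →* Subgroup.center G := MonoidHom.mk' (fun g => ⟨g * x * g⁻¹ * x⁻¹, hcomm g⟩) (by
    intro g h
    apply Subtype.ext
    show g * h * x * (g * h)⁻¹ * x⁻¹ = (g * x * g⁻¹ * x⁻¹) * (h * x * h⁻¹ * x⁻¹)
    have hc := (Subgroup.mem_center_iff.1 (hcomm h))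
    have h4 : g * h * x * (g * h)⁻¹ * x⁻¹ = g * (h * x * h⁻¹ * x⁻¹) * x * g⁻¹ * x⁻¹ := by group
    rw [h4, hc g]
    have h5 := hc (g * x * g⁻¹ * x⁻¹)
    rw [h5]
    group)
  have hker : ∀ g : G, g ∈ f.ker ↔ g * x = x * g := by
    intro g
    rw [MonoidHom.mem_ker]
    constructor
    · intro h
      have h' : g * x * g⁻¹ * x⁻¹ = 1 := congrArg Subtype.val h
      have : g * x = (g * x * g⁻¹ * x⁻¹) * (x * g) := by group
      rw [this, h', one_mul]
    · intro h
      apply Subtype.ext
      show g * x * g⁻¹ * x⁻¹ = 1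
      rw [h]; group
  have heq : Subgroup.centralizer (Subgroup.upperCentralSeries G 2 : Set G) = f.ker := by
    ext g
    rw [hker, Subgroup.mem_centralizer_iff]
    constructor
    · intro h
      exact (h x hx2).symm
    · intro hgx
      let K : Subgroup G := Subgroup.upperCentralSeries G 2 ⊓ Subgroup.centralizer {g}
      have hZK : Subgroup.center G ≤ K := by
        intro z hz
        refine ⟨hZle hz, ?_⟩
        show z ∈ Subgroup.centralizer {g}
        rw [Subgroup.mem_centralizer_iff]
        intro y hy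
        rw [Set.mem_singleton_iff.1 hy]
        exact Subgroup.mem_center_iff.1 hz g
      have hxK : x ∈ K := by
        refine ⟨hx2, ?_⟩
        show x ∈ Subgroup.centralizer {g}
        rw [Subgroup.mem_centralizer_iff]
        intro y hy
        rw [Set.mem_singleton_iff.1 hy]
        exact hgx
      have hlt : Subgroup.center G < K := lt_of_le_of_ne hZK (fun h => hxZ (h ▸ hxK))
      have h3 := p_mul_card_dvd_of_lt hG hlt
      rw [h1, ← sq] at h3
      have hKle : K ≤ Subgroup.upperCentralSeries G 2 := inf_le_left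
      have hKeq : K = Subgroup.upperCentralSeries G 2 := by
        apply Subgroup.eq_of_le_of_card_ge hKle
        rw [h2]
        exact Nat.le_of_dvd Nat.card_pos h3
      intro y hy
      have hyK : y ∈ K := hKeq ▸ hy
      have : y ∈ Subgroup.centralizer {g} := hyK.2
      rw [Subgroup.mem_centralizer_iff] at this
      exact (this g rfl).symm
  rw [heq, Subgroup.index_ker]
  have h3 : Nat.card f.range ∣ p := by
    rw [← h1]
    exact Subgroup.card_subgroup_dvd_card f.range
  rcases (Nat.dvd_prime hp').1 h3 with h4 | h4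
  · exfalso
    rw [← Subgroup.index_ker, Subgroup.index_eq_one] at h4
    apply hxZ
    rw [Subgroup.mem_center_iff]
    intro g
    have : g ∈ f.ker := h4 ▸ Subgroup.mem_top g
    exact (hker g).1 this
  · exact h4

end PGroup

end Cfsg.Agent.Helper87
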