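import Mathlib
import Cfsg.Agent.Lib.Helper75.FixKill
import Cfsg.Agent.Lib.Helper17.Counting
import Cfsg.Agent.Lib.Helper17.PrimeSylow

/-!
# A small kit for the exercise orders of S0983 (helper17's sieve): Sylow data of a prime dividing
the order of a nonabelian simple group exactly once, and the link step in contrapositive form.
-/

set_option autoImplicit false

namespace Cfsg.Agent.Helper87.SV

open Nat MulAction Cfsg.Agent.Helper17 Cfsg.Agent.Helper17.Sieve Cfsg.Agent.Helper75.FixKill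

/-- Sylow data for a prime `p` with `|G| = p * m`, `p ∤ m`: the Sylow subgroups have order `p`, the
Sylow number `d` is admissible (`d ≤ m`, `d ∣ m`, `d ≡ 1 mod p`, not `Bad`), and for every Sylow
subgroup `|C(P)| * e * d = p * m` for some `e ∣ p - 1`, `e ≠ 1`. -/
theorem h87_data {G : Type*} [Group G] [Finite G] [IsSimpleGroup G] (hna : ¬ IsMulCommutative G)
    (p m : ℕ) [hp : Fact p.Prime] (hm1 : m ≠ 1) (hn : Nat.card G = p ^ 1 * m) (hpm : ¬ p ∣ m) :
    (∀ P : Sylow p G, Nat.card (P : Subgroup G) = p) ∧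
    Nat.card (Sylow p G) ∈ List.range (m + 1) ∧ Nat.card (Sylow p G) ∣ m ∧
    Nat.card (Sylow p G) % p = 1 ∧ ¬ Bad (p ^ 1 * m) p 1 m (Nat.card (Sylow p G)) ∧
    1 < Nat.card (Sylow p G) ∧
    ∀ P : Sylow p G, ∃ e : ℕ, e ∣ p - 1 ∧ e ≠ 1 ∧
      Nat.card (Subgroup.centralizer ((P : Subgroup G) : Set G)) * e * Nat.card (Sylow p G) =
        p * m := by
  have hm0 : m ≠ 0 := fun h0 => hpm (h0 ▸ dvd_zero p)
  have hppos : 0 < p := hp.out.pos
  have hPall : ∀ P : Sylow p G, Nat.card (P : Subgroup G) = p := by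
    intro P
    have h0 := sylow_card_eq P hn hpm
    rwa [pow_one] at h0
  obtain ⟨hdm, hdp⟩ := sylow_count (G := G) hn hpm
  have hnb := not_bad hna p 1 m one_ne_zero hm1 hn hpm
  have hne := sylow_count_ne_one (G := G) hn hpm one_ne_zero hm1
  have hdpos : 0 < Nat.card (Sylow p G) := Nat.card_pos
  have hdle : Nat.card (Sylow p G) ≤ m := Nat.le_of_dvd (Nat.pos_of_ne_zero hm0) hdm
  refine ⟨hPall, List.mem_range.2 (by omega), hdm, hdp, hnb, by omega, ?_⟩
  intro P
  have hGp : Nat.card G ≠ p := by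
    rw [hn, pow_one]; intro h0
    have : p * m = p * 1 := by rw [h0, mul_one]
    exact hm1 (Nat.eq_of_mul_eq_mul_left hppos this)
  obtain ⟨e, he1, he2, he3⟩ := exists_e P (hPall P) hGp
  refine ⟨e, he1, he2, ?_⟩
  have hNd := card_normalizer_mul_sylow_count P
  rw [he3, hNd, hn, pow_one]

/-- `|N(Q)| = |G| / n_q`. -/
theorem h87_card_normalizer {G : Type*} [Group G] [Finite G] {q : ℕ} [Fact q.Prime]
    (Q : Sylow q G) :
    Nat.card ↥(Subgroup.normalizer ((Q : Subgroup G) : Set G)) =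
      Nat.card G / Nat.card (Sylow q G) := by
  have hNd := card_normalizer_mul_sylow_count Q
  have hdpos : 0 < Nat.card (Sylow q G) := Nat.card_pos
  rw [← hNd]
  exact (Nat.mul_div_cancel _ hdpos).symm

/-- the link step: if `q ∣ |C(P)|` (Sylow `p`- and `q`-subgroups of prime order) then
`p ∣ |G| / n_q`. -/
theorem h87_link {G : Type*} [Group G] [Finite G] {p q : ℕ} [hp : Fact p.Prime]
    [hq : Fact q.Prime] (hP : ∀ P : Sylow p G, Nat.card (P : Subgroup G) = p)
    (hQ : ∀ Q : Sylow q G, Nat.card (Q : Subgroup G) = q) (P : Sylow p G)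
    (h : q ∣ Nat.card (Subgroup.centralizer ((P : Subgroup G) : Set G))) :
    p ∣ Nat.card G / Nat.card (Sylow q G) := by
  obtain ⟨Q, hQ'⟩ := sylow_link hP hQ P h
  rw [← h87_card_normalizer Q]
  exact hQ'.trans (Subgroup.card_dvd_of_le (Subgroup.centralizer_le_normalizer _))

end Cfsg.Agent.Helper87.SV
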