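import Mathlib

/-!
# Definitions for the PSL3F lemma server (S5318, helper87)

An explicit 2-subgroup `S3` of `SL₃(F)` (any field `F`, used for `F` finite of odd order),
which is a Sylow 2-subgroup:  `S3 = iota (P2 ⊔ ⟨tau⟩)` where
* `M0 = !![0,1;-1,0]`, `Eu = C_{GL₂}(M0) = {!![a,b;-b,a]}` (rotation-scaling matrices),
* `P2` = the 2-power-order elements of the commutative group `Eu`,
* `tau = diag(1,-1)` (conjugation on `Eu`),
* `iota X = diag(X, (det X)⁻¹) : SL₃(F)`.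
-/

set_option autoImplicit false

namespace Cfsg.Agent.Helper87.Psl3

open Matrix

variable {F : Type*} [Field F]

/-- rotation-scaling matrix -/
def rot (a b : F) : Matrix (Fin 2) (Fin 2) F := !![a, b; -b, a]

theorem rot_mul (a b c d : F) : rot a b * rot c d = rot (a * c - b * d) (a * d + b * c) := by
  ext i j
  fin_cases i <;> fin_cases j <;> simp [rot, Matrix.mul_apply, Fin.sum_univ_two] <;> ring

theorem rot_one : rot (1 : F) 0 = 1 := by
  ext i j
  fin_cases i <;> fin_cases j <;> simp [rot]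

theorem rot_comm (a b c d : F) : rot a b * rot c d = rot c d * rot a b := by
  rw [rot_mul, rot_mul]; congr 1 <;> ring

/-- `M0 = !![0,1;-1,0]`, of order 4 when `2 ≠ 0` -/
def M0 : GL (Fin 2) F :=
  ⟨rot 0 1, rot 0 (-1), by rw [rot_mul, ← rot_one]; congr 1 <;> ring,
    by rw [rot_mul, ← rot_one]; congr 1 <;> ring⟩

@[simp] theorem M0_val : ((M0 : GL (Fin 2) F) : Matrix (Fin 2) (Fin 2) F) = rot 0 1 := rfl

/-- `tau = diag(1,-1)` -/
def tau : GL (Fin 2) F :=
  ⟨!![1, 0; 0, -1], !![1, 0; 0, -1],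
    by ext i j; fin_cases i <;> fin_cases j <;> simp [Matrix.mul_apply, Fin.sum_univ_two],
    by ext i j; fin_cases i <;> fin_cases j <;> simp [Matrix.mul_apply, Fin.sum_univ_two]⟩

@[simp] theorem tau_val : ((tau : GL (Fin 2) F) : Matrix (Fin 2) (Fin 2) F) = !![1, 0; 0, -1] := rfl

/-- the torus: centralizer of `M0` in `GL₂(F)` (= invertible rotation-scaling matrices) -/
def Eu : Subgroup (GL (Fin 2) F) := Subgroup.centralizer {M0}

theorem mem_Eu_iff (X : GL (Fin 2) F) :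
    X ∈ Eu ↔ ∃ a b : F, (X : Matrix (Fin 2) (Fin 2) F) = rot a b := by
  constructor
  · intro h
    have h1 : M0 * X = X * M0 := h M0 rfl
    have h2 : (rot 0 1 : Matrix (Fin 2) (Fin 2) F) * (X : Matrix (Fin 2) (Fin 2) F) =
        (X : Matrix (Fin 2) (Fin 2) F) * rot 0 1 := by
      have := congrArg (fun Y : GL (Fin 2) F => (Y : Matrix (Fin 2) (Fin 2) F)) h1
      simpa using this
    refine ⟨(X : Matrix (Fin 2) (Fin 2) F) 0 0, (X : Matrix (Fin 2) (Fin 2) F) 0 1, ?_⟩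
    have e00 := congrFun (congrFun h2 0) 0
    have e01 := congrFun (congrFun h2 0) 1
    simp [rot, Matrix.mul_apply, Fin.sum_univ_two] at e00 e01
    ext i j
    fin_cases i <;> fin_cases j <;> simp [rot]
    · exact e00
    · exact e01
  · rintro ⟨a, b, hab⟩
    intro Y hY
    rw [Set.mem_singleton_iff] at hY
    subst hY
    apply Units.ext
    rw [Units.val_mul, Units.val_mul, hab, M0_val, rot_comm]

theorem Eu_comm {X Y : GL (Fin 2) F} (hX : X ∈ Eu) (hY : Y ∈ Eu) : X * Y = Y * X := by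
  obtain ⟨a, b, hab⟩ := (mem_Eu_iff X).1 hX
  obtain ⟨c, d, hcd⟩ := (mem_Eu_iff Y).1 hY
  apply Units.ext
  rw [Units.val_mul, Units.val_mul, hab, hcd, rot_comm]

/-- the 2-power-order elements of the torus -/
def P2 : Subgroup (GL (Fin 2) F) where
  carrier := {X | X ∈ Eu ∧ ∃ m : ℕ, X ^ (2 ^ m) = 1}
  one_mem' := ⟨Eu.one_mem, 0, by simp⟩
  mul_mem' := by
    rintro X Y ⟨hX, m, hm⟩ ⟨hY, n, hn⟩
    refine ⟨Eu.mul_mem hX hY, m + n, ?_⟩
    have hc : Commute X Y := Eu_comm hX hY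
    rw [hc.mul_pow, pow_add, pow_mul, hm, one_pow, mul_comm (2 ^ m) (2 ^ n), pow_mul, hn, one_pow,
      one_mul]
  inv_mem' := by
    rintro X ⟨hX, m, hm⟩
    exact ⟨Eu.inv_mem hX, m, by rw [inv_pow, hm, inv_one]⟩

theorem mem_P2_iff (X : GL (Fin 2) F) : X ∈ P2 ↔ X ∈ Eu ∧ ∃ m : ℕ, X ^ (2 ^ m) = 1 := Iff.rfl

/-- the 2-subgroup `P2 ⟨tau⟩` of `GL₂(F)` -/
def S2 : Subgroup (GL (Fin 2) F) := P2 ⊔ Subgroup.zpowers tau

/-- the embedding `X ↦ diag(X, (det X)⁻¹)` of `GL₂(F)` into `SL₃(F)` -/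
def iotaMat (X : GL (Fin 2) F) : Matrix (Fin 3) (Fin 3) F :=
  !![(X : Matrix (Fin 2) (Fin 2) F) 0 0, (X : Matrix (Fin 2) (Fin 2) F) 0 1, 0;
     (X : Matrix (Fin 2) (Fin 2) F) 1 0, (X : Matrix (Fin 2) (Fin 2) F) 1 1, 0;
     0, 0, ((Matrix.GeneralLinearGroup.det X : Fˣ)⁻¹ : Fˣ)]

theorem det_iotaMat (X : GL (Fin 2) F) : (iotaMat X).det = 1 := by
  have h : (Matrix.GeneralLinearGroup.det X : Fˣ) = 
      ⟨(X : Matrix (Fin 2) (Fin 2) F).det, _, _, _⟩ := rfl
  have hd : ((Matrix.GeneralLinearGroup.det X : Fˣ) : F) = (X : Matrix (Fin 2) (Fin 2) F).det := rfl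
  rw [iotaMat, Matrix.det_fin_three]
  simp only [Matrix.of_apply, Matrix.cons_val', Matrix.cons_val_zero, Matrix.cons_val_one,
    Matrix.cons_val_two, Matrix.empty_val', Matrix.cons_val_fin_one, Matrix.head_cons,
    Matrix.tail_cons, Matrix.head_fin_const]
  have h2 : (X : Matrix (Fin 2) (Fin 2) F).det = (X : Matrix (Fin 2) (Fin 2) F) 0 0 * (X : Matrix (Fin 2) (Fin 2) F) 1 1 - (X : Matrix (Fin 2) (Fin 2) F) 0 1 * (X : Matrix (Fin 2) (Fin 2) F) 1 0 := Matrix.det_fin_two _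
  have h3 : ((Matrix.GeneralLinearGroup.det X : Fˣ) : F) * (((Matrix.GeneralLinearGroup.det X : Fˣ)⁻¹ : Fˣ) : F) = 1 := by
    rw [← Units.val_mul, mul_inv_cancel, Units.val_one]
  rw [hd, h2] at h3
  linear_combination h3

theorem iotaMat_one : iotaMat (1 : GL (Fin 2) F) = 1 := by
  ext i j
  fin_cases i <;> fin_cases j <;> simp [iotaMat]

theorem iotaMat_mul (X Y : GL (Fin 2) F) : iotaMat (X * Y) = iotaMat X * iotaMat Y := by
  ext i j
  fin_cases i <;> fin_cases j <;>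
    simp [iotaMat, Matrix.mul_apply, Fin.sum_univ_two, Fin.sum_univ_three, mul_comm]

/-- the embedding `X ↦ diag(X, (det X)⁻¹)` of `GL₂(F)` into `SL₃(F)` as a group hom -/
def iota : GL (Fin 2) F →* Matrix.SpecialLinearGroup (Fin 3) F where
  toFun X := ⟨iotaMat X, det_iotaMat X⟩
  map_one' := Subtype.ext iotaMat_one
  map_mul' X Y := Subtype.ext (iotaMat_mul X Y)

@[simp] theorem iota_val (X : GL (Fin 2) F) :
    ((iota X : Matrix.SpecialLinearGroup (Fin 3) F) : Matrix (Fin 3) (Fin 3) F) = iotaMat X := rfl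

/-- the explicit 2-subgroup of `SL₃(F)` (a Sylow 2-subgroup when `F` is finite of odd order) -/
def S3 : Subgroup (Matrix.SpecialLinearGroup (Fin 3) F) := (S2 (F := F)).map iota

/-- scalar matrices of `GL₂(F)` -/
def sc : Fˣ →* GL (Fin 2) F := Matrix.GeneralLinearGroup.scalar (Fin 2)

/-- the central involution `z = iota (-1) = diag(-1,-1,1)` of `S3` -/
def zz : Matrix.SpecialLinearGroup (Fin 3) F := iota (sc (-1))

end Cfsg.Agent.Helper87.Psl3
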