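import Mathlib
import Cfsg.Prelude.Def_Classical
import Cfsg.Agent.Lib.Helper87.Psl3Defs

/-!
# Definitions for the PSU3F lemma server (S5319, helper87)

`SU₃(q) = Cfsg.SU 3 K q ≤ SL₃(K)`, `|K| = q²`.  We reuse the explicit 2-subgroup `S3` of `SL₃(K)`
of `Psl3Defs` and intersect it with `SU₃(q)`:
* `U2 q = iota⁻¹ (SU₃(q))` (this is `GU₂(q)`),
* `P2U q = P2 ⊓ U2 q`, `S2U q = S2 ⊓ U2 q`,
* `S3U q = S3.subgroupOf (SU 3 K q)`: an explicit Sylow 2-subgroup of `SU₃(q)`, `q` odd.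
-/

set_option autoImplicit false

namespace Cfsg.Agent.Helper87.Psu3

open Matrix Cfsg Cfsg.Agent.Helper87.Psl3

variable {K : Type*} [Field K] (q : ℕ)

/-- `GU₂(q)`, realised as the preimage of `SU₃(q)` under `iota X = diag(X, det X⁻¹)` -/
def U2 : Subgroup (GL (Fin 2) K) := (Cfsg.SU 3 K q).comap iota

theorem mem_U2_iff (X : GL (Fin 2) K) : X ∈ U2 q ↔ iota X ∈ Cfsg.SU 3 K q := Iff.rfl

/-- the 2-elements of the unitary torus `Eu ⊓ U2 q` -/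
def P2U : Subgroup (GL (Fin 2) K) := P2 ⊓ U2 q

/-- the 2-subgroup `P2U ⟨tau⟩` of `GU₂(q)` -/
def S2U : Subgroup (GL (Fin 2) K) := S2 ⊓ U2 q

/-- the explicit 2-subgroup of `SU₃(q)` (a Sylow 2-subgroup for `q` odd) -/
def S3U : Subgroup ↥(Cfsg.SU 3 K q) := (S3 (F := K)).subgroupOf (Cfsg.SU 3 K q)

theorem mem_S3U_iff (g : ↥(Cfsg.SU 3 K q)) :
    g ∈ S3U q ↔ (g : Matrix.SpecialLinearGroup (Fin 3) K) ∈ S3 := Subgroup.mem_subgroupOf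

/-- membership in `SU₃(q)` unfolded -/
theorem mem_SU_iff (g : Matrix.SpecialLinearGroup (Fin 3) K) :
    g ∈ Cfsg.SU 3 K q ↔ ∀ u v : Fin 3 → K,
      Cfsg.hermForm 3 K q ((g : Matrix (Fin 3) (Fin 3) K) *ᵥ u)
        ((g : Matrix (Fin 3) (Fin 3) K) *ᵥ v) = Cfsg.hermForm 3 K q u v := Iff.rfl

end Cfsg.Agent.Helper87.Psu3
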