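import Mathlib
import Cfsg.Agent.Lib.Helper93.RU0
import Cfsg.Agent.Lib.Helper35.RJ0
import Cfsg.Agent.Lib.Helper87.RUPow

/-!
# RJ pieces (PZ) pi_nat, (PN) pi_neg_one, (PA) pair (helper87), for helper35's RJ server (S2279).
-/

set_option autoImplicit false

namespace Cfsg.Agent.Helper87.RJ

open Matrix Cfsg.Agent.Helper93.RU Cfsg.Agent.Helper35.RJ

variable {F : Type*} [Field F] {m : ℕ}

theorem h87_lastI_val : (lastI m).val = m + 2 := rfl

/-- (PZ) -/
theorem pi_nat (i : ℕ) : piZ m F (i : ℤ) = (Nat.choose i (m + 2) : F) := by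
  unfold piZ
  rw [zpow_natCast, Cfsg.Agent.Helper87.RUPow.uEl_pow_apply, if_pos (by simp)]
  simp [h87_lastI_val]

/-- (PN) -/
theorem pi_neg_one : piZ m F (-1) = (-1) ^ (m + 2) := by
  unfold piZ
  have h0 : (uEl m F) ^ (-1 : ℤ) = ((uEl m F)⁻¹) ^ 1 := by
    rw [_root_.zpow_neg_one, pow_one]
  rw [h0, Cfsg.Agent.Helper87.RUPow.uEl_inv_pow_apply, if_pos (by simp)]
  simp [h87_lastI_val]

/-- (PA) -/
theorem pair (j k : ℤ) : phV m F j ⬝ᵥ aV m F k = piZ m F (k - j) := by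
  unfold phV aV piZ
  rw [Matrix.dotProduct_mulVec, Matrix.vecMul_vecMul, ← Matrix.SpecialLinearGroup.coe_mul,
    ← _root_.zpow_add, neg_add_eq_sub]
  have h1 : ∀ (M : Matrix (Fin (m + 3)) (Fin (m + 3)) F) (a b : Fin (m + 3)),
      (eV a ᵥ* M) ⬝ᵥ eV b = M a b := by
    intro M a b
    unfold eV
    rw [Matrix.single_one_vecMul, dotProduct_single_one]
    rfl
  exact h1 _ _ _

end Cfsg.Agent.Helper87.RJ
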