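import Mathlib
import Cfsg.Agent.Lib.Helper93.RU0
import Cfsg.Agent.Lib.Helper35.RJ0
import Cfsg.Agent.Lib.Helper87.RUPow

/-!
# RJ piece (W1) phV_span (helper87), for helper35's RJ server (S2279).
`φ_{-i}` is row `0` of `J^i`, i.e. `(φ_{-i})_j = C(i,j)`: a triangular system with unit diagonal.
-/

set_option autoImplicit false

namespace Cfsg.Agent.Helper87.RJ

open Matrix Cfsg.Agent.Helper93.RU Cfsg.Agent.Helper35.RJ

variable {F : Type*} [Field F] {m : ℕ}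

/-- `φ_{-i}` is row `0` of `J^i`: binomial coefficients. -/
theorem h87_phV_neg_apply (i : ℕ) (j : Fin (m + 3)) :
    phV m F (-(i : ℤ)) j = ((Nat.choose i j.val : ℕ) : F) := by
  unfold phV
  rw [neg_neg, zpow_natCast]
  unfold eV
  rw [Matrix.single_one_vecMul]
  show ((uEl m F) ^ i).1 0 j = _
  rw [Cfsg.Agent.Helper87.RUPow.uEl_pow_apply, if_pos (by simp)]
  simp

theorem h87_span_aux (k : ℕ) (hk : k ≤ m + 2) (ψ : Fin (m + 3) → F)
    (hψ : ∀ j : Fin (m + 3), k ≤ j.val → ψ j = 0) :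
    ∃ c : Fin (m + 2) → F, ψ = ∑ i : Fin (m + 2), c i • phV m F (-(i.val : ℤ)) := by
  induction k generalizing ψ with
  | zero =>
    refine ⟨0, ?_⟩
    ext j
    simp [hψ j (Nat.zero_le _)]
  | succ k ih =>
    have hk' : k < m + 2 := hk
    have hk3 : k < m + 3 := by omega
    obtain ⟨c', hc'⟩ := ih (by omega) (ψ - ψ ⟨k, hk3⟩ • phV m F (-(k : ℤ))) (by
      intro j hj
      rw [Pi.sub_apply, Pi.smul_apply, h87_phV_neg_apply, smul_eq_mul]
      rcases Nat.eq_or_lt_of_le hj with h | h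
      · have hjk : j = ⟨k, hk3⟩ := Fin.ext h.symm
        rw [hjk]
        simp
      · rw [hψ j h, Nat.choose_eq_zero_of_lt h]; simp)
    refine ⟨c' + Pi.single ⟨k, hk'⟩ (ψ ⟨k, hk3⟩), ?_⟩
    have hsplit : ψ = (ψ - ψ ⟨k, hk3⟩ • phV m F (-(k : ℤ))) + ψ ⟨k, hk3⟩ • phV m F (-(k : ℤ)) := by
      simp
    have hsingle : ∑ i : Fin (m + 2), (Pi.single (⟨k, hk'⟩ : Fin (m + 2)) (ψ ⟨k, hk3⟩) : Fin (m + 2) → F) i •
        phV m F (-(i.val : ℤ)) = ψ ⟨k, hk3⟩ • phV m F (-(k : ℤ)) := by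
      rw [Finset.sum_eq_single (⟨k, hk'⟩ : Fin (m + 2))]
      · rw [Pi.single_eq_same]
      · intro b _ hb
        rw [Pi.single_eq_of_ne hb, zero_smul]
      · intro h
        exact absurd (Finset.mem_univ _) h
    calc ψ = (ψ - ψ ⟨k, hk3⟩ • phV m F (-(k : ℤ))) + ψ ⟨k, hk3⟩ • phV m F (-(k : ℤ)) := hsplit
      _ = ∑ i : Fin (m + 2), c' i • phV m F (-(i.val : ℤ)) +
            ∑ i : Fin (m + 2), (Pi.single (⟨k, hk'⟩ : Fin (m + 2)) (ψ ⟨k, hk3⟩) : Fin (m + 2) → F) i •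
              phV m F (-(i.val : ℤ)) := by rw [← hc', hsingle]
      _ = ∑ i : Fin (m + 2), (c' + (Pi.single (⟨k, hk'⟩ : Fin (m + 2)) (ψ ⟨k, hk3⟩) : Fin (m + 2) → F)) i •
            phV m F (-(i.val : ℤ)) := by
          rw [← Finset.sum_add_distrib]
          refine Finset.sum_congr rfl (fun i _ => ?_)
          exact (add_smul _ _ _).symm

/-- (W1) -/
theorem phV_span (ψ : Fin (m + 3) → F) (hψ : ψ (lastI m) = 0) :
    ∃ c : Fin (m + 2) → F, ψ = ∑ i : Fin (m + 2), c i • phV m F (-(i.val : ℤ)) := by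
  refine h87_span_aux (m + 2) le_rfl ψ ?_
  intro j hj
  have : j = lastI m := Fin.ext (by
    have := j.isLt
    show j.val = m + 2
    omega)
  rw [this, hψ]

end Cfsg.Agent.Helper87.RJ
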