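import Mathlib
import Cfsg.Prelude.Def_Classical
import Cfsg.Agent.Lib.Helper36.OmegaTrans
import Cfsg.Agent.Lib.Helper43.OrthOdd

/-!
# Definitions for the `2`-fusion system of `Ω₇(q)`, `q ≡ ±3 (mod 8)` (server OM7)

`Q` is a quadratic form on `F^ι` with an orthogonal frame `f 0, …, f 6` of vectors of the same
norm `c`. The Sylow `2`-subgroup is `S0 = Ω ∩ mono`, where `mono` is the group of isometries
permuting the lines `⟨f i⟩` up to sign by a permutation in the Sylow `2`-subgroup `P16` of `S₇`.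
-/

set_option autoImplicit false

namespace Cfsg.Agent.Helper87.Om7

open Matrix QuadraticMap Cfsg.Agent.Helper36.QuadInv Cfsg.Agent.Helper36.OmegaTrans
  Cfsg.Agent.Helper43

variable {F : Type*} [Field F] [DecidableEq F] {ι : Type} [Fintype ι] [DecidableEq ι]
variable (Q : QuadraticForm F (ι → F))

/-- an orthogonal frame of seven vectors of the same norm `c` in a nondegenerate space of
dimension seven, in odd characteristic -/
structure Frame (c : F) (f : Fin 7 → ι → F) : Prop where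
  card : Fintype.card ι = 7
  two : (2 : F) ≠ 0
  c0 : c ≠ 0
  nd : (polarBilin Q).Nondegenerate
  norm : ∀ i, Q (f i) = c
  orth : ∀ i j, i ≠ j → polar Q (f i) (f j) = 0

/-- `g` maps `f i` to `± f (σ i)`; the action of the isometry group on vectors is
`actHom (⇑Q) g v = g *ᵥ v` (`Cfsg.Agent.Helper36.QuadInv.actHom`, a linear equivalence) -/
def IsMono (f : Fin 7 → ι → F) (g : OG F ⇑Q) (σ : Equiv.Perm (Fin 7)) : Prop :=
  ∀ i, actHom (⇑Q) g (f i) = f (σ i) ∨ actHom (⇑Q) g (f i) = - f (σ i)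

/-- `(0 1)(2 3)` -/
def sa : Equiv.Perm (Fin 7) := Equiv.swap 0 1 * Equiv.swap 2 3
/-- `(0 2)(4 5)` -/
def sb : Equiv.Perm (Fin 7) := Equiv.swap 0 2 * Equiv.swap 4 5

/-- a Sylow `2`-subgroup of `A₇` (dihedral of order 8) -/
def P8 : Subgroup (Equiv.Perm (Fin 7)) := Subgroup.closure {sa, sb}
/-- a Sylow `2`-subgroup of `S₇` (order 16) -/
def P16 : Subgroup (Equiv.Perm (Fin 7)) :=
  Subgroup.closure {sa, Equiv.swap 0 2, Equiv.swap 4 5}

variable {Q}

theorem isMono_one (f : Fin 7 → ι → F) : IsMono Q f 1 1 := fun i => Or.inl (act_one _)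


theorem isMono_mul {f : Fin 7 → ι → F} {g h : OG F ⇑Q} {σ τ : Equiv.Perm (Fin 7)}
    (hg : IsMono Q f g σ) (hh : IsMono Q f h τ) : IsMono Q f (g * h) (σ * τ) := by
  intro i
  show actHom (⇑Q) (g * h) (f i) = f (σ (τ i)) ∨ actHom (⇑Q) (g * h) (f i) = - f (σ (τ i))
  rw [act_mul]
  rcases hh i with h1 | h1 <;> rcases hg (τ i) with h2 | h2
  · left; rw [h1]; exact h2
  · right; rw [h1]; exact h2
  · right; rw [h1, map_neg, h2]
  · left; rw [h1, map_neg, h2, neg_neg]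

theorem act_inv_act (g : OG F ⇑Q) (v : ι → F) :
    actHom (⇑Q) g⁻¹ (actHom (⇑Q) g v) = v := by
  rw [← act_mul, inv_mul_cancel, act_one]

theorem isMono_inv {f : Fin 7 → ι → F} {g : OG F ⇑Q} {σ : Equiv.Perm (Fin 7)}
    (hg : IsMono Q f g σ) : IsMono Q f g⁻¹ σ⁻¹ := by
  intro i
  have hi : σ (σ⁻¹ i) = i := by simp
  rcases hg (σ⁻¹ i) with h1 | h1
  · left
    rw [hi] at h1
    rw [← h1]; exact act_inv_act g _
  · right
    rw [hi] at h1
    have h2 : f i = - actHom (⇑Q) g (f (σ⁻¹ i)) := by rw [h1, neg_neg]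
    rw [h2, map_neg, act_inv_act]

variable (Q)

/-- the monomial group of the frame over `P16` -/
def mono (f : Fin 7 → ι → F) : Subgroup (OG F ⇑Q) where
  carrier := {g | ∃ σ ∈ P16, IsMono Q f g σ}
  mul_mem' := by
    rintro g h ⟨σ, hσ, hg⟩ ⟨τ, hτ, hh⟩
    exact ⟨σ * τ, P16.mul_mem hσ hτ, isMono_mul hg hh⟩
  one_mem' := ⟨1, P16.one_mem, isMono_one f⟩
  inv_mem' := by
    rintro g ⟨σ, hσ, hg⟩
    exact ⟨σ⁻¹, P16.inv_mem hσ, isMono_inv hg⟩

theorem mem_mono_iff (f : Fin 7 → ι → F) (g : OG F ⇑Q) :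
    g ∈ mono Q f ↔ ∃ σ ∈ P16, IsMono Q f g σ := Iff.rfl

/-- the Sylow `2`-subgroup of `Ω`: the monomial elements of `Ω` -/
def S0 (f : Fin 7 → ι → F) : Subgroup ↥(Cfsg.Omega F ⇑Q) :=
  (mono Q f).subgroupOf (Cfsg.Omega F ⇑Q)

theorem mem_S0_iff (f : Fin 7 → ι → F) (x : ↥(Cfsg.Omega F ⇑Q)) :
    x ∈ S0 Q f ↔ (x : OG F ⇑Q) ∈ mono Q f := Subgroup.mem_subgroupOf

/-- the diagonal element `diag(-1 at i, j)`: product of the reflections in `f i` and `f j` -/
noncomputable def D (f : Fin 7 → ι → F) (i j : Fin 7) : OG F ⇑Q :=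
  reflIso' Q (f i) * reflIso' Q (f j)

/-- the double transposition `(a b)(c d)` of the frame: product of the reflections in
`f a - f b` and `f c - f d` -/
noncomputable def W (f : Fin 7 → ι → F) (a b c d : Fin 7) : OG F ⇑Q :=
  reflIso' Q (f a - f b) * reflIso' Q (f c - f d)

end Cfsg.Agent.Helper87.Om7
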