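import Mathlib

/-!
# O2520 piece (S3D) inverts_of_order4 (helper87), for helper55's O2520 server (S0984).
`P` of order 9 and exponent 3, self-centralizing, `u` of order 4 normalizing `P`: `u²` inverts `P`.
-/

set_option autoImplicit false

namespace Cfsg.Agent.Helper87.O2520

universe u

/-- an element of exponent 3 equal to its inverse is trivial -/
theorem h87_eq_one_of_eq_inv {G : Type u} [Group G] (p : G) (h3 : p ^ 3 = 1) (h : p = p⁻¹) : p = 1 := by
  have h2 : p * p = 1 := by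
    nth_rewrite 2 [h]
    exact mul_inv_cancel p
  have : p ^ 3 = p := by
    rw [pow_succ, pow_two, h2, one_mul]
  rw [← this, h3]

/-- (S3D) -/
theorem inverts_of_order4 {G : Type u} [Group G] (P : Subgroup G) (hP : Nat.card P = 9)
    (hexp : ∀ x ∈ P, x ^ 3 = 1)
    (hC : Subgroup.centralizer (P : Set G) = P) (u : G) (hu : orderOf u = 4)
    (hn : u ∈ Subgroup.normalizer (P : Set G)) :
    ∀ x ∈ P, u ^ 2 * x * (u ^ 2)⁻¹ = x⁻¹ := by
  haveI : Fact (Nat.Prime 3) := ⟨by norm_num⟩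
  haveI : Finite P := Nat.finite_of_card_ne_zero (by rw [hP]; norm_num)
  have hcomm : ∀ x ∈ P, ∀ y ∈ P, x * y = y * x := by
    intro x hx y hy
    have hx' : x ∈ Subgroup.centralizer (P : Set G) := by rw [hC]; exact hx
    exact (Subgroup.mem_centralizer_iff.mp hx' y hy).symm
  have hu4 : u ^ 4 = 1 := by rw [← hu]; exact pow_orderOf_eq_one u
  have hv1 : u ^ 2 ≠ 1 := by
    intro h
    have : orderOf u ∣ 2 := orderOf_dvd_of_pow_eq_one h
    rw [hu] at this
    norm_num at this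
  have hφP : ∀ x ∈ P, MulAut.conj u x ∈ P := fun x hx => by
    rw [MulAut.conj_apply]; exact (Subgroup.mem_normalizer_iff.mp hn x).mp hx
  have hψφ : ∀ x, MulAut.conj (u ^ 2) x = MulAut.conj u (MulAut.conj u x) := by
    intro x
    rw [map_pow, pow_two, MulAut.mul_apply]
  have hψP : ∀ x ∈ P, MulAut.conj (u ^ 2) x ∈ P := fun x hx => by
    rw [hψφ]; exact hφP _ (hφP _ hx)
  have hψψ : ∀ x, MulAut.conj (u ^ 2) (MulAut.conj (u ^ 2) x) = x := by
    intro x
    have h22 : u ^ 2 * u ^ 2 = 1 := by rw [← pow_add]; exact hu4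
    have hinv : (u ^ 2)⁻¹ = u ^ 2 := inv_eq_of_mul_eq_one_left h22
    rw [MulAut.conj_apply, MulAut.conj_apply, hinv]
    calc u ^ 2 * (u ^ 2 * x * u ^ 2) * u ^ 2 = (u ^ 2 * u ^ 2) * x * (u ^ 2 * u ^ 2) := by group
      _ = x := by rw [h22]; simp
  intro x hx
  have hgoal : u ^ 2 * x * (u ^ 2)⁻¹ = MulAut.conj (u ^ 2) x := (MulAut.conj_apply _ _).symm
  rw [hgoal]
  obtain ⟨ψ, hψ⟩ : ∃ ψ : MulAut G, ψ = MulAut.conj (u ^ 2) := ⟨_, rfl⟩
  rw [← hψ]
  rw [← hψ] at hψP hψψ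
  by_contra hne
  -- the fixed element `f`
  obtain ⟨f, hf⟩ : ∃ f : G, f = x * ψ x := ⟨_, rfl⟩
  have hfP : f ∈ P := by rw [hf]; exact P.mul_mem hx (hψP x hx)
  have hf1 : f ≠ 1 := by
    intro h
    rw [hf] at h
    exact hne (eq_inv_of_mul_eq_one_right h)
  have hψf : ψ f = f := by
    rw [hf, map_mul, hψψ]
    exact hcomm _ (hψP x hx) _ hx
  -- the inverted element `g`
  obtain ⟨y, hy, hyne⟩ : ∃ y ∈ P, ψ y ≠ y := by
    by_contra hall
    push_neg at hall
    have hmem : u ^ 2 ∈ Subgroup.centralizer (P : Set G) := by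
      rw [Subgroup.mem_centralizer_iff]
      intro y hy
      have h1 := hall y hy
      rw [hψ, MulAut.conj_apply] at h1
      calc y * u ^ 2 = (u ^ 2 * y * (u ^ 2)⁻¹) * u ^ 2 := by rw [h1]
        _ = u ^ 2 * y := by group
    rw [hC] at hmem
    have h3 := hexp _ hmem
    have h6 : u ^ 6 = 1 := by rw [← h3, ← pow_mul]
    have : u ^ 2 = 1 := by
      calc u ^ 2 = u ^ 6 * (u ^ 4)⁻¹ := by group
        _ = 1 := by rw [h6, hu4]; simp
    exact hv1 this
  obtain ⟨g, hg⟩ : ∃ g : G, g = y⁻¹ * ψ y := ⟨_, rfl⟩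
  have hgP : g ∈ P := by rw [hg]; exact P.mul_mem (P.inv_mem hy) (hψP y hy)
  have hg1 : g ≠ 1 := by
    intro h
    rw [hg] at h
    exact hyne (inv_mul_eq_one.mp h).symm
  have hψg : ψ g = g⁻¹ := by
    rw [hg, map_mul, map_inv, hψψ, mul_inv_rev, inv_inv]
  have hof : orderOf f = 3 := orderOf_eq_prime (hexp f hfP) hf1
  have hog : orderOf g = 3 := orderOf_eq_prime (hexp g hgP) hg1
  -- key: fixed and inverted implies trivial
  have key : ∀ p ∈ P, ψ p = p → ψ p = p⁻¹ → p = 1 := by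
    intro p hp h1 h2
    exact h87_eq_one_of_eq_inv p (hexp p hp) (h1.symm.trans h2)
  have hfpow : ∀ a : ℕ, f ^ a ∈ P := fun a => P.pow_mem hfP a
  have hgpow : ∀ b : ℕ, g ^ b ∈ P := fun b => P.pow_mem hgP b
  -- the parametrization of `P`
  let Φ : Fin 3 × Fin 3 → P := fun ab => ⟨f ^ ab.1.val * g ^ ab.2.val, P.mul_mem (hfpow _) (hgpow _)⟩
  have hΦinj : Function.Injective Φ := by
    rintro ⟨a, b⟩ ⟨a', b'⟩ hab
    have hab' : f ^ a.val * g ^ b.val = f ^ a'.val * g ^ b'.val := congrArg Subtype.val hab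
    have hz : (f ^ a'.val)⁻¹ * f ^ a.val = g ^ b'.val * (g ^ b.val)⁻¹ := by
      calc (f ^ a'.val)⁻¹ * f ^ a.val
          = (f ^ a'.val)⁻¹ * (f ^ a.val * g ^ b.val) * (g ^ b.val)⁻¹ := by group
        _ = (f ^ a'.val)⁻¹ * (f ^ a'.val * g ^ b'.val) * (g ^ b.val)⁻¹ := by rw [hab']
        _ = g ^ b'.val * (g ^ b.val)⁻¹ := by group
    have hzP : (f ^ a'.val)⁻¹ * f ^ a.val ∈ P := P.mul_mem (P.inv_mem (hfpow _)) (hfpow _)
    have hz1 : ψ ((f ^ a'.val)⁻¹ * f ^ a.val) = (f ^ a'.val)⁻¹ * f ^ a.val := by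
      rw [map_mul, map_inv, map_pow, map_pow, hψf]
    have hz2 : ψ ((f ^ a'.val)⁻¹ * f ^ a.val) = ((f ^ a'.val)⁻¹ * f ^ a.val)⁻¹ := by
      rw [hz, map_mul, map_inv, map_pow, map_pow, hψg, inv_pow, inv_pow, inv_inv, mul_inv_rev,
        inv_inv]
      exact hcomm _ (P.inv_mem (hgpow _)) _ (hgpow _)
    have hone := key _ hzP hz1 hz2
    have hfa : f ^ a.val = f ^ a'.val := by
      have := inv_mul_eq_one.mp hone
      exact this.symm
    have hgb : g ^ b.val = g ^ b'.val := by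
      rw [hone] at hz
      have := mul_inv_eq_one.mp hz.symm
      exact this.symm
    have ha : a = a' := by
      have h1 := (pow_eq_pow_iff_modEq).mp hfa
      rw [hof] at h1
      have := Nat.ModEq.eq_of_lt_of_lt h1 a.isLt a'.isLt
      exact Fin.ext this
    have hb : b = b' := by
      have h1 := (pow_eq_pow_iff_modEq).mp hgb
      rw [hog] at h1
      have := Nat.ModEq.eq_of_lt_of_lt h1 b.isLt b'.isLt
      exact Fin.ext this
    rw [ha, hb]
  have hΦsurj : Function.Surjective Φ := by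
    have hbij := Function.Injective.bijective_of_nat_card_le hΦinj (by
      rw [hP, Nat.card_eq_fintype_card]; simp)
    exact hbij.2
  -- `φ g` is inverted by `ψ`, so it is a power of `g`
  have hφg : MulAut.conj u g ∈ P := hφP g hgP
  have hψφg : ψ (MulAut.conj u g) = (MulAut.conj u g)⁻¹ := by
    have h1 : ψ (MulAut.conj u g) = MulAut.conj u (ψ g) := by
      rw [hψ, hψφ, hψφ]
    rw [h1, hψg, map_inv]
  obtain ⟨⟨a, b⟩, hab⟩ := hΦsurj ⟨MulAut.conj u g, hφg⟩
  have hab' : f ^ a.val * g ^ b.val = MulAut.conj u g := congrArg Subtype.val hab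
  have hfa1 : f ^ a.val = 1 := by
    have h1 : ψ (f ^ a.val * g ^ b.val) = f ^ a.val * (g ^ b.val)⁻¹ := by
      rw [map_mul, map_pow, map_pow, hψf, hψg, inv_pow]
    have h2 : ψ (f ^ a.val * g ^ b.val) = (g ^ b.val)⁻¹ * (f ^ a.val)⁻¹ := by
      rw [hab', hψφg, ← hab', mul_inv_rev]
    have h3 : f ^ a.val * (g ^ b.val)⁻¹ = (f ^ a.val)⁻¹ * (g ^ b.val)⁻¹ := by
      rw [← h1, h2]
      exact hcomm _ (P.inv_mem (hgpow _)) _ (P.inv_mem (hfpow _))
    have h4 : f ^ a.val = (f ^ a.val)⁻¹ := mul_right_cancel h3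
    exact h87_eq_one_of_eq_inv _ (hexp _ (hfpow _)) h4
  have hφgb : MulAut.conj u g = g ^ b.val := by
    rw [← hab', hfa1, one_mul]
  -- `ψ g = g ^ (b * b)`
  have hψgb : ψ g = g ^ (b.val * b.val) := by
    rw [hψ, hψφ, hφgb, map_pow, hφgb, ← pow_mul]
  have hdvd : 3 ∣ b.val * b.val + 1 := by
    have h1 : g ^ (b.val * b.val + 1) = 1 := by
      rw [pow_succ, ← hψgb, hψg, inv_mul_cancel]
    have h2 := orderOf_dvd_of_pow_eq_one h1
    rw [hog] at h2
    exact h2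
  have hb3 := b.isLt
  interval_cases hb : b.val <;> omega

end Cfsg.Agent.Helper87.O2520
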