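import Mathlib
import Cfsg.Agent.Lib.Helper87.O2520S3D

/-!
# O2520 / S3C piece (Q1), part a (helper87): the decomposition lemma.
`P` abelian of order 9 and exponent 3, `ψ` an automorphism preserving `P` with a nontrivial fixed point
`f` and a nontrivial inverted point `g`: every element of `P` is `f ^ i * g ^ j`.
-/

set_option autoImplicit false

namespace Cfsg.Agent.Helper87.O2520

universe u

theorem h87_dec {G : Type u} [Group G] (P : Subgroup G) (hP : Nat.card P = 9)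
    (hexp : ∀ x ∈ P, x ^ 3 = 1) (hcomm : ∀ x ∈ P, ∀ y ∈ P, x * y = y * x)
    (ψ : MulAut G) (f g : G) (hfP : f ∈ P) (hgP : g ∈ P) (hf1 : f ≠ 1) (hg1 : g ≠ 1)
    (hψf : ψ f = f) (hψg : ψ g = g⁻¹) :
    ∀ z ∈ P, ∃ i j : ℕ, z = f ^ i * g ^ j := by
  haveI : Fact (Nat.Prime 3) := ⟨by norm_num⟩
  haveI : Finite P := Nat.finite_of_card_ne_zero (by rw [hP]; norm_num)
  have hof : orderOf f = 3 := orderOf_eq_prime (hexp f hfP) hf1
  have hog : orderOf g = 3 := orderOf_eq_prime (hexp g hgP) hg1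
  have key : ∀ p ∈ P, ψ p = p → ψ p = p⁻¹ → p = 1 := by
    intro p hp h1 h2
    exact h87_eq_one_of_eq_inv p (hexp p hp) (h1.symm.trans h2)
  have hfpow : ∀ a : ℕ, f ^ a ∈ P := fun a => P.pow_mem hfP a
  have hgpow : ∀ b : ℕ, g ^ b ∈ P := fun b => P.pow_mem hgP b
  let Φ : Fin 3 × Fin 3 → P := fun ab => ⟨f ^ ab.1.val * g ^ ab.2.val, P.mul_mem (hfpow _) (hgpow _)⟩
  have hΦinj : Function.Injective Φ := by
    rintro ⟨a, b⟩ ⟨a', b'⟩ hab
    have hab' : f ^ a.val * g ^ b.val = f ^ a'.val * g ^ b'.val := congrArg Subtype.val hab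
    have hz : (f ^ a'.val)⁻¹ * f ^ a.val = g ^ b'.val * (g ^ b.val)⁻¹ := by
      calc (f ^ a'.val)⁻¹ * f ^ a.val
          = (f ^ a'.val)⁻¹ * (f ^ a.val * g ^ b.val) * (g ^ b.val)⁻¹ := by group
        _ = (f ^ a'.val)⁻¹ * (f ^ a'.val * g ^ b'.val) * (g ^ b.val)⁻¹ := by rw [hab']
        _ = g ^ b'.val * (g ^ b.val)⁻¹ := by group
    have hzP : (f ^ a'.val)⁻¹ * f ^ a.val ∈ P := P.mul_mem (P.inv_mem (hfpow _)) (hfpow _)
    have hz1 : ψ ((f ^ a'.val)⁻¹ * f ^ a.val) = (f ^ a'.val)⁻¹ * f ^ a.val := by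
      rw [map_mul, map_inv, map_pow, map_pow, hψf]
    have hz2 : ψ ((f ^ a'.val)⁻¹ * f ^ a.val) = ((f ^ a'.val)⁻¹ * f ^ a.val)⁻¹ := by
      rw [hz, map_mul, map_inv, map_pow, map_pow, hψg, inv_pow, inv_pow, inv_inv, mul_inv_rev,
        inv_inv]
      exact hcomm _ (P.inv_mem (hgpow _)) _ (hgpow _)
    have hone := key _ hzP hz1 hz2
    have hfa : f ^ a.val = f ^ a'.val := (inv_mul_eq_one.mp hone).symm
    have hgb : g ^ b.val = g ^ b'.val := by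
      rw [hone] at hz
      exact (mul_inv_eq_one.mp hz.symm).symm
    have ha : a = a' := by
      have h1 := (pow_eq_pow_iff_modEq).mp hfa
      rw [hof] at h1
      exact Fin.ext (Nat.ModEq.eq_of_lt_of_lt h1 a.isLt a'.isLt)
    have hb : b = b' := by
      have h1 := (pow_eq_pow_iff_modEq).mp hgb
      rw [hog] at h1
      exact Fin.ext (Nat.ModEq.eq_of_lt_of_lt h1 b.isLt b'.isLt)
    rw [ha, hb]
  have hΦsurj : Function.Surjective Φ :=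
    (Function.Injective.bijective_of_nat_card_le hΦinj (by
      rw [hP, Nat.card_eq_fintype_card]; simp)).2
  intro z hz
  obtain ⟨⟨a, b⟩, hab⟩ := hΦsurj ⟨z, hz⟩
  exact ⟨a.val, b.val, (congrArg Subtype.val hab).symm⟩

/-- a `ψ`-fixed element of `P` is a power of `f` -/
theorem h87_dec_fixed {G : Type u} [Group G] (P : Subgroup G) (hP : Nat.card P = 9)
    (hexp : ∀ x ∈ P, x ^ 3 = 1) (hcomm : ∀ x ∈ P, ∀ y ∈ P, x * y = y * x)
    (ψ : MulAut G) (f g : G) (hfP : f ∈ P) (hgP : g ∈ P) (hf1 : f ≠ 1) (hg1 : g ≠ 1)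
    (hψf : ψ f = f) (hψg : ψ g = g⁻¹) (z : G) (hz : z ∈ P) (hψz : ψ z = z) :
    ∃ i : ℕ, z = f ^ i := by
  obtain ⟨i, j, rfl⟩ := h87_dec P hP hexp hcomm ψ f g hfP hgP hf1 hg1 hψf hψg z hz
  refine ⟨i, ?_⟩
  have h1 : ψ (f ^ i * g ^ j) = f ^ i * (g ^ j)⁻¹ := by
    rw [map_mul, map_pow, map_pow, hψf, hψg, inv_pow]
  rw [h1] at hψz
  have h2 : (g ^ j)⁻¹ = g ^ j := mul_left_cancel hψz
  have h3 : g ^ j = 1 := h87_eq_one_of_eq_inv _ (hexp _ (P.pow_mem hgP j)) h2.symm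
  rw [h3, mul_one]

/-- a `ψ`-inverted element of `P` is a power of `g` -/
theorem h87_dec_inverted {G : Type u} [Group G] (P : Subgroup G) (hP : Nat.card P = 9)
    (hexp : ∀ x ∈ P, x ^ 3 = 1) (hcomm : ∀ x ∈ P, ∀ y ∈ P, x * y = y * x)
    (ψ : MulAut G) (f g : G) (hfP : f ∈ P) (hgP : g ∈ P) (hf1 : f ≠ 1) (hg1 : g ≠ 1)
    (hψf : ψ f = f) (hψg : ψ g = g⁻¹) (z : G) (hz : z ∈ P) (hψz : ψ z = z⁻¹) :
    ∃ j : ℕ, z = g ^ j := by
  obtain ⟨i, j, rfl⟩ := h87_dec P hP hexp hcomm ψ f g hfP hgP hf1 hg1 hψf hψg z hz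
  refine ⟨j, ?_⟩
  have h1 : ψ (f ^ i * g ^ j) = f ^ i * (g ^ j)⁻¹ := by
    rw [map_mul, map_pow, map_pow, hψf, hψg, inv_pow]
  rw [h1, mul_inv_rev] at hψz
  have h2 : f ^ i * (g ^ j)⁻¹ = (f ^ i)⁻¹ * (g ^ j)⁻¹ := by
    rw [hψz]
    exact hcomm _ (P.inv_mem (P.pow_mem hgP j)) _ (P.inv_mem (P.pow_mem hfP i))
  have h3 : f ^ i = (f ^ i)⁻¹ := mul_right_cancel h2
  have h4 : f ^ i = 1 := h87_eq_one_of_eq_inv _ (hexp _ (P.pow_mem hfP i)) h3
  rw [h4, one_mul]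

/-- a power of an element `f` with `f ^ 3 = 1` is `1`, `f` or `f⁻¹` -/
theorem h87_pow_cases {G : Type u} [Group G] (f : G) (h3 : f ^ 3 = 1) (i : ℕ) :
    f ^ i = 1 ∨ f ^ i = f ∨ f ^ i = f⁻¹ := by
  have h : f ^ i = f ^ (i % 3) := by
    conv_lhs => rw [← Nat.div_add_mod i 3, pow_add, pow_mul, h3, one_pow, one_mul]
  have hlt : i % 3 < 3 := Nat.mod_lt _ (by norm_num)
  rw [h]
  interval_cases (i % 3)
  · left; simp
  · right; left; simp
  · right; right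
    have : f ^ 2 * f = 1 := by rw [← pow_succ]; exact h3
    exact eq_inv_of_mul_eq_one_left this

end Cfsg.Agent.Helper87.O2520
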