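import Mathlib
import Cfsg.Agent.Lib.Helper87.O2520S3C_Q1a

/-!
# O2520 / S3C piece (Q1) s3c_structure (helper87), for helper20's S3C sub-server (S0984).
-/

set_option autoImplicit false

namespace Cfsg.Agent.Helper87.O2520

universe u

/-- an involution of `G` does not centralize the self-centralizing subgroup `P` of exponent 3 -/
theorem h87_faithful {G : Type u} [Group G] (P : Subgroup G) (hexp : ∀ x ∈ P, x ^ 3 = 1)
    (hC : Subgroup.centralizer (P : Set G) = P) (t : G) (ht2 : t * t = 1) (ht1 : t ≠ 1)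
    (h : ∀ y ∈ P, t * y * t⁻¹ = y) : False := by
  have hmem : t ∈ Subgroup.centralizer (P : Set G) := by
    rw [Subgroup.mem_centralizer_iff]
    intro y hy
    have h1 := h y hy
    calc y * t = (t * y * t⁻¹) * t := by rw [h1]
      _ = t * y := by group
  rw [hC] at hmem
  have h3 := hexp t hmem
  apply ht1
  calc t = (t * t) * t := by rw [ht2, one_mul]
    _ = t ^ 3 := by rw [pow_succ, pow_two]
    _ = 1 := h3

/-- core of (Q1): `a`, `b` distinct commuting involutions of `N(P)`, `a` does not invert all of `P` -/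
theorem h87_q1_core {G : Type u} [Group G] (P : Subgroup G) (hP : Nat.card P = 9)
    (hexp : ∀ x ∈ P, x ^ 3 = 1) (hC : Subgroup.centralizer (P : Set G) = P)
    (a b : G) (ha : a ∈ Subgroup.normalizer (P : Set G)) (hb : b ∈ Subgroup.normalizer (P : Set G))
    (ha2 : a * a = 1) (hb2 : b * b = 1) (ha1 : a ≠ 1) (hb1 : b ≠ 1) (hne : a ≠ b)
    (hab : a * b = b * a) (hninv : ¬ ∀ z ∈ P, a * z * a⁻¹ = z⁻¹) :
    ∃ x x' a b : G, x ∈ P ∧ x' ∈ P ∧ x ≠ 1 ∧ x' ≠ 1 ∧
      a ∈ Subgroup.normalizer (P : Set G) ∧ b ∈ Subgroup.normalizer (P : Set G) ∧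
      orderOf a = 2 ∧ orderOf b = 2 ∧ a * b = b * a ∧
      a * x * a⁻¹ = x ∧ a * x' * a⁻¹ = x'⁻¹ ∧ b * x * b⁻¹ = x⁻¹ ∧ b * x' * b⁻¹ = x' := by
  haveI : Fact (Nat.Prime 2) := ⟨Nat.prime_two⟩
  have hcomm : ∀ x ∈ P, ∀ y ∈ P, x * y = y * x := by
    intro x hx y hy
    have hx' : x ∈ Subgroup.centralizer (P : Set G) := by rw [hC]; exact hx
    exact (Subgroup.mem_centralizer_iff.mp hx' y hy).symm
  have hainv : a⁻¹ = a := inv_eq_of_mul_eq_one_left ha2
  have hbinv : b⁻¹ = b := inv_eq_of_mul_eq_one_left hb2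
  have hψaP : ∀ x ∈ P, MulAut.conj a x ∈ P := fun x hx => by
    rw [MulAut.conj_apply]; exact (Subgroup.mem_normalizer_iff.mp ha x).mp hx
  have hψbP : ∀ x ∈ P, MulAut.conj b x ∈ P := fun x hx => by
    rw [MulAut.conj_apply]; exact (Subgroup.mem_normalizer_iff.mp hb x).mp hx
  have hψaa : ∀ x, MulAut.conj a (MulAut.conj a x) = x := by
    intro x
    rw [← MulAut.mul_apply, ← map_mul, ha2, map_one, MulAut.one_apply]
  have hψab : ∀ x, MulAut.conj a (MulAut.conj b x) = MulAut.conj b (MulAut.conj a x) := by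
    intro x
    rw [← MulAut.mul_apply, ← MulAut.mul_apply, ← map_mul, ← map_mul, hab]
  -- the fixed point `x`
  have hex : ∃ z ∈ P, a * z * a⁻¹ ≠ z⁻¹ := by
    by_contra h
    push_neg at h
    exact hninv h
  obtain ⟨z0, hz0, hz0ne⟩ := hex
  obtain ⟨x, hxdef⟩ : ∃ x : G, x = z0 * MulAut.conj a z0 := ⟨_, rfl⟩
  have hxP : x ∈ P := by rw [hxdef]; exact P.mul_mem hz0 (hψaP z0 hz0)
  have hx1 : x ≠ 1 := by
    intro h
    rw [hxdef] at h
    apply hz0ne
    rw [← MulAut.conj_apply]
    exact eq_inv_of_mul_eq_one_right h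
  have hax : MulAut.conj a x = x := by
    rw [hxdef, map_mul, hψaa]
    exact hcomm _ (hψaP z0 hz0) _ hz0
  -- the inverted point `x'`
  have hey : ∃ y ∈ P, a * y * a⁻¹ ≠ y := by
    by_contra h
    push_neg at h
    exact h87_faithful P hexp hC a ha2 ha1 h
  obtain ⟨y0, hy0, hy0ne⟩ := hey
  obtain ⟨x', hx'def⟩ : ∃ x' : G, x' = y0⁻¹ * MulAut.conj a y0 := ⟨_, rfl⟩
  have hx'P : x' ∈ P := by rw [hx'def]; exact P.mul_mem (P.inv_mem hy0) (hψaP y0 hy0)
  have hx'1 : x' ≠ 1 := by
    intro h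
    rw [hx'def] at h
    apply hy0ne
    rw [← MulAut.conj_apply]
    exact (inv_mul_eq_one.mp h).symm
  have hax' : MulAut.conj a x' = x'⁻¹ := by
    rw [hx'def, map_mul, map_inv, hψaa, mul_inv_rev, inv_inv]
  -- images under `b`
  have hbx_fixed : MulAut.conj a (MulAut.conj b x) = MulAut.conj b x := by
    rw [hψab, hax]
  have hbx'_inv : MulAut.conj a (MulAut.conj b x') = (MulAut.conj b x')⁻¹ := by
    rw [hψab, hax', map_inv]
  obtain ⟨i, hi⟩ := h87_dec_fixed P hP hexp hcomm (MulAut.conj a) x x' hxP hx'P hx1 hx'1 hax hax'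
    (MulAut.conj b x) (hψbP x hxP) hbx_fixed
  obtain ⟨j, hj⟩ := h87_dec_inverted P hP hexp hcomm (MulAut.conj a) x x' hxP hx'P hx1 hx'1 hax hax'
    (MulAut.conj b x') (hψbP x' hx'P) hbx'_inv
  have hbx_ne : MulAut.conj b x ≠ 1 := by
    intro h
    apply hx1
    exact EmbeddingLike.map_eq_one_iff.mp h
  have hbx'_ne : MulAut.conj b x' ≠ 1 := by
    intro h
    apply hx'1
    exact EmbeddingLike.map_eq_one_iff.mp h
  have hbx_cases : MulAut.conj b x = x ∨ MulAut.conj b x = x⁻¹ := by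
    rcases h87_pow_cases x (hexp x hxP) i with h | h | h
    · exact absurd (hi.trans h) hbx_ne
    · left; exact hi.trans h
    · right; exact hi.trans h
  have hbx'_cases : MulAut.conj b x' = x' ∨ MulAut.conj b x' = x'⁻¹ := by
    rcases h87_pow_cases x' (hexp x' hx'P) j with h | h | h
    · exact absurd (hj.trans h) hbx'_ne
    · left; exact hj.trans h
    · right; exact hj.trans h
  have hoa : orderOf a = 2 := orderOf_eq_prime (by rw [pow_two]; exact ha2) ha1
  have hob : orderOf b = 2 := orderOf_eq_prime (by rw [pow_two]; exact hb2) hb1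
  -- the product `a * b`
  have hab2 : (a * b) * (a * b) = 1 := by
    calc (a * b) * (a * b) = a * (b * a) * b := by group
      _ = a * (a * b) * b := by rw [hab]
      _ = (a * a) * (b * b) := by group
      _ = 1 := by rw [ha2, hb2, one_mul]
  have hab1 : a * b ≠ 1 := by
    intro h
    apply hne
    have : a = b⁻¹ := eq_inv_of_mul_eq_one_left h
    rw [this, hbinv]
  have hconj : MulAut.conj (a * b) = MulAut.conj a * MulAut.conj b := map_mul _ _ _
  -- every element of `P` is `x ^ i * x' ^ j`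
  have hdec := h87_dec P hP hexp hcomm (MulAut.conj a) x x' hxP hx'P hx1 hx'1 hax hax'
  rcases hbx_cases with hbx | hbx <;> rcases hbx'_cases with hbx' | hbx'
  · -- `b` centralizes `P`
    exfalso
    apply h87_faithful P hexp hC b hb2 hb1
    intro z hz
    obtain ⟨i, j, rfl⟩ := hdec z hz
    rw [← MulAut.conj_apply, map_mul, map_pow, map_pow, hbx, hbx']
  · -- `a * b` centralizes `P`
    exfalso
    apply h87_faithful P hexp hC (a * b) hab2 hab1
    intro z hz
    obtain ⟨i, j, rfl⟩ := hdec z hz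
    rw [← MulAut.conj_apply, hconj, MulAut.mul_apply, map_mul, map_pow, map_pow, hbx, hbx',
      map_mul, map_pow, map_pow, hax, map_inv, hax', inv_inv]
  · exact ⟨x, x', a, b, hxP, hx'P, hx1, hx'1, ha, hb, hoa, hob, hab,
      by rw [← MulAut.conj_apply]; exact hax, by rw [← MulAut.conj_apply]; exact hax',
      by rw [← MulAut.conj_apply]; exact hbx, by rw [← MulAut.conj_apply]; exact hbx'⟩
  · refine ⟨x, x', a, a * b, hxP, hx'P, hx1, hx'1, ha,
      (Subgroup.normalizer (P : Set G)).mul_mem ha hb, hoa,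
      orderOf_eq_prime (by rw [pow_two]; exact hab2) hab1, ?_,
      by rw [← MulAut.conj_apply]; exact hax, by rw [← MulAut.conj_apply]; exact hax', ?_, ?_⟩
    · calc a * (a * b) = a * (b * a) := by rw [hab]
        _ = a * b * a := by group
    · rw [← MulAut.conj_apply, hconj, MulAut.mul_apply, hbx, map_inv, hax]
    · rw [← MulAut.conj_apply, hconj, MulAut.mul_apply, hbx', map_inv, hax', inv_inv]

/-- (Q1) -/
theorem s3c_structure {G : Type u} [Group G] [Finite G] (P : Subgroup G) (hP : Nat.card P = 9)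
    (hexp : ∀ x ∈ P, x ^ 3 = 1) (hC : Subgroup.centralizer (P : Set G) = P)
    (hN : Nat.card (Subgroup.normalizer (P : Set G)) = 36)
    (h4 : ∀ u ∈ Subgroup.normalizer (P : Set G), orderOf u ≠ 4) :
    ∃ x x' a b : G, x ∈ P ∧ x' ∈ P ∧ x ≠ 1 ∧ x' ≠ 1 ∧
      a ∈ Subgroup.normalizer (P : Set G) ∧ b ∈ Subgroup.normalizer (P : Set G) ∧
      orderOf a = 2 ∧ orderOf b = 2 ∧ a * b = b * a ∧
      a * x * a⁻¹ = x ∧ a * x' * a⁻¹ = x'⁻¹ ∧ b * x * b⁻¹ = x⁻¹ ∧ b * x' * b⁻¹ = x' := by
  haveI : Fact (Nat.Prime 2) := ⟨Nat.prime_two⟩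
  -- a subgroup `K` of order 4 of `N(P)`
  obtain ⟨K, hK⟩ := Sylow.exists_subgroup_card_pow_prime
    (G := ↥(Subgroup.normalizer (P : Set G))) 2 (n := 2) (by rw [hN]; norm_num)
  have hK4 : Nat.card K = 4 := by rw [hK]; norm_num
  -- exponent 2
  have hsq : ∀ k : ↥(Subgroup.normalizer (P : Set G)), k ∈ K → k * k = 1 := by
    intro k hk
    have h1 : orderOf (⟨k, hk⟩ : K) ∣ 4 := by
      rw [← hK4]; exact orderOf_dvd_natCard _
    have h2 : orderOf (⟨k, hk⟩ : K) = orderOf k := Subgroup.orderOf_mk k hk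
    have h3 : orderOf (k : G) = orderOf k := Subgroup.orderOf_coe k
    have h5 : orderOf k ≠ 4 := by
      rw [← h3]; exact h4 k.1 k.2
    rw [h2] at h1
    have h6 : orderOf k ∣ 2 := by
      have hle : orderOf k ≤ 4 := Nat.le_of_dvd (by norm_num) h1
      interval_cases h : orderOf k
      · simp at h1
      · norm_num
      · norm_num
      · norm_num at h1
      · exact absurd rfl h5
    have := orderOf_dvd_iff_pow_eq_one.mp h6
    rwa [pow_two] at this
  -- two distinct involutions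
  haveI : Nontrivial K := Finite.one_lt_card_iff_nontrivial.mp (by rw [hK4]; norm_num)
  obtain ⟨a, ha1⟩ := exists_ne (1 : K)
  have ha2 : a * a = 1 := Subtype.ext (hsq a.1 a.2)
  have hoa : orderOf a = 2 := orderOf_eq_prime (by rw [pow_two]; exact ha2) ha1
  have hzp : Subgroup.zpowers a ≠ ⊤ := by
    intro h
    have h1 : Nat.card (Subgroup.zpowers a) = 2 := by rw [Nat.card_zpowers, hoa]
    rw [h, Subgroup.card_top, hK4] at h1
    norm_num at h1
  obtain ⟨b, hbz⟩ : ∃ b : K, b ∉ Subgroup.zpowers a := by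
    by_contra h
    push_neg at h
    exact hzp ((Subgroup.eq_top_iff' _).mpr h)
  have hb1 : b ≠ 1 := by
    intro h
    apply hbz
    rw [h]
    exact Subgroup.one_mem _
  have hab_ne : a ≠ b := by
    intro h
    apply hbz
    rw [← h]
    exact Subgroup.mem_zpowers a
  have hb2 : b * b = 1 := Subtype.ext (hsq b.1 b.2)
  have hab2 : (a * b) * (a * b) = 1 := Subtype.ext (hsq (a * b).1 (a * b).2)
  have hcomm_ab : a * b = b * a := by
    have h1 : a * b = (a * b)⁻¹ := eq_inv_of_mul_eq_one_left hab2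
    rw [h1, mul_inv_rev, inv_eq_of_mul_eq_one_left ha2, inv_eq_of_mul_eq_one_left hb2]
  -- down to `G`
  obtain ⟨a', ha'def⟩ : ∃ a' : G, a' = ((a : ↥(Subgroup.normalizer (P : Set G))) : G) := ⟨_, rfl⟩
  obtain ⟨b', hb'def⟩ : ∃ b' : G, b' = ((b : ↥(Subgroup.normalizer (P : Set G))) : G) := ⟨_, rfl⟩
  have ha'N : a' ∈ Subgroup.normalizer (P : Set G) := by rw [ha'def]; exact a.1.2
  have hb'N : b' ∈ Subgroup.normalizer (P : Set G) := by rw [hb'def]; exact b.1.2
  have ha'2 : a' * a' = 1 := by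
    rw [ha'def]
    have := congrArg (fun k : K => ((k : ↥(Subgroup.normalizer (P : Set G))) : G)) ha2
    simpa using this
  have hb'2 : b' * b' = 1 := by
    rw [hb'def]
    have := congrArg (fun k : K => ((k : ↥(Subgroup.normalizer (P : Set G))) : G)) hb2
    simpa using this
  have ha'1 : a' ≠ 1 := by
    intro h
    apply ha1
    apply Subtype.ext
    apply Subtype.ext
    rw [ha'def] at h
    simpa using h
  have hb'1 : b' ≠ 1 := by
    intro h
    apply hb1
    apply Subtype.ext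
    apply Subtype.ext
    rw [hb'def] at h
    simpa using h
  have hne' : a' ≠ b' := by
    intro h
    apply hab_ne
    apply Subtype.ext
    apply Subtype.ext
    rw [ha'def, hb'def] at h
    exact h
  have hcomm' : a' * b' = b' * a' := by
    rw [ha'def, hb'def]
    have := congrArg (fun k : K => ((k : ↥(Subgroup.normalizer (P : Set G))) : G)) hcomm_ab
    simpa using this
  -- at most one of `a'`, `b'` inverts all of `P`
  by_cases hinva : ∀ z ∈ P, a' * z * a'⁻¹ = z⁻¹
  · by_cases hinvb : ∀ z ∈ P, b' * z * b'⁻¹ = z⁻¹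
    · exfalso
      have hab'2 : (a' * b') * (a' * b') = 1 := by
        calc (a' * b') * (a' * b') = a' * (b' * a') * b' := by group
          _ = a' * (a' * b') * b' := by rw [hcomm']
          _ = (a' * a') * (b' * b') := by group
          _ = 1 := by rw [ha'2, hb'2, one_mul]
      have hab'1 : a' * b' ≠ 1 := by
        intro h
        apply hne'
        have : a' = b'⁻¹ := eq_inv_of_mul_eq_one_left h
        rw [this, inv_eq_of_mul_eq_one_left hb'2]
      apply h87_faithful P hexp hC (a' * b') hab'2 hab'1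
      intro z hz
      have h1 := hinvb z hz
      have h2 := hinva z⁻¹ (P.inv_mem hz)
      calc a' * b' * z * (a' * b')⁻¹ = a' * (b' * z * b'⁻¹) * a'⁻¹ := by group
        _ = a' * z⁻¹ * a'⁻¹ := by rw [h1]
        _ = z := by rw [h2, inv_inv]
    · exact h87_q1_core P hP hexp hC b' a' hb'N ha'N hb'2 ha'2 hb'1 ha'1 (Ne.symm hne')
        hcomm'.symm hinvb
  · exact h87_q1_core P hP hexp hC a' b' ha'N hb'N ha'2 hb'2 ha'1 hb'1 hne' hcomm' hinva

end Cfsg.Agent.Helper87.O2520
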