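import Mathlib
import Cfsg.Agent.Lib.Helper87.FusionAlperin

set_option autoImplicit false

namespace Cfsg.Agent.Helper87

open Cfsg Cfsg.FusionSystem

variable {Ω : Type*} [Group Ω] {S : Subgroup Ω}

/-- normality of a subgroup in the system, at function level -/
theorem isNormal_iff {F : FusionSystem S} {Q : Subgroup Ω} :
    F.IsNormal Q ↔ Q ≤ S ∧ ∀ (P : Subgroup Ω) (f : Ω → Ω), Mor F P f →
      ∃ g, Mor F (P ⊔ Q) g ∧ (∀ x ∈ P, g x = f x) ∧ ∀ y, y ∈ Q ↔ ∃ x ∈ Q, g x = y := by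
  constructor
  · rintro ⟨hQ, h⟩
    refine ⟨hQ, fun P f hf => ?_⟩
    obtain ⟨φ, hφ, e⟩ := hf
    obtain ⟨ψ, hψ, e1, e2⟩ := h P φ hφ
    refine ⟨extFun ψ, mor_of_mem hψ, fun x hx => ?_, fun y => ?_⟩
    · have hx' : x ∈ P ⊔ Q := (le_sup_left : P ≤ P ⊔ Q) hx
      rw [extFun_mem ψ hx', ← e ⟨x, hx⟩, ← e1 ⟨x, hx⟩]
      rfl
    · rw [(SetLike.ext_iff.1 e2 y).symm.trans Subgroup.mem_map]
      constructor
      · rintro ⟨z, hz, rfl⟩
        exact ⟨z, hz, extFun_apply ψ z⟩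
      · rintro ⟨x, hx, rfl⟩
        have hx' : x ∈ P ⊔ Q := (le_sup_right : Q ≤ P ⊔ Q) hx
        exact ⟨⟨x, hx'⟩, hx, (extFun_mem ψ hx').symm⟩
  · rintro ⟨hQ, h⟩
    refine ⟨hQ, fun P φ hφ => ?_⟩
    obtain ⟨g, ⟨ψ, hψ, e⟩, e1, e2⟩ := h P _ (mor_of_mem hφ)
    refine ⟨ψ, hψ, fun x => ?_, ?_⟩
    · rw [e]
      show g x = φ x
      rw [e1 x x.2, extFun_apply]
    · ext y
      rw [e2]
      constructor
      · rintro ⟨z, hz, rfl⟩
        exact ⟨z, hz, (e z).symm⟩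
      · rintro ⟨x, hx, rfl⟩
        have hx' : x ∈ P ⊔ Q := (le_sup_right : Q ≤ P ⊔ Q) hx
        exact ⟨⟨x, hx'⟩, hx, e ⟨x, hx'⟩⟩

/-- `S` is normal in `F` iff every map of `F` extends to a map of `F` defined on `S` -/
theorem isNormal_top_iff [Finite S] {F : FusionSystem S} :
    F.IsNormal S ↔ ∀ (P : Subgroup Ω) (f : Ω → Ω), Mor F P f →
      ∃ g, Mor F S g ∧ ∀ x ∈ P, g x = f x := by
  rw [isNormal_iff]
  constructor
  · rintro ⟨-, h⟩ P f hf
    obtain ⟨g, hg, e1, -⟩ := h P f hf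
    exact ⟨g, hg.restrict le_sup_right, e1⟩
  · intro h
    refine ⟨le_rfl, fun P f hf => ?_⟩
    obtain ⟨g, hg, e1⟩ := h P f hf
    have hPS : P ⊔ S = S := sup_eq_right.2 hf.le
    refine ⟨g, by rw [hPS]; exact hg, e1, ?_⟩
    exact (iso_of_card_le hg le_rfl (fun n hn => hg.mem hn) le_rfl).2

/-- if conjugation by `n ∈ N_S(R)` is an inner automorphism of the centric subgroup `R`, then `n ∈ R` -/
theorem mem_of_conjAut_mem_inn {F : FusionSystem S} {R : Subgroup Ω} (hcen : F.IsCentric R) {n : Ω}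
    (hnS : n ∈ S) (hnN : n ∈ Subgroup.normalizer (R : Set Ω)) (h1 : conjAut R n hnN ∈ Inn R) :
    n ∈ R := by
  obtain ⟨x, hx⟩ := h1
  have hc : (x : Ω)⁻¹ * n ∈ centralizerIn S R := by
    refine ⟨S.mul_mem (S.inv_mem (hcen.1 x.2)) hnS, ?_⟩
    intro y hy
    have h2 : ((MulAut.conj x ⟨y, hy⟩ : R) : Ω) = ((conjAut R n hnN ⟨y, hy⟩ : R) : Ω) := by rw [hx]
    rw [conjAut_apply] at h2
    have h3 : (x : Ω) * y * (x : Ω)⁻¹ = n * y * n⁻¹ := by
      rw [← h2]; simp [MulAut.conj_apply]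
    calc y * ((x : Ω)⁻¹ * n) = (x : Ω)⁻¹ * ((x : Ω) * y * (x : Ω)⁻¹) * n := by group
      _ = (x : Ω)⁻¹ * (n * y * n⁻¹) * n := by rw [h3]
      _ = (x : Ω)⁻¹ * n * y := by group
  have h4 := hcen.2 R (isConj_refl hcen.1) hc
  have h5 : n = (x : Ω) * ((x : Ω)⁻¹ * n) := by group
  rw [h5]
  exact R.mul_mem x.2 h4

/-- a centric subgroup all of whose `S`-induced automorphisms are inner is `S` itself -/
theorem eq_top_of_autInducedBy_le_inn {p : ℕ} [Fact p.Prime] [Finite S] (hS : IsPGroup p S)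
    {F : FusionSystem S} {R : Subgroup Ω} (hcen : F.IsCentric R)
    (hle : autInducedBy S R ≤ Inn R) : R = S := by
  by_contra hne
  obtain ⟨n, hn, hnR⟩ := exists_normalizer_not_mem hS hcen.1 hne
  exact hnR (mem_of_conjAut_mem_inn hcen hn.1 hn.2 (hle (conjAut_mem_autInducedBy hn.1 hn.2)))

/-- if `Aut_F(R)` has a normal Sylow `p`-subgroup, `R` is fully automized, centric and radical, then `R = S` -/
theorem eq_top_of_normal_sylow {p : ℕ} [Fact p.Prime] [Finite S] (hS : IsPGroup p S)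
    {F : FusionSystem S} {R : Subgroup Ω} (hfa : F.IsFullyAutomized p R) (hcen : F.IsCentric R)
    (hrad : F.IsRadical p R)
    (hn : ∃ T : Sylow p (F.autGroup R), (T : Subgroup (F.autGroup R)).Normal) : R = S := by
  classical
  have hfinR : Finite R := finite_of_le hcen.1
  apply eq_top_of_autInducedBy_le_inn hS hcen
  obtain ⟨-, T₀, hT₀⟩ := hfa
  obtain ⟨T, hT⟩ := hn
  have hle : (T₀ : Subgroup (F.autGroup R)) ≤ pCore p (F.autGroup R) := by
    have h1 : (T : Subgroup (F.autGroup R)) ≤ pCore p (F.autGroup R) := le_pCore hT T.isPGroup'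
    have h2 : (T₀ : Subgroup (F.autGroup R)) ≤ T :=
      (T.is_maximal' T₀.isPGroup' (normal_pGroup_le_sylow hT T.isPGroup' T₀)).le
    exact h2.trans h1
  intro α hα
  have hαA : α ∈ F.autGroup R := autInducedBy_le_autGroup F hcen.1 hα
  have h3 : (⟨α, hαA⟩ : F.autGroup R) ∈ (T₀ : Subgroup (F.autGroup R)) := by
    rw [hT₀, Subgroup.mem_subgroupOf]; exact hα
  have h4 := hle h3
  rw [← hrad.2]
  exact ⟨⟨α, hαA⟩, h4, rfl⟩

/-- the predicate "extends to a map of the system defined on `S`" is closed in the sense of Alperin -/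
theorem alperinClosed_extends_top [Finite S] (F : FusionSystem S) :
    AlperinClosed F (fun P f => ∃ g, Mor F S g ∧ ∀ x ∈ P, g x = f x) where
  congr := by
    rintro P f f' ⟨g, hg, e⟩ hff
    exact ⟨g, hg, fun x hx => (e x hx).trans (hff x hx)⟩
  restrict := by
    rintro P Q f - ⟨g, hg, e⟩ hQP
    exact ⟨g, hg, fun x hx => e x (hQP hx)⟩
  comp := by
    rintro P Q f g hf hg hPQ ⟨f', hf', e1⟩ ⟨g', hg', e2⟩
    refine ⟨fun x => g' (f' x), hf'.comp hg' (fun x hx => hf'.mem hx), fun x hx => ?_⟩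
    show g' (f' x) = g (f x)
    rw [e1 x hx, e2 _ (hPQ x hx)]

/-- if `S` is the only fully normalized, centric, radical subgroup then `S` is normal in `F` -/
theorem isNormal_top_of_centric_radical_eq {p : ℕ} [Fact p.Prime] [Finite S] (hS : IsPGroup p S)
    {F : FusionSystem S} (hF : F.IsSaturated p)
    (h : ∀ R : Subgroup Ω, F.IsFullyNormalized R → F.IsCentric R → F.IsRadical p R → R = S) :
    F.IsNormal S := by
  rw [isNormal_top_iff]
  apply alperin hS hF _ (alperinClosed_extends_top F)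
  intro R hfn hcen hrad α hα
  have hRS := h R hfn hcen hrad
  subst hRS
  exact ⟨extAut α, (mem_autGroup_iff le_rfl).1 hα, fun _ _ => rfl⟩

end Cfsg.Agent.Helper87
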