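import Mathlib
import Cfsg.Agent.Lib.Helper87.FusionNormal

set_option autoImplicit false

namespace Cfsg.Agent.Helper87

open Cfsg Cfsg.FusionSystem

variable {Ω : Type*} [Group Ω] {S : Subgroup Ω}

/-- strongly closed at function level -/
theorem stronglyClosed_iff {F : FusionSystem S} {T : Subgroup Ω} :
    F.StronglyClosed T ↔ T ≤ S ∧ ∀ (R : Subgroup Ω) (f : Ω → Ω), R ≤ T → Mor F R f →
      ∀ x ∈ R, f x ∈ T := by
  constructor
  · rintro ⟨hT, h⟩
    refine ⟨hT, fun R f hR hf x hx => ?_⟩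
    obtain ⟨φ, hφ, e⟩ := hf
    rw [← e ⟨x, hx⟩]
    exact h R hR φ hφ ⟨x, hx⟩
  · rintro ⟨hT, h⟩
    refine ⟨hT, fun R hR φ hφ x => ?_⟩
    have := h R _ hR (mor_of_mem hφ) x x.2
    rwa [extFun_apply] at this

theorem StronglyClosed.conj_mem {F : FusionSystem S} {T : Subgroup Ω} (hT : F.StronglyClosed T)
    {s x : Ω} (hs : s ∈ S) (hx : x ∈ T) : s * x * s⁻¹ ∈ T :=
  (stronglyClosed_iff.1 hT).2 T _ le_rfl (Mor.conj hT.1 hs) x hx

theorem StronglyClosed.le_normalizer {F : FusionSystem S} {T : Subgroup Ω}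
    (hT : F.StronglyClosed T) : S ≤ Subgroup.normalizer (T : Set Ω) := by
  intro s hs
  rw [Subgroup.mem_normalizer_iff]
  intro x
  constructor
  · exact fun hx => StronglyClosed.conj_mem hT hs hx
  · intro hx
    have := StronglyClosed.conj_mem hT (S.inv_mem hs) hx
    have h2 : s⁻¹ * (s * x * s⁻¹) * s⁻¹⁻¹ = x := by group
    rwa [h2] at this

/-- the image of a join lies in a subgroup as soon as the images of both pieces do -/
theorem Mor.map_sup_mem {F : FusionSystem S} {N A B K : Subgroup Ω} {g : Ω → Ω} (h : Mor F N g)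
    (hA : A ≤ N) (hB : B ≤ N) (hAK : ∀ a ∈ A, g a ∈ K) (hBK : ∀ b ∈ B, g b ∈ K) :
    ∀ x ∈ A ⊔ B, g x ∈ K := by
  intro x hx
  have key : x ∈ N ∧ g x ∈ K := by
    rw [Subgroup.sup_eq_closure] at hx
    induction hx using Subgroup.closure_induction with
    | mem y hy =>
      rcases hy with hy | hy
      · exact ⟨hA hy, hAK y hy⟩
      · exact ⟨hB hy, hBK y hy⟩
    | one => exact ⟨N.one_mem, by rw [h.map_one]; exact K.one_mem⟩
    | mul y z _ _ hy hz =>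
      exact ⟨N.mul_mem hy.1 hz.1, by rw [h.map_mul hy.1 hz.1]; exact K.mul_mem hy.2 hz.2⟩
    | inv y _ hy =>
      exact ⟨N.inv_mem hy.1, by rw [h.map_inv hy.1]; exact K.inv_mem hy.2⟩
  exact key.2

/-- stability group lemma: an automorphism fixing `R₀` pointwise and acting trivially modulo `R₀` has order
dividing `|R₀|` -/
theorem pow_card_eq_one_of_stabilizes {G : Type*} [Group G] (β : MulAut G) (R₀ : Subgroup G)
    [Finite R₀] (h1 : ∀ x ∈ R₀, β x = x) (h2 : ∀ x, x⁻¹ * β x ∈ R₀) : β ^ Nat.card R₀ = 1 := by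
  have fix : ∀ k : ℕ, ∀ x ∈ R₀, (β ^ k) x = x := by
    intro k
    induction k with
    | zero => intro x _; simp
    | succ k ih =>
      intro x hx
      rw [pow_succ]
      show (β ^ k) (β x) = x
      rw [h1 x hx, ih x hx]
  have key : ∀ k : ℕ, ∀ x, (β ^ k) x = x * (x⁻¹ * β x) ^ k := by
    intro k
    induction k with
    | zero => intro x; simp
    | succ k ih =>
      intro x
      rw [pow_succ]
      show (β ^ k) (β x) = _
      have h3 : β x = x * (x⁻¹ * β x) := by group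
      rw [h3, map_mul, fix k _ (h2 x), ih x, ← h3, pow_succ]
      group
  ext x
  rw [key]
  have h4 : (⟨x⁻¹ * β x, h2 x⟩ : R₀) ^ Nat.card R₀ = 1 := pow_card_eq_one'
  have h5 : (x⁻¹ * β x) ^ Nat.card R₀ = 1 := congrArg Subtype.val h4
  rw [h5]
  simp

/-- the subgroup of `Aut_F(R)` of automorphisms acting trivially on `R/(R ∩ Q)` and as conjugation by an element
of `Q` on `R ∩ Q` -/
def stabSub (F : FusionSystem S) (Q R : Subgroup Ω) : Subgroup (MulAut R) where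
  carrier := {β | β ∈ F.autGroup R ∧ (∀ x : R, (x : Ω)⁻¹ * (β x : Ω) ∈ Q) ∧
    ∃ q ∈ Q, ∀ x : R, (x : Ω) ∈ Q → ((β x : R) : Ω) = q * x * q⁻¹}
  mul_mem' := by
    rintro β₁ β₂ ⟨hA1, h1, q₁, hq₁, e₁⟩ ⟨hA2, h2, q₂, hq₂, e₂⟩
    refine ⟨Subgroup.mul_mem _ hA1 hA2, fun x => ?_, q₁ * q₂, Q.mul_mem hq₁ hq₂, fun x hx => ?_⟩
    · show (x : Ω)⁻¹ * ((β₁ (β₂ x) : R) : Ω) ∈ Q
      have : (x : Ω)⁻¹ * ((β₁ (β₂ x) : R) : Ω) =
          ((x : Ω)⁻¹ * (β₂ x : Ω)) * (((β₂ x : R) : Ω)⁻¹ * ((β₁ (β₂ x) : R) : Ω)) := by group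
      rw [this]
      exact Q.mul_mem (h2 x) (h1 (β₂ x))
    · show ((β₁ (β₂ x) : R) : Ω) = _
      have hx2 : ((β₂ x : R) : Ω) ∈ Q := by
        rw [e₂ x hx]; exact Q.mul_mem (Q.mul_mem hq₂ hx) (Q.inv_mem hq₂)
      rw [e₁ _ hx2, e₂ x hx]; group
  one_mem' := ⟨Subgroup.one_mem _, fun x => by simp, 1, Q.one_mem, fun x _ => by simp⟩
  inv_mem' := by
    rintro β ⟨hA, h1, q, hq, e⟩
    have hinv : ∀ x : R, (x : Ω)⁻¹ * ((β⁻¹ x : R) : Ω) ∈ Q := by
      intro x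
      have := h1 (β⁻¹ x)
      have h3 : β (β⁻¹ x) = x := by simp
      rw [h3] at this
      have h4 : (x : Ω)⁻¹ * ((β⁻¹ x : R) : Ω) = (((β⁻¹ x : R) : Ω)⁻¹ * (x : Ω))⁻¹ := by group
      rw [h4]; exact Q.inv_mem this
    refine ⟨Subgroup.inv_mem _ hA, hinv, q⁻¹, Q.inv_mem hq, fun x hx => ?_⟩
    have hy : ((β⁻¹ x : R) : Ω) ∈ Q := by
      have := Q.mul_mem hx (hinv x)
      rwa [mul_inv_cancel_left] at this
    have h5 := e (β⁻¹ x) hy
    have h3 : β (β⁻¹ x) = x := by simp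
    rw [h3] at h5
    rw [h5]; group

theorem mem_stabSub {F : FusionSystem S} {Q R : Subgroup Ω} {β : MulAut R} :
    β ∈ stabSub F Q R ↔ β ∈ F.autGroup R ∧ (∀ x : R, (x : Ω)⁻¹ * (β x : Ω) ∈ Q) ∧
      ∃ q ∈ Q, ∀ x : R, (x : Ω) ∈ Q → ((β x : R) : Ω) = q * x * q⁻¹ := Iff.rfl

theorem stabSub_le (F : FusionSystem S) (Q R : Subgroup Ω) : stabSub F Q R ≤ F.autGroup R :=
  fun _ h => h.1

/-- elements of `Aut_F(R)` preserve `R ∩ Q` when `Q` is strongly closed -/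
theorem aut_mem_of_stronglyClosed {F : FusionSystem S} {Q R : Subgroup Ω} (hQ : F.StronglyClosed Q)
    (hR : R ≤ S) {α : MulAut R} (hα : α ∈ F.autGroup R) {x : R} (hx : (x : Ω) ∈ Q) :
    ((α x : R) : Ω) ∈ Q := by
  have h1 : Mor F R (extAut α) := (mem_autGroup_iff hR).1 hα
  have h2 := (stronglyClosed_iff.1 hQ).2 (R ⊓ Q) _ inf_le_right (h1.restrict inf_le_left) x ⟨x.2, hx⟩
  rwa [extAut_apply] at h2

theorem stabSub_isPGroup {p : ℕ} [Fact p.Prime] [Finite S] (hS : IsPGroup p S) {F : FusionSystem S}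
    {Q R : Subgroup Ω} (hQ : Q ≤ S) (hR : R ≤ S) : IsPGroup p (stabSub F Q R) := by
  have hfinR : Finite R := finite_of_le hR
  rintro ⟨β, hβ⟩
  obtain ⟨-, -, q, hq, e⟩ := id hβ
  obtain ⟨a, ha⟩ := hS ⟨q, hQ hq⟩
  have hqa : q ^ p ^ a = 1 := congrArg Subtype.val ha
  -- powers of β act on R ∩ Q as conjugation by powers of q
  have hpow : ∀ k : ℕ, ∀ x : R, (x : Ω) ∈ Q → (((β ^ k) x : R) : Ω) = q ^ k * x * (q ^ k)⁻¹ := by
    intro k
    induction k with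
    | zero => intro x _; simp
    | succ k ih =>
      intro x hx
      rw [pow_succ]
      show (((β ^ k) (β x) : R) : Ω) = _
      have hx2 : ((β x : R) : Ω) ∈ Q := by
        rw [e x hx]; exact Q.mul_mem (Q.mul_mem hq hx) (Q.inv_mem hq)
      rw [ih _ hx2, e x hx, pow_succ]; group
  have hγ : β ^ p ^ a ∈ stabSub F Q R := Subgroup.pow_mem _ hβ _
  -- the subgroup R₀ = Q ∩ R inside R
  have hfix : ∀ x ∈ Q.subgroupOf R, (β ^ p ^ a) x = x := by
    intro x hx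
    apply Subtype.ext
    rw [hpow _ x (Subgroup.mem_subgroupOf.1 hx), hqa]; simp
  have hmod : ∀ x : R, x⁻¹ * (β ^ p ^ a) x ∈ Q.subgroupOf R := by
    intro x
    rw [Subgroup.mem_subgroupOf]
    exact hγ.2.1 x
  have h1 := pow_card_eq_one_of_stabilizes (β ^ p ^ a) (Q.subgroupOf R) hfix hmod
  have hR₀p : IsPGroup p (Q.subgroupOf R) := (hS.to_le hR).to_subgroup _
  obtain ⟨b, hb⟩ := IsPGroup.iff_card.1 hR₀p
  refine ⟨a + b, Subtype.ext ?_⟩
  show β ^ p ^ (a + b) = 1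
  rw [pow_add, pow_mul, ← hb]
  exact h1

/-- `stabSub` is normalized by `Aut_F(R)` under the Frattini-type hypothesis -/
theorem stabSub_conj_mem {F : FusionSystem S} {Q R : Subgroup Ω} (hQ : F.StronglyClosed Q) (hR : R ≤ S)
    (hFrat : ∀ (P : Subgroup Ω) (f : Ω → Ω), P ≤ Q → Mor F P f →
      ∃ γ, Iso F Q Q γ ∧ ∀ x ∈ P, γ x = f x)
    {α β : MulAut R} (hα : α ∈ F.autGroup R) (hβ : β ∈ stabSub F Q R) :
    α * β * α⁻¹ ∈ stabSub F Q R := by
  obtain ⟨hβA, h1, q, hq, e⟩ := hβ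
  have hαinv : α⁻¹ ∈ F.autGroup R := Subgroup.inv_mem _ hα
  refine ⟨Subgroup.mul_mem _ (Subgroup.mul_mem _ hα hβA) hαinv, fun x => ?_, ?_⟩
  · show (x : Ω)⁻¹ * ((α (β (α⁻¹ x)) : R) : Ω) ∈ Q
    have h2 : (α⁻¹ x)⁻¹ * β (α⁻¹ x) ∈ Q.subgroupOf R := Subgroup.mem_subgroupOf.2 (h1 (α⁻¹ x))
    have h3 := aut_mem_of_stronglyClosed hQ hR hα (Subgroup.mem_subgroupOf.1 h2)
    have h4 : α ((α⁻¹ x)⁻¹ * β (α⁻¹ x)) = x⁻¹ * α (β (α⁻¹ x)) := by
      rw [map_mul, map_inv]; simp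
    rw [h4] at h3
    exact h3
  · -- α restricted to R ∩ Q extends to an automorphism γ of Q in the system
    have hmor : Mor F (R ⊓ Q) (extAut α) := ((mem_autGroup_iff hR).1 hα).restrict inf_le_left
    obtain ⟨γ, hγ, eγ⟩ := hFrat (R ⊓ Q) _ inf_le_right hmor
    refine ⟨γ q, hγ.map_mem hq, fun x hx => ?_⟩
    show ((α (β (α⁻¹ x)) : R) : Ω) = _
    have hy : ((α⁻¹ x : R) : Ω) ∈ Q := aut_mem_of_stronglyClosed hQ hR hαinv hx
    have hβy : ((β (α⁻¹ x) : R) : Ω) = q * (α⁻¹ x : R) * q⁻¹ := e _ hy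
    have hβyQ : ((β (α⁻¹ x) : R) : Ω) ∈ Q := by
      rw [hβy]; exact Q.mul_mem (Q.mul_mem hq hy) (Q.inv_mem hq)
    have h5 : ((α (β (α⁻¹ x)) : R) : Ω) = γ ((β (α⁻¹ x) : R) : Ω) := by
      rw [eγ _ ⟨(β (α⁻¹ x)).2, hβyQ⟩, extAut_apply]
    have h6 : γ ((α⁻¹ x : R) : Ω) = x := by
      rw [eγ _ ⟨(α⁻¹ x).2, hy⟩, extAut_apply]; simp
    rw [h5, hβy, hγ.1.map_mul (Q.mul_mem hq hy) (Q.inv_mem hq), hγ.1.map_mul hq hy,
      hγ.1.map_inv hq, h6]

/-- a strongly closed subgroup with the Frattini-type extension property lies in every centric radical subgroup -/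
theorem le_of_centric_radical {p : ℕ} [Fact p.Prime] [Finite S] (hS : IsPGroup p S)
    {F : FusionSystem S} {Q R : Subgroup Ω} (hQ : F.StronglyClosed Q)
    (hFrat : ∀ (P : Subgroup Ω) (f : Ω → Ω), P ≤ Q → Mor F P f →
      ∃ γ, Iso F Q Q γ ∧ ∀ x ∈ P, γ x = f x)
    (hcen : F.IsCentric R) (hrad : F.IsRadical p R) : Q ≤ R := by
  classical
  have hR : R ≤ S := hcen.1
  have hn : ((stabSub F Q R).subgroupOf (F.autGroup R)).Normal := by
    constructor
    intro β hβ α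
    rw [Subgroup.mem_subgroupOf] at hβ ⊢
    exact stabSub_conj_mem hQ hR hFrat α.2 hβ
  have hp : IsPGroup p ((stabSub F Q R).subgroupOf (F.autGroup R)) :=
    (stabSub_isPGroup hS hQ.1 hR).comap_subtype
  have hle := le_pCore hn hp
  have hB : stabSub F Q R ≤ Inn R := by
    intro β hβ
    rw [← hrad.2]
    exact ⟨⟨β, hβ.1⟩, hle (Subgroup.mem_subgroupOf.2 hβ), rfl⟩
  have hNQ : ∀ q ∈ Q, q ∈ Subgroup.normalizer (R : Set Ω) → q ∈ R := by
    intro q hq hqN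
    apply mem_of_conjAut_mem_inn hcen (hQ.1 hq) hqN
    apply hB
    refine ⟨autInducedBy_le_autGroup F hR (conjAut_mem_autInducedBy (hQ.1 hq) hqN), fun x => ?_,
      q, hq, fun x _ => rfl⟩
    rw [conjAut_apply]
    have h1 : (x : Ω)⁻¹ * (q * x * q⁻¹) = ((x : Ω)⁻¹ * q * (x : Ω)⁻¹⁻¹) * q⁻¹ := by group
    rw [h1]
    exact Q.mul_mem (StronglyClosed.conj_mem hQ (S.inv_mem (hR x.2)) hq) (Q.inv_mem hq)
  by_contra hne
  have hT : Q ⊔ R ≤ S := sup_le hQ.1 hR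
  have hTp : IsPGroup p (Q ⊔ R : Subgroup Ω) := hS.to_le hT
  have hTfin : Finite (Q ⊔ R : Subgroup Ω) := finite_of_le hT
  have hRT : R ≠ Q ⊔ R := fun h => hne (h ▸ le_sup_left)
  obtain ⟨n, hn, hnR⟩ := exists_normalizer_not_mem (S := Q ⊔ R) hTp le_sup_right hRT
  have hRN : R ≤ Subgroup.normalizer (Q : Set Ω) := hR.trans (StronglyClosed.le_normalizer hQ)
  have hcoe := Subgroup.coe_mul_of_right_le_normalizer_left Q R hRN
  have hnT : n ∈ (↑(Q ⊔ R) : Set Ω) := hn.1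
  rw [hcoe] at hnT
  obtain ⟨q, hq, r, hr, rfl⟩ := hnT
  apply hnR
  have hqN : q ∈ Subgroup.normalizer (R : Set Ω) := by
    have h2 : q = (q * r) * r⁻¹ := by group
    rw [h2]
    exact Subgroup.mul_mem _ hn.2 (Subgroup.inv_mem _ (Subgroup.le_normalizer hr))
  exact R.mul_mem (hNQ q hq hqN) hr

/-- the predicate "extends to `P ⊔ Q` preserving `Q`" is closed in the sense of Alperin -/
theorem alperinClosed_extends_sup (F : FusionSystem S) (Q : Subgroup Ω) :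
    AlperinClosed F (fun P f => ∃ g, Mor F (P ⊔ Q) g ∧ (∀ x ∈ P, g x = f x) ∧ ∀ x ∈ Q, g x ∈ Q) where
  congr := by
    rintro P f f' ⟨g, hg, e, hQ⟩ hff
    exact ⟨g, hg, fun x hx => (e x hx).trans (hff x hx), hQ⟩
  restrict := by
    rintro P P' f - ⟨g, hg, e, hQ⟩ hP'
    exact ⟨g, hg.restrict (sup_le_sup_right hP' Q), fun x hx => e x (hP' hx), hQ⟩
  comp := by
    rintro P P' f g hf hg hPP' ⟨f', hf', e1, hQ1⟩ ⟨g', hg', e2, hQ2⟩
    have hmaps : ∀ x ∈ P ⊔ Q, f' x ∈ P' ⊔ Q :=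
      hf'.map_sup_mem le_sup_left le_sup_right
        (fun a ha => by rw [e1 a ha]; exact (le_sup_left : P' ≤ P' ⊔ Q) (hPP' a ha))
        (fun b hb => (le_sup_right : Q ≤ P' ⊔ Q) (hQ1 b hb))
    refine ⟨fun x => g' (f' x), hf'.comp hg' hmaps, fun x hx => ?_, fun x hx => hQ2 _ (hQ1 x hx)⟩
    show g' (f' x) = g (f x)
    rw [e1 x hx, e2 _ (hPP' x hx)]

/-- AKO Prop. I.4.5: a strongly closed subgroup contained in every fully normalized centric radical subgroup is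
normal in the system -/
theorem isNormal_of_stronglyClosed_of_le {p : ℕ} [Fact p.Prime] [Finite S] (hS : IsPGroup p S)
    {F : FusionSystem S} (hF : F.IsSaturated p) {Q : Subgroup Ω} (hQ : F.StronglyClosed Q)
    (hle : ∀ R : Subgroup Ω, F.IsFullyNormalized R → F.IsCentric R → F.IsRadical p R → Q ≤ R) :
    F.IsNormal Q := by
  rw [isNormal_iff]
  refine ⟨hQ.1, fun P f hf => ?_⟩
  have key := alperin hS hF _ (alperinClosed_extends_sup F Q) (by
    intro R hfn hcen hrad α hα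
    have hQR := hle R hfn hcen hrad
    have hα' : Mor F R (extAut α) := (mem_autGroup_iff hcen.1).1 hα
    refine ⟨extAut α, by rw [sup_eq_left.2 hQR]; exact hα', fun _ _ => rfl, fun x hx => ?_⟩
    exact (stronglyClosed_iff.1 hQ).2 Q _ le_rfl (hα'.restrict hQR) x hx) P f hf
  obtain ⟨g, hg, e, hgQ⟩ := key
  refine ⟨g, hg, e, ?_⟩
  exact (iso_of_card_le (hg.restrict le_sup_right) hQ.1 hgQ le_rfl).2

/-- a strongly closed subgroup such that every map of the system between subgroups of it extends to an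
automorphism of it in the system is normal in the system -/
theorem isNormal_of_stronglyClosed_of_frattini {p : ℕ} [Fact p.Prime] [Finite S] (hS : IsPGroup p S)
    {F : FusionSystem S} (hF : F.IsSaturated p) {Q : Subgroup Ω} (hQ : F.StronglyClosed Q)
    (hFrat : ∀ (P : Subgroup Ω) (f : Ω → Ω), P ≤ Q → Mor F P f →
      ∃ γ, Iso F Q Q γ ∧ ∀ x ∈ P, γ x = f x) : F.IsNormal Q :=
  isNormal_of_stronglyClosed_of_le hS hF hQ
    (fun _ _ hcen hrad => le_of_centric_radical hS hQ hFrat hcen hrad)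

/-- a subgroup normal in the system is strongly closed -/
theorem stronglyClosed_of_isNormal [Finite S] {F : FusionSystem S} {Q : Subgroup Ω}
    (hQ : F.IsNormal Q) : F.StronglyClosed Q := by
  rw [stronglyClosed_iff]
  obtain ⟨hQS, h⟩ := isNormal_iff.1 hQ
  refine ⟨hQS, fun R f hR hf x hx => ?_⟩
  obtain ⟨g, hg, e, hgQ⟩ := h R f hf
  rw [← e x hx]
  exact (hgQ _).2 ⟨x, hR hx, rfl⟩

end Cfsg.Agent.Helper87
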