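import Mathlib
import Cfsg.Agent.Lib.Helper87.FusionNormalCrit

set_option autoImplicit false

namespace Cfsg.Agent.Helper87

open Cfsg Cfsg.FusionSystem

variable {Ω : Type*} [Group Ω]

theorem mor_inner_iff {Q P : Subgroup Ω} {f : Ω → Ω} :
    Mor (innerFusionSystem Q) P f ↔ P ≤ Q ∧ ∃ g ∈ Q, ∀ x ∈ P, f x = g * x * g⁻¹ := by
  constructor
  · rintro ⟨φ, ⟨hP, g, hg, e⟩, e1⟩
    exact ⟨hP, g, hg, fun x hx => by rw [← e1 ⟨x, hx⟩, e]⟩
  · rintro ⟨hP, g, hg, e⟩
    exact ⟨conjHom P g, ⟨hP, g, hg, fun _ => rfl⟩, fun x => (e x x.2).symm⟩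

theorem mem_inner_hom_iff {Q P : Subgroup Ω} {φ : P →* Ω} :
    φ ∈ (innerFusionSystem Q).Hom P ↔ P ≤ Q ∧ ∃ g ∈ Q, ∀ x : P, φ x = g * (x : Ω) * g⁻¹ := Iff.rfl

theorem autGroup_inner_eq {Q P : Subgroup Ω} (hP : P ≤ Q) :
    (innerFusionSystem Q).autGroup P = autInducedBy Q P := by
  ext α
  rw [mem_autGroup_iff hP, mor_inner_iff, mem_autInducedBy_iff]
  constructor
  · rintro ⟨-, g, hg, e⟩
    exact ⟨g, hg, fun x => by rw [← e x x.2, extAut_apply]⟩
  · rintro ⟨g, hg, e⟩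
    exact ⟨hP, g, hg, fun x hx => by rw [extAut_mem α hx, e]⟩

/-- the inner fusion system of a finite `p`-group is saturated -/
theorem innerFusionSystem_isSaturated {p : ℕ} [Fact p.Prime] {Q : Subgroup Ω} [Finite Q]
    (hQ : IsPGroup p Q) : (innerFusionSystem Q).IsSaturated p := by
  classical
  intro P hP
  have hfinP : Finite P := finite_of_le hP
  refine ⟨P, isConj_refl hP, ⟨hP, ?_⟩, ?_⟩
  · -- fully automized
    obtain ⟨R⟩ : Nonempty (Sylow p ((innerFusionSystem Q).autGroup P)) := Sylow.nonempty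
    have hpg : IsPGroup p ((innerFusionSystem Q).autGroup P) := by
      rw [autGroup_inner_eq hP]; exact isPGroup_autInducedBy hQ P
    have h1 : (R : Subgroup ((innerFusionSystem Q).autGroup P)) = ⊤ :=
      (R.is_maximal' (hpg.to_subgroup ⊤) le_top).symm
    refine ⟨R, ?_⟩
    rw [h1]
    ext α
    simp only [Subgroup.mem_top, true_iff]
    rw [Subgroup.mem_subgroupOf, ← autGroup_inner_eq hP]
    exact α.2
  · -- receptive
    rw [isReceptive_iff]
    refine ⟨hP, fun P' f h => ?_⟩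
    obtain ⟨hP', u, hu, e⟩ := mor_inner_iff.1 h.1
    refine ⟨fun x => u * x * u⁻¹, mor_inner_iff.2 ⟨h.ext_le_normalizerIn.trans inf_le_left, u, hu,
      fun _ _ => rfl⟩, fun x hx => (e x hx).symm⟩

/-- the inner fusion system of `Q ≤ S` is a subsystem of every fusion system over `S` -/
theorem inner_isSubsystemOf {S Q : Subgroup Ω} (F : FusionSystem S) (hQ : Q ≤ S) :
    (innerFusionSystem Q).IsSubsystemOf F := by
  intro P φ hφ
  obtain ⟨hP, g, hg, e⟩ := hφ
  have : φ = conjHom P g := by ext x; exact e x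
  rw [this]
  exact F.conj_mem (hP.trans hQ) (hQ hg)

end Cfsg.Agent.Helper87
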