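import Mathlib
import Cfsg.Agent.Lib.Helper87.FusionInner

set_option autoImplicit false

namespace Cfsg.Agent.Helper87

open Cfsg Cfsg.FusionSystem

variable {Ω : Type*} [Group Ω] {S : Subgroup Ω}

theorem isNormal_bot (F : FusionSystem S) : F.IsNormal ⊥ := by
  rw [isNormal_iff]
  refine ⟨bot_le, fun P f hf => ⟨f, by rw [sup_bot_eq]; exact hf, fun _ _ => rfl, fun y => ?_⟩⟩
  constructor
  · intro hy
    rw [Subgroup.mem_bot] at hy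
    exact ⟨1, Subgroup.one_mem _, by rw [hy, hf.map_one]⟩
  · rintro ⟨x, hx, rfl⟩
    rw [Subgroup.mem_bot] at hx
    rw [hx, hf.map_one]; exact Subgroup.one_mem _

/-- the join of two subgroups normal in the system is normal in the system -/
theorem isNormal_sup [Finite S] {F : FusionSystem S} {Q₁ Q₂ : Subgroup Ω} (h₁ : F.IsNormal Q₁)
    (h₂ : F.IsNormal Q₂) : F.IsNormal (Q₁ ⊔ Q₂) := by
  obtain ⟨hQ₁, e₁⟩ := isNormal_iff.1 h₁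
  obtain ⟨hQ₂, e₂⟩ := isNormal_iff.1 h₂
  rw [isNormal_iff]
  refine ⟨sup_le hQ₁ hQ₂, fun P f hf => ?_⟩
  obtain ⟨g₁, hg₁, a₁, b₁⟩ := e₁ P f hf
  obtain ⟨g₂, hg₂, a₂, b₂⟩ := e₂ _ g₁ hg₁
  have hassoc : P ⊔ (Q₁ ⊔ Q₂) = P ⊔ Q₁ ⊔ Q₂ := (sup_assoc P Q₁ Q₂).symm
  have hg₂' : Mor F (P ⊔ (Q₁ ⊔ Q₂)) g₂ := by rw [hassoc]; exact hg₂
  have hle : Q₁ ⊔ Q₂ ≤ P ⊔ (Q₁ ⊔ Q₂) := le_sup_right
  have hmor : Mor F (Q₁ ⊔ Q₂) g₂ := hg₂'.restrict hle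
  have hmaps : ∀ x ∈ Q₁ ⊔ Q₂, g₂ x ∈ Q₁ ⊔ Q₂ := by
    apply hmor.map_sup_mem le_sup_left le_sup_right
    · intro a ha
      rw [a₂ a ((le_sup_right : Q₁ ≤ P ⊔ Q₁) ha)]
      exact (le_sup_left : Q₁ ≤ Q₁ ⊔ Q₂) ((b₁ _).2 ⟨a, ha, rfl⟩)
    · intro b hb
      exact (le_sup_right : Q₂ ≤ Q₁ ⊔ Q₂) ((b₂ _).2 ⟨b, hb, rfl⟩)
  refine ⟨g₂, hg₂', fun x hx => ?_, ?_⟩
  · rw [a₂ x ((le_sup_left : P ≤ P ⊔ Q₁) hx), a₁ x hx]
  · exact (iso_of_card_le hmor (sup_le hQ₁ hQ₂) hmaps le_rfl).2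

/-- the join of any family of subgroups normal in the system is normal in the system -/
theorem isNormal_sSup [Finite S] {F : FusionSystem S} (𝒩 : Set (Subgroup Ω))
    (h𝒩 : ∀ N ∈ 𝒩, F.IsNormal N) : F.IsNormal (sSup 𝒩) := by
  classical
  let 𝒥 : Set (Subgroup Ω) := {J | F.IsNormal J ∧ J ≤ sSup 𝒩}
  have hbot : (⊥ : Subgroup Ω) ∈ 𝒥 := ⟨isNormal_bot F, bot_le⟩
  let c : Subgroup Ω → ℕ := fun J => Nat.card S - Nat.card J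
  obtain ⟨J₀, hJ₀, hmin⟩ : ∃ J₀ ∈ 𝒥, ∀ J ∈ 𝒥, c J₀ ≤ c J :=
    ⟨Function.argminOn c 𝒥 ⟨⊥, hbot⟩, Function.argminOn_mem c 𝒥 _,
      fun J hJ => Function.argminOn_le c 𝒥 hJ⟩
  have hle : sSup 𝒩 ≤ J₀ := by
    apply sSup_le
    intro N hN
    have hJN : J₀ ⊔ N ∈ 𝒥 := ⟨isNormal_sup hJ₀.1 (h𝒩 N hN), sup_le hJ₀.2 (le_sSup hN)⟩
    have h1 : Nat.card S - Nat.card J₀ ≤ Nat.card S - Nat.card (J₀ ⊔ N : Subgroup Ω) := hmin _ hJN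
    have hS1 : (J₀ ⊔ N : Subgroup Ω) ≤ S := hJN.1.1
    have h2 := Subgroup.card_le_of_le hS1
    have hfin : Finite (J₀ ⊔ N : Subgroup Ω) := finite_of_le hS1
    have h3 : Nat.card (J₀ ⊔ N : Subgroup Ω) ≤ Nat.card J₀ := by omega
    have h4 : J₀ = J₀ ⊔ N := Subgroup.eq_of_le_of_card_ge le_sup_left h3
    rw [h4]; exact le_sup_right
  have : sSup 𝒩 = J₀ := le_antisymm hle hJ₀.2
  rw [this]; exact hJ₀.1

/-- `O_p(F)` is normal in the system -/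
theorem isNormal_core [Finite S] (F : FusionSystem S) : F.IsNormal F.core :=
  isNormal_sSup _ (fun _ h => h)

theorem le_core {F : FusionSystem S} {Q : Subgroup Ω} (hQ : F.IsNormal Q) : Q ≤ F.core :=
  le_sSup hQ

end Cfsg.Agent.Helper87
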