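import Mathlib
import Cfsg.Agent.Lib.Helper87.FusionCore

set_option autoImplicit false

namespace Cfsg.Agent.Helper87

open Cfsg Cfsg.FusionSystem

variable {Ω : Type*} [Group Ω] {S T : Subgroup Ω}

theorem Mor.of_subsystem {E : FusionSystem T} {F : FusionSystem S} (h : E.IsSubsystemOf F)
    {P : Subgroup Ω} {f : Ω → Ω} (hf : Mor E P f) : Mor F P f := by
  obtain ⟨φ, hφ, e⟩ := hf
  exact ⟨φ, h P hφ, e⟩

theorem Iso.of_subsystem {E : FusionSystem T} {F : FusionSystem S} (h : E.IsSubsystemOf F)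
    {P Q : Subgroup Ω} {f : Ω → Ω} (hf : Iso E P Q f) : Iso F P Q f :=
  ⟨hf.1.of_subsystem h, hf.2⟩

/-- the image of `P ≤ T` under an automorphism of `T`, as in the definition of invariance -/
def imgAut (α : MulAut T) (P : Subgroup Ω) : Subgroup Ω :=
  (P.subgroupOf T).map (T.subtype.comp α.toMonoidHom)

theorem mem_imgAut {α : MulAut T} {P : Subgroup Ω} (hP : P ≤ T) {y : Ω} :
    y ∈ imgAut α P ↔ ∃ x ∈ P, extAut α x = y := by
  unfold imgAut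
  constructor
  · rintro ⟨x, hx, rfl⟩
    exact ⟨x, Subgroup.mem_subgroupOf.1 hx, extAut_apply α x⟩
  · rintro ⟨x, hx, rfl⟩
    exact ⟨⟨x, hP hx⟩, Subgroup.mem_subgroupOf.2 hx, (extAut_mem α (hP hx)).symm⟩

theorem imgAut_le (α : MulAut T) (P : Subgroup Ω) : imgAut α P ≤ T := by
  rintro _ ⟨x, -, rfl⟩
  exact (α x).2

theorem imgAut_mono (α : MulAut T) {P P' : Subgroup Ω} (h : P ≤ P') : imgAut α P ≤ imgAut α P' :=
  Subgroup.map_mono (fun _ hx => h hx)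

theorem imgAut_inv_imgAut (α : MulAut T) {P : Subgroup Ω} (hP : P ≤ T) :
    imgAut α (imgAut α⁻¹ P) = P := by
  ext y
  rw [mem_imgAut (imgAut_le _ _)]
  constructor
  · rintro ⟨x, hx, rfl⟩
    obtain ⟨z, hz, rfl⟩ := (mem_imgAut hP).1 hx
    have := extAut_inv_left α⁻¹ (hP hz)
    rw [inv_inv] at this
    rw [this]; exact hz
  · intro hy
    refine ⟨extAut α⁻¹ y, (mem_imgAut hP).2 ⟨y, hy, rfl⟩, ?_⟩
    exact extAut_inv_right α (hP hy)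

/-- the Frattini condition of invariance, at function level -/
theorem frattini_fun {E : FusionSystem T} {F : FusionSystem S} (h : E.IsInvariantIn F)
    {P : Subgroup Ω} (hP : P ≤ T) {f : Ω → Ω} (hf : Mor F P f) :
    ∃ α ∈ F.autGroup T, ∃ f₀, Mor E P f₀ ∧ ∀ x ∈ P, f x = extAut α (f₀ x) := by
  obtain ⟨φ, hφ, e⟩ := hf
  obtain ⟨α, hα, φ₀, hφ₀, e0⟩ := h.2.2.2 P hP φ hφ
  refine ⟨α, hα, extFun φ₀, mor_of_mem hφ₀, fun x hx => ?_⟩
  have hx0 : φ₀ ⟨x, hx⟩ ∈ T := (E.le_of_mem hφ₀).2 _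
  rw [← e ⟨x, hx⟩, e0 ⟨x, hx⟩ hx0, extFun_mem φ₀ hx, extAut_mem α hx0]

/-- the invariance condition, at function level -/
theorem invariance_fun {E : FusionSystem T} {F : FusionSystem S} (h : E.IsInvariantIn F)
    {P : Subgroup Ω} (hP : P ≤ T) {f : Ω → Ω} (hf : Mor E P f) {α : MulAut T}
    (hα : α ∈ F.autGroup T) :
    Mor E (imgAut α P) (fun y => extAut α (f (extAut α⁻¹ y))) := by
  obtain ⟨φ, hφ, e⟩ := hf
  obtain ⟨χ, hχ, eχ⟩ := h.2.2.1 P hP φ hφ α hα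
  refine ⟨χ, hχ, ?_⟩
  rintro ⟨_, ⟨x, hx, rfl⟩⟩
  have hxP : (x : Ω) ∈ P := Subgroup.mem_subgroupOf.1 hx
  have hφx : φ ⟨x, hxP⟩ ∈ T := (E.le_of_mem hφ).2 _
  have h1 := eχ ⟨x, hxP⟩ hφx ⟨x, hx, rfl⟩
  show χ ⟨((α x : T) : Ω), _⟩ = extAut α (f (extAut α⁻¹ ((α x : T) : Ω)))
  have h2 : extAut α⁻¹ ((α x : T) : Ω) = x := by
    rw [extAut_apply]; simp
  rw [h2, ← e ⟨x, hxP⟩, extAut_mem α hφx]
  exact h1

end Cfsg.Agent.Helper87
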