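import Mathlib
import Cfsg.Agent.Lib.Helper87.FusionInvariant

set_option autoImplicit false

namespace Cfsg.Agent.Helper87

open Cfsg Cfsg.FusionSystem

/-- the intersection of a Sylow subgroup with a normal subgroup is a Sylow subgroup of the latter -/
theorem exists_sylow_inf_normal {G : Type*} [Group G] [Finite G] {p : ℕ} [Fact p.Prime]
    (P₀ : Sylow p G) (D : Subgroup G) [hD : D.Normal] :
    ∃ P' : Sylow p D, (P' : Subgroup D) = (P₀ : Subgroup G).subgroupOf D := by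
  have hp : IsPGroup p ((P₀ : Subgroup G).subgroupOf D) := P₀.isPGroup'.comap_subtype
  have hidx : ¬ p ∣ ((P₀ : Subgroup G).subgroupOf D).index := by
    show ¬ p ∣ (P₀ : Subgroup G).relIndex D
    have e1 := Subgroup.relIndex_mul_index (inf_le_right : (P₀ : Subgroup G) ⊓ D ≤ D)
    have e2 := Subgroup.relIndex_mul_index (inf_le_left : (P₀ : Subgroup G) ⊓ D ≤ P₀)
    rw [Subgroup.inf_relIndex_right] at e1
    rw [Subgroup.inf_relIndex_left] at e2
    have e3 : D.relIndex ((P₀ : Subgroup G) ⊔ D) = D.relIndex P₀ := Subgroup.relIndex_sup_right _ _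
    have e4 := Subgroup.relIndex_mul_index (le_sup_right : D ≤ (P₀ : Subgroup G) ⊔ D)
    rw [e3] at e4
    have hr : D.relIndex (P₀ : Subgroup G) ≠ 0 := Subgroup.index_ne_zero_of_finite
    have key : (P₀ : Subgroup G).relIndex D * ((P₀ : Subgroup G) ⊔ D).index =
        (P₀ : Subgroup G).index := by
      have h5 : D.relIndex (P₀ : Subgroup G) * ((P₀ : Subgroup G).relIndex D *
          ((P₀ : Subgroup G) ⊔ D).index) = D.relIndex (P₀ : Subgroup G) * (P₀ : Subgroup G).index := by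
        rw [e2, ← e1, ← e4]; ring
      exact Nat.eq_of_mul_eq_mul_left (Nat.pos_of_ne_zero hr) h5
    intro hdvd
    exact P₀.not_dvd_index (key ▸ Dvd.dvd.mul_right hdvd _)
  exact ⟨hp.toSylow hidx, rfl⟩

variable {Ω : Type*} [Group Ω] {S : Subgroup Ω}

/-- the subgroup of `Aut_F(R)` of automorphisms acting trivially modulo `T` -/
def modSub (F : FusionSystem S) (T R : Subgroup Ω) : Subgroup (F.autGroup R) where
  carrier := {β | ∀ x : R, (x : Ω)⁻¹ * (((β : MulAut R) x : R) : Ω) ∈ T}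
  mul_mem' := by
    intro β₁ β₂ h1 h2 x
    show (x : Ω)⁻¹ * ((((β₁ : MulAut R) ((β₂ : MulAut R) x)) : R) : Ω) ∈ T
    have : (x : Ω)⁻¹ * ((((β₁ : MulAut R) ((β₂ : MulAut R) x)) : R) : Ω) =
        ((x : Ω)⁻¹ * (((β₂ : MulAut R) x : R) : Ω)) *
          ((((β₂ : MulAut R) x : R) : Ω)⁻¹ * ((((β₁ : MulAut R) ((β₂ : MulAut R) x)) : R) : Ω)) := by
      group
    rw [this]
    exact T.mul_mem (h2 x) (h1 _)
  one_mem' := fun x => by simp
  inv_mem' := by
    intro β h1 x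
    have := h1 ((β : MulAut R)⁻¹ x)
    have h3 : (β : MulAut R) ((β : MulAut R)⁻¹ x) = x := by simp
    rw [h3] at this
    have h4 : (x : Ω)⁻¹ * ((((β : MulAut R)⁻¹ x : R)) : Ω) =
        (((((β : MulAut R)⁻¹ x : R)) : Ω)⁻¹ * (x : Ω))⁻¹ := by group
    show (x : Ω)⁻¹ * ((((β : MulAut R)⁻¹ x : R)) : Ω) ∈ T
    rw [h4]; exact T.inv_mem this

theorem mem_modSub {F : FusionSystem S} {T R : Subgroup Ω} {β : F.autGroup R} :
    β ∈ modSub F T R ↔ ∀ x : R, (x : Ω)⁻¹ * (((β : MulAut R) x : R) : Ω) ∈ T := Iff.rfl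

theorem modSub_normal {F : FusionSystem S} {T R : Subgroup Ω} (hT : F.StronglyClosed T)
    (hR : R ≤ S) : (modSub F T R).Normal := by
  constructor
  intro β hβ α x
  show (x : Ω)⁻¹ * ((((α : MulAut R) ((β : MulAut R) ((α : MulAut R)⁻¹ x))) : R) : Ω) ∈ T
  have h2 : ((α : MulAut R)⁻¹ x)⁻¹ * (β : MulAut R) ((α : MulAut R)⁻¹ x) ∈ T.subgroupOf R :=
    Subgroup.mem_subgroupOf.2 (hβ _)
  have h3 := aut_mem_of_stronglyClosed hT hR α.2 (Subgroup.mem_subgroupOf.1 h2)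
  have h4 : (α : MulAut R) (((α : MulAut R)⁻¹ x)⁻¹ * (β : MulAut R) ((α : MulAut R)⁻¹ x)) =
      x⁻¹ * (α : MulAut R) ((β : MulAut R) ((α : MulAut R)⁻¹ x)) := by
    rw [map_mul, map_inv]; simp
  rw [h4] at h3
  exact h3

/-- the predicate of Puig's lifting theorem is closed in the sense of Alperin -/
theorem alperinClosed_lift (F : FusionSystem S) (T : Subgroup Ω) :
    AlperinClosed F (fun P f => ∃ ψ, Mor F (P ⊔ T) ψ ∧ (∀ t ∈ T, ψ t ∈ T) ∧
      ∀ x ∈ P, (f x)⁻¹ * ψ x ∈ T) where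
  congr := by
    rintro P f f' ⟨ψ, hψ, h1, h2⟩ hff
    exact ⟨ψ, hψ, h1, fun x hx => by rw [← hff x hx]; exact h2 x hx⟩
  restrict := by
    rintro P P' f - ⟨ψ, hψ, h1, h2⟩ hP'
    exact ⟨ψ, hψ.restrict (sup_le_sup_right hP' T), h1, fun x hx => h2 x (hP' hx)⟩
  comp := by
    rintro P P' f g hf hg hPP' ⟨ψ₁, hψ₁, a1, b1⟩ ⟨ψ₂, hψ₂, a2, b2⟩
    have hmaps : ∀ x ∈ P ⊔ T, ψ₁ x ∈ P' ⊔ T :=
      hψ₁.map_sup_mem le_sup_left le_sup_right
        (fun a ha => by
          have h3 : ψ₁ a = f a * ((f a)⁻¹ * ψ₁ a) := by group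
          rw [h3]
          exact Subgroup.mul_mem _ ((le_sup_left : P' ≤ P' ⊔ T) (hPP' a ha))
            ((le_sup_right : T ≤ P' ⊔ T) (b1 a ha)))
        (fun b hb => (le_sup_right : T ≤ P' ⊔ T) (a1 b hb))
    refine ⟨fun x => ψ₂ (ψ₁ x), hψ₁.comp hψ₂ hmaps, fun t ht => a2 _ (a1 t ht), fun x hx => ?_⟩
    show (g (f x))⁻¹ * ψ₂ (ψ₁ x) ∈ T
    have h3 : ψ₁ x = f x * ((f x)⁻¹ * ψ₁ x) := by group
    have hfx : f x ∈ P' ⊔ T := (le_sup_left : P' ≤ P' ⊔ T) (hPP' x hx)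
    have htx : (f x)⁻¹ * ψ₁ x ∈ P' ⊔ T := (le_sup_right : T ≤ P' ⊔ T) (b1 x hx)
    rw [h3, hψ₂.map_mul hfx htx, ← mul_assoc]
    exact T.mul_mem (b2 _ (hPP' x hx)) (a2 _ (b1 x hx))

/-- **Puig's lifting theorem**: if `T` is strongly closed in the saturated system `F`, every map `f : P → S` of
`F` agrees modulo `T` with a map of `F` defined on `PT` and preserving `T`. -/
theorem exists_lift_mod_stronglyClosed {p : ℕ} [Fact p.Prime] [Finite S] (hS : IsPGroup p S)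
    {F : FusionSystem S} (hF : F.IsSaturated p) {T : Subgroup Ω} (hT : F.StronglyClosed T) :
    ∀ (P : Subgroup Ω) (f : Ω → Ω), Mor F P f →
      ∃ ψ, Mor F (P ⊔ T) ψ ∧ (∀ t ∈ T, ψ t ∈ T) ∧ ∀ x ∈ P, (f x)⁻¹ * ψ x ∈ T := by
  classical
  apply alperin_fullyNormalized hS hF _ (alperinClosed_lift F T)
  intro R hfn IH α hα
  have hR : R ≤ S := hfn.1
  have hfinR : Finite R := finite_of_le hR
  have hαmor : Mor F R (extAut α) := (mem_autGroup_iff hR).1 hα
  by_cases hTR : T ≤ R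
  · refine ⟨extAut α, by rw [sup_eq_left.2 hTR]; exact hαmor,
      fun t ht => (stronglyClosed_iff.1 hT).2 T _ le_rfl (hαmor.restrict hTR) t ht,
      fun x _ => by simp [T.one_mem]⟩
  · -- an element of N_T(R) outside R
    have hRT : R ⊔ T ≤ S := sup_le hR hT.1
    have hRTp : IsPGroup p (R ⊔ T : Subgroup Ω) := hS.to_le hRT
    have hRTfin : Finite (R ⊔ T : Subgroup Ω) := finite_of_le hRT
    have hne : R ≠ R ⊔ T := fun h => hTR (h ▸ le_sup_right)
    obtain ⟨n, hn, hnR⟩ := exists_normalizer_not_mem (S := R ⊔ T) hRTp le_sup_left hne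
    have hRN : R ≤ Subgroup.normalizer (T : Set Ω) := hR.trans (StronglyClosed.le_normalizer hT)
    have hcoe := Subgroup.coe_mul_of_left_le_normalizer_right R T hRN
    have hnT : n ∈ (↑(R ⊔ T) : Set Ω) := hn.1
    rw [hcoe] at hnT
    obtain ⟨r, hr, u, hu, rfl⟩ := hnT
    have huN : u ∈ Subgroup.normalizer (R : Set Ω) := by
      have h2 : u = r⁻¹ * (r * u) := by group
      rw [h2]
      exact Subgroup.mul_mem _ (Subgroup.inv_mem _ (Subgroup.le_normalizer hr)) hn.2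
    have huR : u ∉ R := fun h => hnR (R.mul_mem hr h)
    -- Frattini argument in Aut_F(R)
    obtain ⟨-, P₀, hP₀⟩ := fullyAutomized_of_fullyNormalized hS hF hfn
    have hDn : (modSub F T R).Normal := modSub_normal hT hR
    obtain ⟨P', hP'⟩ := exists_sylow_inf_normal P₀ (modSub F T R)
    have hmap : ∀ x : F.autGroup R, x ∈ (P' : Subgroup (modSub F T R)).map (modSub F T R).subtype ↔
        x ∈ modSub F T R ∧ x ∈ (P₀ : Subgroup (F.autGroup R)) := by
      intro x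
      constructor
      · rintro ⟨d, hd, rfl⟩
        rw [hP'] at hd
        exact ⟨d.2, Subgroup.mem_subgroupOf.1 hd⟩
      · rintro ⟨h1, h2⟩
        refine ⟨⟨x, h1⟩, ?_, rfl⟩
        rw [hP']
        exact Subgroup.mem_subgroupOf.2 h2
    have hfrat := Sylow.normalizer_sup_eq_top P'
    have hαtop : (⟨α, hα⟩ : F.autGroup R) ∈
        Subgroup.normalizer ((P' : Subgroup (modSub F T R)).map (modSub F T R).subtype : Set _) ⊔
          modSub F T R := by
      rw [hfrat]; trivial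
    obtain ⟨ν, hν, δ, hδ, hνδ⟩ := Subgroup.mem_sup_of_normal_right.1 hαtop
    -- the predicate for δ
    have hδmor : Mor F R (extAut (δ : MulAut R)) := (mem_autGroup_iff hR).1 δ.2
    have Cδ : ∃ ψ, Mor F (R ⊔ T) ψ ∧ (∀ t ∈ T, ψ t ∈ T) ∧
        ∀ x ∈ R, (extAut (δ : MulAut R) x)⁻¹ * ψ x ∈ T := by
      refine ⟨fun x => x, Mor.id hRT, fun t ht => ht, fun x hx => ?_⟩
      have := hδ ⟨x, hx⟩
      rw [extAut_mem _ hx]
      have h4 : (((δ : MulAut R) ⟨x, hx⟩ : R) : Ω)⁻¹ * x =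
          (x⁻¹ * (((δ : MulAut R) ⟨x, hx⟩ : R) : Ω))⁻¹ := by group
      rw [h4]; exact T.inv_mem this
    -- the predicate for ν
    have hνmor : Mor F R (extAut (ν : MulAut R)) := (mem_autGroup_iff hR).1 ν.2
    have hνiso : Iso F R R (extAut (ν : MulAut R)) := iso_of_mor_extAut hνmor
    have huS : u ∈ S := hT.1 hu
    have cuA : conjAut R u huN ∈ F.autGroup R :=
      autInducedBy_le_autGroup F hR (conjAut_mem_autInducedBy huS huN)
    have hcu : (⟨conjAut R u huN, cuA⟩ : F.autGroup R) ∈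
        (P' : Subgroup (modSub F T R)).map (modSub F T R).subtype := by
      rw [hmap]
      constructor
      · intro x
        show (x : Ω)⁻¹ * ((conjAut R u huN x : R) : Ω) ∈ T
        rw [conjAut_apply]
        have h1 : (x : Ω)⁻¹ * (u * x * u⁻¹) = ((x : Ω)⁻¹ * u * (x : Ω)⁻¹⁻¹) * u⁻¹ := by group
        rw [h1]
        exact T.mul_mem (StronglyClosed.conj_mem hT (S.inv_mem (hR x.2)) hu) (T.inv_mem hu)
      · rw [hP₀, Subgroup.mem_subgroupOf]
        exact conjAut_mem_autInducedBy huS huN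
    have hconj : ν * (⟨conjAut R u huN, cuA⟩ : F.autGroup R) * ν⁻¹ ∈
        (P' : Subgroup (modSub F T R)).map (modSub F T R).subtype :=
      (Subgroup.mem_normalizer_iff.1 hν _).1 hcu
    have hconj2 := ((hmap _).1 hconj).2
    rw [hP₀, Subgroup.mem_subgroupOf] at hconj2
    obtain ⟨k, hk, ek⟩ := mem_autInducedBy_iff.1 hconj2
    have huext : u ∈ hνiso.ext := by
      refine ⟨huS, huN, k, hk, fun x hx => ?_⟩
      have hx' : u * x * u⁻¹ ∈ R := (Subgroup.mem_normalizer_iff.1 huN x).1 hx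
      have h1 := ek ((ν : MulAut R) ⟨x, hx⟩)
      rw [extAut_mem _ hx', extAut_mem _ hx, ← h1]
      show (((ν : MulAut R) ⟨u * x * u⁻¹, hx'⟩ : R) : Ω) =
        (((ν : MulAut R) (conjAut R u huN ((ν : MulAut R)⁻¹ ((ν : MulAut R) ⟨x, hx⟩))) : R) : Ω)
      have h2 : (ν : MulAut R)⁻¹ ((ν : MulAut R) ⟨x, hx⟩) = ⟨x, hx⟩ := by simp
      rw [h2]
      rfl
    obtain ⟨ν', hν', eν⟩ := (isReceptive_iff.1 (receptive_of_fullyNormalized hS hF hfn)).2 R _ hνiso
    have hlt : Nat.card R < Nat.card hνiso.ext :=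
      card_lt_of_not_mem hνiso.le_ext (hνiso.ext_le_normalizerIn.trans inf_le_left) huext huR
    have hCl := alperinClosed_lift F T
    have Cν := hCl.congr (hCl.restrict hν' (IH _ _ hν' hlt) hνiso.le_ext) eν
    have Cνδ := hCl.comp hδmor hνmor (fun x hx => extAut_mem_self _ hx) Cδ Cν
    refine hCl.congr Cνδ (fun x hx => ?_)
    have h5 : α = (ν : MulAut R) * (δ : MulAut R) := by
      have := congrArg (fun z : F.autGroup R => (z : MulAut R)) hνδ
      exact this.symm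
    rw [h5, extAut_mul _ _ hx]

end Cfsg.Agent.Helper87
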