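import Mathlib
import Cfsg.Agent.Lib.Helper87.FusionPuig

set_option autoImplicit false

namespace Cfsg.Agent.Helper87

open Cfsg Cfsg.FusionSystem

variable {Ω : Type*} [Group Ω] {S : Subgroup Ω}

theorem centralizerIn_le_normalizerIn (S P : Subgroup Ω) : centralizerIn S P ≤ normalizerIn S P := by
  intro g hg
  refine ⟨hg.1, ?_⟩
  have hc : ∀ x ∈ P, g * x * g⁻¹ = x := by
    intro x hx
    have := hg.2 x hx
    rw [← this]; group
  show g ∈ Subgroup.normalizer (P : Set Ω)
  rw [Subgroup.mem_normalizer_iff]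
  intro x
  constructor
  · intro hx; rw [hc x hx]; exact hx
  · intro hx
    have h2 := hc _ hx
    have h3 : g * x * g⁻¹ = x := by
      have h4 : g * (g * x * g⁻¹) * g⁻¹ = g * x * g⁻¹ := h2
      exact mul_left_cancel (mul_right_cancel h4)
    rw [← h3]; exact hx

/-- a map defined on `N_S(P)` carrying `P` onto `Q` sends `C_S(P)` into `C_S(Q)` -/
theorem map_centralizerIn {F : FusionSystem S} {N P Q : Subgroup Ω} {g : Ω → Ω} (hg : Mor F N g)
    (hPN : P ≤ N) (hPQ : Iso F P Q g) {c : Ω} (hcN : c ∈ N) (hc : c ∈ centralizerIn S P) :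
    g c ∈ centralizerIn S Q := by
  refine ⟨hg.mem hcN, fun y hy => ?_⟩
  obtain ⟨x, hx, rfl⟩ := hPQ.surj hy
  rw [← hg.map_mul (hPN hx) hcN, ← hg.map_mul hcN (hPN hx), hc.2 x hx]

/-- in a saturated system a fully centralized subgroup is receptive -/
theorem receptive_of_fullyCentralized {p : ℕ} [Fact p.Prime] [Finite S] (hS : IsPGroup p S)
    {F : FusionSystem S} (hF : F.IsSaturated p) {P : Subgroup Ω} (hP : F.IsFullyCentralized P) :
    F.IsReceptive P := by
  classical
  obtain ⟨Q, hPQ, hQfn⟩ := exists_fullyNormalized_conj F hP.1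
  obtain ⟨g, hg, hgPQ⟩ := exists_map_normalizer_to_fullyNormalized hS hF hQfn hPQ
  have hQr := receptive_of_fullyNormalized hS hF hQfn
  have hPN : P ≤ normalizerIn S P := le_normalizerIn hP.1
  have hCN : centralizerIn S P ≤ normalizerIn S P := centralizerIn_le_normalizerIn S P
  -- g maps C_S(P) onto C_S(Q)
  have hCiso : Iso F (centralizerIn S P) (centralizerIn S Q) g :=
    iso_of_card_le (hg.restrict hCN) inf_le_left
      (fun c hc => map_centralizerIn hg hPN hgPQ (hCN hc) hc) (hP.2 Q hPQ)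
  have hM : Iso F (normalizerIn S P) hg.image g := Iso.of_mor hg
  obtain ⟨g', hg', e1, e2⟩ := hM.symm
  rw [isReceptive_iff]
  refine ⟨hP.1, fun R t ht => ?_⟩
  have hgt : Iso F R Q (fun x => g (t x)) := ht.comp hgPQ
  obtain ⟨ρ, hρ, eρ⟩ := (isReceptive_iff.1 hQr).2 R _ hgt
  -- N_t ≤ N_{gt}, remembering the element k
  have hkN : ∀ n ∈ ht.ext, ∀ k ∈ S, (∀ x ∈ R, t (n * x * n⁻¹) = k * t x * k⁻¹) →
      k ∈ Subgroup.normalizer (P : Set Ω) := by
    intro n hn k _ ek
    have hnN := hn.2.1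
    rw [Subgroup.mem_normalizer_iff]
    intro y
    constructor
    · intro hy
      obtain ⟨x, hx, rfl⟩ := ht.surj hy
      rw [← ek x hx]
      exact ht.map_mem ((Subgroup.mem_normalizer_iff.1 hnN x).1 hx)
    · intro hy
      obtain ⟨x', hx', e'⟩ := ht.surj hy
      have hx'' : n⁻¹ * x' * n ∈ R := by
        have := (Subgroup.mem_normalizer_iff.1 (Subgroup.inv_mem _ hnN) x').1 hx'
        simpa using this
      have h1 := ek _ hx''
      have h2 : n * (n⁻¹ * x' * n) * n⁻¹ = x' := by group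
      rw [h2, e'] at h1
      have h3 : y = t (n⁻¹ * x' * n) := mul_left_cancel (mul_right_cancel h1)
      rw [h3]
      exact ht.map_mem hx''
  have hle : ht.ext ≤ hgt.ext := by
    intro n hn
    obtain ⟨hnS, hnN, k, hk, ek⟩ := id hn
    have hkNP := hkN n hn k hk ek
    refine ⟨hnS, hnN, g k, hg.mem ⟨hk, hkNP⟩, fun x hx => ?_⟩
    show g (t (n * x * n⁻¹)) = g k * g (t x) * (g k)⁻¹
    rw [ek x hx, hg.map_conj ⟨hk, hkNP⟩ (hPN (ht.map_mem hx))]
  have hρ' : Mor F ht.ext ρ := hρ.restrict hle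
  have hρQ : Iso F R Q ρ := hgt.congr (fun x hx => (eρ x hx).symm)
  -- ρ maps N_t into the image of g
  have hmaps : ∀ n ∈ ht.ext, ρ n ∈ hg.image := by
    intro n hn
    obtain ⟨hnS, hnN, k, hk, ek⟩ := id hn
    have hkNP := hkN n hn k hk ek
    have hkNS : k ∈ normalizerIn S P := ⟨hk, hkNP⟩
    -- (g k)⁻¹ * ρ n centralizes Q
    have hcen : (g k)⁻¹ * ρ n ∈ centralizerIn S Q := by
      refine ⟨S.mul_mem (S.inv_mem (hg.mem hkNS)) (hρ'.mem hn), fun y hy => ?_⟩
      obtain ⟨x, hx, rfl⟩ := hρQ.surj hy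
      have hxE : x ∈ ht.ext := ht.le_ext hx
      have h1 : ρ (n * x * n⁻¹) = ρ n * ρ x * (ρ n)⁻¹ := hρ'.map_conj hn hxE
      have hx' : n * x * n⁻¹ ∈ R := (Subgroup.mem_normalizer_iff.1 hnN x).1 hx
      have h2 : ρ (n * x * n⁻¹) = g k * ρ x * (g k)⁻¹ := by
        rw [eρ _ hx', eρ x hx]
        show g (t (n * x * n⁻¹)) = g k * g (t x) * (g k)⁻¹
        rw [ek x hx, hg.map_conj hkNS (hPN (ht.map_mem hx))]
      have h3 : ρ n * ρ x * (ρ n)⁻¹ = g k * ρ x * (g k)⁻¹ := h1.symm.trans h2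
      calc ρ x * ((g k)⁻¹ * ρ n) = (g k)⁻¹ * (g k * ρ x * (g k)⁻¹) * ρ n := by group
        _ = (g k)⁻¹ * (ρ n * ρ x * (ρ n)⁻¹) * ρ n := by rw [h3]
        _ = (g k)⁻¹ * ρ n * ρ x := by group
    obtain ⟨c, hc, hcc⟩ := hCiso.surj hcen
    refine ⟨k * c, (normalizerIn S P).mul_mem hkNS (hCN hc), ?_⟩
    rw [hg.map_mul hkNS (hCN hc), hcc]; group
  refine ⟨fun x => g' (ρ x), hρ'.comp hg'.1 hmaps, fun x hx => ?_⟩
  show g' (ρ x) = t x
  rw [eρ x hx]
  exact e1 _ (hPN (ht.map_mem hx))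

/-- a fully normalized subgroup of a saturated system is fully centralized -/
theorem fullyCentralized_of_fullyNormalized {p : ℕ} [Fact p.Prime] [Finite S] (hS : IsPGroup p S)
    {F : FusionSystem S} (hF : F.IsSaturated p) {P : Subgroup Ω} (hP : F.IsFullyNormalized P) :
    F.IsFullyCentralized P := by
  refine ⟨hP.1, fun Q hPQ => ?_⟩
  obtain ⟨g, hg, hgQP⟩ := exists_map_normalizer_to_fullyNormalized hS hF hP (isConj_symm hPQ)
  have hQ : Q ≤ S := (isConj_le hPQ).2
  exact card_le_of_mor (hg.restrict (centralizerIn_le_normalizerIn S Q)) inf_le_left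
    (fun c hc => map_centralizerIn hg (le_normalizerIn hQ) hgQP
      (centralizerIn_le_normalizerIn S Q hc) hc)

/-- if `S` is abelian then `S` is normal in every saturated fusion system over `S` -/
theorem isNormal_top_of_abelian {p : ℕ} [Fact p.Prime] [Finite S] (hS : IsPGroup p S)
    {F : FusionSystem S} (hF : F.IsSaturated p) (hab : ∀ a ∈ S, ∀ b ∈ S, a * b = b * a) :
    F.IsNormal S := by
  apply isNormal_top_of_centric_radical_eq hS hF
  intro R _ hcen _
  apply le_antisymm hcen.1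
  intro s hs
  exact hcen.2 R (isConj_refl hcen.1) ⟨hs, fun x hx => hab x (hcen.1 hx) s hs⟩

/-- if `S` is abelian then `Aut_F(S)` has order prime to `p` -/
theorem card_autGroup_top_coprime_of_abelian {p : ℕ} [Fact p.Prime] [Finite S] (hS : IsPGroup p S)
    {F : FusionSystem S} (hF : F.IsSaturated p) (hab : ∀ a ∈ S, ∀ b ∈ S, a * b = b * a) :
    (Nat.card (F.autGroup S)).Coprime p := by
  classical
  obtain ⟨-, R, hR⟩ := fullyAutomized_of_fullyNormalized hS hF (fullyNormalized_self F)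
  have hbot : autInducedBy S S = ⊥ := by
    rw [eq_bot_iff]
    intro α hα
    obtain ⟨g, hg, e⟩ := mem_autInducedBy_iff.1 hα
    rw [Subgroup.mem_bot]
    ext x
    rw [e x, hab g hg x x.2]; simp
  have hRbot : (R : Subgroup (F.autGroup S)) = ⊥ := by
    rw [hR, hbot]; exact Subgroup.bot_subgroupOf _
  have h1 : Nat.card (R : Subgroup (F.autGroup S)) = 1 := by rw [hRbot]; exact Subgroup.card_bot
  have h2 := R.card_eq_multiplicity
  rw [h1] at h2
  have hp : p.Prime := Fact.out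
  have h3 : (Nat.card (F.autGroup S)).factorization p = 0 := by
    by_contra h
    have : 1 < p ^ (Nat.card (F.autGroup S)).factorization p :=
      Nat.one_lt_pow h hp.one_lt
    omega
  have hpos : Nat.card (F.autGroup S) ≠ 0 := Nat.card_pos.ne'
  rcases (Nat.factorization_eq_zero_iff _ _).1 h3 with h | h | h
  · exact absurd hp h
  · exact (Nat.Coprime.symm ((Nat.Prime.coprime_iff_not_dvd hp).2 h))
  · exact absurd h hpos

end Cfsg.Agent.Helper87
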