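import Mathlib
import Cfsg.Agent.Lib.Helper87.FusionMore

set_option autoImplicit false

namespace Cfsg.Agent.Helper87

open Cfsg Cfsg.FusionSystem

/-- group isomorphisms carry `O_p` to `O_p` (finite groups) -/
theorem pCore_map_equiv {p : ℕ} [Fact p.Prime] {A B : Type*} [Group A] [Group B] [Finite A] (e : A ≃* B) :
    (pCore p A).map e.toMonoidHom = pCore p B := by
  have hfinB : Finite B := Finite.of_equiv A e.toEquiv
  apply le_antisymm
  · apply le_pCore
    · exact (pCore_normal p A).map e.toMonoidHom e.surjective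
    · exact pCore_isPGroup.map _
  · have h1 : (pCore p B).map e.symm.toMonoidHom ≤ pCore p A := by
      apply le_pCore
      · exact (pCore_normal p B).map e.symm.toMonoidHom e.symm.surjective
      · exact pCore_isPGroup.map _
    intro b hb
    refine ⟨e.symm b, h1 ⟨b, hb, rfl⟩, ?_⟩
    simp

variable {Ω : Type*} [Group Ω] {S : Subgroup Ω}

theorem isCentric_of_conj {F : FusionSystem S} {P Q : Subgroup Ω} (hP : F.IsCentric P)
    (hPQ : F.IsConj P Q) : F.IsCentric Q :=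
  ⟨(isConj_le hPQ).2, fun R hQR => hP.2 R (isConj_trans hPQ hQR)⟩

theorem congr_conj {P Q : Subgroup Ω} (e : P ≃* Q) (x : P) :
    MulAut.congr e (MulAut.conj x) = MulAut.conj (e x) := by
  ext y
  show ((e (MulAut.conj x (e.symm y)) : Q) : Ω) = ((MulAut.conj (e x) y : Q) : Ω)
  simp [MulAut.conj_apply]

theorem inn_map_congr {P Q : Subgroup Ω} (e : P ≃* Q) :
    (Inn P).map (MulAut.congr e).toMonoidHom = Inn Q := by
  apply le_antisymm
  · rintro _ ⟨_, ⟨x, rfl⟩, rfl⟩
    exact ⟨e x, (congr_conj e x).symm⟩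
  · rintro _ ⟨y, rfl⟩
    refine ⟨MulAut.conj (e.symm y), ⟨e.symm y, rfl⟩, ?_⟩
    show MulAut.congr e (MulAut.conj (e.symm y)) = MulAut.conj y
    rw [congr_conj]; simp

/-- being radical is invariant under conjugation in the system -/
theorem isRadical_of_iso {p : ℕ} [Fact p.Prime] [Finite S] {F : FusionSystem S} {P Q : Subgroup Ω}
    {f : Ω → Ω} (h : Iso F P Q f) (hP : F.IsRadical p P) : F.IsRadical p Q := by
  classical
  have hfinP : Finite P := finite_of_le h.le_left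
  refine ⟨h.le_right, ?_⟩
  have hmap := map_autGroup_eq h
  -- the induced isomorphism between the automorphism groups
  let ε : F.autGroup P ≃* F.autGroup Q :=
    ((MulAut.congr h.equiv).subgroupMap (F.autGroup P)).trans (MulEquiv.subgroupCongr hmap)
  have hε : ∀ a : F.autGroup P, ((ε a : F.autGroup Q) : MulAut Q) = MulAut.congr h.equiv (a : MulAut P) :=
    fun _ => rfl
  rw [← pCore_map_equiv ε, ← inn_map_congr h.equiv, ← hP.2]
  ext β
  constructor
  · rintro ⟨_, ⟨a, ha, rfl⟩, rfl⟩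
    exact ⟨(a : MulAut P), ⟨a, ha, rfl⟩, (hε a).symm⟩
  · rintro ⟨_, ⟨a, ha, rfl⟩, rfl⟩
    exact ⟨ε a, ⟨a, ha, rfl⟩, hε a⟩

/-- the subgroup of `Aut_F(R)` of automorphisms acting trivially on `R ∩ T` and on `R` modulo `T` -/
def stabSub₁ (F : FusionSystem S) (T R : Subgroup Ω) : Subgroup (F.autGroup R) where
  carrier := {β | (∀ x : R, (x : Ω)⁻¹ * (((β : MulAut R) x : R) : Ω) ∈ T) ∧
    ∀ x : R, (x : Ω) ∈ T → (β : MulAut R) x = x}
  mul_mem' := by
    rintro β₁ β₂ ⟨a1, b1⟩ ⟨a2, b2⟩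
    refine ⟨(modSub F T R).mul_mem a1 a2, fun x hx => ?_⟩
    show (β₁ : MulAut R) ((β₂ : MulAut R) x) = x
    rw [b2 x hx, b1 x hx]
  one_mem' := ⟨(modSub F T R).one_mem, fun _ _ => rfl⟩
  inv_mem' := by
    rintro β ⟨a1, b1⟩
    refine ⟨(modSub F T R).inv_mem a1, fun x hx => ?_⟩
    show (β : MulAut R)⁻¹ x = x
    have := b1 x hx
    calc (β : MulAut R)⁻¹ x = (β : MulAut R)⁻¹ ((β : MulAut R) x) := by rw [this]
      _ = x := by simp

theorem stabSub₁_normal {F : FusionSystem S} {T R : Subgroup Ω} (hT : F.StronglyClosed T)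
    (hR : R ≤ S) : (stabSub₁ F T R).Normal := by
  constructor
  rintro β ⟨a1, b1⟩ α
  have hmod := (modSub_normal hT hR).conj_mem β a1 α
  refine ⟨hmod, fun x hx => ?_⟩
  show (α : MulAut R) ((β : MulAut R) ((α : MulAut R)⁻¹ x)) = x
  have hαinv : (α : MulAut R)⁻¹ ∈ F.autGroup R := Subgroup.inv_mem _ α.2
  have hy : (((α : MulAut R)⁻¹ x : R) : Ω) ∈ T := aut_mem_of_stronglyClosed hT hR hαinv hx
  rw [b1 _ hy]; simp

theorem stabSub₁_isPGroup {p : ℕ} [Fact p.Prime] [Finite S] (hS : IsPGroup p S)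
    {F : FusionSystem S} {T R : Subgroup Ω} (hR : R ≤ S) : IsPGroup p (stabSub₁ F T R) := by
  have hfinR : Finite R := finite_of_le hR
  rintro ⟨β, a1, b1⟩
  have hfix : ∀ x ∈ T.subgroupOf R, (β : MulAut R) x = x :=
    fun x hx => b1 x (Subgroup.mem_subgroupOf.1 hx)
  have hmod : ∀ x : R, x⁻¹ * (β : MulAut R) x ∈ T.subgroupOf R :=
    fun x => Subgroup.mem_subgroupOf.2 (a1 x)
  have h1 := pow_card_eq_one_of_stabilizes (β : MulAut R) (T.subgroupOf R) hfix hmod
  have hR₀p : IsPGroup p (T.subgroupOf R) := (hS.to_le hR).to_subgroup _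
  obtain ⟨b, hb⟩ := IsPGroup.iff_card.1 hR₀p
  refine ⟨b, Subtype.ext (Subtype.ext ?_)⟩
  show (β : MulAut R) ^ p ^ b = 1
  rw [← hb]; exact h1

theorem stabSub₁_le_pCore {p : ℕ} [Fact p.Prime] [Finite S] (hS : IsPGroup p S)
    {F : FusionSystem S} {T R : Subgroup Ω} (hT : F.StronglyClosed T) (hR : R ≤ S) :
    stabSub₁ F T R ≤ pCore p (F.autGroup R) :=
  le_pCore (stabSub₁_normal hT hR) (stabSub₁_isPGroup hS hR)

end Cfsg.Agent.Helper87
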