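import Mathlib

set_option autoImplicit false

/-!
# The trace map for a subgroup of index prime to `p` acting on an abelian `p`-group

`C_A(T) = C_A(G) × ker(tr)` when `|G : T|` is prime to `p`.
-/

namespace Cfsg.Agent.Helper87

open scoped Classical in
/-- the relative trace `a ↦ ∏_{gT} g(a)` (defined with chosen coset representatives) -/
noncomputable def relTrace {A : Type*} [CommGroup A] {G : Type*} [Group G] [Finite G]
    (ρ : G →* MulAut A) (T : Subgroup G) : A →* A :=
  letI : Fintype (G ⧸ T) := Fintype.ofFinite _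
  ∏ q : G ⧸ T, (ρ (Quotient.out q)).toMonoidHom

theorem relTrace_apply {A : Type*} [CommGroup A] {G : Type*} [Group G] [Finite G]
    (ρ : G →* MulAut A) (T : Subgroup G) (a : A) :
    relTrace ρ T a = (letI : Fintype (G ⧸ T) := Fintype.ofFinite _;
      ∏ q : G ⧸ T, ρ (Quotient.out q) a) := by
  unfold relTrace
  simp

theorem relTrace_fixed {A : Type*} [CommGroup A] {G : Type*} [Group G] [Finite G]
    (ρ : G →* MulAut A) (T : Subgroup G) {a : A} (ha : ∀ t ∈ T, ρ t a = a) (g : G) :
    ρ g (relTrace ρ T a) = relTrace ρ T a := by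
  letI : Fintype (G ⧸ T) := Fintype.ofFinite _
  rw [relTrace_apply, map_prod]
  have h1 : ∀ q : G ⧸ T, ρ g (ρ (Quotient.out q) a) = ρ (Quotient.out (g • q)) a := by
    intro q
    have hmk : (QuotientGroup.mk (Quotient.out (g • q)) : G ⧸ T) = QuotientGroup.mk (g * Quotient.out q) := by
      rw [QuotientGroup.out_eq']
      conv_lhs => rw [← QuotientGroup.out_eq' q]
      rfl
    have ht : (Quotient.out (g • q))⁻¹ * (g * Quotient.out q) ∈ T := QuotientGroup.eq.1 hmk
    have h2 := ha _ ht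
    have h3 : g * Quotient.out q = Quotient.out (g • q) * ((Quotient.out (g • q))⁻¹ * (g * Quotient.out q)) := by
      group
    calc ρ g (ρ (Quotient.out q) a) = ρ (g * Quotient.out q) a := by rw [map_mul]; rfl
      _ = ρ (Quotient.out (g • q)) (ρ ((Quotient.out (g • q))⁻¹ * (g * Quotient.out q)) a) := by
        conv_lhs => rw [h3, map_mul]
        rfl
      _ = ρ (Quotient.out (g • q)) a := by rw [h2]
  simp_rw [h1]
  exact Equiv.prod_comp (MulAction.toPerm g : Equiv.Perm (G ⧸ T)) (fun q => ρ (Quotient.out q) a)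

theorem relTrace_of_fixed {A : Type*} [CommGroup A] {G : Type*} [Group G] [Finite G]
    (ρ : G →* MulAut A) (T : Subgroup G) {a : A} (ha : ∀ g : G, ρ g a = a) :
    relTrace ρ T a = a ^ T.index := by
  letI : Fintype (G ⧸ T) := Fintype.ofFinite _
  rw [relTrace_apply]
  simp_rw [ha]
  rw [Finset.prod_const, Finset.card_univ, Subgroup.index_eq_card, Nat.card_eq_fintype_card]

/-- `C_A(T) = C_A(G) × K` for an abelian `p`-group `A` and a subgroup `T` of index prime to `p` -/
theorem exists_compl_fixedPoints {p : ℕ} [Fact p.Prime] {A : Type*} [CommGroup A] [Finite A]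
    (hA : IsPGroup p A) {G : Type*} [Group G] [Finite G] (ρ : G →* MulAut A) (T : Subgroup G)
    (hT : (T.index).Coprime p) :
    ∃ K : Subgroup A, (∀ k ∈ K, ∀ t ∈ T, ρ t k = k) ∧
      (∀ a, (∀ g, ρ g a = a) → a ∈ K → a = 1) ∧
      (∀ a, (∀ t ∈ T, ρ t a = a) → ∃ c k, (∀ g, ρ g c = c) ∧ k ∈ K ∧ a = c * k) := by
  obtain ⟨e, he⟩ := IsPGroup.iff_card.1 hA
  let K : Subgroup A :=
    { carrier := {a | (∀ t ∈ T, ρ t a = a) ∧ relTrace ρ T a = 1}
      mul_mem' := by
        rintro a b ⟨ha, ha'⟩ ⟨hb, hb'⟩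
        exact ⟨fun t ht => by rw [map_mul, ha t ht, hb t ht], by rw [map_mul, ha', hb', one_mul]⟩
      one_mem' := ⟨fun t _ => map_one _, map_one _⟩
      inv_mem' := by
        rintro a ⟨ha, ha'⟩
        exact ⟨fun t ht => by rw [map_inv, ha t ht], by rw [map_inv, ha', inv_one]⟩ }
  refine ⟨K, fun k hk => hk.1, ?_, ?_⟩
  · intro a ha haK
    have h1 : a ^ T.index = 1 := by rw [← relTrace_of_fixed ρ T ha]; exact haK.2
    have h2 : a ^ p ^ e = 1 := by rw [← he]; exact pow_card_eq_one'
    have hd1 : orderOf a ∣ T.index := orderOf_dvd_of_pow_eq_one h1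
    have hd2 : orderOf a ∣ p ^ e := orderOf_dvd_of_pow_eq_one h2
    have hc : (orderOf a).Coprime (p ^ e) := (hT.pow_right e).coprime_dvd_left hd1
    exact orderOf_eq_one_iff.mp (hc.eq_one_of_dvd hd2)
  · intro a ha
    have hb : ∀ g, ρ g (relTrace ρ T a) = relTrace ρ T a := relTrace_fixed ρ T ha
    have hcop : Nat.Coprime T.index (Nat.card A) := by rw [he]; exact hT.pow_right e
    have hbez := Nat.gcd_eq_gcd_ab T.index (Nat.card A)
    rw [hcop.gcd_eq_one] at hbez
    have hcard : (relTrace ρ T a) ^ (Nat.card A : ℤ) = 1 := by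
      rw [zpow_natCast]; exact pow_card_eq_one'
    have hpow : ((relTrace ρ T a) ^ (Nat.gcdA T.index (Nat.card A))) ^ T.index = relTrace ρ T a := by
      have h4 : (relTrace ρ T a) ^ ((T.index : ℤ) * Nat.gcdA T.index (Nat.card A) +
          (Nat.card A : ℤ) * Nat.gcdB T.index (Nat.card A)) = relTrace ρ T a := by
        rw [← hbez]; simp
      rw [zpow_add, zpow_mul _ (Nat.card A : ℤ), hcard, one_zpow, mul_one] at h4
      rw [← zpow_natCast, ← zpow_mul, mul_comm]
      exact h4
    refine ⟨(relTrace ρ T a) ^ (Nat.gcdA T.index (Nat.card A)),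
      a * ((relTrace ρ T a) ^ (Nat.gcdA T.index (Nat.card A)))⁻¹, ?_, ⟨?_, ?_⟩, ?_⟩
    · intro g; rw [map_zpow, hb g]
    · intro t ht; rw [map_mul, map_inv, map_zpow, ha t ht, hb t]
    · rw [map_mul, map_inv, relTrace_of_fixed ρ T (a := (relTrace ρ T a) ^ (Nat.gcdA T.index (Nat.card A)))
        (fun g => by rw [map_zpow, hb g]), hpow, mul_inv_cancel]
    · simp

end Cfsg.Agent.Helper87
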