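import Mathlib
import Cfsg.Agent.Lib.Helper87.FusionRadical
import Cfsg.Agent.Lib.Helper87.TraceCompl

set_option autoImplicit false

namespace Cfsg.Agent.Helper87

open Cfsg Cfsg.FusionSystem

variable {Ω : Type*} [Group Ω] {S : Subgroup Ω}

/-- centrality of a subgroup in the system, at function level -/
theorem isCentral_iff {F : FusionSystem S} {Q : Subgroup Ω} :
    F.IsCentral Q ↔ Q ≤ S ∧ ∀ (P : Subgroup Ω) (f : Ω → Ω), Mor F P f →
      ∃ g, Mor F (P ⊔ Q) g ∧ (∀ x ∈ P, g x = f x) ∧ ∀ x ∈ Q, g x = x := by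
  constructor
  · rintro ⟨hQ, h⟩
    refine ⟨hQ, fun P f hf => ?_⟩
    obtain ⟨φ, hφ, e⟩ := hf
    obtain ⟨ψ, hψ, e1, e2⟩ := h P φ hφ
    refine ⟨extFun ψ, mor_of_mem hψ, fun x hx => ?_, fun x hx => ?_⟩
    · have hx' : x ∈ P ⊔ Q := (le_sup_left : P ≤ P ⊔ Q) hx
      rw [extFun_mem ψ hx', ← e ⟨x, hx⟩, ← e1 ⟨x, hx⟩]
      rfl
    · have hx' : x ∈ P ⊔ Q := (le_sup_right : Q ≤ P ⊔ Q) hx
      rw [extFun_mem ψ hx']
      exact e2 ⟨x, hx⟩
  · rintro ⟨hQ, h⟩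
    refine ⟨hQ, fun P φ hφ => ?_⟩
    obtain ⟨g, ⟨ψ, hψ, e⟩, e1, e2⟩ := h P _ (mor_of_mem hφ)
    refine ⟨ψ, hψ, fun x => ?_, fun x => ?_⟩
    · rw [e]
      show g x = φ x
      rw [e1 x x.2, extFun_apply]
    · rw [e]
      exact e2 x x.2

/-- the elements of `Q` fixed by every map of the system defined on `Q` -/
def fixedBy (F : FusionSystem S) (Q : Subgroup Ω) : Subgroup Ω where
  carrier := {z | z ∈ Q ∧ ∀ f, Mor F Q f → f z = z}
  mul_mem' := by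
    rintro a b ⟨ha, ha'⟩ ⟨hb, hb'⟩
    exact ⟨Q.mul_mem ha hb, fun f hf => by rw [hf.map_mul ha hb, ha' f hf, hb' f hf]⟩
  one_mem' := ⟨Q.one_mem, fun f hf => hf.map_one⟩
  inv_mem' := by
    rintro a ⟨ha, ha'⟩
    exact ⟨Q.inv_mem ha, fun f hf => by rw [hf.map_inv ha, ha' f hf]⟩

theorem fixedBy_le_center_sylow {F : FusionSystem S} {Q : Subgroup Ω} (hQ : Q ≤ S) :
    fixedBy F Q ≤ S ⊓ Subgroup.centralizer (S : Set Ω) := by
  rintro z ⟨hz, hfix⟩
  refine ⟨hQ hz, ?_⟩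
  show z ∈ Subgroup.centralizer (S : Set Ω)
  rw [Subgroup.mem_centralizer_iff]
  intro s hs
  have := hfix _ (Mor.conj hQ hs)
  calc s * z = (s * z * s⁻¹) * s := by group
    _ = z * s := by rw [this]

/-- if `Z(S) ≤ Q` and `Q` is normal in the system then `Z(F)` is the set of elements of `Q` fixed by all maps on `Q` -/
theorem center_eq_fixedBy [Finite S] {F : FusionSystem S} {Q : Subgroup Ω} (hQ : F.IsNormal Q)
    (hZ : S ⊓ Subgroup.centralizer (S : Set Ω) ≤ Q) : F.center = fixedBy F Q := by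
  obtain ⟨hQS, hQn⟩ := isNormal_iff.1 hQ
  apply le_antisymm
  · apply sSup_le
    intro Q' hQ'
    obtain ⟨hQ'S, hc⟩ := isCentral_iff.1 hQ'
    intro z hz
    have hzZ : z ∈ S ⊓ Subgroup.centralizer (S : Set Ω) := by
      refine ⟨hQ'S hz, ?_⟩
      show z ∈ Subgroup.centralizer (S : Set Ω)
      rw [Subgroup.mem_centralizer_iff]
      intro s hs
      obtain ⟨g, -, e1, e2⟩ := hc S _ (Mor.conj (F := F) le_rfl hs)
      have h1 := e1 z (hQ'S hz)
      rw [e2 z hz] at h1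
      calc s * z = (s * z * s⁻¹) * s := by group
        _ = z * s := by rw [← h1]
    refine ⟨hZ hzZ, fun f hf => ?_⟩
    obtain ⟨g, -, e1, e2⟩ := hc Q f hf
    rw [← e1 z (hZ hzZ), e2 z hz]
  · apply le_sSup
    show F.IsCentral (fixedBy F Q)
    rw [isCentral_iff]
    have hle : fixedBy F Q ≤ Q := fun z hz => hz.1
    refine ⟨hle.trans hQS, fun P f hf => ?_⟩
    obtain ⟨g, hg, e1, -⟩ := hQn P f hf
    refine ⟨g, hg.restrict (sup_le_sup_left hle P), e1, fun z hz => ?_⟩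
    exact hz.2 g (hg.restrict le_sup_right)

end Cfsg.Agent.Helper87
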