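import Mathlib
import Cfsg.Agent.Lib.Helper87.FusionRadical

set_option autoImplicit false

namespace Cfsg.Agent.Helper87

open Cfsg Cfsg.FusionSystem

variable {Ω : Type*} [Group Ω] {S : Subgroup Ω}

/-- `O_p(Aut_F(P))` is carried to `O_p(Aut_F(Q))` by an isomorphism of the system -/
theorem pCore_autGroup_congr {p : ℕ} [Fact p.Prime] [Finite S] {F : FusionSystem S} {P Q : Subgroup Ω}
    {f : Ω → Ω} (h : Iso F P Q f) {α : MulAut P}
    (hα : α ∈ (pCore p (F.autGroup P)).map (F.autGroup P).subtype) :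
    MulAut.congr h.equiv α ∈ (pCore p (F.autGroup Q)).map (F.autGroup Q).subtype := by
  classical
  have hfinP : Finite P := finite_of_le h.le_left
  have hmap := map_autGroup_eq h
  let ε : F.autGroup P ≃* F.autGroup Q :=
    ((MulAut.congr h.equiv).subgroupMap (F.autGroup P)).trans (MulEquiv.subgroupCongr hmap)
  have hε : ∀ a : F.autGroup P, ((ε a : F.autGroup Q) : MulAut Q) = MulAut.congr h.equiv (a : MulAut P) :=
    fun _ => rfl
  obtain ⟨a, ha, rfl⟩ := hα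
  rw [← pCore_map_equiv ε]
  exact ⟨ε a, ⟨a, ha, rfl⟩, hε a⟩

theorem autGroup_le_of_subsystem {T : Subgroup Ω} {E : FusionSystem T} {F : FusionSystem S}
    (hEF : E.IsSubsystemOf F) {Q : Subgroup Ω} (hQT : Q ≤ T) (hQS : Q ≤ S) :
    E.autGroup Q ≤ F.autGroup Q := by
  intro α hα
  rw [mem_autGroup_iff hQS]
  exact ((mem_autGroup_iff hQT).1 hα).of_subsystem hEF

/-- an element of `O_p(Aut_F(Q))` lying in `Aut_E(Q)` for a subsystem `E` lies in `O_p(Aut_E(Q))` -/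
theorem mem_pCore_of_subsystem {p : ℕ} [Fact p.Prime] {T : Subgroup Ω} {E : FusionSystem T}
    {F : FusionSystem S} {Q : Subgroup Ω} [Finite Q] (hle : E.autGroup Q ≤ F.autGroup Q) {α : MulAut Q}
    (hα : α ∈ (pCore p (F.autGroup Q)).map (F.autGroup Q).subtype) (hαE : α ∈ E.autGroup Q) :
    α ∈ (pCore p (E.autGroup Q)).map (E.autGroup Q).subtype := by
  obtain ⟨a, ha, rfl⟩ := hα
  have hN : ((pCore p (F.autGroup Q)).comap (Subgroup.inclusion hle)).Normal :=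
    (pCore_normal p (F.autGroup Q)).comap _
  have hP : IsPGroup p ((pCore p (F.autGroup Q)).comap (Subgroup.inclusion hle)) :=
    pCore_isPGroup.comap_of_injective _ (Subgroup.inclusion_injective hle)
  have hmem : (⟨(a : MulAut Q), hαE⟩ : E.autGroup Q) ∈
      (pCore p (F.autGroup Q)).comap (Subgroup.inclusion hle) := by
    show Subgroup.inclusion hle ⟨(a : MulAut Q), hαE⟩ ∈ pCore p (F.autGroup Q)
    have : Subgroup.inclusion hle ⟨(a : MulAut Q), hαE⟩ = a := Subtype.ext rfl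
    rw [this]; exact ha
  exact ⟨⟨(a : MulAut Q), hαE⟩, le_pCore hN hP hmem, rfl⟩

/-- the maps of a normalizer system, at function level -/
theorem mor_normalizerSystem_iff {F : FusionSystem S} {Q : Subgroup Ω}
    {N : FusionSystem (normalizerIn S Q)} (hN : F.IsNormalizerSystem Q N) {P : Subgroup Ω}
    {f : Ω → Ω} :
    Mor N P f ↔ Mor F P f ∧ P ≤ normalizerIn S Q ∧ (∀ x ∈ P, f x ∈ normalizerIn S Q) ∧
      ∃ g, Mor F (P ⊔ Q) g ∧ (∀ x ∈ P, g x = f x) ∧ ∀ y, y ∈ Q ↔ ∃ x ∈ Q, g x = y := by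
  constructor
  · rintro ⟨φ, hφ, e⟩
    rw [hN P] at hφ
    obtain ⟨hφF, hPN, hval, ψ, hψ, e1, e2⟩ := hφ
    refine ⟨⟨φ, hφF, e⟩, hPN, fun x hx => by rw [← e ⟨x, hx⟩]; exact hval ⟨x, hx⟩,
      extFun ψ, mor_of_mem hψ, fun x hx => ?_, fun y => ?_⟩
    · have hx' : x ∈ P ⊔ Q := (le_sup_left : P ≤ P ⊔ Q) hx
      rw [extFun_mem ψ hx', ← e ⟨x, hx⟩, ← e1 ⟨x, hx⟩]
      rfl
    · rw [(SetLike.ext_iff.1 e2 y).symm.trans Subgroup.mem_map]
      constructor
      · rintro ⟨z, hz, rfl⟩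
        exact ⟨z, hz, extFun_apply ψ z⟩
      · rintro ⟨x, hx, rfl⟩
        have hx' : x ∈ P ⊔ Q := (le_sup_right : Q ≤ P ⊔ Q) hx
        exact ⟨⟨x, hx'⟩, hx, (extFun_mem ψ hx').symm⟩
  · rintro ⟨⟨φ, hφ, e⟩, hPN, hval, g, ⟨ψ, hψ, eψ⟩, e1, e2⟩
    refine ⟨φ, ?_, e⟩
    rw [hN P]
    refine ⟨hφ, hPN, fun x => by rw [e x]; exact hval x x.2, ψ, hψ, fun x => ?_, ?_⟩
    · rw [eψ, e x]
      exact e1 x x.2
    · ext y
      rw [e2]
      constructor
      · rintro ⟨z, hz, rfl⟩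
        exact ⟨z, hz, (eψ z).symm⟩
      · rintro ⟨x, hx, rfl⟩
        have hx' : x ∈ P ⊔ Q := (le_sup_right : Q ≤ P ⊔ Q) hx
        exact ⟨⟨x, hx'⟩, hx, eψ ⟨x, hx'⟩⟩

theorem normalizerSystem_isSubsystemOf {F : FusionSystem S} {Q : Subgroup Ω}
    {N : FusionSystem (normalizerIn S Q)} (hN : F.IsNormalizerSystem Q N) : N.IsSubsystemOf F := by
  intro P φ hφ
  rw [hN P] at hφ
  exact hφ.1

/-- `Aut_{N_F(Q)}(Q) = Aut_F(Q)` -/
theorem autGroup_normalizerSystem_self {F : FusionSystem S} {Q : Subgroup Ω} (hQ : Q ≤ S)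
    {N : FusionSystem (normalizerIn S Q)} (hN : F.IsNormalizerSystem Q N) :
    N.autGroup Q = F.autGroup Q := by
  have hQN : Q ≤ normalizerIn S Q := le_normalizerIn hQ
  apply le_antisymm (autGroup_le_of_subsystem (normalizerSystem_isSubsystemOf hN) hQN hQ)
  intro α hα
  rw [mem_autGroup_iff hQN, mor_normalizerSystem_iff hN]
  have hmor : Mor F Q (extAut α) := (mem_autGroup_iff hQ).1 hα
  refine ⟨hmor, hQN, fun x hx => hQN (extAut_mem_self α hx), extAut α, ?_, fun _ _ => rfl, fun y => ?_⟩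
  · rw [sup_idem]; exact hmor
  · constructor
    · intro hy
      exact extAut_surj α hy
    · rintro ⟨x, hx, rfl⟩
      exact extAut_mem_self α hx

end Cfsg.Agent.Helper87
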