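import Mathlib
import Cfsg.Prelude.Def_FusionSystem
import Cfsg.Prelude.Def_LocalEven
import Cfsg.Prelude.Def_PLocal
import Cfsg.Agent.Lib.Helper87.FusionSaturated
import Cfsg.Agent.Lib.Helper87.FusionAut
import Cfsg.Agent.Lib.Helper87.FusionNormal
import Cfsg.Agent.Lib.Helper87.FusionNormalCrit
import Cfsg.Agent.Lib.Helper87.FusionNormalizerSys

set_option autoImplicit false
set_option linter.style.haveILetI false
set_option linter.unusedSectionVars false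
set_option linter.unusedVariables false

/-! # Glauberman functors on fusion systems: basic API

`WW W P` is the value of the functor `W` on the subgroup `P`, as a subgroup of the ambient group.
`Good F Q₀ P f` says that the map `f` extends to `P ⊔ Q₀` preserving `Q₀`. -/

namespace Cfsg.Agent.Helper87.GlaubFunctor

open Cfsg Cfsg.FusionSystem Cfsg.Agent.Helper87

universe u

/-- the hypotheses on the functor -/
structure IsGlauberman (p : ℕ) (W : ∀ (Q : Type u) [Group Q], Subgroup Q) : Prop where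
  h1 : ∀ (Q : Type u) [Group Q] [Finite Q], IsPGroup p Q → Nontrivial Q → W Q ≠ ⊥
  h2 : ∀ (Q R : Type u) [Group Q] [Group R] [Finite Q], IsPGroup p Q → ∀ φ : Q ≃* R,
    (W Q).map φ.toMonoidHom = W R
  h3 : ∀ (L : Type u) [Group L] [Finite L] (P : Sylow p L),
    Subgroup.centralizer ((Cfsg.pCore p L : Subgroup L) : Set L) =
      Cfsg.pCore p L ⊓ Subgroup.centralizer ((Cfsg.pCore p L : Subgroup L) : Set L) →
    ¬ Cfsg.Involves ↥(Cfsg.qd p) L →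
    (((W ↥(P : Subgroup L)).map (P : Subgroup L).subtype : Subgroup L)).Normal

variable {Ω : Type u} [Group Ω]

/-- the value of the functor on a subgroup, inside the ambient group -/
def WW (W : ∀ (Q : Type u) [Group Q], Subgroup Q) (P : Subgroup Ω) : Subgroup Ω :=
  (W ↥P).map P.subtype

variable {W : ∀ (Q : Type u) [Group Q], Subgroup Q}

theorem WW_le (W : ∀ (Q : Type u) [Group Q], Subgroup Q) (P : Subgroup Ω) : WW W P ≤ P := by
  rintro _ ⟨y, -, rfl⟩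
  exact y.2

theorem mem_WW {P : Subgroup Ω} {x : Ω} : x ∈ WW W P ↔ ∃ h : x ∈ P, (⟨x, h⟩ : P) ∈ W ↥P := by
  constructor
  · rintro ⟨y, hy, rfl⟩
    exact ⟨y.2, hy⟩
  · rintro ⟨h, hx⟩
    exact ⟨⟨x, h⟩, hx, rfl⟩

theorem WW_equiv {p : ℕ} (hW : IsGlauberman p W) {P P' : Subgroup Ω} [Finite P]
    (hP : IsPGroup p P) (e : P ≃* P') {y : Ω} :
    y ∈ WW W P' ↔ ∃ x, ∃ hx : x ∈ P, x ∈ WW W P ∧ ((e ⟨x, hx⟩ : P') : Ω) = y := by
  have h := hW.h2 ↥P ↥P' hP e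
  rw [mem_WW]
  constructor
  · rintro ⟨hy, hyW⟩
    rw [← h] at hyW
    obtain ⟨x, hx, hxy⟩ := hyW
    refine ⟨x, x.2, mem_WW.2 ⟨x.2, hx⟩, ?_⟩
    have : e x = ⟨y, hy⟩ := hxy
    show ((e ⟨x, x.2⟩ : P') : Ω) = y
    rw [this]
  · rintro ⟨x, hx, hxW, rfl⟩
    refine ⟨(e ⟨x, hx⟩).2, ?_⟩
    rw [← h]
    obtain ⟨hx', hxW'⟩ := mem_WW.1 hxW
    exact ⟨⟨x, hx⟩, hxW', rfl⟩

theorem WW_ne_bot {p : ℕ} (hW : IsGlauberman p W) {P : Subgroup Ω} [Finite P]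
    (hP : IsPGroup p P) (hne : P ≠ ⊥) : WW W P ≠ ⊥ := by
  have hnt : Nontrivial P := (Subgroup.nontrivial_iff_ne_bot P).2 hne
  have h := hW.h1 ↥P hP hnt
  intro hbot
  apply h
  rw [eq_bot_iff]
  intro x hx
  have : (x : Ω) ∈ WW W P := mem_WW.2 ⟨x.2, hx⟩
  rw [hbot, Subgroup.mem_bot] at this
  rw [Subgroup.mem_bot]
  exact Subtype.ext this

variable {S : Subgroup Ω}

/-- isomorphisms of the system carry `W` to `W` -/
theorem WW_iso {p : ℕ} (hW : IsGlauberman p W) [Finite S] (hS : IsPGroup p S) {F : FusionSystem S}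
    {P P' : Subgroup Ω} {f : Ω → Ω} (h : Iso F P P' f) {y : Ω} :
    y ∈ WW W P' ↔ ∃ x ∈ WW W P, f x = y := by
  haveI : Finite P := finite_of_le h.le_left
  rw [WW_equiv hW (hS.to_le h.le_left) h.equiv]
  constructor
  · rintro ⟨x, hx, hxW, rfl⟩
    exact ⟨x, hxW, rfl⟩
  · rintro ⟨x, hxW, rfl⟩
    exact ⟨x, WW_le W P hxW, hxW, rfl⟩

theorem WW_iso_mem {p : ℕ} (hW : IsGlauberman p W) [Finite S] (hS : IsPGroup p S)
    {F : FusionSystem S} {P P' : Subgroup Ω} {f : Ω → Ω} (h : Iso F P P' f) {x : Ω}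
    (hx : x ∈ WW W P) : f x ∈ WW W P' :=
  (WW_iso hW hS h).2 ⟨x, hx, rfl⟩

/-- `W(P)` is normalized by `N_S(P)` -/
theorem normalizerIn_le_WW {p : ℕ} (hW : IsGlauberman p W) [Finite S] (hS : IsPGroup p S)
    {P : Subgroup Ω} (hP : P ≤ S) : normalizerIn S P ≤ normalizerIn S (WW W P) := by
  rintro s ⟨hs, hsn⟩
  refine ⟨hs, ?_⟩
  haveI : Finite P := finite_of_le hP
  haveI : Finite (WW W P) := finite_of_le ((WW_le W P).trans hP)
  haveI : Finite ((WW W P : Subgroup Ω) : Set Ω) := ‹Finite (WW W P)›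
  apply Subgroup.mem_normalizer_fintype
  intro x hx
  have hx' : x ∈ WW W P := hx
  have := (WW_equiv hW (hS.to_le hP) (conjAut P s hsn) (y := s * x * s⁻¹)).2
    ⟨x, WW_le W P hx', hx', rfl⟩
  exact this

/-! ### the extension predicate -/

/-- `f` extends to `P ⊔ Q₀`, carrying `Q₀` into itself -/
def Good (F : FusionSystem S) (Q₀ P : Subgroup Ω) (f : Ω → Ω) : Prop :=
  ∃ g, Mor F (P ⊔ Q₀) g ∧ (∀ x ∈ P, g x = f x) ∧ ∀ x ∈ Q₀, g x ∈ Q₀

theorem alperinClosed_good (F : FusionSystem S) (Q₀ : Subgroup Ω) :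
    AlperinClosed F (Good F Q₀) := alperinClosed_extends_sup F Q₀

theorem Good.restrict {F : FusionSystem S} {Q₀ P P' : Subgroup Ω} {f : Ω → Ω}
    (h : Good F Q₀ P f) (hP' : P' ≤ P) : Good F Q₀ P' f := by
  obtain ⟨g, hg, e, hQ⟩ := h
  exact ⟨g, hg.restrict (sup_le_sup_right hP' Q₀), fun x hx => e x (hP' hx), hQ⟩

theorem Good.congr {F : FusionSystem S} {Q₀ P : Subgroup Ω} {f f' : Ω → Ω}
    (h : Good F Q₀ P f) (hff : ∀ x ∈ P, f x = f' x) : Good F Q₀ P f' := by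
  obtain ⟨g, hg, e, hQ⟩ := h
  exact ⟨g, hg, fun x hx => (e x hx).trans (hff x hx), hQ⟩

theorem Good.comp {F : FusionSystem S} {Q₀ P P' : Subgroup Ω} {f g : Ω → Ω}
    (hf : Mor F P f) (hg : Mor F P' g) (hPP' : ∀ x ∈ P, f x ∈ P')
    (h1 : Good F Q₀ P f) (h2 : Good F Q₀ P' g) : Good F Q₀ P (fun x => g (f x)) :=
  (alperinClosed_good F Q₀).comp hf hg hPP' h1 h2

/-- if all maps are good then `Q₀` is normal -/
theorem isNormal_of_good [Finite S] {F : FusionSystem S} {Q₀ : Subgroup Ω} (hQ₀ : Q₀ ≤ S)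
    (h : ∀ (P : Subgroup Ω) (f : Ω → Ω), Mor F P f → Good F Q₀ P f) : F.IsNormal Q₀ := by
  rw [isNormal_iff]
  refine ⟨hQ₀, fun P f hf => ?_⟩
  obtain ⟨g, hg, e, hgQ⟩ := h P f hf
  exact ⟨g, hg, e, (iso_of_card_le (hg.restrict le_sup_right) hQ₀ hgQ le_rfl).2⟩

theorem good_of_isNormal {F : FusionSystem S} {Q₀ : Subgroup Ω} (hQ₀ : F.IsNormal Q₀)
    {P : Subgroup Ω} {f : Ω → Ω} (hf : Mor F P f) : Good F Q₀ P f := by
  obtain ⟨g, hg, e, hgQ⟩ := (isNormal_iff.1 hQ₀).2 P f hf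
  exact ⟨g, hg, e, fun x hx => (hgQ _).2 ⟨x, hx, rfl⟩⟩

/-- maps of a normalizer system over the whole of `S` in which `Q₀` is normal are good -/
theorem good_of_normalizerSystem {F : FusionSystem S} {X : Subgroup Ω}
    {NX : FusionSystem (normalizerIn S X)} (hNX : F.IsNormalizerSystem X NX) {Q₀ : Subgroup Ω}
    (hQ₀ : NX.IsNormal Q₀) {P : Subgroup Ω} {f : Ω → Ω} (hf : Mor NX P f) : Good F Q₀ P f := by
  obtain ⟨g, hg, e, hgQ⟩ := good_of_isNormal hQ₀ hf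
  exact ⟨g, ((mor_normalizerSystem_iff hNX).1 hg).1, e, hgQ⟩

/-- the inverse of a good isomorphism is good -/
theorem Good.symm [Finite S] {F : FusionSystem S} {Q₀ P P' : Subgroup Ω} {f f' : Ω → Ω}
    (hQ₀ : Q₀ ≤ S) (hf : Iso F P P' f) (hf' : Mor F P' f') (hinv : ∀ x ∈ P, f' (f x) = x)
    (h : Good F Q₀ P f) : Good F Q₀ P' f' := by
  obtain ⟨g, hg, e, hgQ⟩ := h
  have hisoQ : Iso F Q₀ Q₀ g := iso_of_card_le (hg.restrict le_sup_right) hQ₀ hgQ le_rfl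
  have hI : Iso F (P ⊔ Q₀) hg.image g := Iso.of_mor hg
  obtain ⟨ψ, hψ, h1, h2⟩ := hI.symm
  have hle : P' ⊔ Q₀ ≤ hg.image := by
    apply sup_le
    · intro y hy
      obtain ⟨x, hx, rfl⟩ := hf.surj hy
      exact ⟨x, (le_sup_left : P ≤ P ⊔ Q₀) hx, e x hx⟩
    · intro y hy
      obtain ⟨x, hx, rfl⟩ := hisoQ.surj hy
      exact ⟨x, (le_sup_right : Q₀ ≤ P ⊔ Q₀) hx, rfl⟩
  refine ⟨ψ, hψ.1.restrict hle, fun y hy => ?_, fun y hy => ?_⟩
  · obtain ⟨x, hx, rfl⟩ := hf.surj hy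
    rw [hinv x hx, ← e x hx, h1 x ((le_sup_left : P ≤ P ⊔ Q₀) hx)]
  · obtain ⟨x, hx, rfl⟩ := hisoQ.surj hy
    rw [h1 x ((le_sup_right : Q₀ ≤ P ⊔ Q₀) hx)]
    exact hx

end Cfsg.Agent.Helper87.GlaubFunctor
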