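import Mathlib
import Cfsg.Prelude.Def_FusionSystem
import Cfsg.Agent.Lib.Helper87.GlaubFunctor
import Cfsg.Agent.Lib.Helper87.FusionCenter

set_option autoImplicit false
set_option linter.style.haveILetI false
set_option linter.unusedSectionVars false
set_option linter.unusedVariables false

/-! # Positive characteristic functors and control of weak closure of elements: basic API

`Cen F Z₀ P f` says that the map `f` extends to `P ⊔ Z₀` fixing `Z₀` elementwise. -/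

namespace Cfsg.Agent.Helper87.CenFunctor

open Cfsg Cfsg.FusionSystem Cfsg.Agent.Helper87 Cfsg.Agent.Helper87.GlaubFunctor

universe u

/-- a positive characteristic functor -/
structure IsPos (p : ℕ) (W : ∀ (Q : Type u) [Group Q], Subgroup Q) : Prop where
  h1 : ∀ (Q : Type u) [Group Q] [Finite Q], IsPGroup p Q → Nontrivial Q → W Q ≠ ⊥
  h2 : ∀ (Q R : Type u) [Group Q] [Group R] [Finite Q], IsPGroup p Q → ∀ φ : Q ≃* R,
    (W Q).map φ.toMonoidHom = W R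

variable {Ω : Type u} [Group Ω]

variable {W : ∀ (Q : Type u) [Group Q], Subgroup Q}

theorem pos_equiv {p : ℕ} (hW : IsPos p W) {P P' : Subgroup Ω} [Finite P]
    (hP : IsPGroup p P) (e : P ≃* P') {y : Ω} :
    y ∈ WW W P' ↔ ∃ x, ∃ hx : x ∈ P, x ∈ WW W P ∧ ((e ⟨x, hx⟩ : P') : Ω) = y := by
  have h := hW.h2 ↥P ↥P' hP e
  rw [mem_WW]
  constructor
  · rintro ⟨hy, hyW⟩
    rw [← h] at hyW
    obtain ⟨x, hx, hxy⟩ := hyW
    refine ⟨x, x.2, mem_WW.2 ⟨x.2, hx⟩, ?_⟩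
    have : e x = ⟨y, hy⟩ := hxy
    show ((e ⟨x, x.2⟩ : P') : Ω) = y
    rw [this]
  · rintro ⟨x, hx, hxW, rfl⟩
    refine ⟨(e ⟨x, hx⟩).2, ?_⟩
    rw [← h]
    obtain ⟨hx', hxW'⟩ := mem_WW.1 hxW
    exact ⟨⟨x, hx⟩, hxW', rfl⟩

theorem pos_ne_bot {p : ℕ} (hW : IsPos p W) {P : Subgroup Ω} [Finite P]
    (hP : IsPGroup p P) (hne : P ≠ ⊥) : WW W P ≠ ⊥ := by
  have hnt : Nontrivial P := (Subgroup.nontrivial_iff_ne_bot P).2 hne
  have h := hW.h1 ↥P hP hnt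
  intro hbot
  apply h
  rw [eq_bot_iff]
  intro x hx
  have : (x : Ω) ∈ WW W P := mem_WW.2 ⟨x.2, hx⟩
  rw [hbot, Subgroup.mem_bot] at this
  rw [Subgroup.mem_bot]
  exact Subtype.ext this

variable {S : Subgroup Ω}

/-- isomorphisms of the system carry `W` to `W` -/
theorem pos_iso {p : ℕ} (hW : IsPos p W) [Finite S] (hS : IsPGroup p S) {F : FusionSystem S}
    {P P' : Subgroup Ω} {f : Ω → Ω} (h : Iso F P P' f) {y : Ω} :
    y ∈ WW W P' ↔ ∃ x ∈ WW W P, f x = y := by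
  haveI : Finite P := finite_of_le h.le_left
  rw [pos_equiv hW (hS.to_le h.le_left) h.equiv]
  constructor
  · rintro ⟨x, hx, hxW, rfl⟩
    exact ⟨x, hxW, rfl⟩
  · rintro ⟨x, hxW, rfl⟩
    exact ⟨x, WW_le W P hxW, hxW, rfl⟩

theorem pos_iso_mem {p : ℕ} (hW : IsPos p W) [Finite S] (hS : IsPGroup p S)
    {F : FusionSystem S} {P P' : Subgroup Ω} {f : Ω → Ω} (h : Iso F P P' f) {x : Ω}
    (hx : x ∈ WW W P) : f x ∈ WW W P' :=
  (pos_iso hW hS h).2 ⟨x, hx, rfl⟩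

/-- `W(P)` is normalized by `N_S(P)` -/
theorem pos_normalizerIn_le {p : ℕ} (hW : IsPos p W) [Finite S] (hS : IsPGroup p S)
    {P : Subgroup Ω} (hP : P ≤ S) : normalizerIn S P ≤ normalizerIn S (WW W P) := by
  rintro s ⟨hs, hsn⟩
  refine ⟨hs, ?_⟩
  haveI : Finite P := finite_of_le hP
  haveI : Finite (WW W P) := finite_of_le ((WW_le W P).trans hP)
  haveI : Finite ((WW W P : Subgroup Ω) : Set Ω) := ‹Finite (WW W P)›
  apply Subgroup.mem_normalizer_fintype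
  intro x hx
  have hx' : x ∈ WW W P := hx
  have := (pos_equiv hW (hS.to_le hP) (conjAut P s hsn) (y := s * x * s⁻¹)).2
    ⟨x, WW_le W P hx', hx', rfl⟩
  exact this

/-- `N_S(W(S)) = S` -/
theorem pos_normalizerIn_top {p : ℕ} (hW : IsPos p W) [Finite S] (hS : IsPGroup p S) :
    normalizerIn S (WW W S) = S := by
  apply le_antisymm inf_le_left
  exact (le_normalizerIn le_rfl).trans (pos_normalizerIn_le hW hS le_rfl)

/-! ### the extension predicate -/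

/-- `f` extends to `P ⊔ Z₀`, fixing `Z₀` elementwise -/
def Cen (F : FusionSystem S) (Z₀ P : Subgroup Ω) (f : Ω → Ω) : Prop :=
  ∃ g, Mor F (P ⊔ Z₀) g ∧ (∀ x ∈ P, g x = f x) ∧ ∀ x ∈ Z₀, g x = x

theorem alperinClosed_cen (F : FusionSystem S) (Z₀ : Subgroup Ω) :
    AlperinClosed F (Cen F Z₀) where
  congr := by
    rintro P f f' ⟨g, hg, e, hQ⟩ hff
    exact ⟨g, hg, fun x hx => (e x hx).trans (hff x hx), hQ⟩
  restrict := by
    rintro P P' f - ⟨g, hg, e, hQ⟩ hP'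
    exact ⟨g, hg.restrict (sup_le_sup_right hP' Z₀), fun x hx => e x (hP' hx), hQ⟩
  comp := by
    rintro P P' f g hf hg hPP' ⟨f', hf', e1, hQ1⟩ ⟨g', hg', e2, hQ2⟩
    have hmaps : ∀ x ∈ P ⊔ Z₀, f' x ∈ P' ⊔ Z₀ :=
      hf'.map_sup_mem le_sup_left le_sup_right
        (fun a ha => by rw [e1 a ha]; exact (le_sup_left : P' ≤ P' ⊔ Z₀) (hPP' a ha))
        (fun b hb => (le_sup_right : Z₀ ≤ P' ⊔ Z₀) (by rw [hQ1 b hb]; exact hb))
    refine ⟨fun x => g' (f' x), hf'.comp hg' hmaps, fun x hx => ?_, fun x hx => ?_⟩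
    · show g' (f' x) = g (f x)
      rw [e1 x hx, e2 _ (hPP' x hx)]
    · show g' (f' x) = x
      rw [hQ1 x hx, hQ2 x hx]

theorem Cen.restrict {F : FusionSystem S} {Z₀ P P' : Subgroup Ω} {f : Ω → Ω}
    (h : Cen F Z₀ P f) (hP' : P' ≤ P) : Cen F Z₀ P' f := by
  obtain ⟨g, hg, e, hQ⟩ := h
  exact ⟨g, hg.restrict (sup_le_sup_right hP' Z₀), fun x hx => e x (hP' hx), hQ⟩

theorem Cen.congr {F : FusionSystem S} {Z₀ P : Subgroup Ω} {f f' : Ω → Ω}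
    (h : Cen F Z₀ P f) (hff : ∀ x ∈ P, f x = f' x) : Cen F Z₀ P f' := by
  obtain ⟨g, hg, e, hQ⟩ := h
  exact ⟨g, hg, fun x hx => (e x hx).trans (hff x hx), hQ⟩

theorem Cen.comp {F : FusionSystem S} {Z₀ P P' : Subgroup Ω} {f g : Ω → Ω}
    (hf : Mor F P f) (hg : Mor F P' g) (hPP' : ∀ x ∈ P, f x ∈ P')
    (h1 : Cen F Z₀ P f) (h2 : Cen F Z₀ P' g) : Cen F Z₀ P (fun x => g (f x)) :=
  (alperinClosed_cen F Z₀).comp hf hg hPP' h1 h2

/-- a map whose source contains `Z₀` and which is `Cen` fixes `Z₀` elementwise -/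
theorem Cen.fix {F : FusionSystem S} {Z₀ P : Subgroup Ω} {f : Ω → Ω}
    (h : Cen F Z₀ P f) (hZ : Z₀ ≤ P) {z : Ω} (hz : z ∈ Z₀) : f z = z := by
  obtain ⟨g, hg, e, hQ⟩ := h
  rw [← e z (hZ hz), hQ z hz]

/-- a map whose source contains `Z₀` and which fixes `Z₀` elementwise is `Cen` -/
theorem cen_of_fix {F : FusionSystem S} {Z₀ P : Subgroup Ω} {f : Ω → Ω}
    (hf : Mor F P f) (hZ : Z₀ ≤ P) (hfix : ∀ z ∈ Z₀, f z = z) : Cen F Z₀ P f := by
  refine ⟨f, ?_, fun _ _ => rfl, hfix⟩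
  rw [sup_eq_left.2 hZ]
  exact hf

/-- centrality in terms of the predicate -/
theorem isCentral_iff_cen {F : FusionSystem S} {Z₀ : Subgroup Ω} :
    F.IsCentral Z₀ ↔ Z₀ ≤ S ∧ ∀ (P : Subgroup Ω) (f : Ω → Ω), Mor F P f → Cen F Z₀ P f :=
  isCentral_iff

/-- the inverse of a `Cen` isomorphism is `Cen` -/
theorem Cen.symm [Finite S] {F : FusionSystem S} {Z₀ P P' : Subgroup Ω} {f f' : Ω → Ω}
    (hf : Iso F P P' f) (hf' : Mor F P' f') (hinv : ∀ x ∈ P, f' (f x) = x)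
    (h : Cen F Z₀ P f) : Cen F Z₀ P' f' := by
  obtain ⟨g, hg, e, hgQ⟩ := h
  have hI : Iso F (P ⊔ Z₀) hg.image g := Iso.of_mor hg
  obtain ⟨ψ, hψ, h1, h2⟩ := hI.symm
  have hle : P' ⊔ Z₀ ≤ hg.image := by
    apply sup_le
    · intro y hy
      obtain ⟨x, hx, rfl⟩ := hf.surj hy
      exact ⟨x, (le_sup_left : P ≤ P ⊔ Z₀) hx, e x hx⟩
    · intro y hy
      exact ⟨y, (le_sup_right : Z₀ ≤ P ⊔ Z₀) hy, hgQ y hy⟩
  refine ⟨ψ, hψ.1.restrict hle, fun y hy => ?_, fun y hy => ?_⟩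
  · obtain ⟨x, hx, rfl⟩ := hf.surj hy
    rw [hinv x hx, ← e x hx, h1 x ((le_sup_left : P ≤ P ⊔ Z₀) hx)]
  · have := h1 y ((le_sup_right : Z₀ ≤ P ⊔ Z₀) hy)
    rwa [hgQ y hy] at this

/-- transport of the predicate along a `Cen` map -/
theorem Cen.conj [Finite S] {F : FusionSystem S} {Z₀ M A : Subgroup Ω} {φ γ γ' : Ω → Ω}
    (hφ : Mor F M φ) (hφg : Cen F Z₀ M φ) (hA : A ≤ M) (hγ : Mor F A γ)
    (hγM : ∀ x ∈ A, γ x ∈ M) (hγ' : Mor F (hφ.restrict hA).image γ')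
    (hcomm : ∀ a ∈ A, γ' (φ a) = φ (γ a)) (hg' : Cen F Z₀ (hφ.restrict hA).image γ') :
    Cen F Z₀ A γ := by
  have hφA : Mor F A φ := hφ.restrict hA
  have h1 : Cen F Z₀ A φ := hφg.restrict hA
  have hB : hγ.image ≤ M := by
    rintro y ⟨x, hx, rfl⟩
    exact hγM x hx
  have hφB : Mor F hγ.image φ := hφ.restrict hB
  have hIB : Iso F hγ.image hφB.image φ := Iso.of_mor hφB
  obtain ⟨ψ, hψ, hψ1, hψ2⟩ := hIB.symm
  have hψg : Cen F Z₀ hφB.image ψ := Cen.symm hIB hψ.1 hψ1 (hφg.restrict hB)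
  have hm12 : Mor F A (fun x => γ' (φ x)) := hφA.comp hγ' (fun x hx => ⟨x, hx, rfl⟩)
  have hg12 : Cen F Z₀ A (fun x => γ' (φ x)) :=
    Cen.comp hφA hγ' (fun x hx => ⟨x, hx, rfl⟩) h1 hg'
  have hmaps : ∀ x ∈ A, γ' (φ x) ∈ hφB.image := by
    intro x hx
    rw [hcomm x hx]
    exact ⟨γ x, ⟨x, hx, rfl⟩, rfl⟩
  have h3 := Cen.comp hm12 hψ.1 hmaps hg12 hψg
  refine h3.congr (fun x hx => ?_)
  show ψ (γ' (φ x)) = γ x
  rw [hcomm x hx, hψ1 (γ x) ⟨x, hx, rfl⟩]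

/-! ### the hypothesis: maps normalizing `W(S)` fix `Z₀` -/

/-- `Z₀` is fixed (after extension) by all maps of `F` whose source contains `W(S)` and which
carry `W(S)` into itself -/
def NC (W : ∀ (Q : Type u) [Group Q], Subgroup Q) (F : FusionSystem S) (Z₀ : Subgroup Ω) : Prop :=
  Z₀ ≤ S ∧ ∀ (P : Subgroup Ω) (f : Ω → Ω), Mor F P f → WW W S ≤ P →
    (∀ x ∈ WW W S, f x ∈ WW W S) → Cen F Z₀ P f

/-- under `NC`, `Z₀` is central in `S` -/
theorem NC.le_center {F : FusionSystem S} {Z₀ : Subgroup Ω} {p : ℕ} (hW : IsPos p W) [Finite S]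
    (hS : IsPGroup p S) (h : NC W F Z₀) :
    Z₀ ≤ S ⊓ Subgroup.centralizer (S : Set Ω) := by
  intro z hz
  refine ⟨h.1 hz, ?_⟩
  show z ∈ Subgroup.centralizer (S : Set Ω)
  rw [Subgroup.mem_centralizer_iff]
  intro s hs
  have hm : Mor F S (fun x => s * x * s⁻¹) := Mor.conj (F := F) le_rfl hs
  have hn : s ∈ normalizerIn S (WW W S) := by
    rw [pos_normalizerIn_top hW hS]; exact hs
  have hc := h.2 S _ hm (WW_le W S) (fun x hx => by
    have := (Subgroup.mem_normalizer_iff.1 hn.2 x).1 hx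
    exact this)
  have := hc.fix h.1 hz
  calc s * z = (s * z * s⁻¹) * s := by group
    _ = z * s := by rw [this]

end Cfsg.Agent.Helper87.CenFunctor
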