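import Mathlib
import Cfsg.Prelude.Def_FusionSystem
import Cfsg.Agent.Lib.Helper87.FusionNormalCrit
import Cfsg.Agent.Lib.Helper87.FusionSaturated
import Cfsg.Agent.Lib.Helper85.Realized
import Cfsg.Agent.Lib.Helper85.Model

set_option autoImplicit false
set_option linter.unusedSectionVars false
set_option linter.unusedVariables false
set_option linter.style.haveILetI false

/-! # The model of a constrained fusion system, from a group realizing it in which the centre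
of the normal centric subgroup has an invariant complement in its centralizer -/

namespace Cfsg.Agent.Helper87.ModelAbs

open Cfsg Cfsg.FusionSystem Cfsg.Agent.Helper87 Cfsg.Agent.Helper85

universe u

variable {Ω : Type u} [Group Ω] {S : Subgroup Ω} {Γ : Type u} [Group Γ]

/-- the image of `Q` in the realizing group -/
abbrev QG (ι₀ : S →* Γ) (Q : Subgroup Ω) : Subgroup Γ := imageAlong ι₀ Q

/-- its normalizer -/
abbrev NG (ι₀ : S →* Γ) (Q : Subgroup Ω) : Subgroup Γ :=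
  Subgroup.normalizer ((QG ι₀ Q : Subgroup Γ) : Set Γ)

/-- its centralizer -/
abbrev CG (ι₀ : S →* Γ) (Q : Subgroup Ω) : Subgroup Γ :=
  Subgroup.centralizer ((QG ι₀ Q : Subgroup Γ) : Set Γ)

/-- the data: a finite group realizing the system, and an invariant complement -/
structure Setup [Finite S] [Finite Γ] (F : FusionSystem S) (p : ℕ) (Q : Subgroup Ω) (ι₀ : S →* Γ)
    (K : Subgroup Γ) : Prop where
  hS : IsPGroup p S
  hF : F.IsSaturated p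
  hQn : F.IsNormal Q
  hQc : F.IsCentric Q
  hι : F.IsRealizedBy ι₀
  hKC : K ≤ CG ι₀ Q
  hKN : ∀ ν ∈ NG ι₀ Q, ∀ k ∈ K, ν * k * ν⁻¹ ∈ K
  hKZ : ∀ z, z ∈ centralizerIn S Q → au ι₀ z ∈ K → z = 1
  hCK : ∀ c ∈ CG ι₀ Q, ∃ z ∈ centralizerIn S Q, (au ι₀ z)⁻¹ * c ∈ K

namespace Setup

variable [Finite S] [Finite Γ] {p : ℕ} [Fact p.Prime] {F : FusionSystem S} {Q : Subgroup Ω}
  {ι₀ : S →* Γ} {K : Subgroup Γ}

theorem hQS (h : Setup F p Q ι₀ K) : Q ≤ S := h.hQn.1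

theorem hinj (h : Setup F p Q ι₀ K) : Function.Injective ι₀ := h.hι.1

theorem conj_mem (h : Setup F p Q ι₀ K) {s q : Ω} (hs : s ∈ S) (hq : q ∈ Q) : s * q * s⁻¹ ∈ Q :=
  (stronglyClosed_iff.1 (stronglyClosed_of_isNormal h.hQn)).2 Q _ le_rfl (Mor.conj h.hQS hs) q hq

theorem cent_le (h : Setup F p Q ι₀ K) : centralizerIn S Q ≤ Q :=
  h.hQc.2 Q (isConj_refl h.hQS)

theorem fullyNormalized (h : Setup F p Q ι₀ K) : F.IsFullyNormalized Q :=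
  ⟨h.hQS, fun R hc => by rw [eq_of_isConj_of_isNormal h.hQn hc]⟩

theorem j_mem_QG (h : Setup F p Q ι₀ K) {q : Ω} (hq : q ∈ Q) : au ι₀ q ∈ QG ι₀ Q :=
  mem_img.2 ⟨q, h.hQS hq, hq, rfl⟩

theorem mem_QG (h : Setup F p Q ι₀ K) {y : Γ} : y ∈ QG ι₀ Q ↔ ∃ q ∈ Q, au ι₀ q = y := by
  rw [mem_img]
  constructor
  · rintro ⟨x, -, hx, e⟩; exact ⟨x, hx, e⟩
  · rintro ⟨x, hx, e⟩; exact ⟨x, h.hQS hx, hx, e⟩

theorem j_inj (h : Setup F p Q ι₀ K) {x y : Ω} (hx : x ∈ S) (hy : y ∈ S)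
    (e : au ι₀ x = au ι₀ y) : x = y := au_injOn h.hinj hx hy e

theorem j_mem_NG (h : Setup F p Q ι₀ K) {s : Ω} (hs : s ∈ S) : au ι₀ s ∈ NG ι₀ Q := by
  haveI : Finite ((QG ι₀ Q : Subgroup Γ) : Set Γ) := Set.toFinite _
  apply Subgroup.mem_normalizer_fintype
  intro y hy
  obtain ⟨q, hq, rfl⟩ := h.mem_QG.1 hy
  rw [← au_conj ι₀ hs (h.hQS hq)]
  exact h.j_mem_QG (h.conj_mem hs hq)

/-- lifting a map of the system to an element of the normalizer -/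
theorem exists_lift (h : Setup F p Q ι₀ K) {P : Subgroup Ω} {f : Ω → Ω} (hf : Mor F P f) :
    ∃ (g : Ω → Ω) (ν : Γ), Mor F (P ⊔ Q) g ∧ (∀ x ∈ P, g x = f x) ∧ (∀ q ∈ Q, g q ∈ Q) ∧
      ν ∈ NG ι₀ Q ∧ ∀ x ∈ P ⊔ Q, au ι₀ (g x) = ν * au ι₀ x * ν⁻¹ := by
  obtain ⟨g, hg, e, hgQ⟩ := (isNormal_iff.1 h.hQn).2 P f hf
  obtain ⟨-, -, ν, hν⟩ := (realized_mor_iff h.hι).1 hg
  have hgQ' : ∀ q ∈ Q, g q ∈ Q := fun q hq => (hgQ _).2 ⟨q, hq, rfl⟩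
  refine ⟨g, ν, hg, e, hgQ', ?_, hν⟩
  haveI : Finite ((QG ι₀ Q : Subgroup Γ) : Set Γ) := Set.toFinite _
  apply Subgroup.mem_normalizer_fintype
  intro y hy
  obtain ⟨q, hq, rfl⟩ := h.mem_QG.1 hy
  rw [← hν q (le_sup_right (a := P) hq)]
  exact h.j_mem_QG (hgQ' q hq)

/-- the action of an element of the normalizer on `Q` -/
theorem exists_action (h : Setup F p Q ι₀ K) {ν : Γ} (hν : ν ∈ NG ι₀ Q) :
    ∃ α : Ω → Ω, Iso F Q Q α ∧ ∀ q ∈ Q, au ι₀ (α q) = ν * au ι₀ q * ν⁻¹ := by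
  classical
  have key : ∀ (μ : Γ), μ ∈ NG ι₀ Q → ∀ q ∈ Q, ∃ q' ∈ Q, au ι₀ q' = μ * au ι₀ q * μ⁻¹ := by
    intro μ hμ q hq
    have h1 : μ * au ι₀ q * μ⁻¹ ∈ QG ι₀ Q :=
      (Subgroup.mem_normalizer_iff.1 hμ _).1 (h.j_mem_QG hq)
    exact h.mem_QG.1 h1
  let α : Ω → Ω := fun q => if hq : q ∈ Q then Classical.choose (key ν hν q hq) else 1
  have hα : ∀ q (hq : q ∈ Q), α q ∈ Q ∧ au ι₀ (α q) = ν * au ι₀ q * ν⁻¹ := by
    intro q hq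
    have := Classical.choose_spec (key ν hν q hq)
    simp only [α, dif_pos hq]
    exact this
  have hmor : Mor F Q α := by
    rw [realized_mor_iff h.hι]
    exact ⟨h.hQS, fun x hx => h.hQS (hα x hx).1, ν, fun x hx => (hα x hx).2⟩
  refine ⟨α, ⟨hmor, fun y => ⟨fun hy => ?_, ?_⟩⟩, fun q hq => (hα q hq).2⟩
  · have hν' : ν⁻¹ ∈ NG ι₀ Q := Subgroup.inv_mem _ hν
    obtain ⟨x, hx, ex⟩ := key ν⁻¹ hν' y hy
    refine ⟨x, hx, ?_⟩
    apply h.j_inj (h.hQS (hα x hx).1) (h.hQS hy)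
    rw [(hα x hx).2, ex]
    group
  · rintro ⟨x, hx, rfl⟩
    exact (hα x hx).1

end Setup

section Quot

variable [Finite S] [Finite Γ] {p : ℕ} [Fact p.Prime] {F : FusionSystem S} {Q : Subgroup Ω}
  {ι₀ : S →* Γ} {K : Subgroup Γ}

theorem Setup.normal_sub (h : Setup F p Q ι₀ K) : (K.subgroupOf (NG ι₀ Q)).Normal := by
  constructor
  intro k hk ν
  rw [Subgroup.mem_subgroupOf] at hk ⊢
  have := h.hKN ν ν.2 k hk
  simpa using this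

/-- the model group -/
abbrev LG (ι₀ : S →* Γ) (Q : Subgroup Ω) (K : Subgroup Γ) : Type u :=
  ↥(NG ι₀ Q) ⧸ K.subgroupOf (NG ι₀ Q)

/-- the map of `S` into the normalizer -/
def iotaN (h : Setup F p Q ι₀ K) : S →* ↥(NG ι₀ Q) :=
  ι₀.codRestrict (NG ι₀ Q) (fun s => by
    have := h.j_mem_NG s.2
    rwa [au_mem ι₀ s.2] at this)

theorem iotaN_coe (h : Setup F p Q ι₀ K) (s : S) : ((iotaN h s : ↥(NG ι₀ Q)) : Γ) = ι₀ s := rfl

variable [hKn : (K.subgroupOf (NG ι₀ Q)).Normal]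

/-- the map of `S` into the model group -/
def iota (h : Setup F p Q ι₀ K) : S →* LG ι₀ Q K :=
  (QuotientGroup.mk' (K.subgroupOf (NG ι₀ Q))).comp (iotaN h)

theorem iota_apply (h : Setup F p Q ι₀ K) (s : S) :
    iota h s = (QuotientGroup.mk (iotaN h s) : LG ι₀ Q K) := rfl

theorem mk_eq_mk_iff (a b : ↥(NG ι₀ Q)) :
    (QuotientGroup.mk a : LG ι₀ Q K) = QuotientGroup.mk b ↔ (a : Γ)⁻¹ * (b : Γ) ∈ K := by
  rw [QuotientGroup.eq, Subgroup.mem_subgroupOf]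
  rfl

theorem iota_eq_conj_iff (h : Setup F p Q ι₀ K) (ν : ↥(NG ι₀ Q)) (s t : S) :
    iota h t = (QuotientGroup.mk ν : LG ι₀ Q K) * iota h s * (QuotientGroup.mk ν : LG ι₀ Q K)⁻¹ ↔
      ((ν : Γ) * ι₀ s * (ν : Γ)⁻¹)⁻¹ * ι₀ t ∈ K := by
  rw [iota_apply, iota_apply, ← QuotientGroup.mk_inv, ← QuotientGroup.mk_mul, ← QuotientGroup.mk_mul,
    eq_comm, mk_eq_mk_iff]
  rfl

theorem iota_injective (h : Setup F p Q ι₀ K) : Function.Injective (iota h) := by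
  rw [injective_iff_map_eq_one]
  intro s hs
  have h1 : (ι₀ s : Γ) ∈ K := by
    rw [iota_apply, QuotientGroup.eq_one_iff, Subgroup.mem_subgroupOf] at hs
    exact hs
  have h2 : (s : Ω) ∈ centralizerIn S Q := by
    refine ⟨s.2, ?_⟩
    intro q hq
    have hc := h.hKC h1 (au ι₀ q) (h.j_mem_QG hq)
    apply h.j_inj (S.mul_mem (h.hQS hq) s.2) (S.mul_mem s.2 (h.hQS hq))
    rw [au_mul ι₀ (h.hQS hq) s.2, au_mul ι₀ s.2 (h.hQS hq), au_mem ι₀ s.2]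
    exact hc
  have h3 := h.hKZ _ h2 (by rw [au_mem ι₀ s.2]; exact h1)
  exact Subtype.ext h3

/-- maps of the system are realized in the model group -/
theorem iota_realized_mp (h : Setup F p Q ι₀ K) {P : Subgroup Ω} (hP : P ≤ S) {f : Ω → Ω}
    (hf : Mor F P f) :
    ∃ g : LG ι₀ Q K, ∀ x (hx : x ∈ P),
      iota h ⟨f x, hf.mem hx⟩ = g * iota h ⟨x, hP hx⟩ * g⁻¹ := by
  obtain ⟨g, ν, hg, e, hgQ, hν, hνc⟩ := h.exists_lift hf
  refine ⟨QuotientGroup.mk ⟨ν, hν⟩, fun x hx => ?_⟩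
  rw [iota_eq_conj_iff]
  have h1 := hνc x (le_sup_left (b := Q) hx)
  rw [e x hx, au_mem ι₀ (hf.mem hx), au_mem ι₀ (hP hx)] at h1
  show (ν * ι₀ ⟨x, hP hx⟩ * ν⁻¹)⁻¹ * ι₀ ⟨f x, hf.mem hx⟩ ∈ K
  rw [h1, inv_mul_cancel]
  exact K.one_mem

/-- maps realized in the model group are maps of the system -/
theorem iota_realized_mpr (h : Setup F p Q ι₀ K) {P : Subgroup Ω} (hP : P ≤ S) {f : Ω → Ω}
    (hfS : ∀ x ∈ P, f x ∈ S) (g : LG ι₀ Q K)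
    (hg : ∀ x (hx : x ∈ P), iota h ⟨f x, hfS x hx⟩ = g * iota h ⟨x, hP hx⟩ * g⁻¹) :
    Mor F P f := by
  obtain ⟨⟨ν, hν⟩, rfl⟩ := QuotientGroup.mk_surjective g
  obtain ⟨α, hα, hαc⟩ := h.exists_action hν
  have hκ : ∀ x (hx : x ∈ P), (ν * au ι₀ x * ν⁻¹)⁻¹ * au ι₀ (f x) ∈ K := by
    intro x hx
    have := (iota_eq_conj_iff h ⟨ν, hν⟩ ⟨x, hP hx⟩ ⟨f x, hfS x hx⟩).1 (hg x hx)
    rw [au_mem ι₀ (hP hx), au_mem ι₀ (hfS x hx)]
    exact this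
  have hcomp : ∀ x ∈ P, ∀ q ∈ Q, α (x * q * x⁻¹) = f x * α q * (f x)⁻¹ := by
    intro x hx q hq
    have hxS := hP hx
    have hqS := h.hQS hq
    have hαq : α q ∈ Q := hα.map_mem hq
    apply h.j_inj (h.hQS (hα.map_mem (h.conj_mem hxS hq)))
      (S.mul_mem (S.mul_mem (hfS x hx) (h.hQS hαq)) (S.inv_mem (hfS x hx)))
    rw [hαc _ (h.conj_mem hxS hq), au_conj ι₀ hxS hqS, au_conj ι₀ (hfS x hx) (h.hQS hαq), hαc q hq]
    set κ := (ν * au ι₀ x * ν⁻¹)⁻¹ * au ι₀ (f x) with hκdef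
    have hκK := hκ x hx
    have hcomm : (ν * au ι₀ q * ν⁻¹) * κ = κ * (ν * au ι₀ q * ν⁻¹) :=
      h.hKC hκK _ (by rw [← hαc q hq]; exact h.j_mem_QG hαq)
    have e1 : au ι₀ (f x) = ν * au ι₀ x * ν⁻¹ * κ := by rw [hκdef]; group
    have e2 : κ * (ν * au ι₀ q * ν⁻¹) * κ⁻¹ = ν * au ι₀ q * ν⁻¹ := by rw [← hcomm]; group
    rw [e1]
    calc ν * (au ι₀ x * au ι₀ q * (au ι₀ x)⁻¹) * ν⁻¹
        = (ν * au ι₀ x * ν⁻¹) * (ν * au ι₀ q * ν⁻¹) * (ν * au ι₀ x * ν⁻¹)⁻¹ := by group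
      _ = (ν * au ι₀ x * ν⁻¹) * (κ * (ν * au ι₀ q * ν⁻¹) * κ⁻¹) * (ν * au ι₀ x * ν⁻¹)⁻¹ := by rw [e2]
      _ = ν * au ι₀ x * ν⁻¹ * κ * (ν * au ι₀ q * ν⁻¹) * (ν * au ι₀ x * ν⁻¹ * κ)⁻¹ := by group
  -- `P` lies in the extension control subgroup
  have hPext : P ≤ hα.ext := by
    intro x hx
    rw [Iso.mem_ext]
    refine ⟨hP hx, ?_, f x, hfS x hx, fun q hq => hcomp x hx q hq⟩
    haveI : Finite ((Q : Subgroup Ω) : Set Ω) :=
      Finite.of_injective (fun q : Q => (⟨q, h.hQS q.2⟩ : S))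
        (fun a b hab => Subtype.ext (congrArg (fun s : S => (s : Ω)) hab))
    apply Subgroup.mem_normalizer_fintype
    intro q hq
    exact h.conj_mem (hP hx) hq
  obtain ⟨g', hg', eg'⟩ := (isReceptive_iff.1
    (receptive_of_fullyNormalized h.hS h.hF h.fullyNormalized)).2 Q α hα
  have hQext : Q ≤ hα.ext := hα.le_ext
  have hM : P ⊔ Q ≤ hα.ext := sup_le hPext hQext
  have hg'M : Mor F (P ⊔ Q) g' := hg'.restrict hM
  obtain ⟨-, -, ε, hε⟩ := (realized_mor_iff h.hι).1 hg'M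
  -- `ε` normalizes, and `ε⁻¹ ν` centralizes
  have hεN : ε ∈ NG ι₀ Q := by
    haveI : Finite ((QG ι₀ Q : Subgroup Γ) : Set Γ) := Set.toFinite _
    apply Subgroup.mem_normalizer_fintype
    intro y hy
    obtain ⟨q, hq, rfl⟩ := h.mem_QG.1 hy
    rw [← hε q (le_sup_right (a := P) hq), eg' q hq]
    exact h.j_mem_QG (hα.map_mem hq)
  have hεC : ε⁻¹ * ν ∈ CG ι₀ Q := by
    rw [Subgroup.mem_centralizer_iff]
    intro y hy
    obtain ⟨q, hq, rfl⟩ := h.mem_QG.1 hy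
    have h1 := hε q (le_sup_right (a := P) hq)
    rw [eg' q hq, hαc q hq] at h1
    have h2 : au ι₀ q = ε⁻¹ * (ν * au ι₀ q * ν⁻¹) * ε := by rw [h1]; group
    calc au ι₀ q * (ε⁻¹ * ν) = ε⁻¹ * (ν * au ι₀ q * ν⁻¹) * ε * (ε⁻¹ * ν) := by rw [← h2]
      _ = ε⁻¹ * ν * au ι₀ q := by group
  obtain ⟨z, hz, hzK⟩ := h.hCK _ hεC
  have hzS : z ∈ S := hz.1
  have hzQ : z ∈ Q := h.cent_le hz
  -- in the model group `mk ν = mk ε * ι z`
  have hmk : (QuotientGroup.mk (⟨ν, hν⟩ : ↥(NG ι₀ Q)) : LG ι₀ Q K)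
      = QuotientGroup.mk (⟨ε, hεN⟩ : ↥(NG ι₀ Q)) * iota h ⟨z, hzS⟩ := by
    rw [iota_apply, ← QuotientGroup.mk_mul, eq_comm, mk_eq_mk_iff]
    show (ε * ι₀ ⟨z, hzS⟩)⁻¹ * ν ∈ K
    rw [← au_mem ι₀ hzS]
    have : (ε * au ι₀ z)⁻¹ * ν = (au ι₀ z)⁻¹ * (ε⁻¹ * ν) := by group
    rw [this]
    exact hzK
  -- conclusion
  have hfin : ∀ x ∈ P, f x = g' (z * x * z⁻¹) := by
    intro x hx
    have hxS := hP hx
    have hzx : z * x * z⁻¹ ∈ P ⊔ Q :=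
      Subgroup.mul_mem _ (Subgroup.mul_mem _ (le_sup_right (a := P) hzQ) (le_sup_left (b := Q) hx))
        (Subgroup.inv_mem _ (le_sup_right (a := P) hzQ))
    have hzxS : z * x * z⁻¹ ∈ S := S.mul_mem (S.mul_mem hzS hxS) (S.inv_mem hzS)
    have hg'S : g' (z * x * z⁻¹) ∈ S := hg'M.mem hzx
    have h1 := hg x hx
    rw [hmk] at h1
    have h2 : iota h ⟨g' (z * x * z⁻¹), hg'S⟩
        = (QuotientGroup.mk (⟨ε, hεN⟩ : ↥(NG ι₀ Q)) : LG ι₀ Q K) * iota h ⟨z * x * z⁻¹, hzxS⟩ *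
          (QuotientGroup.mk (⟨ε, hεN⟩ : ↥(NG ι₀ Q)) : LG ι₀ Q K)⁻¹ := by
      rw [iota_eq_conj_iff]
      have h3 := hε _ hzx
      rw [au_mem ι₀ hg'S, au_mem ι₀ hzxS] at h3
      show (ε * ι₀ ⟨z * x * z⁻¹, hzxS⟩ * ε⁻¹)⁻¹ * ι₀ ⟨g' (z * x * z⁻¹), hg'S⟩ ∈ K
      rw [h3, inv_mul_cancel]
      exact K.one_mem
    have h4 : iota h ⟨z * x * z⁻¹, hzxS⟩ = iota h ⟨z, hzS⟩ * iota h ⟨x, hxS⟩ * (iota h ⟨z, hzS⟩)⁻¹ := by
      rw [← map_inv, ← map_mul, ← map_mul]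
      rfl
    have h5 : iota h ⟨f x, hfS x hx⟩ = iota h ⟨g' (z * x * z⁻¹), hg'S⟩ := by
      rw [h1, h2, h4]
      group
    exact congrArg (fun s : S => (s : Ω)) (iota_injective h h5)
  have hcz : Mor F P (fun x => z * x * z⁻¹) := Mor.conj hP hzS
  have hcomp2 : Mor F P (fun x => g' (z * x * z⁻¹)) := by
    apply hcz.comp hg'M
    intro x hx
    exact Subgroup.mul_mem _ (Subgroup.mul_mem _ (le_sup_right (a := P) hzQ) (le_sup_left (b := Q) hx))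
      (Subgroup.inv_mem _ (le_sup_right (a := P) hzQ))
  exact hcomp2.congr (fun x hx => (hfin x hx).symm)

/-- the automorphisms of `Q` induced by the elements of a subgroup of the model group -/
def indAut (h : Setup F p Q ι₀ K) (T : Subgroup (LG ι₀ Q K)) : Subgroup (MulAut Q) where
  carrier := {β | ∃ ν : ↥(NG ι₀ Q), (QuotientGroup.mk ν : LG ι₀ Q K) ∈ T ∧
    ∀ q : Q, au ι₀ ((β q : Q) : Ω) = (ν : Γ) * au ι₀ (q : Ω) * (ν : Γ)⁻¹}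
  one_mem' := ⟨1, T.one_mem, fun q => by simp⟩
  mul_mem' := by
    rintro β₁ β₂ ⟨ν₁, h₁, e₁⟩ ⟨ν₂, h₂, e₂⟩
    refine ⟨ν₁ * ν₂, ?_, fun q => ?_⟩
    · rw [QuotientGroup.mk_mul]; exact T.mul_mem h₁ h₂
    · show au ι₀ ((β₁ (β₂ q) : Q) : Ω) = _
      rw [e₁, e₂]
      simp only [Subgroup.coe_mul]
      group
  inv_mem' := by
    rintro β ⟨ν, h₁, e₁⟩
    refine ⟨ν⁻¹, ?_, fun q => ?_⟩
    · rw [QuotientGroup.mk_inv]; exact T.inv_mem h₁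
    · have h2 := e₁ (β⁻¹ q)
      have h3 : β (β⁻¹ q) = q := by simp
      rw [h3] at h2
      simp only [Subgroup.coe_inv]
      rw [h2]
      group

theorem mem_indAut (h : Setup F p Q ι₀ K) {T : Subgroup (LG ι₀ Q K)} {β : MulAut Q} :
    β ∈ indAut h T ↔ ∃ ν : ↥(NG ι₀ Q), (QuotientGroup.mk ν : LG ι₀ Q K) ∈ T ∧
      ∀ q : Q, au ι₀ ((β q : Q) : Ω) = (ν : Γ) * au ι₀ (q : Ω) * (ν : Γ)⁻¹ := Iff.rfl

theorem indAut_le_autGroup (h : Setup F p Q ι₀ K) (T : Subgroup (LG ι₀ Q K)) :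
    indAut h T ≤ F.autGroup Q := by
  rintro β ⟨ν, -, e⟩
  rw [mem_autGroup_iff h.hQS, realized_mor_iff h.hι]
  refine ⟨h.hQS, fun x hx => ?_, (ν : Γ), fun x hx => ?_⟩
  · rw [extAut_mem β hx]; exact h.hQS (β ⟨x, hx⟩).2
  · rw [extAut_mem β hx]; exact e ⟨x, hx⟩

theorem indAut_pow (h : Setup F p Q ι₀ K) {β : MulAut Q} {ν : ↥(NG ι₀ Q)}
    (e : ∀ q : Q, au ι₀ ((β q : Q) : Ω) = (ν : Γ) * au ι₀ (q : Ω) * (ν : Γ)⁻¹) (n : ℕ) (q : Q) :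
    au ι₀ (((β ^ n) q : Q) : Ω) = (ν : Γ) ^ n * au ι₀ (q : Ω) * ((ν : Γ) ^ n)⁻¹ := by
  induction n with
  | zero => simp
  | succ n ih =>
    rw [pow_succ', pow_succ']
    show au ι₀ ((β ((β ^ n) q) : Q) : Ω) = _
    rw [e, ih]
    group

theorem isPGroup_indAut (h : Setup F p Q ι₀ K) {T : Subgroup (LG ι₀ Q K)} (hT : IsPGroup p T) :
    IsPGroup p (indAut h T) := by
  rintro ⟨β, ν, hν, e⟩
  obtain ⟨k, hk⟩ := hT ⟨_, hν⟩
  refine ⟨k, ?_⟩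
  apply Subtype.ext
  show β ^ p ^ k = 1
  have h1 : (QuotientGroup.mk ν : LG ι₀ Q K) ^ p ^ k = 1 := congrArg Subtype.val hk
  rw [← QuotientGroup.mk_pow, QuotientGroup.eq_one_iff, Subgroup.mem_subgroupOf] at h1
  have h2 : (ν : Γ) ^ p ^ k ∈ K := by simpa using h1
  ext q
  apply h.j_inj (h.hQS ((β ^ p ^ k) q).2) (h.hQS q.2)
  rw [indAut_pow h e]
  have hc := h.hKC h2 (au ι₀ (q : Ω)) (h.j_mem_QG q.2)
  show (ν : Γ) ^ p ^ k * au ι₀ (q : Ω) * ((ν : Γ) ^ p ^ k)⁻¹ = au ι₀ (q : Ω)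
  rw [← hc]
  group

theorem autInducedBy_le_indAut (h : Setup F p Q ι₀ K) {T : Subgroup (LG ι₀ Q K)}
    (hT : (iota h).range ≤ T) : autInducedBy S Q ≤ indAut h T := by
  intro α hα
  obtain ⟨s, hs, e⟩ := mem_autInducedBy_iff.1 hα
  refine ⟨iotaN h ⟨s, hs⟩, hT ⟨⟨s, hs⟩, rfl⟩, fun q => ?_⟩
  rw [e q, au_conj ι₀ hs (h.hQS q.2), iotaN_coe, au_mem ι₀ hs]

/-- the image of `S` is a Sylow subgroup of the model group -/
theorem exists_sylow (h : Setup F p Q ι₀ K) :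
    ∃ T : Sylow p (LG ι₀ Q K), (T : Subgroup (LG ι₀ Q K)) = (iota h).range := by
  have hp : IsPGroup p (iota h).range :=
    IsPGroup.of_surjective h.hS (iota h).rangeRestrict (iota h).rangeRestrict_surjective
  obtain ⟨T, hT⟩ := hp.exists_le_sylow
  refine ⟨T, le_antisymm ?_ hT⟩
  intro g hg
  obtain ⟨⟨ν, hν⟩, rfl⟩ := QuotientGroup.mk_surjective g
  obtain ⟨α, hα, hαc⟩ := h.exists_action hν
  -- the induced automorphisms form a `p`-group containing `Aut_S(Q)`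
  have hB := isPGroup_indAut h T.isPGroup'
  have hSB := autInducedBy_le_indAut h hT
  have hBA := indAut_le_autGroup h (T : Subgroup (LG ι₀ Q K))
  obtain ⟨-, R, hR⟩ := fullyAutomized_of_fullyNormalized h.hS h.hF h.fullyNormalized
  have hB' : IsPGroup p ((indAut h (T : Subgroup (LG ι₀ Q K))).subgroupOf (F.autGroup Q)) :=
    hB.comap_subtype
  have hle : (R : Subgroup (F.autGroup Q)) ≤
      (indAut h (T : Subgroup (LG ι₀ Q K))).subgroupOf (F.autGroup Q) := by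
    rw [hR]
    intro x hx
    rw [Subgroup.mem_subgroupOf] at hx ⊢
    exact hSB hx
  have hmax := R.is_maximal' hB' hle
  have hβB : (hα.equiv : MulAut Q) ∈ indAut h (T : Subgroup (LG ι₀ Q K)) :=
    ⟨⟨ν, hν⟩, hg, fun q => hαc q q.2⟩
  have hβS : (hα.equiv : MulAut Q) ∈ autInducedBy S Q := by
    have h1 : (⟨hα.equiv, hBA hβB⟩ : F.autGroup Q) ∈
        (indAut h (T : Subgroup (LG ι₀ Q K))).subgroupOf (F.autGroup Q) := by
      rw [Subgroup.mem_subgroupOf]; exact hβB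
    rw [hmax, hR, Subgroup.mem_subgroupOf] at h1
    exact h1
  obtain ⟨s, hs, es⟩ := mem_autInducedBy_iff.1 hβS
  have hαs : ∀ q ∈ Q, α q = s * q * s⁻¹ := fun q hq => es ⟨q, hq⟩
  have hC : (au ι₀ s)⁻¹ * ν ∈ CG ι₀ Q := by
    rw [Subgroup.mem_centralizer_iff]
    intro y hy
    obtain ⟨q, hq, rfl⟩ := h.mem_QG.1 hy
    have h1 := hαc q hq
    rw [hαs q hq, au_conj ι₀ hs (h.hQS hq)] at h1
    have h2 : au ι₀ q = (au ι₀ s)⁻¹ * (ν * au ι₀ q * ν⁻¹) * au ι₀ s := by rw [← h1]; group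
    calc au ι₀ q * ((au ι₀ s)⁻¹ * ν)
        = (au ι₀ s)⁻¹ * (ν * au ι₀ q * ν⁻¹) * au ι₀ s * ((au ι₀ s)⁻¹ * ν) := by rw [← h2]
      _ = (au ι₀ s)⁻¹ * ν * au ι₀ q := by group
  obtain ⟨z, hz, hzK⟩ := h.hCK _ hC
  refine ⟨⟨s * z, S.mul_mem hs hz.1⟩, ?_⟩
  rw [iota_apply, mk_eq_mk_iff]
  show (ι₀ ⟨s * z, S.mul_mem hs hz.1⟩)⁻¹ * ν ∈ K
  rw [← au_mem ι₀ (S.mul_mem hs hz.1), au_mul ι₀ hs hz.1]
  have : (au ι₀ s * au ι₀ z)⁻¹ * ν = (au ι₀ z)⁻¹ * ((au ι₀ s)⁻¹ * ν) := by group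
  rw [this]
  exact hzK

/-- the image of `Q` in the model group -/
abbrev QL (h : Setup F p Q ι₀ K) : Subgroup (LG ι₀ Q K) := imageAlong (iota h) Q

theorem mem_QL (h : Setup F p Q ι₀ K) {y : LG ι₀ Q K} :
    y ∈ QL h ↔ ∃ q, ∃ hq : q ∈ Q, iota h ⟨q, h.hQS hq⟩ = y := by
  rw [mem_img]
  constructor
  · rintro ⟨x, hxS, hx, e⟩
    exact ⟨x, hx, by rw [← e, au_mem _ hxS]⟩
  · rintro ⟨x, hx, e⟩
    exact ⟨x, h.hQS hx, hx, by rw [← e, au_mem _ (h.hQS hx)]⟩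

theorem QL_normal (h : Setup F p Q ι₀ K) : (QL h).Normal := by
  constructor
  intro y hy g
  obtain ⟨q, hq, rfl⟩ := (mem_QL h).1 hy
  obtain ⟨⟨ν, hν⟩, rfl⟩ := QuotientGroup.mk_surjective g
  obtain ⟨α, hα, hαc⟩ := h.exists_action hν
  rw [mem_QL]
  refine ⟨α q, hα.map_mem hq, ?_⟩
  rw [iota_eq_conj_iff]
  have h1 := hαc q hq
  rw [au_mem ι₀ (h.hQS (hα.map_mem hq)), au_mem ι₀ (h.hQS hq)] at h1
  show (ν * ι₀ ⟨q, h.hQS hq⟩ * ν⁻¹)⁻¹ * ι₀ ⟨α q, h.hQS (hα.map_mem hq)⟩ ∈ K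
  rw [h1, inv_mul_cancel]
  exact K.one_mem

theorem QL_isPGroup (h : Setup F p Q ι₀ K) : IsPGroup p (QL h) := by
  have hp : IsPGroup p (iota h).range :=
    IsPGroup.of_surjective h.hS (iota h).rangeRestrict (iota h).rangeRestrict_surjective
  apply hp.to_le
  intro y hy
  obtain ⟨q, hq, rfl⟩ := (mem_QL h).1 hy
  exact ⟨_, rfl⟩

theorem QG_inf_K (h : Setup F p Q ι₀ K) {y : Γ} (hy : y ∈ QG ι₀ Q) (hyK : y ∈ K) : y = 1 := by
  obtain ⟨q, hq, rfl⟩ := h.mem_QG.1 hy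
  have hqc : q ∈ centralizerIn S Q := by
    refine ⟨h.hQS hq, ?_⟩
    intro x hx
    have hc := h.hKC hyK (au ι₀ x) (h.j_mem_QG hx)
    apply h.j_inj (S.mul_mem (h.hQS hx) (h.hQS hq)) (S.mul_mem (h.hQS hq) (h.hQS hx))
    rw [au_mul ι₀ (h.hQS hx) (h.hQS hq), au_mul ι₀ (h.hQS hq) (h.hQS hx)]
    exact hc
  rw [h.hKZ q hqc hyK, au_one]

theorem centralizer_QL_le (h : Setup F p Q ι₀ K) :
    Subgroup.centralizer ((QL h : Subgroup (LG ι₀ Q K)) : Set (LG ι₀ Q K)) ≤ QL h := by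
  intro g hg
  obtain ⟨⟨ν, hν⟩, rfl⟩ := QuotientGroup.mk_surjective g
  rw [Subgroup.mem_centralizer_iff] at hg
  have hC : ν ∈ CG ι₀ Q := by
    rw [Subgroup.mem_centralizer_iff]
    intro y hy
    obtain ⟨q, hq, rfl⟩ := h.mem_QG.1 hy
    have h1 := hg (iota h ⟨q, h.hQS hq⟩) ((mem_QL h).2 ⟨q, hq, rfl⟩)
    have h2 : iota h ⟨q, h.hQS hq⟩ = (QuotientGroup.mk (⟨ν, hν⟩ : ↥(NG ι₀ Q)) : LG ι₀ Q K) *
        iota h ⟨q, h.hQS hq⟩ * (QuotientGroup.mk (⟨ν, hν⟩ : ↥(NG ι₀ Q)) : LG ι₀ Q K)⁻¹ := by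
      rw [← h1]; group
    have h3 := (iota_eq_conj_iff h ⟨ν, hν⟩ _ _).1 h2
    have h4 : (ν * au ι₀ q * ν⁻¹)⁻¹ * au ι₀ q ∈ K := by
      rw [au_mem ι₀ (h.hQS hq)]; exact h3
    have h5 : (ν * au ι₀ q * ν⁻¹)⁻¹ * au ι₀ q ∈ QG ι₀ Q := by
      apply Subgroup.mul_mem _ (Subgroup.inv_mem _ ?_) (h.j_mem_QG hq)
      exact (Subgroup.mem_normalizer_iff.1 hν _).1 (h.j_mem_QG hq)
    have h6 := QG_inf_K h h5 h4
    have h7 : au ι₀ q = ν * au ι₀ q * ν⁻¹ := by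
      have : ν * au ι₀ q * ν⁻¹ = (ν * au ι₀ q * ν⁻¹) * ((ν * au ι₀ q * ν⁻¹)⁻¹ * au ι₀ q) := by
        rw [h6, mul_one]
      rw [this]; group
    calc au ι₀ q * ν = ν * au ι₀ q * ν⁻¹ * ν := by rw [← h7]
      _ = ν * au ι₀ q := by group
  obtain ⟨z, hz, hzK⟩ := h.hCK _ hC
  rw [mem_QL]
  refine ⟨z, h.cent_le hz, ?_⟩
  rw [iota_apply, mk_eq_mk_iff]
  show (ι₀ ⟨z, _⟩)⁻¹ * ν ∈ K
  rw [← au_mem ι₀ hz.1]
  exact hzK

end Quot

/-- **The model of a constrained system**, from a realizing group with an invariant complement. -/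
theorem Setup.exists_model [Finite S] [Finite Γ] {p : ℕ} [Fact p.Prime] {F : FusionSystem S}
    {Q : Subgroup Ω} {ι₀ : S →* Γ} {K : Subgroup Γ} (h : Setup F p Q ι₀ K) :
    ∃ (G : Type u) (_ : Group G) (ι : S →* G), F.IsModel p G ι := by
  haveI hKn : (K.subgroupOf (NG ι₀ Q)).Normal := h.normal_sub
  refine ⟨LG ι₀ Q K, inferInstance, iota h, inferInstance, ⟨iota_injective h, ?_⟩, exists_sylow h, ?_⟩
  · intro P hP φ hφ
    constructor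
    · intro hφF
      have hf : Mor F P (extFun φ) := mem_hom_iff_mor.1 hφF
      obtain ⟨g, hg⟩ := iota_realized_mp h hP hf
      refine ⟨g, fun x => ?_⟩
      have h1 := hg x x.2
      have h2 : (⟨extFun φ x, hf.mem x.2⟩ : S) = ⟨φ x, hφ x⟩ := Subtype.ext (extFun_apply φ x)
      rw [h2] at h1
      exact h1
    · rintro ⟨g, hg⟩
      rw [mem_hom_iff_mor]
      have hfS : ∀ x ∈ P, extFun φ x ∈ S := fun x hx => by rw [extFun_mem φ hx]; exact hφ ⟨x, hx⟩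
      apply iota_realized_mpr h hP hfS g
      intro x hx
      have h1 := hg ⟨x, hx⟩
      have h2 : (⟨extFun φ x, hfS x hx⟩ : S) = ⟨φ ⟨x, hx⟩, hφ ⟨x, hx⟩⟩ :=
        Subtype.ext (extFun_mem φ hx)
      rw [h2]
      exact h1
  · have h1 : QL h ≤ pCore p (LG ι₀ Q K) := le_sSup ⟨QL_normal h, QL_isPGroup h⟩
    exact (Subgroup.centralizer_le h1).trans ((centralizer_QL_le h).trans h1)

end Cfsg.Agent.Helper87.ModelAbs
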