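import Mathlib
import Cfsg.Prelude.Def_FusionSystem
import Cfsg.Agent.Lib.Helper85.Trans2
import Cfsg.Agent.Lib.Helper85.Trans4
import Cfsg.Agent.Lib.Helper85.Biset6

set_option autoImplicit false
set_option linter.unusedSectionVars false
set_option linter.unusedVariables false
set_option linter.style.haveILetI false

/-! # A saturated fusion system is realized by the left action on a characteristic biset -/

namespace Cfsg.Agent.Helper87.ModelPark

open Cfsg Cfsg.FusionSystem Cfsg.Agent.Helper87 Cfsg.Agent.Helper85 MulAction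

universe u

variable {Ω : Type u} [Group Ω] {S : Subgroup Ω} {F : FusionSystem S} {X : Type u}
  [MulAction (S × S) X]

/-- some point has a stabilizer of the order of `S` -/
theorem exists_big_stabilizer [Finite S] [Finite X] {p : ℕ} [Fact p.Prime] (hS : IsPGroup p S)
    (hgr : ∀ x : X, IsGraph F (MulAction.stabilizer (S × S) x))
    {k : ℕ} (hk : Nat.card X = Nat.card S * k) (hpk : ¬ p ∣ k) :
    ∃ x : X, Nat.card (MulAction.stabilizer (S × S) x) = Nat.card S := by
  by_contra hcon
  push Not at hcon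
  obtain ⟨n, hn⟩ := IsPGroup.iff_card.1 hS
  have hdvd : p * Nat.card S ∣ Nat.card X := by
    apply dvd_card_of_dvd_index (G := S × S)
    intro x
    set Δ := MulAction.stabilizer (S × S) x with hΔ
    have h1 : Nat.card Δ * Δ.index = Nat.card (S × S) := Subgroup.card_mul_index Δ
    rw [Nat.card_prod, hn] at h1
    have h2 : Nat.card Δ ∣ p ^ n * p ^ n := Dvd.intro _ h1
    rw [← pow_add] at h2
    obtain ⟨a, -, ha⟩ := (Nat.dvd_prime_pow (Fact.out : p.Prime)).1 h2
    have h3 : Nat.card Δ ≤ Nat.card S := by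
      rw [card_eq_card_dom (hgr x)]
      exact Subgroup.card_le_of_le (dom_le Δ)
    have h4 : a < n := by
      have h5 : Nat.card Δ ≠ p ^ n := by rw [← hn]; exact hcon x
      rw [ha] at h3 h5
      rw [hn] at h3
      have h6 : a ≤ n := (Nat.pow_le_pow_iff_right (Fact.out : p.Prime).one_lt).1 h3
      rcases Nat.lt_or_ge a n with h7 | h7
      · exact h7
      · exact absurd (by rw [le_antisymm h6 h7]) h5
    rw [ha] at h1
    have h8 : Δ.index = p ^ (n + n - a) := by
      have h9 : p ^ a * p ^ (n + n - a) = p ^ n * p ^ n := by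
        rw [← pow_add, ← pow_add]; congr 1; omega
      have hpos : 0 < p ^ a := pow_pos (Fact.out : p.Prime).pos a
      exact Nat.eq_of_mul_eq_mul_left hpos (h1.trans h9.symm)
    rw [h8, hn, ← pow_succ']
    exact pow_dvd_pow p (by omega)
  rw [hk, mul_comm p, Nat.mul_dvd_mul_iff_left Nat.card_pos] at hdvd
  exact hpk hdvd

/-- some point is fixed by the diagonal -/
theorem exists_diag_point [Finite S] [Finite X] {p : ℕ} [Fact p.Prime] (hS : IsPGroup p S)
    (hgr : ∀ x : X, IsGraph F (MulAction.stabilizer (S × S) x))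
    (hst : ∀ K K' : Subgroup (S × S), IsGraph F K → IsGraph F K' → F.IsConj (dom K) (dom K') →
      (fixSet K : Set X).ncard = (fixSet K' : Set X).ncard)
    {k : ℕ} (hk : Nat.card X = Nat.card S * k) (hpk : ¬ p ∣ k) :
    ∃ x₀ : X, ∀ a : S, ((a, a) : S × S) • x₀ = x₀ := by
  obtain ⟨x₁, hx₁⟩ := exists_big_stabilizer hS hgr hk hpk
  have hd1 : dom (MulAction.stabilizer (S × S) x₁) = S := dom_eq_top_of_card (hgr x₁) hx₁
  have hd2 : dom (diagSub S) = S := by
    apply dom_eq_of_graph (F := F) (Mor.id (le_refl S)) (f := fun x => x)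
    intro a b
    rw [mem_diagSub]
    constructor
    · rintro rfl; exact ⟨a.2, rfl⟩
    · rintro ⟨-, h⟩; exact Subtype.ext h
  have h1 := hst _ _ (hgr x₁) (isGraph_diagSub (F := F))
    (by rw [hd1, hd2]; exact isConj_refl (le_refl S))
  have h2 : x₁ ∈ (fixSet (MulAction.stabilizer (S × S) x₁) : Set X) := fun k hk => hk
  have h3 : (fixSet (MulAction.stabilizer (S × S) x₁) : Set X).ncard ≠ 0 := by
    intro h0
    rw [Set.ncard_eq_zero (Set.toFinite _)] at h0
    rw [h0] at h2
    exact h2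
  rw [h1] at h3
  have h4 : (fixSet (diagSub S) : Set X).Nonempty := by
    by_contra hne
    rw [Set.not_nonempty_iff_eq_empty] at hne
    rw [hne, Set.ncard_empty] at h3
    exact h3 rfl
  obtain ⟨x₀, hx₀⟩ := h4
  exact ⟨x₀, fun a => hx₀ _ (mem_diagSub.2 rfl)⟩

/-- **Park's theorem for a characteristic biset** -/
theorem isRealizedBy_leftHom [Finite S] [Finite X] {p : ℕ} [Fact p.Prime] (hS : IsPGroup p S)
    (hgr : ∀ x : X, IsGraph F (MulAction.stabilizer (S × S) x))
    (hst : ∀ K K' : Subgroup (S × S), IsGraph F K → IsGraph F K' → F.IsConj (dom K) (dom K') →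
      (fixSet K : Set X).ncard = (fixSet K' : Set X).ncard)
    {k : ℕ} (hk : Nat.card X = Nat.card S * k) (hpk : ¬ p ∣ k) :
    F.IsRealizedBy (leftHom S X) := by
  obtain ⟨x₀, hx₀⟩ := exists_diag_point hS hgr hst hk hpk
  refine ⟨?_, ?_⟩
  · rw [injective_iff_map_eq_one]
    intro a ha
    have h1 : ((a, (1 : S)) : S × S) • x₀ = x₀ := by
      rw [← leftHom_apply, ha]; rfl
    obtain ⟨Q, f, hf, hmem⟩ := hgr x₀
    obtain ⟨haQ, hfa⟩ := (hmem a 1).1 h1
    have h2 : f (a : Ω) = f 1 := by rw [hf.map_one, hfa]; rfl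
    exact Subtype.ext (hf.inj haQ Q.one_mem h2)
  · intro P hP φ hφ
    constructor
    · intro hφF
      exact exists_intertwiner hgr hst hP hφF hφ
    · rintro ⟨g, hg⟩
      let z := (g : Equiv.Perm X) x₀
      have hgc := mem_rightCentralizer.1 g.2
      have hz : ∀ u : P, ((⟨φ u, hφ u⟩, ⟨u, hP u.2⟩) : S × S) • z = z := by
        intro u
        have h1 := hg u
        rw [eq_mul_inv_iff_mul_eq] at h1
        have h2 := congrArg (fun σ : rightCentralizer S X => (σ : Equiv.Perm X) x₀) h1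
        have h3 : ((⟨φ u, hφ u⟩, (1 : S)) : S × S) • z
            = (g : Equiv.Perm X) (((⟨u, hP u.2⟩, (1 : S)) : S × S) • x₀) := h2
        have h4 : (((⟨u, hP u.2⟩ : S), (1 : S)) : S × S) • x₀
            = (((1 : S), (⟨u, hP u.2⟩ : S)⁻¹) : S × S) • x₀ := by
          have h5 : (((⟨u, hP u.2⟩ : S), (⟨u, hP u.2⟩ : S)) : S × S) • x₀ = x₀ := hx₀ _
          conv_rhs => rw [← h5]
          rw [← mul_smul]
          congr 1
          simp
        rw [h4, hgc] at h3
        have h6 : ((⟨φ u, hφ u⟩, ⟨u, hP u.2⟩) : S × S)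
            = (((1 : S), (⟨u, hP u.2⟩ : S)) : S × S) * ((⟨φ u, hφ u⟩, (1 : S)) : S × S) := by
          simp
        rw [h6, mul_smul, h3, ← mul_smul]
        have h7 : (((1 : S), (⟨u, hP u.2⟩ : S)) : S × S) * (((1 : S), (⟨u, hP u.2⟩ : S)⁻¹) : S × S) = 1 := by
          simp
        rw [h7, one_smul]
      obtain ⟨Q, ψ, hψ, hmem⟩ := hgr z
      have hstab' : ∀ u : P, (φ u : Ω) ∈ Q ∧ ψ (φ u) = u := by
        intro u
        exact (hmem _ _).1 (hz u)
      have hRQ : φ.range ≤ Q := by
        rintro _ ⟨u, rfl⟩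
        exact (hstab' u).1
      have hi : Iso F φ.range P ψ := by
        refine ⟨hψ.restrict hRQ, fun y => ?_⟩
        constructor
        · intro hy
          exact ⟨φ ⟨y, hy⟩, ⟨⟨y, hy⟩, rfl⟩, (hstab' ⟨y, hy⟩).2⟩
        · rintro ⟨_, ⟨u, rfl⟩, rfl⟩
          rw [(hstab' u).2]; exact u.2
      obtain ⟨g', hg', hg'1, hg'2⟩ := hi.symm
      rw [mem_hom_iff_mor]
      refine hg'.1.congr (fun x hx => ?_)
      rw [extFun_mem φ hx]
      have := hg'1 (φ ⟨x, hx⟩) ⟨⟨x, hx⟩, rfl⟩
      rw [(hstab' ⟨x, hx⟩).2] at this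
      exact this

end Cfsg.Agent.Helper87.ModelPark
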