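import Mathlib
import Cfsg.Prelude.Def_FusionSystem
import Cfsg.Agent.Lib.Helper87.ModelAbs
import Cfsg.Agent.Lib.Helper87.ModelPark

set_option autoImplicit false
set_option linter.unusedSectionVars false
set_option linter.unusedVariables false
set_option linter.style.haveILetI false

/-! # Assembling the model of a constrained system from a complement in lattice form -/

namespace Cfsg.Agent.Helper87.ModelAssemble

open Cfsg Cfsg.FusionSystem Cfsg.Agent.Helper87 Cfsg.Agent.Helper85 Cfsg.Agent.Helper87.ModelAbs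
  Cfsg.Agent.Helper87.ModelPark

universe u

variable {Ω : Type u} [Group Ω] {S : Subgroup Ω} {Γ : Type u} [Group Γ]

/-- membership in the join of two elementwise commuting subgroups -/
theorem mem_sup_of_commute {A B : Subgroup Γ} (hc : ∀ a ∈ A, ∀ b ∈ B, a * b = b * a) {g : Γ}
    (hg : g ∈ A ⊔ B) : ∃ a ∈ A, ∃ b ∈ B, g = a * b := by
  let M : Subgroup Γ :=
    { carrier := {g | ∃ a ∈ A, ∃ b ∈ B, g = a * b}
      one_mem' := ⟨1, A.one_mem, 1, B.one_mem, (one_mul 1).symm⟩
      mul_mem' := by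
        rintro _ _ ⟨a, ha, b, hb, rfl⟩ ⟨a', ha', b', hb', rfl⟩
        refine ⟨a * a', A.mul_mem ha ha', b * b', B.mul_mem hb hb', ?_⟩
        calc a * b * (a' * b') = a * (b * a') * b' := by group
          _ = a * (a' * b) * b' := by rw [hc a' ha' b hb]
          _ = a * a' * (b * b') := by group
      inv_mem' := by
        rintro _ ⟨a, ha, b, hb, rfl⟩
        refine ⟨a⁻¹, A.inv_mem ha, b⁻¹, B.inv_mem hb, ?_⟩
        rw [mul_inv_rev, hc a⁻¹ (A.inv_mem ha) b⁻¹ (B.inv_mem hb)] }
  have hle : A ⊔ B ≤ M := by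
    apply sup_le
    · intro a ha; exact ⟨a, ha, 1, B.one_mem, (mul_one a).symm⟩
    · intro b hb; exact ⟨1, A.one_mem, b, hb, (one_mul b).symm⟩
  exact hle hg

/-- from the lattice form of the complement to a `Setup` -/
theorem setup_of_complement [Finite S] [Finite Γ] {p : ℕ} [Fact p.Prime] (hS : IsPGroup p S)
    {F : FusionSystem S} (hF : F.IsSaturated p) {Q : Subgroup Ω} (hQn : F.IsNormal Q)
    (hQc : F.IsCentric Q) {ι₀ : S →* Γ} (hι : F.IsRealizedBy ι₀) (K : Subgroup Γ)
    (h1 : K ≤ Subgroup.centralizer ((imageAlong ι₀ Q : Subgroup Γ) : Set Γ))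
    (h2 : Subgroup.normalizer ((imageAlong ι₀ Q : Subgroup Γ) : Set Γ)
      ≤ Subgroup.normalizer (K : Set Γ))
    (h3 : K ⊓ imageAlong ι₀ Q = ⊥)
    (h4 : Subgroup.centralizer ((imageAlong ι₀ Q : Subgroup Γ) : Set Γ)
      ≤ (imageAlong ι₀ Q ⊓ Subgroup.centralizer ((imageAlong ι₀ Q : Subgroup Γ) : Set Γ)) ⊔ K) :
    Setup F p Q ι₀ K := by
  have hQS : Q ≤ S := hQn.1
  have hcent : centralizerIn S Q ≤ Q := hQc.2 Q (isConj_refl hQS)
  refine ⟨hS, hF, hQn, hQc, hι, h1, ?_, ?_, ?_⟩
  · intro ν hν k hk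
    exact (Subgroup.mem_normalizer_iff.1 (h2 hν) k).1 hk
  · intro z hz hzK
    have hzQ : z ∈ Q := hcent hz
    have h5 : au ι₀ z ∈ K ⊓ imageAlong ι₀ Q :=
      ⟨hzK, mem_img.2 ⟨z, hQS hzQ, hzQ, rfl⟩⟩
    rw [h3, Subgroup.mem_bot] at h5
    apply au_injOn hι.1 (hQS hzQ) S.one_mem
    rw [h5, au_one]
  · intro c hc
    have h5 := h4 hc
    obtain ⟨a, ha, b, hb, e⟩ := mem_sup_of_commute (A := imageAlong ι₀ Q ⊓
      Subgroup.centralizer ((imageAlong ι₀ Q : Subgroup Γ) : Set Γ)) (B := K) (by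
        intro a ha b hb
        exact ((Subgroup.mem_centralizer_iff.1 (h1 hb)) a ha.1)) h5
    obtain ⟨z, hzS, hzQ, rfl⟩ := mem_img.1 ha.1
    refine ⟨z, ⟨hzS, ?_⟩, ?_⟩
    · show z ∈ Subgroup.centralizer (Q : Set Ω)
      rw [Subgroup.mem_centralizer_iff]
      intro q hq
      have hq' : q ∈ Q := hq
      have h6 := (Subgroup.mem_centralizer_iff.1 ha.2) (au ι₀ q) (mem_img.2 ⟨q, hQS hq', hq', rfl⟩)
      apply au_injOn hι.1 (S.mul_mem (hQS hq') hzS) (S.mul_mem hzS (hQS hq'))
      rw [au_mul ι₀ (hQS hq') hzS, au_mul ι₀ hzS (hQS hq')]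
      exact h6
    · rw [e, inv_mul_cancel_left]
      exact hb

/-- the model, with the centralizer of the image of `Q` inside that image -/
theorem exists_model_of_setup [Finite S] [Finite Γ] {p : ℕ} [Fact p.Prime] {F : FusionSystem S}
    {Q : Subgroup Ω} {ι₀ : S →* Γ} {K : Subgroup Γ} (h : Setup F p Q ι₀ K) :
    ∃ (G : Type u) (_ : Group G) (ι : S →* G), F.IsModel p G ι ∧
      Subgroup.centralizer ((imageAlong ι Q : Subgroup G) : Set G) ≤ imageAlong ι Q := by
  haveI hKn : (K.subgroupOf (NG ι₀ Q)).Normal := h.normal_sub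
  refine ⟨LG ι₀ Q K, inferInstance, iota h,
    ⟨inferInstance, ⟨iota_injective h, ?_⟩, exists_sylow h, ?_⟩, centralizer_QL_le h⟩
  · intro P hP φ hφ
    constructor
    · intro hφF
      have hf : Mor F P (extFun φ) := mem_hom_iff_mor.1 hφF
      obtain ⟨g, hg⟩ := iota_realized_mp h hP hf
      refine ⟨g, fun x => ?_⟩
      have h1 := hg x x.2
      have h2 : (⟨extFun φ x, hf.mem x.2⟩ : S) = ⟨φ x, hφ x⟩ := Subtype.ext (extFun_apply φ x)
      rw [h2] at h1
      exact h1
    · rintro ⟨g, hg⟩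
      rw [mem_hom_iff_mor]
      have hfS : ∀ x ∈ P, extFun φ x ∈ S := fun x hx => by rw [extFun_mem φ hx]; exact hφ ⟨x, hx⟩
      apply iota_realized_mpr h hP hfS g
      intro x hx
      have h1 := hg ⟨x, hx⟩
      have h2 : (⟨extFun φ x, hfS x hx⟩ : S) = ⟨φ ⟨x, hx⟩, hφ ⟨x, hx⟩⟩ :=
        Subtype.ext (extFun_mem φ hx)
      rw [h2]
      exact h1
  · have h1 : QL h ≤ pCore p (LG ι₀ Q K) := le_sSup ⟨QL_normal h, QL_isPGroup h⟩
    exact (Subgroup.centralizer_le h1).trans ((centralizer_QL_le h).trans h1)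

/-- **The model theorem from a complement**: the left action on a characteristic biset, with a
complement of the image of the centre of a normal centric subgroup, gives a model. -/
theorem exists_model_of_complement [Finite S] {p : ℕ} [Fact p.Prime] (hS : IsPGroup p S)
    {F : FusionSystem S} (hF : F.IsSaturated p) {X : Type u} [MulAction (S × S) X] [Finite X]
    (hgr : ∀ x : X, IsGraph F (MulAction.stabilizer (S × S) x))
    (hst : ∀ K K' : Subgroup (S × S), IsGraph F K → IsGraph F K' → F.IsConj (dom K) (dom K') →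
      (fixSet K : Set X).ncard = (fixSet K' : Set X).ncard)
    {k : ℕ} (hk : Nat.card X = Nat.card S * k) (hpk : ¬ p ∣ k)
    {Q : Subgroup Ω} (hQn : F.IsNormal Q) (hQc : F.IsCentric Q)
    (hK : ∃ K : Subgroup (rightCentralizer S X),
      K ≤ Subgroup.centralizer (((Q.subgroupOf S).map (leftHom S X) :
        Subgroup (rightCentralizer S X)) : Set (rightCentralizer S X)) ∧
      Subgroup.normalizer (((Q.subgroupOf S).map (leftHom S X) :
        Subgroup (rightCentralizer S X)) : Set (rightCentralizer S X))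
          ≤ Subgroup.normalizer (K : Set (rightCentralizer S X)) ∧
      K ⊓ (Q.subgroupOf S).map (leftHom S X) = ⊥ ∧
      Subgroup.centralizer (((Q.subgroupOf S).map (leftHom S X) :
        Subgroup (rightCentralizer S X)) : Set (rightCentralizer S X))
        ≤ ((Q.subgroupOf S).map (leftHom S X) ⊓ Subgroup.centralizer (((Q.subgroupOf S).map
          (leftHom S X) : Subgroup (rightCentralizer S X)) : Set (rightCentralizer S X))) ⊔ K) :
    ∃ (G : Type u) (_ : Group G) (ι : S →* G), F.IsModel p G ι ∧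
      Subgroup.centralizer ((imageAlong ι Q : Subgroup G) : Set G) ≤ imageAlong ι Q := by
  obtain ⟨K, h1, h2, h3, h4⟩ := hK
  have hι : F.IsRealizedBy (leftHom S X) := isRealizedBy_leftHom hS hgr hst hk hpk
  haveI : Finite (rightCentralizer S X) := inferInstance
  exact exists_model_of_setup (setup_of_complement hS hF hQn hQc hι K h1 h2 h3 h4)

end Cfsg.Agent.Helper87.ModelAssemble
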