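import Mathlib
import Cfsg.Prelude.Def_FusionSystem
import Cfsg.Agent.Lib.Helper87.ModelAssemble
import Cfsg.Agent.Lib.Helper85.ModelK8

set_option autoImplicit false

/-! # Existence of the model of a constrained system, with the centralizer property -/

namespace Cfsg.Agent.Helper87.ModelExists

open Cfsg Cfsg.FusionSystem Cfsg.Agent.Helper87 Cfsg.Agent.Helper85

universe u

/-- a saturated system with a normal centric subgroup `R` has a model in which the centralizer of the
image of `R` lies in that image -/
theorem exists_model_centralizer {Ω : Type u} [Group Ω] {T : Subgroup Ω} [Finite T] {p : ℕ}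
    [Fact p.Prime] (hT : IsPGroup p T) {E : FusionSystem T} (hE : E.IsSaturated p)
    {R : Subgroup Ω} (hRn : E.IsNormal R) (hRc : E.IsCentric R) :
    ∃ (G : Type u) (_ : Group G) (ι : T →* G), E.IsModel p G ι ∧
      Subgroup.centralizer ((imageAlong ι R : Subgroup G) : Set G) ≤ imageAlong ι R := by
  obtain ⟨X, _, _, hgr, hst, k, hk, hpk⟩ := exists_char_biset hT hE
  exact Cfsg.Agent.Helper87.ModelAssemble.exists_model_of_complement hT hE hgr hst hk hpk hRn hRc
    (exists_model_complement hT hgr hst hk hpk hRn hRc)

end Cfsg.Agent.Helper87.ModelExists
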