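import Mathlib
import Cfsg.Agent.Lib.Helper87.CenFunctor
import Cfsg.Agent.Lib.Helper87.ModelExists
import Cfsg.Agent.Lib.Helper85.Model
import Cfsg.Agent.Lib.Helper85.NormalizerModel

set_option autoImplicit false
set_option linter.style.haveILetI false
set_option linter.unusedSectionVars false
set_option linter.unusedVariables false

/-! # Control of weak closure of elements for constrained systems -/

namespace Cfsg.Agent.Helper87.CenConstrained

open Cfsg Cfsg.FusionSystem Cfsg.Agent.Helper87 Cfsg.Agent.Helper85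
  Cfsg.Agent.Helper87.GlaubFunctor Cfsg.Agent.Helper87.CenFunctor

universe u

variable {Ω : Type u} [Group Ω] {W : ∀ (Q : Type u) [Group Q], Subgroup Q}

/-- conjugates of the images of two subgroups in the range give conjugates of the image of the join
in the range -/
theorem conj_mem_range_sup {T : Subgroup Ω} {L : Type*} [Group L] {ι : T →* L} {A B : Subgroup Ω}
    (hA : A ≤ T) (hB : B ≤ T) (g : L)
    (hA' : ∀ x ∈ A, g * au ι x * g⁻¹ ∈ ι.range) (hB' : ∀ x ∈ B, g * au ι x * g⁻¹ ∈ ι.range) :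
    ∀ x ∈ A ⊔ B, g * au ι x * g⁻¹ ∈ ι.range := by
  intro x hx
  have key : x ∈ T ∧ g * au ι x * g⁻¹ ∈ ι.range := by
    rw [Subgroup.sup_eq_closure] at hx
    induction hx using Subgroup.closure_induction with
    | mem y hy =>
      rcases hy with hy | hy
      · exact ⟨hA hy, hA' y hy⟩
      · exact ⟨hB hy, hB' y hy⟩
    | one =>
      refine ⟨T.one_mem, ?_⟩
      rw [au_one]
      simp
    | mul a b _ _ iha ihb =>
      refine ⟨T.mul_mem iha.1 ihb.1, ?_⟩
      rw [au_mul ι iha.1 ihb.1]
      have e : g * (au ι a * au ι b) * g⁻¹ = (g * au ι a * g⁻¹) * (g * au ι b * g⁻¹) := by group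
      rw [e]
      exact Subgroup.mul_mem _ iha.2 ihb.2
    | inv a _ iha =>
      refine ⟨T.inv_mem iha.1, ?_⟩
      rw [au_inv ι iha.1]
      have e : g * (au ι a)⁻¹ * g⁻¹ = (g * au ι a * g⁻¹)⁻¹ := by group
      rw [e]
      exact Subgroup.inv_mem _ iha.2
  exact key.2

/-- in a saturated system with a normal centric subgroup, a subgroup fixed by all maps normalizing
`W` of the underlying group is central, provided `W` satisfies the local centre condition -/
theorem isCentral_of_constrained {p : ℕ} [Fact p.Prime] (hW : IsPos p W)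
    (hC : ∀ (G : Type u) [Group G] [Finite G] (P : Sylow p G),
      Cfsg.pCore p G ⊓ Subgroup.center G = Cfsg.pCore p G ⊓
        (Subgroup.center ↥(Subgroup.normalizer
          (((W ↥(P : Subgroup G)).map (P : Subgroup G).subtype : Subgroup G) : Set G))).map
          (Subgroup.normalizer
            (((W ↥(P : Subgroup G)).map (P : Subgroup G).subtype : Subgroup G) : Set G)).subtype)
    {T : Subgroup Ω} [Finite T] (hT : IsPGroup p T) {E : FusionSystem T} (hE : E.IsSaturated p)
    {R : Subgroup Ω} (hRn : E.IsNormal R) (hRc : E.IsCentric R) {Z₀ : Subgroup Ω}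
    (hNC : NC W E Z₀) : E.IsCentral Z₀ := by
  obtain ⟨L, _, ι, hL, -⟩ :=
    Cfsg.Agent.Helper87.ModelExists.exists_model_centralizer hT hE hRn hRc
  haveI : Finite L := hL.1
  obtain ⟨P₀, hP₀⟩ := hL.2.2.1
  have hreal := hL.2.1
  have hinj : Function.Injective ι := hreal.1
  -- the isomorphism `T ≃ P₀`
  let e : ↥T ≃* ↥(P₀ : Subgroup L) :=
    (MonoidHom.ofInjective hinj).trans (MulEquiv.subgroupCongr hP₀.symm)
  have h2 := hW.h2 ↥T ↥(P₀ : Subgroup L) hT e
  have hmap : ((W ↥(P₀ : Subgroup L)).map (P₀ : Subgroup L).subtype : Subgroup L) =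
      (W ↥T).map ι := by
    rw [← h2, Subgroup.map_map]
    congr 1
  have hCL := hC L P₀
  rw [hmap] at hCL
  have hRS : R ≤ T := (isNormal_iff.1 hRn).1
  have hXT : WW W T ≤ T := WW_le W T
  have hYn : (imageAlong ι R).Normal := model_image_normal hL hRn
  have hYp : IsPGroup p (imageAlong ι R) := (hT.to_subgroup (R.subgroupOf T)).map ι
  have hYle : imageAlong ι R ≤ pCore p L := le_pCore hYn hYp
  have hZc : Z₀ ≤ T ⊓ Subgroup.centralizer (T : Set Ω) := hNC.le_center hW hT
  have hZT : Z₀ ≤ T := hNC.1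
  have hZR : Z₀ ≤ R := fun z hz =>
    hRc.2 R (isConj_refl hRS) ⟨(hZc hz).1, Subgroup.centralizer_le hRS (hZc hz).2⟩
  -- membership in the image of `W(T)`
  have hmemX : ∀ x ∈ WW W T, au ι x ∈ (W ↥T).map ι := by
    intro x hx
    obtain ⟨hxT, hxW⟩ := mem_WW.1 hx
    rw [au_mem ι hxT]
    exact ⟨⟨x, hxT⟩, hxW, rfl⟩
  have hmemX' : ∀ x ∈ T, au ι x ∈ (W ↥T).map ι → x ∈ WW W T := by
    intro x hxT hx
    rw [au_mem ι hxT] at hx
    obtain ⟨w, hw, hwx⟩ := hx
    have := hinj hwx
    exact mem_WW.2 ⟨hxT, this ▸ hw⟩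
  have hXrange : (W ↥T).map ι ≤ ι.range := by
    rintro _ ⟨x, -, rfl⟩
    exact ⟨x, rfl⟩
  have hYrange : imageAlong ι R ≤ ι.range := by
    intro y hy
    obtain ⟨x, hxT, -, rfl⟩ := mem_img.1 hy
    exact au_mem_range' ι hxT
  -- elements of the normalizer of the image of `W(T)` centralize the image of `Z₀`
  have key : ∀ m ∈ Subgroup.normalizer (((W ↥T).map ι : Subgroup L) : Set L), ∀ z ∈ Z₀,
      m * au ι z * m⁻¹ = au ι z := by
    intro m hm z hz
    have hrange : ∀ x ∈ R ⊔ WW W T, m * au ι x * m⁻¹ ∈ ι.range := by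
      apply conj_mem_range_sup hRS hXT m
      · intro x hx
        exact hYrange (hYn.conj_mem _ (mem_img.2 ⟨x, hRS hx, hx, rfl⟩) m)
      · intro x hx
        exact hXrange ((Subgroup.mem_normalizer_iff.1 hm _).1 (hmemX x hx))
    have hf : Mor E (R ⊔ WW W T) (fun x => au (backHom ι hinj) (m * au ι x * m⁻¹)) := by
      rw [realized_mor_iff hreal]
      refine ⟨sup_le hRS hXT, fun x _ => au_backHom_mem ι hinj _, m, fun x hx => ?_⟩
      exact au_au_back ι hinj (hrange x hx)
    have hfX : ∀ x ∈ WW W T, (fun x => au (backHom ι hinj) (m * au ι x * m⁻¹)) x ∈ WW W T := by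
      intro x hx
      apply hmemX' _ (au_backHom_mem ι hinj _)
      show au ι (au (backHom ι hinj) (m * au ι x * m⁻¹)) ∈ (W ↥T).map ι
      rw [au_au_back ι hinj (hrange x (le_sup_right (a := R) hx))]
      exact (Subgroup.mem_normalizer_iff.1 hm _).1 (hmemX x hx)
    have hc := hNC.2 _ _ hf le_sup_right hfX
    have hfix := hc.fix (hZR.trans le_sup_left) hz
    have h3 : au ι (au (backHom ι hinj) (m * au ι z * m⁻¹)) = au ι z := congrArg (au ι) hfix
    rw [au_au_back ι hinj (hrange z (le_sup_left (b := WW W T) (hZR hz)))] at h3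
    exact h3
  -- the image of `Z₀` is central in the model
  have hcenter : ∀ z ∈ Z₀, au ι z ∈ Subgroup.center L := by
    intro z hz
    have h1 : au ι z ∈ pCore p L := hYle (mem_img.2 ⟨z, hZT hz, hZR hz, rfl⟩)
    have hzM : au ι z ∈ Subgroup.normalizer (((W ↥T).map ι : Subgroup L) : Set L) := by
      haveI : Finite (((W ↥T).map ι : Subgroup L) : Set L) :=
        Finite.of_injective (fun y : (((W ↥T).map ι : Subgroup L) : Set L) => (y : L))
          Subtype.val_injective
      apply Subgroup.mem_normalizer_fintype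
      rintro _ ⟨w, hw, rfl⟩
      have hwX : (w : Ω) ∈ WW W T := mem_WW.2 ⟨w.2, hw⟩
      have hn : z ∈ normalizerIn T (WW W T) := by
        rw [pos_normalizerIn_top hW hT]; exact hZT hz
      have h3 : z * (w : Ω) * z⁻¹ ∈ WW W T := (Subgroup.mem_normalizer_iff.1 hn.2 _).1 hwX
      have h4 := hmemX _ h3
      rw [au_conj ι (hZT hz) w.2, au_mem ι w.2] at h4
      exact h4
    have h2 : au ι z ∈ (Subgroup.center ↥(Subgroup.normalizer
        (((W ↥T).map ι : Subgroup L) : Set L))).map
        (Subgroup.normalizer (((W ↥T).map ι : Subgroup L) : Set L)).subtype := by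
      refine ⟨⟨au ι z, hzM⟩, ?_, rfl⟩
      apply Subgroup.mem_center_iff.2
      intro m
      apply Subtype.ext
      show (m : L) * au ι z = au ι z * (m : L)
      have := key m m.2 z hz
      calc (m : L) * au ι z = ((m : L) * au ι z * (m : L)⁻¹) * (m : L) := by group
        _ = au ι z * (m : L) := by rw [this]
    have h3 : au ι z ∈ pCore p L ⊓ Subgroup.center L := by
      rw [hCL]; exact ⟨h1, h2⟩
    exact h3.2
  rw [isCentral_iff_cen]
  refine ⟨hZT, fun P f hf => ?_⟩
  obtain ⟨hP, hfT, g, hg⟩ := (realized_mor_iff hreal).1 hf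
  have hgz : ∀ z ∈ Z₀, g * au ι z * g⁻¹ = au ι z := by
    intro z hz
    have := Subgroup.mem_center_iff.1 (hcenter z hz) g
    rw [this]; group
  have hrange : ∀ x ∈ P ⊔ Z₀, g * au ι x * g⁻¹ ∈ ι.range := by
    apply conj_mem_range_sup hP hZT g
    · intro x hx
      rw [← hg x hx]
      exact au_mem_range' ι (hfT x hx)
    · intro z hz
      rw [hgz z hz]
      exact au_mem_range' ι (hZT hz)
  refine ⟨fun x => au (backHom ι hinj) (g * au ι x * g⁻¹), ?_, fun x hx => ?_, fun z hz => ?_⟩
  · rw [realized_mor_iff hreal]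
    refine ⟨sup_le hP hZT, fun x _ => au_backHom_mem ι hinj _, g, fun x hx => ?_⟩
    exact au_au_back ι hinj (hrange x hx)
  · apply au_injOn hinj (au_backHom_mem ι hinj _) (hfT x hx)
    rw [au_au_back ι hinj (hrange x (le_sup_left (b := Z₀) hx)), hg x hx]
  · apply au_injOn hinj (au_backHom_mem ι hinj _) (hZT hz)
    rw [au_au_back ι hinj (hrange z (le_sup_right (a := P) hz)), hgz z hz]

end Cfsg.Agent.Helper87.CenConstrained
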