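import Mathlib
import Cfsg.Prelude.Def_FusionSystem
import Cfsg.Prelude.Def_FusionComponents
import Cfsg.Agent.Lib.Helper85.Solvable2
import Cfsg.Agent.Lib.Helper85.SurjMor4
import Cfsg.Agent.Lib.Helper87.FusionSaturated

set_option autoImplicit false
set_option linter.style.haveILetI false
set_option linter.unusedSectionVars false

/-! # Preimages of centric / fully normalized subgroups along a factor map -/

namespace Cfsg.Agent.Helper87.FactorPre

open Cfsg Cfsg.FusionSystem Cfsg.Agent.Helper87 Cfsg.Agent.Helper85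

variable {Ω : Type*} [Group Ω] {S : Subgroup Ω} {Ω' : Type*} [Group Ω'] {S' : Subgroup Ω'}

section hom

variable {α : S →* Ω'}

theorem au_mem_of_range (hrange : α.range = S') {x : Ω} (hx : x ∈ S) : au α x ∈ S' := by
  rw [au_mem α hx, ← hrange]; exact ⟨_, rfl⟩

/-- the order of a full preimage -/
theorem card_pre [Finite S] (hrange : α.range = S') {A' : Subgroup Ω'} (hA' : A' ≤ S') :
    Nat.card (preimageAlong α A') = Nat.card (kerOf α) * Nat.card A' := by
  have hPS : preimageAlong α A' ≤ S := preimageAlong_le α A'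
  haveI : Finite (preimageAlong α A') := finite_of_le hPS
  let ψ : ↥(preimageAlong α A') →* ↥A' :=
    { toFun := fun x => ⟨au α x, (mem_pre.1 x.2).2⟩
      map_one' := Subtype.ext (au_one α)
      map_mul' := fun x y => Subtype.ext (au_mul α (hPS x.2) (hPS y.2)) }
  have hsurj : Function.Surjective ψ := by
    rintro ⟨y, hy⟩
    obtain ⟨s, hs, rfl⟩ := exists_au_eq hrange (hA' hy)
    exact ⟨⟨s, mem_pre.2 ⟨hs, hy⟩⟩, rfl⟩
  have h1 := Subgroup.card_eq_card_quotient_mul_card_subgroup ψ.ker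
  have h2 : Nat.card (↥(preimageAlong α A') ⧸ ψ.ker) = Nat.card A' :=
    Nat.card_congr (QuotientGroup.quotientKerEquivOfSurjective ψ hsurj).toEquiv
  have h3 : Nat.card ψ.ker = Nat.card (kerOf α) := by
    have e : ψ.ker.map (preimageAlong α A').subtype = kerOf α := by
      ext x
      rw [mem_kerOf]
      constructor
      · rintro ⟨y, hy, rfl⟩
        refine ⟨hPS y.2, ?_⟩
        have := MonoidHom.mem_ker.1 hy
        exact congrArg Subtype.val this
      · rintro ⟨hx, h⟩
        refine ⟨⟨x, mem_pre.2 ⟨hx, by rw [h]; exact A'.one_mem⟩⟩, ?_, rfl⟩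
        rw [SetLike.mem_coe, MonoidHom.mem_ker]
        exact Subtype.ext h
    rw [← e]
    exact (Subgroup.card_map_of_injective (Subgroup.subtype_injective _)).symm
  rw [h1, h2, h3, mul_comm]

/-- the preimage of the normalizer of the image is the normalizer -/
theorem pre_normalizerIn [Finite S] (hrange : α.range = S') {A : Subgroup Ω} (hA : A ≤ S)
    (hker : kerOf α ≤ A) :
    preimageAlong α (normalizerIn S' (imageAlong α A)) = normalizerIn S A := by
  ext x
  rw [mem_pre]
  constructor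
  · rintro ⟨hx, hxS', hxn⟩
    refine ⟨hx, mem_normalizer_of_au hA hker hx (fun q hq => ?_)⟩
    exact (Subgroup.mem_normalizer_iff.1 hxn (au α q)).1 (mem_img.2 ⟨q, hA hq, hq, rfl⟩)
  · rintro ⟨hx, hxn⟩
    refine ⟨hx, au_mem_of_range hrange hx, ?_⟩
    haveI : Finite S' := by
      rw [← hrange]
      exact Finite.of_surjective α.rangeRestrict α.rangeRestrict_surjective
    have hAS' : imageAlong α A ≤ S' := by
      intro y hy
      obtain ⟨q, hqS, -, rfl⟩ := mem_img.1 hy
      exact au_mem_of_range hrange hqS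
    haveI : Finite (imageAlong α A) := finite_of_le hAS'
    haveI : Finite ((imageAlong α A : Subgroup Ω') : Set Ω') := ‹Finite (imageAlong α A)›
    apply Subgroup.mem_normalizer_fintype
    intro y hy
    obtain ⟨q, hqS, hqA, rfl⟩ := mem_img.1 hy
    rw [← au_conj α hx hqS]
    exact mem_img.2 ⟨x * q * x⁻¹, S.mul_mem (S.mul_mem hx hqS) (S.inv_mem hx),
      (Subgroup.mem_normalizer_iff.1 hxn q).1 hqA, rfl⟩

end hom

section factor

variable [Finite S] {p : ℕ} [Fact p.Prime] {F : FusionSystem S} {Q : Subgroup Ω} {θ : S →* Ω'}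
  {E : FusionSystem S'}

/-- conjugates of a subgroup containing the kernel -/
theorem conj_of_conj (hS : IsPGroup p S) (hF : F.IsSaturated p) (hQ : F.StronglyClosed Q)
    (hE : F.IsFactorSystem Q θ E) {R R₂ : Subgroup Ω} (hQR : Q ≤ R) (hc : F.IsConj R R₂) :
    Q ≤ R₂ ∧ E.IsConj (imageAlong θ R) (imageAlong θ R₂) := by
  have hα := factor_surjectiveMorphism hS hF hQ hE
  obtain ⟨f, hf⟩ := isConj_iff.1 hc
  refine ⟨fun q hq => ?_, ?_⟩
  · obtain ⟨x, hx, rfl⟩ := Mor.surj_stronglyClosed hQ hf.mor hQR hq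
    exact hf.map_mem (hQR hx)
  · obtain ⟨f', hf', -⟩ := descend_iso hα.1 hf
    exact isConj_iff.2 ⟨f', hf'⟩

/-- the full preimage of a centric subgroup is centric -/
theorem centric_pre (hS : IsPGroup p S) (hF : F.IsSaturated p) (hQ : F.StronglyClosed Q)
    (hE : F.IsFactorSystem Q θ E) {R' : Subgroup Ω'} (hR' : E.IsCentric R') :
    F.IsCentric (preimageAlong θ R') := by
  have hrange : θ.range = S' := hE.2.2.1
  have hker : kerOf θ = Q := kerOf_eq_of_factor hE
  have hQR : Q ≤ preimageAlong θ R' := hker ▸ kerOf_le_pre θ R'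
  refine ⟨preimageAlong_le θ R', fun R₂ hc => ?_⟩
  obtain ⟨hQR₂, hc'⟩ := conj_of_conj hS hF hQ hE hQR hc
  rw [img_pre hrange hR'.1] at hc'
  have h1 := hR'.2 _ hc'
  have hR₂S : R₂ ≤ S := (isConj_le hc).2
  rintro c ⟨hcS, hcc⟩
  have h2 : au θ c ∈ centralizerIn S' (imageAlong θ R₂) := by
    refine ⟨au_mem_of_range hrange hcS, ?_⟩
    show au θ c ∈ Subgroup.centralizer ((imageAlong θ R₂ : Subgroup Ω') : Set Ω')
    rw [Subgroup.mem_centralizer_iff]
    intro y hy
    obtain ⟨q, hqS, hqR, rfl⟩ := mem_img.1 hy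
    rw [← au_mul θ hqS hcS, ← au_mul θ hcS hqS, Subgroup.mem_centralizer_iff.1 hcc q hqR]
  have h3 : c ∈ preimageAlong θ (imageAlong θ R₂) := mem_pre.2 ⟨hcS, h1 h2⟩
  rwa [pre_img hR₂S (hker ▸ hQR₂)] at h3

/-- the full preimage of a fully normalized subgroup is fully normalized -/
theorem fullyNormalized_pre (hS : IsPGroup p S) (hF : F.IsSaturated p) (hQ : F.StronglyClosed Q)
    (hE : F.IsFactorSystem Q θ E) {R' : Subgroup Ω'} (hR' : E.IsFullyNormalized R') :
    F.IsFullyNormalized (preimageAlong θ R') := by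
  have hrange : θ.range = S' := hE.2.2.1
  have hker : kerOf θ = Q := kerOf_eq_of_factor hE
  have hQR : Q ≤ preimageAlong θ R' := hker ▸ kerOf_le_pre θ R'
  have hRS : preimageAlong θ R' ≤ S := preimageAlong_le θ R'
  refine ⟨hRS, fun R₂ hc => ?_⟩
  obtain ⟨hQR₂, hc'⟩ := conj_of_conj hS hF hQ hE hQR hc
  rw [img_pre hrange hR'.1] at hc'
  have h1 := hR'.2 _ hc'
  have hR₂S : R₂ ≤ S := (isConj_le hc).2
  have e1 := pre_normalizerIn hrange hR₂S (hker ▸ hQR₂)
  have e2 := pre_normalizerIn hrange hRS (hker ▸ hQR)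
  rw [img_pre hrange hR'.1] at e2
  have c1 := card_pre hrange (A' := normalizerIn S' (imageAlong θ R₂)) inf_le_left
  have c2 := card_pre hrange (A' := normalizerIn S' R') inf_le_left
  rw [← e1, ← e2, c1, c2]
  exact Nat.mul_le_mul_left _ h1

end factor

end Cfsg.Agent.Helper87.FactorPre
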