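import Mathlib
import Cfsg.Agent.Lib.Helper87.GlaubFunctor
import Cfsg.Agent.Lib.Helper87.FactorPre
import Cfsg.Agent.Lib.Helper87.FusionRadical
import Cfsg.Agent.Lib.Helper87.FusionAlperin
import Cfsg.Agent.Lib.Helper85.Model
import Cfsg.Agent.Lib.Helper85.QuotLift

set_option autoImplicit false
set_option linter.style.haveILetI false
set_option linter.unusedSectionVars false
set_option linter.unusedVariables false

/-! # Tools for the Glauberman functor theorem: systems with a nontrivial normal subgroup -/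

namespace Cfsg.Agent.Helper87.GlaubNormal

open Cfsg Cfsg.FusionSystem Cfsg.Agent.Helper87 Cfsg.Agent.Helper85
  Cfsg.Agent.Helper87.GlaubFunctor Cfsg.Agent.Helper87.FactorPre

universe u

variable {Ω : Type u} [Group Ω] {S : Subgroup Ω}

/-- a subgroup conjugate only to itself is fully normalized and normal in `S` -/
theorem fn_of_weaklyClosed [Finite S] {F : FusionSystem S} {X : Subgroup Ω} (hX : X ≤ S)
    (h : ∀ X₂, F.IsConj X X₂ → X₂ = X) : F.IsFullyNormalized X ∧ normalizerIn S X = S := by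
  refine ⟨⟨hX, fun X₂ hc => by rw [h X₂ hc]⟩, ?_⟩
  apply le_antisymm inf_le_left
  intro s hs
  refine ⟨hs, ?_⟩
  haveI : Finite X := finite_of_le hX
  haveI : Finite ((X : Subgroup Ω) : Set Ω) := ‹Finite X›
  apply Subgroup.mem_normalizer_fintype
  intro x hx
  have hm : Mor F X (fun x => s * x * s⁻¹) := Mor.conj hX hs
  have hI := Iso.of_mor hm
  have e := h _ (isConj_iff.2 ⟨_, hI⟩)
  have : s * x * s⁻¹ ∈ hm.image := ⟨x, hx, rfl⟩
  rw [e] at this
  exact this

/-- `Q C_S(Q)` is conjugate only to itself, for `Q` strongly closed -/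
theorem weaklyClosed_sup_centralizer [Finite S] {F : FusionSystem S} {Q : Subgroup Ω}
    (hQ : F.StronglyClosed Q) :
    ∀ R₂, F.IsConj (Q ⊔ centralizerIn S Q) R₂ → R₂ = Q ⊔ centralizerIn S Q := by
  intro R₂ hc
  obtain ⟨f, hf⟩ := isConj_iff.1 hc
  have hR₀S : Q ⊔ centralizerIn S Q ≤ S := sup_le hQ.1 inf_le_left
  have hmaps : ∀ x ∈ Q ⊔ centralizerIn S Q, f x ∈ Q ⊔ centralizerIn S Q := by
    apply hf.mor.map_sup_mem le_sup_left le_sup_right
    · intro a ha
      exact (le_sup_left : Q ≤ Q ⊔ centralizerIn S Q)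
        (Mor.map_stronglyClosed hQ hf.mor ((le_sup_left : Q ≤ Q ⊔ centralizerIn S Q) ha) ha)
    · intro b hb
      have hbR : b ∈ Q ⊔ centralizerIn S Q := (le_sup_right : centralizerIn S Q ≤ _) hb
      apply (le_sup_right : centralizerIn S Q ≤ Q ⊔ centralizerIn S Q)
      refine ⟨hf.mor.mem hbR, ?_⟩
      show f b ∈ Subgroup.centralizer (Q : Set Ω)
      rw [Subgroup.mem_centralizer_iff]
      intro q hq
      obtain ⟨q₀, hq₀, rfl⟩ := Mor.surj_stronglyClosed hQ hf.mor le_sup_left hq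
      have hq₀R : q₀ ∈ Q ⊔ centralizerIn S Q := (le_sup_left : Q ≤ _) hq₀
      rw [← hf.mor.map_mul hq₀R hbR, ← hf.mor.map_mul hbR hq₀R]
      congr 1
      exact Subgroup.mem_centralizer_iff.1 hb.2 q₀ hq₀
  have hI := iso_of_card_le hf.mor hR₀S hmaps le_rfl
  exact hf.eq_of_iso hI

/-- a subgroup normal in the system lies in every centric radical subgroup -/
theorem le_of_isNormal_centric_radical {p : ℕ} [Fact p.Prime] [Finite S] (hS : IsPGroup p S)
    {F : FusionSystem S} {Q R : Subgroup Ω} (hQ : F.IsNormal Q) (hcen : F.IsCentric R)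
    (hrad : F.IsRadical p R) : Q ≤ R := by
  apply le_of_centric_radical hS (stronglyClosed_of_isNormal hQ) ?_ hcen hrad
  intro P f hPQ hf
  obtain ⟨g, hg, e, h⟩ := (isNormal_iff.1 hQ).2 P f hf
  rw [sup_eq_right.2 hPQ] at hg
  exact ⟨g, ⟨hg, h⟩, e⟩

/-- a normal subgroup of `S` meeting `N_S(R)` inside `R` lies in `R` -/
theorem le_of_normalizerIn_inf_le {p : ℕ} [Fact p.Prime] [Finite S] (hS : IsPGroup p S)
    {R B : Subgroup Ω} (hR : R ≤ S) (hB : B ≤ S) (hBn : S ≤ Subgroup.normalizer (B : Set Ω))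
    (h : normalizerIn S R ⊓ B ≤ R) : B ≤ R := by
  by_contra hBR
  have hM : R ⊔ B ≤ S := sup_le hR hB
  haveI : Finite ↥(R ⊔ B) := finite_of_le hM
  have hMp : IsPGroup p ↥(R ⊔ B) := hS.to_le hM
  have hne : R ≠ R ⊔ B := by
    intro e
    apply hBR
    rw [e]
    exact le_sup_right
  obtain ⟨n, hn, hnR⟩ := exists_normalizer_not_mem hMp (le_sup_left : R ≤ R ⊔ B) hne
  obtain ⟨r, hr, b, hb, rfl⟩ := (mem_sup_iff_of_le_normalizer (hR.trans hBn)).1 hn.1
  apply hnR
  have hbn : b ∈ Subgroup.normalizer (R : Set Ω) := by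
    have h1 : r⁻¹ * (r * b) ∈ Subgroup.normalizer (R : Set Ω) :=
      Subgroup.mul_mem _ (Subgroup.inv_mem _ (Subgroup.le_normalizer hr)) hn.2
    rwa [inv_mul_cancel_left] at h1
  exact R.mul_mem hr (h ⟨⟨hB hb, hbn⟩, hb⟩)

/-- maps whose source contains a weakly closed normal subgroup of `S` are maps of its normalizer system -/
theorem mor_normalizerSystem_of_weaklyClosed [Finite S] {F : FusionSystem S} {X : Subgroup Ω}
    (hwc : ∀ X₂, F.IsConj X X₂ → X₂ = X) (hNS : normalizerIn S X = S)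
    {NX : FusionSystem (normalizerIn S X)} (hNX : F.IsNormalizerSystem X NX) {P : Subgroup Ω}
    {f : Ω → Ω} (hXP : X ≤ P) (hf : Mor F P f) : Mor NX P f := by
  rw [mor_normalizerSystem_iff hNX]
  have hI := Iso.of_mor (hf.restrict hXP)
  have e := hwc _ (isConj_iff.2 ⟨_, hI⟩)
  rw [e] at hI
  refine ⟨hf, hNS.symm ▸ hf.le, fun x hx => hNS.symm ▸ hf.mem hx, f, ?_, fun _ _ => rfl, hI.2⟩
  rw [sup_eq_left.2 hXP]
  exact hf

/-- all maps of the system are maps of the normalizer system of a normal subgroup -/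
theorem mor_normalizerSystem_of_isNormal [Finite S] {F : FusionSystem S} {Q : Subgroup Ω}
    (hQ : F.IsNormal Q) {NQ : FusionSystem (normalizerIn S Q)} (hNQ : F.IsNormalizerSystem Q NQ)
    {P : Subgroup Ω} {f : Ω → Ω} (hf : Mor F P f) : Mor NQ P f := by
  have hNS : normalizerIn S Q = S :=
    le_antisymm inf_le_left
      (le_inf le_rfl (stronglyClosed_le_normalizer (stronglyClosed_of_isNormal hQ)))
  rw [mor_normalizerSystem_iff hNQ]
  obtain ⟨g, hg, e, h⟩ := (isNormal_iff.1 hQ).2 P f hf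
  exact ⟨hf, hNS.symm ▸ hf.le, fun x hx => hNS.symm ▸ hf.mem hx, g, hg, e, h⟩

theorem normalizerIn_eq_of_isNormal [Finite S] {F : FusionSystem S} {Q : Subgroup Ω}
    (hQ : F.IsNormal Q) : normalizerIn S Q = S :=
  le_antisymm inf_le_left
    (le_inf le_rfl (stronglyClosed_le_normalizer (stronglyClosed_of_isNormal hQ)))

end Cfsg.Agent.Helper87.GlaubNormal
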