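import Mathlib
import Cfsg.Agent.Lib.Helper87.CenFunctor
import Cfsg.Agent.Lib.Helper87.GlaubNormal
import Cfsg.Agent.Lib.Helper87.FactorPre
import Cfsg.Agent.Lib.Helper50.SylowLemmas
import Cfsg.Agent.Lib.Helper85.NormalizerModel

set_option autoImplicit false
set_option linter.style.haveILetI false
set_option linter.unusedSectionVars false
set_option linter.unusedVariables false

/-! # Control of weak closure of elements: the step when `O_p(F)` is nontrivial and not centric -/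

namespace Cfsg.Agent.Helper87.CenStep

open Cfsg Cfsg.FusionSystem Cfsg.Agent.Helper87 Cfsg.Agent.Helper85
  Cfsg.Agent.Helper87.GlaubFunctor Cfsg.Agent.Helper87.FactorPre Cfsg.Agent.Helper87.GlaubNormal
  Cfsg.Agent.Helper87.CenFunctor

universe u

variable {Ω : Type u} [Group Ω] {S : Subgroup Ω} {Ω' : Type u} [Group Ω'] {S' : Subgroup Ω'}
  [Finite S] {p : ℕ} [Fact p.Prime] {F : FusionSystem S} {Q : Subgroup Ω} {θ : S →* Ω'}
  {E : FusionSystem S'} {W : ∀ (Q : Type u) [Group Q], Subgroup Q}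

/-- a subgroup with `N_S(X) = S` is fully normalized -/
theorem fn_of_normalizerIn_eq {X : Subgroup Ω} (hX : X ≤ S) (hN : normalizerIn S X = S) :
    F.IsFullyNormalized X := by
  refine ⟨hX, fun Y _ => ?_⟩
  rw [hN]
  exact card_normalizerIn_le Y

/-- if `Z₀` is central in the normalizer system of the preimage `V` of `W(S/Q)`, then its image
satisfies the hypothesis `NC` in the factor system -/
theorem nc_factor (hS : IsPGroup p S) (hF : F.IsSaturated p) (hQ : F.StronglyClosed Q)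
    (hE : F.IsFactorSystem Q θ E)
    {FV : FusionSystem (normalizerIn S (preimageAlong θ (WW W S')))}
    (hFV : F.IsNormalizerSystem (preimageAlong θ (WW W S')) FV)
    (hNV : normalizerIn S (preimageAlong θ (WW W S')) = S) {Z₀ : Subgroup Ω}
    (hZ₀ : FV.IsCentral Z₀) : NC W E (imageAlong θ Z₀) := by
  have hα := factor_surjectiveMorphism hS hF hQ hE
  have hrange : θ.range = S' := hE.2.2.1
  have hker : kerOf θ = Q := kerOf_eq_of_factor hE
  obtain ⟨hZN, hcen⟩ := isCentral_iff_cen.1 hZ₀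
  refine ⟨?_, fun Pb fb hfb hWP hfW => ?_⟩
  · intro y hy
    obtain ⟨x, hxS, hxZ, rfl⟩ := mem_img.1 hy
    exact au_mem_of_range hrange hxS
  · obtain ⟨f, hf, ef⟩ := lift hα hfb.le hfb
    have hVP : preimageAlong θ (WW W S') ≤ preimageAlong θ Pb := preimageAlong_mono θ hWP
    have hfV : ∀ x ∈ preimageAlong θ (WW W S'), f x ∈ preimageAlong θ (WW W S') := by
      intro x hx
      refine mem_pre.2 ⟨hf.mem (hVP hx), ?_⟩
      rw [← ef x (hVP hx)]
      exact hfW _ (mem_pre.1 hx).2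
    have hIV : Iso F (preimageAlong θ (WW W S')) (preimageAlong θ (WW W S')) f :=
      iso_of_card_le (hf.restrict hVP) (preimageAlong_le θ _) hfV le_rfl
    have hmorFV : Mor FV (preimageAlong θ Pb) f := by
      rw [mor_normalizerSystem_iff hFV]
      refine ⟨hf, hNV.symm ▸ preimageAlong_le θ Pb, fun x hx => hNV.symm ▸ hf.mem hx, f, ?_,
        fun _ _ => rfl, hIV.2⟩
      rw [sup_eq_left.2 hVP]
      exact hf
    obtain ⟨g, hg, eg, hgZ⟩ := hcen _ _ hmorFV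
    have hgF : Mor F (preimageAlong θ Pb ⊔ Z₀) g := ((mor_normalizerSystem_iff hFV).1 hg).1
    obtain ⟨gb, hgb, egb⟩ := descend hα.1 hgF
    have hle : Pb ⊔ imageAlong θ Z₀ ≤ imageAlong θ (preimageAlong θ Pb ⊔ Z₀) := by
      apply sup_le
      · exact (img_pre hrange hfb.le).ge.trans
          (Cfsg.Agent.Helper85.imageAlong_mono θ le_sup_left)
      · exact Cfsg.Agent.Helper85.imageAlong_mono θ le_sup_right
    refine ⟨gb, hgb.restrict hle, fun y hy => ?_, fun y hy => ?_⟩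
    · obtain ⟨x, hxS, rfl⟩ := exists_au_eq hrange (hfb.le hy)
      have hx : x ∈ preimageAlong θ Pb := mem_pre.2 ⟨hxS, hy⟩
      rw [egb x (le_sup_left (b := Z₀) hx), eg x hx, ef x hx]
    · obtain ⟨x, hxS, hxZ, rfl⟩ := mem_img.1 hy
      rw [egb x (le_sup_right (a := preimageAlong θ Pb) hxZ), hgZ x hxZ]

/-- if the image of `Z₀` is central in the factor system, every automorphism of a subgroup
containing `Z₀` fixes `Z₀` modulo `Q` -/
theorem mod_of_central_factor (hS : IsPGroup p S) (hF : F.IsSaturated p)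
    (hQ : F.StronglyClosed Q) (hE : F.IsFactorSystem Q θ E) {Z₀ : Subgroup Ω} (hZ₀ : Z₀ ≤ S)
    (hcenE : E.IsCentral (imageAlong θ Z₀)) {R : Subgroup Ω} {f : Ω → Ω} (hf : Iso F R R f)
    (hZR : Z₀ ≤ R) : ∀ z ∈ Z₀, z⁻¹ * f z ∈ Q := by
  have hα := factor_surjectiveMorphism hS hF hQ hE
  have hker : kerOf θ = Q := kerOf_eq_of_factor hE
  obtain ⟨fb, hfb, efb⟩ := descend hα.1 hf.mor
  intro z hz
  have hc := (isCentral_iff_cen.1 hcenE).2 _ _ hfb
  have hle : imageAlong θ Z₀ ≤ imageAlong θ R := Cfsg.Agent.Helper85.imageAlong_mono θ hZR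
  have h1 := hc.fix hle (mem_img.2 ⟨z, hZ₀ hz, hz, rfl⟩)
  rw [efb z (hZR hz)] at h1
  have := (au_eq_iff θ (hZ₀ hz) (hf.le_left (hf.map_mem (hZR hz)))).1 h1.symm
  rwa [hker] at this

/-! ### the Frattini argument in `Aut_F(R)` -/

/-- the automorphisms in `Aut_F(R)` fixing `Q ∩ R` elementwise -/
def fixQ (F : FusionSystem S) (Q R : Subgroup Ω) : Subgroup (F.autGroup R) where
  carrier := {β | ∀ x : R, (x : Ω) ∈ Q → (β : MulAut R) x = x}
  mul_mem' := by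
    rintro β₁ β₂ b1 b2 x hx
    show (β₁ : MulAut R) ((β₂ : MulAut R) x) = x
    rw [b2 x hx, b1 x hx]
  one_mem' := fun _ _ => rfl
  inv_mem' := by
    rintro β b1 x hx
    show (β : MulAut R)⁻¹ x = x
    have := b1 x hx
    calc (β : MulAut R)⁻¹ x = (β : MulAut R)⁻¹ ((β : MulAut R) x) := by rw [this]
      _ = x := by simp

theorem fixQ_normal (hQ : F.StronglyClosed Q) {R : Subgroup Ω} (hR : R ≤ S) :
    (fixQ F Q R).Normal := by
  constructor
  rintro β b1 α x hx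
  show (α : MulAut R) ((β : MulAut R) ((α : MulAut R)⁻¹ x)) = x
  have hαinv : (α : MulAut R)⁻¹ ∈ F.autGroup R := Subgroup.inv_mem _ α.2
  have hy : (((α : MulAut R)⁻¹ x : R) : Ω) ∈ Q := aut_mem_of_stronglyClosed hQ hR hαinv hx
  rw [b1 _ hy]; simp

/-- the automorphisms fixing `Q` elementwise fix `Z₀` elementwise, when all automorphisms fix
`Z₀` modulo `Q` -/
theorem fixQ_fix (hS : IsPGroup p S) (hF : F.IsSaturated p) (hQ : F.StronglyClosed Q)
    {R : Subgroup Ω} (hRfn : F.IsFullyNormalized R) {Z₀ : Subgroup Ω}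
    (hZc : Z₀ ≤ S ⊓ Subgroup.centralizer (S : Set Ω)) (hZR : Z₀ ≤ R)
    (hmod : ∀ α ∈ F.autGroup R, ∀ (z : Ω) (hz : z ∈ Z₀),
      z⁻¹ * (((α ⟨z, hZR hz⟩ : R)) : Ω) ∈ Q)
    (κ : F.autGroup R) (hκ : κ ∈ fixQ F Q R) (z : Ω) (hz : z ∈ Z₀) :
    ((((κ : MulAut R) ⟨z, hZR hz⟩ : R)) : Ω) = z := by
  have hR : R ≤ S := hRfn.1
  haveI : Finite R := finite_of_le hR
  have hQS : Q ≤ S := hQ.1
  haveI : Finite Q := finite_of_le hQS
  haveI hKn : (fixQ F Q R).Normal := fixQ_normal hQ hR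
  obtain ⟨-, Rs, hRs⟩ := fullyAutomized_of_fullyNormalized hS hF hRfn
  have hidx : ¬ p ∣ (((autInducedBy S R).subgroupOf (F.autGroup R)) ⊓ fixQ F Q R).relIndex
      (fixQ F Q R) := by
    rw [Subgroup.inf_relIndex_right]
    intro h
    have h1 := Cfsg.Agent.Helper50.relIndex_normal_dvd_index
      ((autInducedBy S R).subgroupOf (F.autGroup R)) (fixQ F Q R)
    have h2 : ¬ p ∣ ((autInducedBy S R).subgroupOf (F.autGroup R)).index := by
      rw [← hRs]; exact Rs.not_dvd_index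
    exact h2 (h.trans h1)
  -- the homomorphism `k ↦ z⁻¹ k(z)`
  have hmul : ∀ k k' : ↥(fixQ F Q R),
      z⁻¹ * ((((((k * k' : ↥(fixQ F Q R)) : F.autGroup R) : MulAut R) ⟨z, hZR hz⟩ : R)) : Ω) =
      (z⁻¹ * ((((((k : F.autGroup R) : MulAut R) ⟨z, hZR hz⟩ : R)) : Ω))) *
        (z⁻¹ * ((((((k' : F.autGroup R) : MulAut R) ⟨z, hZR hz⟩ : R)) : Ω))) := by
    intro k k'
    have hq : (((⟨z, hZR hz⟩ : R)⁻¹ * ((k' : F.autGroup R) : MulAut R) ⟨z, hZR hz⟩ : R) : Ω) ∈ Q :=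
      hmod _ (k' : F.autGroup R).2 z hz
    have h1 : ((k : F.autGroup R) : MulAut R)
        ((⟨z, hZR hz⟩ : R)⁻¹ * ((k' : F.autGroup R) : MulAut R) ⟨z, hZR hz⟩) =
        (⟨z, hZR hz⟩ : R)⁻¹ * ((k' : F.autGroup R) : MulAut R) ⟨z, hZR hz⟩ := k.2 _ hq
    have h2 : ((k : F.autGroup R) : MulAut R) (((k' : F.autGroup R) : MulAut R) ⟨z, hZR hz⟩) =
        ((k : F.autGroup R) : MulAut R) ⟨z, hZR hz⟩ *
          ((⟨z, hZR hz⟩ : R)⁻¹ * ((k' : F.autGroup R) : MulAut R) ⟨z, hZR hz⟩) := by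
      rw [← h1, ← map_mul]
      congr 1
      group
    have h3 := congrArg (fun y : R => (y : Ω)) h2
    simp only [Subgroup.coe_mul, Subgroup.coe_inv] at h3
    show z⁻¹ * ((((k : F.autGroup R) : MulAut R) (((k' : F.autGroup R) : MulAut R)
      ⟨z, hZR hz⟩) : R) : Ω) = _
    rw [h3]
    group
  let χ : ↥(fixQ F Q R) →* ↥Q := MonoidHom.mk'
    (fun k => ⟨z⁻¹ * ((((((k : F.autGroup R) : MulAut R) ⟨z, hZR hz⟩ : R)) : Ω)),
      hmod _ (k : F.autGroup R).2 z hz⟩)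
    (fun k k' => Subtype.ext (hmul k k'))
  have hker : ((((autInducedBy S R).subgroupOf (F.autGroup R)) ⊓ fixQ F Q R).subgroupOf
      (fixQ F Q R)) ≤ χ.ker := by
    intro k hk
    rw [MonoidHom.mem_ker]
    apply Subtype.ext
    show z⁻¹ * ((((((k : F.autGroup R) : MulAut R) ⟨z, hZR hz⟩ : R)) : Ω)) = 1
    have hkHS : (k : F.autGroup R) ∈ (autInducedBy S R).subgroupOf (F.autGroup R) :=
      (Subgroup.mem_subgroupOf.1 hk).1
    obtain ⟨g, hg, e⟩ := mem_autInducedBy_iff.1 (Subgroup.mem_subgroupOf.1 hkHS)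
    rw [e]
    have hc := Subgroup.mem_centralizer_iff.1 (hZc hz).2 g hg
    show z⁻¹ * (g * z * g⁻¹) = 1
    rw [hc]
    group
  have h1 : χ.ker.index ∣ ((((autInducedBy S R).subgroupOf (F.autGroup R)) ⊓
      fixQ F Q R).subgroupOf (fixQ F Q R)).index := Subgroup.index_dvd_of_le hker
  have h2 : χ.ker.index = Nat.card χ.range := Subgroup.index_ker χ
  have h3 : Nat.card χ.range ∣ Nat.card Q := Subgroup.card_subgroup_dvd_card _
  obtain ⟨n, hn⟩ := IsPGroup.iff_card.1 (hS.to_le hQS)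
  rw [hn] at h3
  obtain ⟨m, hm, hm'⟩ := (Nat.dvd_prime_pow (Fact.out : p.Prime)).1 h3
  have h4 : χ.ker.index = 1 := by
    rw [h2, hm']
    by_contra hne
    have hm0 : m ≠ 0 := fun h0 => hne (by rw [h0, pow_zero])
    apply hidx
    have h5 : p ∣ χ.ker.index := by rw [h2, hm']; exact dvd_pow_self p hm0
    exact h5.trans h1
  have h5 : χ.ker = ⊤ := Subgroup.index_eq_one.1 h4
  have h6 : (⟨κ, hκ⟩ : ↥(fixQ F Q R)) ∈ χ.ker := h5 ▸ Subgroup.mem_top _
  have h7 := congrArg (fun q : ↥Q => (q : Ω)) (MonoidHom.mem_ker.1 h6)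
  have h8 : z⁻¹ * ((((κ : MulAut R) ⟨z, hZR hz⟩ : R)) : Ω) = 1 := h7
  calc ((((κ : MulAut R) ⟨z, hZR hz⟩ : R)) : Ω)
      = z * (z⁻¹ * ((((κ : MulAut R) ⟨z, hZR hz⟩ : R)) : Ω)) := by group
    _ = z := by rw [h8, mul_one]

/-- **The Frattini step.** -/
theorem aut_fix (hS : IsPGroup p S) (hF : F.IsSaturated p) (hQ : F.StronglyClosed Q)
    {R : Subgroup Ω} (hRfn : F.IsFullyNormalized R) {Z₀ : Subgroup Ω}
    (hZc : Z₀ ≤ S ⊓ Subgroup.centralizer (S : Set Ω)) (hZR : Z₀ ≤ R)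
    (hmod : ∀ α ∈ F.autGroup R, ∀ (z : Ω) (hz : z ∈ Z₀),
      z⁻¹ * (((α ⟨z, hZR hz⟩ : R)) : Ω) ∈ Q)
    (IHA : ∀ (P' : Subgroup Ω) (f' : Ω → Ω), Mor F P' f' → Nat.card R < Nat.card P' →
      Cen F Z₀ P' f')
    {t : Ω} (htS : t ∈ S) (htQ : t ∈ Subgroup.centralizer (Q : Set Ω))
    (htR : t ∈ Subgroup.normalizer (R : Set Ω)) (htnR : t ∉ R)
    (α : MulAut R) (hα : α ∈ F.autGroup R) (z : Ω) (hz : z ∈ Z₀) :
    (((α ⟨z, hZR hz⟩ : R)) : Ω) = z := by
  have hR : R ≤ S := hRfn.1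
  haveI : Finite R := finite_of_le hR
  haveI hKn : (fixQ F Q R).Normal := fixQ_normal hQ hR
  obtain ⟨-, Rs, hRs⟩ := fullyAutomized_of_fullyNormalized hS hF hRfn
  have hPKp : IsPGroup p ↥(((autInducedBy S R).subgroupOf (F.autGroup R)) ⊓ fixQ F Q R) := by
    have h0 : IsPGroup p ↥((autInducedBy S R).subgroupOf (F.autGroup R)) := hRs ▸ Rs.isPGroup'
    exact h0.to_le inf_le_left
  have hidx : ¬ p ∣ (((autInducedBy S R).subgroupOf (F.autGroup R)) ⊓ fixQ F Q R).relIndex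
      (fixQ F Q R) := by
    rw [Subgroup.inf_relIndex_right]
    intro h
    have h1 := Cfsg.Agent.Helper50.relIndex_normal_dvd_index
      ((autInducedBy S R).subgroupOf (F.autGroup R)) (fixQ F Q R)
    have h2 : ¬ p ∣ ((autInducedBy S R).subgroupOf (F.autGroup R)).index := by
      rw [← hRs]; exact Rs.not_dvd_index
    exact h2 (h.trans h1)
  have ha : (⟨α, hα⟩ : F.autGroup R) ∈
      Subgroup.normalizer ((fixQ F Q R : Subgroup (F.autGroup R)) : Set (F.autGroup R)) := by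
    rw [Subgroup.normalizer_eq_top]; exact Subgroup.mem_top _
  obtain ⟨m, hm, hν⟩ := Cfsg.Agent.Helper50.exists_mul_mem_normalizer_of_sylow
    (inf_le_right : ((autInducedBy S R).subgroupOf (F.autGroup R)) ⊓ fixQ F Q R ≤ fixQ F Q R)
    hPKp hidx ha
  -- the conjugation by `t`
  have hc : conjAut R t htR ∈ F.autGroup R :=
    autInducedBy_le_autGroup F hR (conjAut_mem_autInducedBy htS htR)
  have hcPK : (⟨conjAut R t htR, hc⟩ : F.autGroup R) ∈
      ((autInducedBy S R).subgroupOf (F.autGroup R)) ⊓ fixQ F Q R := by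
    refine ⟨Subgroup.mem_subgroupOf.2 (conjAut_mem_autInducedBy htS htR), fun x hx => ?_⟩
    apply Subtype.ext
    show t * (x : Ω) * t⁻¹ = x
    have := Subgroup.mem_centralizer_iff.1 htQ (x : Ω) hx
    rw [← this]; group
  have hνc := (Subgroup.mem_normalizer_iff.1 hν ⟨conjAut R t htR, hc⟩).1 hcPK
  obtain ⟨g, hg, e⟩ := mem_autInducedBy_iff.1 (Subgroup.mem_subgroupOf.1 hνc.1)
  have hνm : Mor F R (extAut ((m⁻¹ * ⟨α, hα⟩ : F.autGroup R) : MulAut R)) :=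
    (mem_autGroup_iff hR).1 (m⁻¹ * ⟨α, hα⟩ : F.autGroup R).2
  have hνiso : Iso F R R (extAut ((m⁻¹ * ⟨α, hα⟩ : F.autGroup R) : MulAut R)) :=
    iso_of_mor_extAut hνm
  have htext : t ∈ hνiso.ext := by
    refine ⟨htS, htR, g, hg, fun x hx => ?_⟩
    have hx' : t * x * t⁻¹ ∈ R := (Subgroup.mem_normalizer_iff.1 htR x).1 hx
    rw [extAut_mem _ hx', extAut_mem _ hx]
    have h1 := e (((m⁻¹ * ⟨α, hα⟩ : F.autGroup R) : MulAut R) ⟨x, hx⟩)
    rw [← h1]
    show _ = ((((m⁻¹ * ⟨α, hα⟩ : F.autGroup R) : MulAut R) ((conjAut R t htR)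
      ((((m⁻¹ * ⟨α, hα⟩ : F.autGroup R) : MulAut R))⁻¹
        (((m⁻¹ * ⟨α, hα⟩ : F.autGroup R) : MulAut R) ⟨x, hx⟩))) : R) : Ω)
    rw [MulAut.inv_apply_self]
    rfl
  obtain ⟨g', hg', eg'⟩ :=
    (isReceptive_iff.1 (receptive_of_fullyNormalized hS hF hRfn)).2 R _ hνiso
  have hcard : Nat.card R < Nat.card hνiso.ext :=
    card_lt_of_not_mem hνiso.le_ext (hνiso.ext_le_normalizerIn.trans inf_le_left) htext htnR
  have hcen := IHA _ g' hg' hcard
  have hνz : extAut ((m⁻¹ * ⟨α, hα⟩ : F.autGroup R) : MulAut R) z = z := by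
    rw [← eg' z (hZR hz)]
    exact hcen.fix (hZR.trans hνiso.le_ext) hz
  rw [extAut_mem _ (hZR hz)] at hνz
  have hmz := fixQ_fix hS hF hQ hRfn hZc hZR hmod m hm z hz
  have hαeq : (α : MulAut R) = ((m : F.autGroup R) : MulAut R) *
      ((m⁻¹ * ⟨α, hα⟩ : F.autGroup R) : MulAut R) := by
    have : (⟨α, hα⟩ : F.autGroup R) = m * (m⁻¹ * ⟨α, hα⟩) := by group
    exact congrArg (fun y : F.autGroup R => (y : MulAut R)) this
  rw [hαeq]
  show ((((m : F.autGroup R) : MulAut R) (((m⁻¹ * ⟨α, hα⟩ : F.autGroup R) : MulAut R)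
    ⟨z, hZR hz⟩) : R) : Ω) = z
  have h9 : ((m⁻¹ * ⟨α, hα⟩ : F.autGroup R) : MulAut R) ⟨z, hZR hz⟩ = ⟨z, hZR hz⟩ :=
    Subtype.ext hνz
  rw [h9]
  exact hmz

end Cfsg.Agent.Helper87.CenStep
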