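import Mathlib
import Cfsg.Prelude.Def_FusionSystem
import Cfsg.Prelude.Def_Local
import Cfsg.Agent.Lib.Helper87.FusionAut
import Cfsg.Agent.Lib.Helper87.FusionCore
import Cfsg.Agent.Lib.Helper87.FusionAlperin
import Cfsg.Agent.Lib.Helper85.Realized
import Cfsg.Agent.Lib.Helper85.Model
import Cfsg.Agent.Lib.Helper85.NormalizerModel
import Cfsg.Agent.Lib.Helper54.PSolv
import Cfsg.Agent.Lib.Helper76.SolvPSolv
import Cfsg.Agent.Lib.Helper88.RealizedNormal

set_option autoImplicit false
set_option linter.unusedSectionVars false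
set_option linter.unusedVariables false
set_option linter.style.haveILetI false

/-! # Models and `p`-solvability: the automizer of the core of a realized system -/

namespace Cfsg.Agent.Helper87.ModelSolv

open Cfsg Cfsg.FusionSystem Cfsg.Agent.Helper87 Cfsg.Agent.Helper85

variable {Ω : Type*} [Group Ω] {S : Subgroup Ω} {G : Type*} [Group G]

/-- the isomorphism of a subgroup of `S` onto its image -/
noncomputable def imgEquiv (ι : S →* G) (hinj : Function.Injective ι) {Q : Subgroup Ω}
    (hQ : Q ≤ S) : ↥Q ≃* ↥(imageAlong ι Q) :=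
  (Subgroup.subgroupOfEquivOfLe hQ).symm.trans ((Q.subgroupOf S).equivMapOfInjective ι hinj)

theorem imgEquiv_coe (ι : S →* G) (hinj : Function.Injective ι) {Q : Subgroup Ω} (hQ : Q ≤ S)
    (q : Q) : ((imgEquiv ι hinj hQ q : ↥(imageAlong ι Q)) : G) = au ι (q : Ω) := by
  rw [au_mem ι (hQ q.2)]
  rfl

/-- the action of the realizing group on a subgroup with normal image -/
noncomputable def autHom (ι : S →* G) (hinj : Function.Injective ι) {Q : Subgroup Ω} (hQ : Q ≤ S)
    [hN : (imageAlong ι Q).Normal] : G →* MulAut ↥Q :=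
  (MulAut.congr (imgEquiv ι hinj hQ)).symm.toMonoidHom.comp
    (MulAut.conjNormal (H := imageAlong ι Q))

theorem au_autHom (ι : S →* G) (hinj : Function.Injective ι) {Q : Subgroup Ω} (hQ : Q ≤ S)
    [hN : (imageAlong ι Q).Normal] (g : G) (q : Q) :
    au ι ((autHom ι hinj hQ g q : Q) : Ω) = g * au ι (q : Ω) * g⁻¹ := by
  rw [← imgEquiv_coe ι hinj hQ, ← imgEquiv_coe ι hinj hQ]
  have h1 : imgEquiv ι hinj hQ (autHom ι hinj hQ g q)
      = MulAut.conjNormal g (imgEquiv ι hinj hQ q) := by
    simp [autHom, MulAut.congr]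
  rw [h1]
  rfl

theorem autHom_mem_autGroup {F : FusionSystem S} {ι : S →* G} (h : F.IsRealizedBy ι)
    {Q : Subgroup Ω} (hQ : Q ≤ S) [hN : (imageAlong ι Q).Normal] (g : G) :
    autHom ι h.1 hQ g ∈ F.autGroup Q := by
  rw [mem_autGroup_iff hQ, realized_mor_iff h]
  refine ⟨hQ, fun x hx => hQ (extAut_mem_self _ hx), g, fun x hx => ?_⟩
  rw [extAut_mem _ hx]
  exact au_autHom ι h.1 hQ g ⟨x, hx⟩

theorem exists_autHom_eq {F : FusionSystem S} {ι : S →* G} (h : F.IsRealizedBy ι)
    {Q : Subgroup Ω} (hQ : Q ≤ S) [hN : (imageAlong ι Q).Normal] {α : MulAut Q}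
    (hα : α ∈ F.autGroup Q) : ∃ g : G, autHom ι h.1 hQ g = α := by
  rw [mem_autGroup_iff hQ, realized_mor_iff h] at hα
  obtain ⟨-, -, g, hg⟩ := hα
  refine ⟨g, ?_⟩
  apply MulEquiv.ext
  intro q
  apply Subtype.ext
  apply au_injOn h.1 (hQ (Subtype.property _)) (hQ (Subtype.property _))
  rw [au_autHom, ← hg q q.2, extAut_apply]

theorem autHom_range {F : FusionSystem S} {ι : S →* G} (h : F.IsRealizedBy ι)
    {Q : Subgroup Ω} (hQ : Q ≤ S) [hN : (imageAlong ι Q).Normal] :
    (autHom ι h.1 hQ).range = F.autGroup Q := by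
  ext α
  constructor
  · rintro ⟨g, rfl⟩
    exact autHom_mem_autGroup h hQ g
  · intro hα
    exact exists_autHom_eq h hQ hα

theorem ker_autHom (ι : S →* G) (hinj : Function.Injective ι) {Q : Subgroup Ω} (hQ : Q ≤ S)
    [hN : (imageAlong ι Q).Normal] :
    (autHom ι hinj hQ).ker = Subgroup.centralizer ((imageAlong ι Q : Subgroup G) : Set G) := by
  ext g
  rw [MonoidHom.mem_ker, Subgroup.mem_centralizer_iff]
  constructor
  · intro hg y hy
    obtain ⟨x, hxS, hxQ, rfl⟩ := mem_img.1 hy
    have h1 := au_autHom ι hinj hQ g ⟨x, hxQ⟩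
    rw [hg] at h1
    have h2 : au ι x = g * au ι x * g⁻¹ := h1
    calc au ι x * g = g * au ι x * g⁻¹ * g := by rw [← h2]
      _ = g * au ι x := by group
  · intro hg
    apply MulEquiv.ext
    intro q
    apply Subtype.ext
    apply au_injOn hinj (hQ (Subtype.property _)) (hQ (Subtype.property _))
    rw [au_autHom]
    have h1 := hg (au ι (q : Ω)) (mem_img.2 ⟨q, hQ q.2, q.2, rfl⟩)
    show g * au ι (q : Ω) * g⁻¹ = au ι (q : Ω)
    rw [← h1]
    group

section Model

variable [Finite S] {p : ℕ} [Fact p.Prime] {F : FusionSystem S} {ι : S →* G}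

/-- in a model, `O_p` of the group lies in the image of the core of the system -/
theorem pCore_le_img_core (hG : F.IsModel p G ι) : pCore p G ≤ imageAlong ι F.core := by
  obtain ⟨hfin, h, ⟨T, hT⟩, hcen⟩ := hG
  haveI := hfin
  haveI : (pCore p G).Normal := pCore_normal p G
  have hNr : pCore p G ≤ ι.range := hT ▸ pCore_le_sylow T
  have h1 : F.IsNormal (preimageAlong ι (pCore p G)) := realized_preimage_normal h (pCore p G) hNr
  have h2 := le_core h1
  rw [← img_pre (rfl : ι.range = ι.range) hNr]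
  exact imageAlong_mono ι h2

theorem core_le (F : FusionSystem S) : F.core ≤ S := (isNormal_core F).1

/-- the automizer of the core of a system with a `p`-solvable model is `p`-solvable -/
theorem autGroup_core_isPSolvable (hG : F.IsModel p G ι) (hsol : IsPSolvable p G) :
    IsPSolvable p ↥(F.autGroup F.core) := by
  haveI hN : (imageAlong ι F.core).Normal := model_image_normal hG (isNormal_core F)
  have h := hG.2.1
  have h1 : IsPSolvable p ↥(autHom ι h.1 (core_le F)).range :=
    Cfsg.Agent.Helper54.IsPSolvable.of_surjective hsol (autHom ι h.1 (core_le F)).rangeRestrict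
      (autHom ι h.1 (core_le F)).rangeRestrict_surjective
  rw [autHom_range h (core_le F)] at h1
  exact h1

/-- a model is `p`-solvable as soon as the automizer of the core is -/
theorem model_isPSolvable (hG : F.IsModel p G ι) (hsol : IsPSolvable p ↥(F.autGroup F.core)) :
    IsPSolvable p G := by
  haveI hN : (imageAlong ι F.core).Normal := model_image_normal hG (isNormal_core F)
  have hle := pCore_le_img_core hG
  obtain ⟨hfin, h, ⟨T, hT⟩, hcen⟩ := hG
  haveI := hfin
  set ρ := autHom ι h.1 (core_le F) with hρ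
  have hker : ρ.ker ≤ pCore p G := by
    rw [hρ, ker_autHom]
    exact le_trans (Subgroup.centralizer_le (by exact_mod_cast hle)) hcen
  have hkp : IsPGroup p ρ.ker := pCore_isPGroup.to_le hker
  obtain ⟨m, hm⟩ := IsPGroup.iff_card.1 hkp
  apply Cfsg.Agent.Helper76.IsPSolvable.of_quotient ρ.ker (Or.inl ⟨m, hm⟩)
  have h1 : IsPSolvable p ↥ρ.range := by
    rw [hρ, autHom_range h (core_le F)]
    exact hsol
  exact Cfsg.Agent.Helper54.IsPSolvable.of_surjective h1
    (QuotientGroup.quotientKerEquivRange ρ).symm.toMonoidHom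
    (QuotientGroup.quotientKerEquivRange ρ).symm.surjective

/-- a system realized by a finite `p`-solvable group on a Sylow subgroup has a `p`-solvable model -/
theorem exists_model_of_isPSolvable [Finite G] (hS : IsPGroup p S) (h : F.IsRealizedBy ι)
    (T : Sylow p G) (hT : (T : Subgroup G) = ι.range) (hsol : IsPSolvable p G) :
    F.IsModel p (G ⧸ pPrimeCore p G) ((QuotientGroup.mk' (pPrimeCore p G)).comp ι) ∧
      IsPSolvable p (G ⧸ pPrimeCore p G) := by
  have hTN : (T : Subgroup G) ⊓ pPrimeCore p G = ⊥ := by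
    rw [eq_bot_iff]
    intro x hx
    rw [Subgroup.mem_bot]
    have h1 : orderOf x ∣ Nat.card (T : Subgroup G) := by
      have := orderOf_dvd_natCard (⟨x, hx.1⟩ : (T : Subgroup G))
      rwa [Subgroup.orderOf_mk] at this
    have h2 : orderOf x ∣ Nat.card (pPrimeCore p G) := by
      have := orderOf_dvd_natCard (⟨x, hx.2⟩ : pPrimeCore p G)
      rwa [Subgroup.orderOf_mk] at this
    obtain ⟨n, hn⟩ := IsPGroup.iff_card.1 T.isPGroup'
    have h3 : (Nat.card (T : Subgroup G)).Coprime (Nat.card (pPrimeCore p G)) := by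
      rw [hn]
      exact Nat.Coprime.pow_left n (Cfsg.Agent.Helper54.pPrimeCore_coprime p).symm
    have h4 : orderOf x = 1 := Nat.eq_one_of_dvd_coprimes h3 h1 h2
    exact orderOf_eq_one_iff.1 h4
  obtain ⟨hr, T', hT'⟩ := Cfsg.Agent.Helper88.RealizedNormal.realized_quotient hS h T hT
    (pPrimeCore p G) hTN
  have hsol' : IsPSolvable p (G ⧸ pPrimeCore p G) :=
    Cfsg.Agent.Helper54.IsPSolvable.quotient hsol (pPrimeCore p G)
  refine ⟨⟨inferInstance, hr, ⟨T', hT'⟩, ?_⟩, hsol'⟩
  exact Cfsg.Agent.Helper54.centralizer_pCore_le_of_isPSolvable hsol'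
    (Cfsg.Agent.Helper54.pPrimeCore_quotient_eq_bot p)

end Model

end Cfsg.Agent.Helper87.ModelSolv
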