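import Mathlib
import Cfsg.Agent.Lib.Helper87.CenLocal
import Cfsg.Agent.Lib.Helper87.CenStep
import Cfsg.Agent.Lib.Helper87.CenConstrained
import Cfsg.Agent.Lib.Helper87.FusionCore
import Cfsg.Agent.Lib.Helper87.ModelSolv
import Cfsg.Agent.Lib.Helper84.FusNorm
import Cfsg.Agent.Lib.Helper85.NormalizerSys
import Cfsg.Agent.S5096
import Cfsg.Agent.S5132

set_option autoImplicit false
set_option linter.style.haveILetI false
set_option linter.unusedSectionVars false
set_option linter.unusedVariables false

/-! # Control of weak closure of elements by a positive characteristic functor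

If the functor `W` satisfies the local centre condition in all finite groups, then for every
saturated fusion system `F` over `S`, every subgroup fixed (after extension) by all maps of `F`
normalizing `W(S)` is central in `F` (Díaz-Glesser-Mazza-Park, after Glauberman). -/

namespace Cfsg.Agent.Helper87.CenMain

open Cfsg Cfsg.FusionSystem Cfsg.Agent.Helper87 Cfsg.Agent.Helper85
  Cfsg.Agent.Helper87.GlaubFunctor Cfsg.Agent.Helper87.FactorPre Cfsg.Agent.Helper87.GlaubNormal
  Cfsg.Agent.Helper87.CenFunctor Cfsg.Agent.Helper87.CenStep Cfsg.Agent.Helper87.CenLocal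

universe u

/-- the induction measure -/
noncomputable def nu {Ω : Type u} [Group Ω] {S : Subgroup Ω} (F : FusionSystem S) : ℕ :=
  Nat.card S * Nat.card S + (Nat.card S - Nat.card F.core)

theorem nu_lt_of_card_lt {Ω : Type u} [Group Ω] {S : Subgroup Ω} {Ω' : Type u} [Group Ω']
    {S' : Subgroup Ω'} (F : FusionSystem S) (F' : FusionSystem S')
    (h : Nat.card S' < Nat.card S) : nu F' < nu F := by
  unfold nu
  have h1 : Nat.card S' - Nat.card F'.core ≤ Nat.card S' := Nat.sub_le _ _
  have h2 : Nat.card S' + 1 ≤ Nat.card S := h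
  nlinarith

theorem nu_lt_of_core {Ω : Type u} [Group Ω] {S : Subgroup Ω} {Ω' : Type u} [Group Ω']
    {S' : Subgroup Ω'} [Finite S'] (F : FusionSystem S) (F' : FusionSystem S')
    (h : Nat.card S' = Nat.card S) (hc : Nat.card F.core < Nat.card F'.core) : nu F' < nu F := by
  unfold nu
  have h1 : Nat.card F'.core ≤ Nat.card S' :=
    Subgroup.card_le_of_le (Cfsg.Agent.Helper87.ModelSolv.core_le F')
  rw [h]
  rw [h] at h1
  omega

/-- `C_S(Q)` is normalized by `S` when `Q` is -/
theorem le_normalizer_centralizerIn' {Ω : Type u} [Group Ω] {S Q : Subgroup Ω}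
    (hQ : S ≤ Subgroup.normalizer (Q : Set Ω)) :
    S ≤ Subgroup.normalizer ((centralizerIn S Q : Subgroup Ω) : Set Ω) := by
  have key : ∀ s ∈ S, ∀ c ∈ centralizerIn S Q, s * c * s⁻¹ ∈ centralizerIn S Q := by
    rintro s hs c ⟨hcS, hcc⟩
    refine ⟨S.mul_mem (S.mul_mem hs hcS) (S.inv_mem hs), ?_⟩
    show s * c * s⁻¹ ∈ Subgroup.centralizer (Q : Set Ω)
    rw [Subgroup.mem_centralizer_iff]
    intro q hq
    have hq' : s⁻¹ * q * s ∈ Q := by
      have := (Subgroup.mem_normalizer_iff.1 (Subgroup.inv_mem _ (hQ hs)) q).1 hq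
      simpa using this
    have h1 := Subgroup.mem_centralizer_iff.1 hcc _ hq'
    have e1 : q * (s * c * s⁻¹) = s * ((s⁻¹ * q * s) * c) * s⁻¹ := by group
    have e2 : s * c * s⁻¹ * q = s * (c * (s⁻¹ * q * s)) * s⁻¹ := by group
    rw [e1, e2, h1]
  intro s hs
  rw [Subgroup.mem_normalizer_iff]
  intro c
  constructor
  · exact key s hs c
  · intro h
    have := key s⁻¹ (S.inv_mem hs) _ h
    have e : s⁻¹ * (s * c * s⁻¹) * s⁻¹⁻¹ = c := by group
    rwa [e] at this

/-- the hypothesis `NC` passes to the normalizer system of a subgroup normalized by `S` -/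
theorem nc_of_top {Ω : Type u} [Group Ω] {S : Subgroup Ω} {W : ∀ (Q : Type u) [Group Q], Subgroup Q}
    {F : FusionSystem S} {Z₀ : Subgroup Ω} (hNC : NC W F Z₀) {X : Subgroup Ω} (hX : X ≤ S)
    (hN : normalizerIn S X = S) {NX : FusionSystem (normalizerIn S X)}
    (hNX : F.IsNormalizerSystem X NX) : NC W NX Z₀ := by
  apply nc_of_chain hNX hX (hN.symm ▸ hNC.1)
  intro A γ hA hγ hγT hWA hγW
  rw [hN] at hWA hγW
  exact hNC.2 A γ hγ hWA hγW

/-- **Control of weak closure of elements.** -/
theorem main {p : ℕ} [Fact p.Prime] {W : ∀ (Q : Type u) [Group Q], Subgroup Q}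
    (hW : IsPos p W)
    (hC : ∀ (G : Type u) [Group G] [Finite G] (P : Sylow p G),
      Cfsg.pCore p G ⊓ Subgroup.center G = Cfsg.pCore p G ⊓
        (Subgroup.center ↥(Subgroup.normalizer
          (((W ↥(P : Subgroup G)).map (P : Subgroup G).subtype : Subgroup G) : Set G))).map
          (Subgroup.normalizer
            (((W ↥(P : Subgroup G)).map (P : Subgroup G).subtype : Subgroup G) : Set G)).subtype) :
    ∀ n : ℕ, ∀ (Ω : Type u) [Group Ω] (S : Subgroup Ω) [Finite S] (F : FusionSystem S),
      nu F = n → IsPGroup p S → F.IsSaturated p → ∀ Z₀ : Subgroup Ω, NC W F Z₀ →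
      F.IsCentral Z₀ := by
  intro n
  induction n using Nat.strong_induction_on with
  | _ n ih =>
    intro Ω _ S _ F hn hS hF Z₀ hNC
    have hQ : F.IsNormal F.core := isNormal_core F
    have hQs : F.StronglyClosed F.core := stronglyClosed_of_isNormal hQ
    have hQS : F.core ≤ S := hQ.1
    haveI : Finite F.core := finite_of_le hQS
    have hZc : Z₀ ≤ S ⊓ Subgroup.centralizer (S : Set Ω) := hNC.le_center hW hS
    have hZS : Z₀ ≤ S := hNC.1
    -- normalizer systems of smaller measure
    have key : ∀ X : Subgroup Ω, F.IsFullyNormalized X → Nat.card F.core < Nat.card X →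
        ∀ NX : FusionSystem (normalizerIn S X), F.IsNormalizerSystem X NX →
          ∀ Z₁ : Subgroup Ω, NC W NX Z₁ → NX.IsCentral Z₁ := by
      intro X hXfn hlt NX hNX Z₁ hZ₁
      haveI : Finite ↥(normalizerIn S X) := finite_of_le (inf_le_left : normalizerIn S X ≤ S)
      have hsat := Cfsg.Agent.Helper84.normalizerSystem_saturated F hS hF hXfn NX hNX
      apply ih (nu NX) _ Ω (normalizerIn S X) NX rfl
        (hS.to_le (inf_le_left : normalizerIn S X ≤ S)) hsat Z₁ hZ₁
      rw [← hn]
      by_cases h : Nat.card (normalizerIn S X) < Nat.card S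
      · exact nu_lt_of_card_lt F NX h
      · have hc : Nat.card (normalizerIn S X) = Nat.card S :=
          le_antisymm (card_normalizerIn_le X) (not_lt.1 h)
        apply nu_lt_of_core F NX hc
        have hXn : NX.IsNormal X := normalizerSystem_isNormal hXfn.1 hNX
        have hle : X ≤ NX.core := le_core hXn
        haveI : Finite NX.core := finite_of_le (Cfsg.Agent.Helper87.ModelSolv.core_le NX)
        exact lt_of_lt_of_le hlt (Subgroup.card_le_of_le hle)
    by_cases hQbot : F.core = ⊥
    · -- trivial core: local control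
      apply Cfsg.Agent.Helper87.CenLocal.local_to_global hW hS hF hNC
      intro X hXfn hXne NX hNX Z₁ hZ₁
      apply key X hXfn _ NX hNX Z₁ hZ₁
      haveI : Finite X := finite_of_le hXfn.1
      rw [hQbot, Subgroup.card_bot]
      exact (Subgroup.one_lt_card_iff_ne_bot X).2 hXne
    · have hwc : ∀ X₂, F.IsConj F.core X₂ → X₂ = F.core :=
        fun X₂ hc => eq_of_isConj_of_isNormal hQ hc
      obtain ⟨hQfn, hNS⟩ := fn_of_weaklyClosed hQS hwc
      by_cases hcen : centralizerIn S F.core ≤ F.core
      · -- centric core: the constrained case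
        have hQc : F.IsCentric F.core := ⟨hQS, fun Q₂ hc => by rw [hwc Q₂ hc]; exact hcen⟩
        exact Cfsg.Agent.Helper87.CenConstrained.isCentral_of_constrained hW hC hS hF hQ hQc hNC
      · -- the remaining case
        have hSn : S ≤ Subgroup.normalizer ((F.core : Subgroup Ω) : Set Ω) :=
          stronglyClosed_le_normalizer hQs
        haveI : (F.core.subgroupOf S).Normal := Subgroup.normal_subgroupOf_of_le_normalizer hSn
        obtain ⟨E, hE⟩ := Cfsg.Agent.S5132.result p hS F F.core hQs
        have hrange : (QuotientGroup.mk' (F.core.subgroupOf S)).range = ⊤ := hE.2.2.1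
        have hker : kerOf (QuotientGroup.mk' (F.core.subgroupOf S)) = F.core :=
          kerOf_eq_of_factor hE
        haveI : Finite ↥(⊤ : Subgroup (↥S ⧸ F.core.subgroupOf S)) :=
          Cfsg.Agent.Helper85.factor_finite hE
        have hS' : IsPGroup p ↥(⊤ : Subgroup (↥S ⧸ F.core.subgroupOf S)) := factor_isPGroup hS hE
        have hEsat := factor_saturated hS hF hQs hE
        have hpretop : preimageAlong (QuotientGroup.mk' (F.core.subgroupOf S)) ⊤ = S := by
          ext x
          rw [mem_pre]
          exact ⟨fun h => h.1, fun h => ⟨h, Subgroup.mem_top _⟩⟩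
        have hcardS' : Nat.card ↥(⊤ : Subgroup (↥S ⧸ F.core.subgroupOf S)) < Nat.card S := by
          have h1 := card_pre hrange (A' := (⊤ : Subgroup (↥S ⧸ F.core.subgroupOf S))) le_rfl
          rw [hpretop, hker] at h1
          have h2 : 1 < Nat.card F.core := (Subgroup.one_lt_card_iff_ne_bot F.core).2 hQbot
          have h3 : 0 < Nat.card ↥(⊤ : Subgroup (↥S ⧸ F.core.subgroupOf S)) := Nat.card_pos
          rw [h1]
          nlinarith
        -- the preimage `V` of `W(S/Q)`
        have hVS : preimageAlong (QuotientGroup.mk' (F.core.subgroupOf S)) (WW W ⊤) ≤ S :=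
          preimageAlong_le _ _
        have hQV : F.core ≤ preimageAlong (QuotientGroup.mk' (F.core.subgroupOf S)) (WW W ⊤) := by
          have := kerOf_le_pre (QuotientGroup.mk' (F.core.subgroupOf S)) (WW W ⊤)
          rwa [hker] at this
        have hNV : normalizerIn S
            (preimageAlong (QuotientGroup.mk' (F.core.subgroupOf S)) (WW W ⊤)) = S := by
          have h1 := pre_normalizerIn hrange hVS (hker.symm ▸ hQV)
          rw [img_pre hrange (WW_le W ⊤), pos_normalizerIn_top hW hS', hpretop] at h1
          exact h1.symm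
        have hVfn : F.IsFullyNormalized
            (preimageAlong (QuotientGroup.mk' (F.core.subgroupOf S)) (WW W ⊤)) :=
          fn_of_normalizerIn_eq hVS hNV
        obtain ⟨FV, hFV⟩ := Cfsg.Agent.S5096.result F _ hVS
        have hQneS : ¬ S ≤ F.core := fun h => hcen (inf_le_left.trans h)
        have htopne : (⊤ : Subgroup (↥S ⧸ F.core.subgroupOf S)) ≠ ⊥ := by
          intro h
          apply hQneS
          intro s hs
          have h1 : (QuotientGroup.mk' (F.core.subgroupOf S)) ⟨s, hs⟩ ∈
              (⊤ : Subgroup (↥S ⧸ F.core.subgroupOf S)) := Subgroup.mem_top _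
          rw [h, Subgroup.mem_bot] at h1
          exact (hE.2.1 ⟨s, hs⟩).1 h1
        have hWne : WW W (⊤ : Subgroup (↥S ⧸ F.core.subgroupOf S)) ≠ ⊥ :=
          pos_ne_bot hW hS' htopne
        have hVnle : ¬ preimageAlong (QuotientGroup.mk' (F.core.subgroupOf S)) (WW W ⊤) ≤
            F.core := by
          intro hle
          apply hWne
          rw [eq_bot_iff]
          intro y hy
          obtain ⟨v, hvS, rfl⟩ := exists_au_eq hrange (Subgroup.mem_top y)
          have hv : v ∈ preimageAlong (QuotientGroup.mk' (F.core.subgroupOf S)) (WW W ⊤) :=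
            mem_pre.2 ⟨hvS, hy⟩
          have hvQ : v ∈ kerOf (QuotientGroup.mk' (F.core.subgroupOf S)) := by
            rw [hker]; exact hle hv
          rw [Subgroup.mem_bot]
          exact (mem_kerOf.1 hvQ).2
        obtain ⟨v, hv, hvQ⟩ := SetLike.not_le_iff_exists.1 hVnle
        have hcardV : Nat.card F.core <
            Nat.card (preimageAlong (QuotientGroup.mk' (F.core.subgroupOf S)) (WW W ⊤)) :=
          card_lt_of_not_mem hQV hVS hv hvQ
        have hcenV : FV.IsCentral Z₀ :=
          key _ hVfn hcardV FV hFV Z₀ (nc_of_top hNC hVS hNV hFV)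
        -- the factor system
        have hncE : NC W E (imageAlong (QuotientGroup.mk' (F.core.subgroupOf S)) Z₀) :=
          nc_factor hS hF hQs hE hFV hNV hcenV
        have hcenE : E.IsCentral (imageAlong (QuotientGroup.mk' (F.core.subgroupOf S)) Z₀) :=
          ih (nu E) (by rw [← hn]; exact nu_lt_of_card_lt F E hcardS') _ ⊤ E rfl hS' hEsat _ hncE
        -- the subgroup `Q C_S(Q)`
        have hR₀wc := weaklyClosed_sup_centralizer hQs
        have hR₀S : F.core ⊔ centralizerIn S F.core ≤ S := sup_le hQS inf_le_left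
        obtain ⟨hR₀fn, hNR₀⟩ := fn_of_weaklyClosed hR₀S hR₀wc
        obtain ⟨F₀, hF₀⟩ := Cfsg.Agent.S5096.result F _ hR₀S
        obtain ⟨c, hc, hcQ⟩ := SetLike.not_le_iff_exists.1 hcen
        have hcardR₀ : Nat.card F.core < Nat.card ↥(F.core ⊔ centralizerIn S F.core) :=
          card_lt_of_not_mem le_sup_left hR₀S
            ((le_sup_right : centralizerIn S F.core ≤ F.core ⊔ centralizerIn S F.core) hc) hcQ
        have hcen₀ : F₀.IsCentral Z₀ :=
          key _ hR₀fn hcardR₀ F₀ hF₀ Z₀ (nc_of_top hNC hR₀S hNR₀ hF₀)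
        -- Alperin's theorem
        rw [isCentral_iff_cen]
        refine ⟨hZS, ?_⟩
        apply alperin_strong hS hF (Cen F Z₀) (alperinClosed_cen F Z₀)
        intro R hRfn hRc hRr IHA α hα
        have hR : R ≤ S := hRfn.1
        have hm : Mor F R (extAut α) := (mem_autGroup_iff hR).1 hα
        have hiso : Iso F R R (extAut α) := iso_of_mor_extAut hm
        have hQR : F.core ≤ R := le_of_isNormal_centric_radical hS hQ hRc hRr
        have hZR : Z₀ ≤ R := fun z hz =>
          hRc.2 R (isConj_refl hR) ⟨(hZc hz).1, Subgroup.centralizer_le hR (hZc hz).2⟩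
        by_cases hii : normalizerIn S R ⊓ centralizerIn S F.core ≤ R
        · have hCR : centralizerIn S F.core ≤ R :=
            le_of_normalizerIn_inf_le hS hR inf_le_left (le_normalizer_centralizerIn' hSn) hii
          have hR₀R : F.core ⊔ centralizerIn S F.core ≤ R := sup_le hQR hCR
          have hmor₀ : Mor F₀ R (extAut α) :=
            mor_normalizerSystem_of_weaklyClosed hR₀wc hNR₀ hF₀ hR₀R hm
          obtain ⟨g, hg, e, hgZ⟩ := (isCentral_iff_cen.1 hcen₀).2 _ _ hmor₀
          exact ⟨g, ((mor_normalizerSystem_iff hF₀).1 hg).1, e, hgZ⟩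
        · obtain ⟨t, ⟨htN, htC⟩, htR⟩ := SetLike.not_le_iff_exists.1 hii
          have hmod : ∀ α' ∈ F.autGroup R, ∀ (z : Ω) (hz : z ∈ Z₀),
              z⁻¹ * (((α' ⟨z, hZR hz⟩ : R)) : Ω) ∈ F.core := by
            intro α' hα' z hz
            have hm' : Mor F R (extAut α') := (mem_autGroup_iff hR).1 hα'
            have hiso' : Iso F R R (extAut α') := iso_of_mor_extAut hm'
            have := mod_of_central_factor hS hF hQs hE hZS hcenE hiso' hZR z hz
            rwa [extAut_mem α' (hZR hz)] at this
          apply cen_of_fix hm hZR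
          intro z hz
          rw [extAut_mem α (hZR hz)]
          exact aut_fix hS hF hQs hRfn hZc hZR hmod IHA htN.1 htC.2 htN.2 htR α hα z hz

end Cfsg.Agent.Helper87.CenMain
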