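import Mathlib
import Cfsg.Prelude.Def_FusionSystem
import Cfsg.Prelude.Def_FusionComponents
import Cfsg.Agent.Lib.Helper87.FusionPuig

set_option autoImplicit false

namespace Cfsg.Agent.Helper87

open Cfsg Cfsg.FusionSystem

variable {Ω : Type*} [Group Ω] {S : Subgroup Ω} {Ω' : Type*} [Group Ω'] {S' : Subgroup Ω'}

/-! ### Function-level treatment of factor systems -/

/-- extension of a homomorphism defined on `S` to a total function (junk value `1` outside) -/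
noncomputable def extHom (θ : S →* Ω') : Ω → Ω' :=
  fun x => by classical exact if h : x ∈ S then θ ⟨x, h⟩ else 1

theorem extHom_mem (θ : S →* Ω') {x : Ω} (hx : x ∈ S) : extHom θ x = θ ⟨x, hx⟩ := by
  unfold extHom
  simp [hx]

theorem extHom_mul (θ : S →* Ω') {x y : Ω} (hx : x ∈ S) (hy : y ∈ S) :
    extHom θ (x * y) = extHom θ x * extHom θ y := by
  rw [extHom_mem θ hx, extHom_mem θ hy, extHom_mem θ (S.mul_mem hx hy), ← map_mul]
  rfl

theorem extHom_one (θ : S →* Ω') : extHom θ 1 = 1 := by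
  rw [extHom_mem θ S.one_mem]
  exact map_one θ

theorem extHom_inv (θ : S →* Ω') {x : Ω} (hx : x ∈ S) : extHom θ x⁻¹ = (extHom θ x)⁻¹ := by
  rw [extHom_mem θ hx, extHom_mem θ (S.inv_mem hx), ← map_inv]
  rfl

theorem mem_preimageAlong_iff {θ : S →* Ω'} {P' : Subgroup Ω'} {x : Ω} :
    x ∈ preimageAlong θ P' ↔ x ∈ S ∧ extHom θ x ∈ P' := by
  unfold preimageAlong
  constructor
  · rintro ⟨y, hy, rfl⟩
    refine ⟨y.2, ?_⟩
    show extHom θ (y : Ω) ∈ P'
    rw [extHom_mem θ y.2]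
    exact hy
  · rintro ⟨h, hx⟩
    rw [extHom_mem θ h] at hx
    exact ⟨⟨x, h⟩, hx, rfl⟩

theorem mem_imageAlong_iff {θ : S →* Ω'} {P : Subgroup Ω} {y : Ω'} :
    y ∈ imageAlong θ P ↔ ∃ x ∈ S, x ∈ P ∧ extHom θ x = y := by
  unfold imageAlong
  constructor
  · rintro ⟨s, hs, rfl⟩
    exact ⟨s, s.2, Subgroup.mem_subgroupOf.1 hs, extHom_mem θ s.2⟩
  · rintro ⟨x, hx, hxP, rfl⟩
    exact ⟨⟨x, hx⟩, Subgroup.mem_subgroupOf.2 hxP, (extHom_mem θ hx).symm⟩

theorem preimageAlong_le' (θ : S →* Ω') (P' : Subgroup Ω') : preimageAlong θ P' ≤ S :=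
  fun _ hx => (mem_preimageAlong_iff.1 hx).1

section Factor

variable {F : FusionSystem S} {T : Subgroup Ω} {θ : S →* Ω'} {E : FusionSystem S'}

theorem factor_ker (hE : F.IsFactorSystem T θ E) {x : Ω} (hx : x ∈ S) :
    extHom θ x = 1 ↔ x ∈ T := by
  rw [extHom_mem θ hx]
  exact hE.2.1 ⟨x, hx⟩

theorem factor_eq_iff (hE : F.IsFactorSystem T θ E) {x y : Ω} (hx : x ∈ S) (hy : y ∈ S) :
    extHom θ x = extHom θ y ↔ x⁻¹ * y ∈ T := by
  rw [← factor_ker hE (S.mul_mem (S.inv_mem hx) hy), extHom_mul θ (S.inv_mem hx) hy,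
    extHom_inv θ hx, inv_mul_eq_one]

theorem factor_range (hE : F.IsFactorSystem T θ E) {y : Ω'} :
    y ∈ S' ↔ ∃ x ∈ S, extHom θ x = y := by
  rw [← hE.2.2.1]
  constructor
  · rintro ⟨s, rfl⟩
    exact ⟨s, s.2, extHom_mem θ s.2⟩
  · rintro ⟨x, hx, rfl⟩
    exact ⟨⟨x, hx⟩, (extHom_mem θ hx).symm⟩

theorem factor_mem (hE : F.IsFactorSystem T θ E) {x : Ω} (hx : x ∈ S) : extHom θ x ∈ S' :=
  (factor_range hE).2 ⟨x, hx, rfl⟩

theorem factor_finite [Finite S] (hE : F.IsFactorSystem T θ E) : Finite S' := by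
  rw [← hE.2.2.1]
  exact Finite.of_surjective (fun s : S => (⟨θ s, ⟨s, rfl⟩⟩ : θ.range))
    (by rintro ⟨y, s, rfl⟩; exact ⟨s, rfl⟩)

theorem exists_preimage_of_mem (hE : F.IsFactorSystem T θ E) {P' : Subgroup Ω'} (hP' : P' ≤ S')
    {y : Ω'} (hy : y ∈ P') : ∃ x ∈ preimageAlong θ P', extHom θ x = y := by
  obtain ⟨x, hx, rfl⟩ := (factor_range hE).1 (hP' hy)
  exact ⟨x, mem_preimageAlong_iff.2 ⟨hx, hy⟩, rfl⟩

theorem ker_le_preimageAlong' (hE : F.IsFactorSystem T θ E) (P' : Subgroup Ω') :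
    T ≤ preimageAlong θ P' := by
  intro t ht
  refine mem_preimageAlong_iff.2 ⟨hE.1 ht, ?_⟩
  rw [(factor_ker hE (hE.1 ht)).2 ht]
  exact P'.one_mem

/-- maps of the factor system, at the level of functions (one direction) -/
theorem factor_mor_exists (hE : F.IsFactorSystem T θ E) {P' : Subgroup Ω'} {f' : Ω' → Ω'}
    (h : Mor E P' f') :
    ∃ f, Mor F (preimageAlong θ P') f ∧
      ∀ x ∈ preimageAlong θ P', f' (extHom θ x) = extHom θ (f x) := by
  obtain ⟨φ', hφ', e'⟩ := h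
  obtain ⟨-, φ, hφ, hP, hφS, hP', hind⟩ := (hE.2.2.2 P' φ').1 hφ'
  refine ⟨extFun φ, mor_of_mem hφ, fun x hx => ?_⟩
  have h1 := hind ⟨x, hx⟩
  rw [extHom_mem θ (hP hx), extFun_mem φ hx, extHom_mem θ (hφS ⟨x, hx⟩), ← h1]
  exact (e' ⟨θ ⟨x, hP hx⟩, hP' ⟨x, hx⟩⟩).symm

/-- maps of the factor system, at the level of functions (other direction) -/
theorem factor_mor_of (hE : F.IsFactorSystem T θ E) {P' : Subgroup Ω'} (hP' : P' ≤ S')
    {f : Ω → Ω} {f' : Ω' → Ω'} (hf : Mor F (preimageAlong θ P') f)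
    (h : ∀ x ∈ preimageAlong θ P', f' (extHom θ x) = extHom θ (f x)) : Mor E P' f' := by
  have hpS : preimageAlong θ P' ≤ S := preimageAlong_le' θ P'
  have hmul : ∀ a b : P', f' ((a : Ω') * (b : Ω')) = f' a * f' b := by
    intro a b
    obtain ⟨x, hx, hxa⟩ := exists_preimage_of_mem hE hP' a.2
    obtain ⟨y, hy, hyb⟩ := exists_preimage_of_mem hE hP' b.2
    rw [← hxa, ← hyb, ← extHom_mul θ (hpS hx) (hpS hy), h _ (Subgroup.mul_mem _ hx hy), h _ hx,
      h _ hy, hf.map_mul hx hy, extHom_mul θ (hf.mem hx) (hf.mem hy)]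
  have hone : f' 1 = 1 := by
    have := h 1 (Subgroup.one_mem _)
    rw [extHom_one, hf.map_one, extHom_one] at this
    exact this
  let φ' : P' →* Ω' :=
    { toFun := fun a => f' a
      map_one' := hone
      map_mul' := fun a b => hmul a b }
  obtain ⟨φ, hφ, eφ⟩ := hf
  refine ⟨φ', (hE.2.2.2 P' φ').2 ⟨hP', φ, hφ, hpS, fun x => (F.le_of_mem hφ).2 x, ?_, ?_⟩, fun _ => rfl⟩
  · intro x
    have := (mem_preimageAlong_iff.1 x.2).2
    rwa [extHom_mem θ (hpS x.2)] at this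
  · intro x
    show f' (θ ⟨x, hpS x.2⟩) = θ ⟨φ x, _⟩
    have h1 := h x x.2
    rw [extHom_mem θ (hpS x.2)] at h1
    rw [h1, ← eφ x, extHom_mem θ ((F.le_of_mem hφ).2 x)]

theorem preimageAlong_imageAlong (hE : F.IsFactorSystem T θ E) {A : Subgroup Ω} (hTA : T ≤ A)
    (hA : A ≤ S) : preimageAlong θ (imageAlong θ A) = A := by
  ext x
  rw [mem_preimageAlong_iff]
  constructor
  · rintro ⟨hx, hx'⟩
    obtain ⟨a, haS, haA, hax⟩ := mem_imageAlong_iff.1 hx'
    have h1 : a⁻¹ * x ∈ T := (factor_eq_iff hE haS hx).1 hax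
    have : x = a * (a⁻¹ * x) := by group
    rw [this]
    exact A.mul_mem haA (hTA h1)
  · intro hx
    exact ⟨hA hx, mem_imageAlong_iff.2 ⟨x, hA hx, hx, rfl⟩⟩

theorem imageAlong_le (hE : F.IsFactorSystem T θ E) (A : Subgroup Ω) : imageAlong θ A ≤ S' := by
  intro y hy
  obtain ⟨a, haS, -, rfl⟩ := mem_imageAlong_iff.1 hy
  exact factor_mem hE haS

/-- a map of `F` defined on a subgroup containing the strongly closed kernel induces a map of the factor system -/
theorem exists_factor_mor (hE : F.IsFactorSystem T θ E) (hT : F.StronglyClosed T)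
    {A : Subgroup Ω} (hTA : T ≤ A) {ψ : Ω → Ω} (hψ : Mor F A ψ) :
    ∃ f', Mor E (imageAlong θ A) f' ∧ ∀ x ∈ A, f' (extHom θ x) = extHom θ (ψ x) := by
  classical
  have hA : A ≤ S := hψ.le
  have hpre := preimageAlong_imageAlong hE hTA hA
  have hψT : ∀ t ∈ T, ψ t ∈ T := (stronglyClosed_iff.1 hT).2 T _ le_rfl (hψ.restrict hTA)
  let f' : Ω' → Ω' := fun y =>
    if h : ∃ x ∈ A, extHom θ x = y then extHom θ (ψ h.choose) else 1
  have hf' : ∀ x ∈ A, f' (extHom θ x) = extHom θ (ψ x) := by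
    intro x hx
    have hex : ∃ z ∈ A, extHom θ z = extHom θ x := ⟨x, hx, rfl⟩
    have h1 : f' (extHom θ x) = extHom θ (ψ hex.choose) := by
      simp only [f']
      rw [dif_pos hex]
    obtain ⟨hzA, hz⟩ := hex.choose_spec
    rw [h1]
    have h2 : hex.choose⁻¹ * x ∈ T := (factor_eq_iff hE (hA hzA) (hA hx)).1 hz
    rw [factor_eq_iff hE (hψ.mem hzA) (hψ.mem hx)]
    have h3 := hψT _ h2
    rwa [hψ.map_mul (A.inv_mem hzA) hx, hψ.map_inv hzA] at h3
  refine ⟨f', ?_, hf'⟩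
  apply factor_mor_of hE (imageAlong_le hE A) (f := ψ)
  · rw [hpre]; exact hψ
  · rw [hpre]; exact hf'

end Factor

/-! ### The hyperfocal subgroup -/

theorem mem_hyperfocal {F : FusionSystem S} {p : ℕ} {P : Subgroup Ω} (hP : P ≤ S) {α : MulAut P}
    (hα : α ∈ F.autGroup P) (hc : (orderOf α).Coprime p) (x : P) :
    (x : Ω)⁻¹ * ((α x : P) : Ω) ∈ F.hyperfocalSubgroup p := by
  apply Subgroup.subset_closure
  refine ⟨P, ⟨α, hα⟩, x, hP, ?_, rfl⟩
  apply Subgroup.subset_closure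
  show Nat.Coprime (orderOf (⟨α, hα⟩ : F.autGroup P)) p
  have hord : orderOf (⟨α, hα⟩ : F.autGroup P) = orderOf α := (Subgroup.orderOf_coe _).symm
  rw [hord]
  exact hc

theorem hyperfocal_le {F : FusionSystem S} {p : ℕ} {K : Subgroup Ω}
    (h : ∀ P : Subgroup Ω, P ≤ S → ∀ α : MulAut P, α ∈ F.autGroup P → (orderOf α).Coprime p →
      ∀ x : P, (x : Ω)⁻¹ * ((α x : P) : Ω) ∈ K) : F.hyperfocalSubgroup p ≤ K := by
  unfold hyperfocalSubgroup
  rw [Subgroup.closure_le]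
  rintro y ⟨P, α, x, hP, hα, rfl⟩
  have key : ∀ β : F.autGroup P, β ∈ pResidual p (F.autGroup P) →
      ∀ z : P, (z : Ω)⁻¹ * (((β : MulAut P) z : P) : Ω) ∈ K := by
    intro β hβ
    unfold pResidual at hβ
    induction hβ using Subgroup.closure_induction with
    | mem g hg =>
      intro z
      refine h P hP g g.2 ?_ z
      have hord : orderOf g = orderOf (g : MulAut P) := (Subgroup.orderOf_coe _).symm
      rw [← hord]
      exact hg
    | one => intro z; simp [K.one_mem]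
    | mul a b _ _ iha ihb =>
      intro z
      have h1 := ihb z
      have h2 := iha ((b : MulAut P) z)
      have := K.mul_mem h1 h2
      have e : (z : Ω)⁻¹ * ((((a * b : F.autGroup P) : MulAut P) z : P) : Ω)
          = ((z : Ω)⁻¹ * (((b : MulAut P) z : P) : Ω)) *
            (((((b : MulAut P) z : P)) : Ω)⁻¹ * (((a : MulAut P) ((b : MulAut P) z) : P) : Ω)) := by
        simp only [Subgroup.coe_mul, MulAut.mul_apply]
        group
      rw [e]
      exact this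
    | inv a _ iha =>
      intro z
      have h1 := iha ((a : MulAut P)⁻¹ z)
      have e : (z : Ω)⁻¹ * ((((a⁻¹ : F.autGroup P) : MulAut P) z : P) : Ω)
          = (((((a : MulAut P)⁻¹ z : P)) : Ω)⁻¹ *
            (((a : MulAut P) ((a : MulAut P)⁻¹ z) : P) : Ω))⁻¹ := by
        simp only [Subgroup.coe_inv, MulAut.apply_inv_self]
        group
      rw [e]
      exact K.inv_mem h1
  exact key α hα x

theorem hyperfocal_le_self (F : FusionSystem S) (p : ℕ) : F.hyperfocalSubgroup p ≤ S := by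
  apply hyperfocal_le
  intro P hP α _ _ x
  exact S.mul_mem (S.inv_mem (hP x.2)) (hP (α x).2)

end Cfsg.Agent.Helper87
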