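import Mathlib
import Cfsg.Agent.Lib.Helper87.FusionRadical
import Cfsg.Agent.Lib.Helper87.OmegaLemma

set_option autoImplicit false

namespace Cfsg.Agent.Helper87

open Cfsg Cfsg.FusionSystem

theorem le_normalizer_of_forall {Ω : Type*} [Group Ω] {H K : Subgroup Ω}
    (h : ∀ g ∈ K, ∀ x ∈ H, g * x * g⁻¹ ∈ H) : K ≤ Subgroup.normalizer (H : Set Ω) := by
  intro g hg
  rw [Subgroup.mem_normalizer_iff]
  intro x
  constructor
  · exact h g hg x
  · intro hx
    have := h g⁻¹ (K.inv_mem hg) _ hx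
    have e : g⁻¹ * (g * x * g⁻¹) * g⁻¹⁻¹ = x := by group
    rwa [e] at this

/-- a finite group all of whose elements of order prime to `p` are trivial is a `p`-group -/
theorem isPGroup_of_coprime_trivial {p : ℕ} [hp : Fact p.Prime] {A : Type*} [Group A] [Finite A]
    (h : ∀ a : A, (orderOf a).Coprime p → a = 1) : IsPGroup p A := by
  intro g
  have hpos : 0 < orderOf g := orderOf_pos g
  obtain ⟨k, m, hm, hkm⟩ := Nat.exists_eq_pow_mul_and_not_dvd hpos.ne' p hp.out.ne_one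
  refine ⟨k, h _ ?_⟩
  have h1 : orderOf (g ^ p ^ k) = m := by
    rw [orderOf_pow_of_dvd (pow_ne_zero k hp.out.ne_zero) (hkm ▸ Dvd.intro _ rfl), hkm]
    exact Nat.mul_div_cancel_left m (pow_pos hp.out.pos k)
  rw [h1]
  exact ((Nat.Prime.coprime_iff_not_dvd hp.out).2 hm).symm

theorem aut_pow_fixed {G : Type*} [Group G] (γ : MulAut G) (x : G) (h : γ x = x) (k : ℕ) :
    (γ ^ k) x = x := by
  induction k with
  | zero => simp
  | succ k ih => rw [pow_succ, MulAut.mul_apply, h, ih]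

/-- an automorphism of odd order inverting `x` fixes `x` -/
theorem eq_of_inv_of_odd {G : Type*} [Group G] (β : MulAut G) (m : ℕ) (hm : m.Coprime 2)
    (hβ : β ^ m = 1) (x : G) (h : β x = x⁻¹) : β x = x := by
  have h2 : (β ^ 2) x = x := by
    rw [pow_two, MulAut.mul_apply, h, map_inv, h, inv_inv]
  have hodd : m % 2 = 1 := Nat.odd_iff.1 ((Nat.coprime_two_right).1 hm)
  have hm' : m = 2 * (m / 2) + 1 := by omega
  have h3 : (β ^ m) x = x⁻¹ := by
    rw [hm', pow_succ, MulAut.mul_apply, h, map_inv, pow_mul, aut_pow_fixed _ x h2]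
  rw [hβ, MulAut.one_apply] at h3
  rw [h, ← h3]

variable {Ω : Type*} [Group Ω]

theorem conjAut_one_of_isPGroup_of_coprime {p : ℕ} [Fact p.Prime] {K C : Subgroup Ω} [Finite C]
    (hK : IsPGroup p K) (hcop : (Nat.card (MulAut C)).Coprime p) {s : Ω} (hs : s ∈ K)
    (hsN : s ∈ Subgroup.normalizer (C : Set Ω)) : conjAut C s hsN = 1 := by
  have h1 : conjAut C s hsN ∈ autInducedBy K C := conjAut_mem_autInducedBy hs hsN
  obtain ⟨k, hk⟩ := isPGroup_autInducedBy hK C ⟨_, h1⟩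
  have hk' : conjAut C s hsN ^ p ^ k = 1 := congrArg Subtype.val hk
  have hd1 : orderOf (conjAut C s hsN) ∣ p ^ k := orderOf_dvd_of_pow_eq_one hk'
  have hd2 : orderOf (conjAut C s hsN) ∣ Nat.card (MulAut C) := orderOf_dvd_natCard _
  have hc : (orderOf (conjAut C s hsN)).Coprime (p ^ k) := (hcop.pow_right k).coprime_dvd_left hd2
  exact orderOf_eq_one_iff.mp (hc.eq_one_of_dvd hd1)

/-- a `p`-group normalizing the cyclic group generated by an element of order dividing `p` centralizes it -/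
theorem conj_eq_of_zpowers_normal {p : ℕ} [hp : Fact p.Prime] {K : Subgroup Ω} (hK : IsPGroup p K)
    {x : Ω} (hx : x ^ p = 1) (h : ∀ s ∈ K, s * x * s⁻¹ ∈ Subgroup.zpowers x) :
    ∀ s ∈ K, s * x * s⁻¹ = x := by
  intro s hs
  have hN : K ≤ Subgroup.normalizer ((Subgroup.zpowers x : Subgroup Ω) : Set Ω) := by
    apply le_normalizer_of_forall
    intro g hg y hy
    obtain ⟨k, rfl⟩ := Subgroup.mem_zpowers_iff.1 hy
    have : g * x ^ k * g⁻¹ = (g * x * g⁻¹) ^ k := by
      rw [← MulAut.conj_apply, ← MulAut.conj_apply, map_zpow]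
    rw [this]
    exact Subgroup.zpow_mem _ (h g hg) k
  have hfo : IsOfFinOrder x := isOfFinOrder_iff_pow_eq_one.2 ⟨p, hp.out.pos, hx⟩
  have hfin : Finite (Subgroup.zpowers x) := (finite_zpowers.2 hfo).to_subtype
  have hcard : Nat.card (MulAut (Subgroup.zpowers x)) = Nat.totient (orderOf x) := by
    rw [IsCyclic.card_mulAut, Nat.card_zpowers]
  have hcop : (Nat.card (MulAut (Subgroup.zpowers x))).Coprime p := by
    rw [hcard]
    rcases (Nat.dvd_prime hp.out).1 (orderOf_dvd_of_pow_eq_one hx) with h1 | h1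
    · rw [h1, Nat.totient_one]; exact Nat.coprime_one_left p
    · rw [h1, Nat.totient_prime hp.out]
      refine ((Nat.Prime.coprime_iff_not_dvd hp.out).2 (fun hd => ?_)).symm
      have h2 := hp.out.two_le
      have := Nat.le_of_dvd (by omega) hd
      omega
  have h1 := conjAut_one_of_isPGroup_of_coprime hK hcop hs (hN hs)
  have h2 := congrArg (fun c : MulAut (Subgroup.zpowers x) =>
    ((c ⟨x, Subgroup.mem_zpowers x⟩ : Subgroup.zpowers x) : Ω)) h1
  exact h2

theorem eq_one_of_conj_eq_one {x s : Ω} (h : s * x * s⁻¹ = 1) : x = 1 := by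
  have : x = s⁻¹ * (s * x * s⁻¹) * s := by group
  rw [this, h]; group

/-- an element normalizing the cyclic group generated by `x` with `x ^ 4 = 1` centralizes or inverts `x` -/
theorem conj_eq_or_inv_of_pow_four {x s : Ω} (hx : x ^ 4 = 1)
    (h : s * x * s⁻¹ ∈ Subgroup.zpowers x) : s * x * s⁻¹ = x ∨ s * x * s⁻¹ = x⁻¹ := by
  obtain ⟨k, hk⟩ := Subgroup.mem_zpowers_iff.1 h
  have hk4 : x ^ k = x ^ (k % ((4 : ℕ) : ℤ)) := zpow_eq_zpow_emod' k hx
  have h0 : 0 ≤ k % ((4 : ℕ) : ℤ) := Int.emod_nonneg k (by norm_num)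
  have h4 : k % ((4 : ℕ) : ℤ) < 4 := Int.emod_lt_of_pos k (by norm_num)
  rw [hk4] at hk
  obtain ⟨r, hr⟩ : ∃ r, r = k % ((4 : ℕ) : ℤ) := ⟨_, rfl⟩
  rw [← hr] at hk h0 h4
  interval_cases r
  · left
    rw [zpow_zero] at hk
    have := eq_one_of_conj_eq_one hk.symm
    rw [this]; group
  · left
    rw [zpow_one] at hk
    exact hk.symm
  · left
    have hy : s * x * s⁻¹ = x ^ 2 := by rw [← hk]; exact zpow_ofNat x 2
    have h1 : (s * x * s⁻¹) ^ 2 = s * x ^ 2 * s⁻¹ := conj_pow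
    have h2 : (x ^ 2) ^ 2 = 1 := by rw [← pow_mul]; exact hx
    rw [hy, h2] at h1
    have h3 : x ^ 2 = 1 := eq_one_of_conj_eq_one h1.symm
    rw [h3] at hy
    have := eq_one_of_conj_eq_one hy
    rw [this]; group
  · right
    have h1 : x ^ (3 : ℤ) = x ^ 3 := zpow_ofNat x 3
    rw [← hk, h1]
    apply eq_inv_of_mul_eq_one_left
    rw [← pow_succ]
    exact hx

/-- a `p'`-automorphism of the finite `p`-group `R` acting trivially modulo `W`, leaving `W ∩ R` invariant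
and fixing (or, for order `4`, inverting) the elements of order dividing `p` or `4` of `W ∩ R`, is trivial -/
theorem eq_one_of_fixes_omega {p : ℕ} [Fact p.Prime] {R : Subgroup Ω} [Finite R] (hR : IsPGroup p R)
    (W : Subgroup Ω) (β : MulAut R) (hcop : (orderOf β).Coprime p)
    (hinv : ∀ x : R, (x : Ω) ∈ W → ((β x : R) : Ω) ∈ W)
    (hcomm : ∀ x : R, (x : Ω)⁻¹ * ((β x : R) : Ω) ∈ W)
    (h1 : ∀ x : R, (x : Ω) ∈ W → (x : Ω) ^ p = 1 → β x = x)
    (h2 : p = 2 → ∀ x : R, (x : Ω) ∈ W → (x : Ω) ^ 4 = 1 → β x = x ∨ β x = x⁻¹) : β = 1 := by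
  have hpow : ∀ x ∈ (⊤ : Subgroup R), (β ^ orderOf β) x = x := by
    intro x _; rw [pow_orderOf_eq_one]; rfl
  have hfixΩ : ∀ x ∈ W.subgroupOf R, x ^ omegaExp p = 1 → β x = x := by
    intro x hx hxe
    have hxW : (x : Ω) ∈ W := Subgroup.mem_subgroupOf.1 hx
    by_cases hp2 : p = 2
    · subst hp2
      rw [omegaExp_two] at hxe
      have hx4 : (x : Ω) ^ 4 = 1 := by
        have := congrArg Subtype.val hxe
        simpa using this
      rcases h2 rfl x hxW hx4 with h | h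
      · exact h
      · exact eq_of_inv_of_odd β (orderOf β) hcop (pow_orderOf_eq_one β) x h
    · rw [omegaExp_odd hp2] at hxe
      have hxp : (x : Ω) ^ p = 1 := by
        have := congrArg Subtype.val hxe
        simpa using this
      exact h1 x hxW hxp
  have hfixW : ∀ x ∈ W.subgroupOf R, β x = x :=
    omega_lemma β (orderOf β) hcop (W.subgroupOf R) (hR.to_subgroup _)
      (fun x hx => Subgroup.mem_subgroupOf.2 (hinv x (Subgroup.mem_subgroupOf.1 hx)))
      (fun x _ => hpow x trivial) hfixΩ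
  have hall := fixes_of_commutator_fixed β ⊤ (hR.to_subgroup _) (fun _ _ => trivial) (orderOf β) hcop
    hpow (fun x _ => hfixW _ (Subgroup.mem_subgroupOf.2 (by simpa using hcomm x)))
  ext x
  rw [hall x trivial]; rfl

variable {S : Subgroup Ω}

/-- automorphisms in `Aut_F(R)` fixing the elements of order dividing `p` of `W ∩ R` and, for `p = 2`,
fixing or inverting those of order dividing `4` -/
def fixSub (F : FusionSystem S) (p : ℕ) (W R : Subgroup Ω) : Subgroup (F.autGroup R) where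
  carrier := {β | (∀ x : R, (x : Ω) ∈ W → (x : Ω) ^ p = 1 → (β : MulAut R) x = x) ∧
    (p = 2 → ∀ x : R, (x : Ω) ∈ W → (x : Ω) ^ 4 = 1 →
      (β : MulAut R) x = x ∨ (β : MulAut R) x = x⁻¹)}
  mul_mem' := by
    rintro β₁ β₂ ⟨a1, b1⟩ ⟨a2, b2⟩
    refine ⟨fun x hxW hx => ?_, fun hp x hxW hx => ?_⟩
    · show (β₁ : MulAut R) ((β₂ : MulAut R) x) = x
      rw [a2 x hxW hx, a1 x hxW hx]
    · show (β₁ : MulAut R) ((β₂ : MulAut R) x) = x ∨ (β₁ : MulAut R) ((β₂ : MulAut R) x) = x⁻¹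
      rcases b2 hp x hxW hx with h | h <;> rcases b1 hp x hxW hx with h' | h'
      · left; rw [h, h']
      · right; rw [h, h']
      · right; rw [h, map_inv, h']
      · left; rw [h, map_inv, h', inv_inv]
  one_mem' := ⟨fun _ _ _ => rfl, fun _ _ _ _ => Or.inl rfl⟩
  inv_mem' := by
    rintro β ⟨a1, b1⟩
    refine ⟨fun x hxW hx => ?_, fun hp x hxW hx => ?_⟩
    · show (β : MulAut R)⁻¹ x = x
      have := a1 x hxW hx
      calc (β : MulAut R)⁻¹ x = (β : MulAut R)⁻¹ ((β : MulAut R) x) := by rw [this]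
        _ = x := by simp
    · show (β : MulAut R)⁻¹ x = x ∨ (β : MulAut R)⁻¹ x = x⁻¹
      rcases b1 hp x hxW hx with h | h
      · left
        calc (β : MulAut R)⁻¹ x = (β : MulAut R)⁻¹ ((β : MulAut R) x) := by rw [h]
          _ = x := by simp
      · right
        have h' : (β : MulAut R) x⁻¹ = x := by rw [map_inv, h, inv_inv]
        calc (β : MulAut R)⁻¹ x = (β : MulAut R)⁻¹ ((β : MulAut R) x⁻¹) := by rw [h']
          _ = x⁻¹ := by simp

theorem fixSub_normal {F : FusionSystem S} {p : ℕ} {W R : Subgroup Ω}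
    (hW : ∀ γ ∈ F.autGroup R, ∀ x : R, (x : Ω) ∈ W → ((γ x : R) : Ω) ∈ W) :
    (fixSub F p W R).Normal := by
  constructor
  rintro β ⟨a1, b1⟩ γ
  have hγinv : (γ : MulAut R)⁻¹ ∈ F.autGroup R := Subgroup.inv_mem _ γ.2
  have hpow : ∀ (x : R) (n : ℕ), (x : Ω) ^ n = 1 → (((γ : MulAut R)⁻¹ x : R) : Ω) ^ n = 1 := by
    intro x n hx
    have hx' : x ^ n = 1 := Subtype.ext (by simpa using hx)
    have : ((γ : MulAut R)⁻¹ x) ^ n = 1 := by rw [← map_pow, hx', map_one]
    have := congrArg Subtype.val this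
    simpa using this
  refine ⟨fun x hxW hx => ?_, fun hp x hxW hx => ?_⟩
  · show (γ : MulAut R) ((β : MulAut R) ((γ : MulAut R)⁻¹ x)) = x
    rw [a1 _ (hW _ hγinv x hxW) (hpow x p hx)]
    simp
  · show (γ : MulAut R) ((β : MulAut R) ((γ : MulAut R)⁻¹ x)) = x ∨
      (γ : MulAut R) ((β : MulAut R) ((γ : MulAut R)⁻¹ x)) = x⁻¹
    rcases b1 hp _ (hW _ hγinv x hxW) (hpow x 4 hx) with h | h
    · left; rw [h]; simp
    · right; rw [h, map_inv]; simp

/-- if `Aut_F(R)` leaves `W ∩ R` invariant and acts trivially on `R` modulo `W`, then `fixSub` lies in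
`O_p(Aut_F(R))` -/
theorem fixSub_le_pCore {p : ℕ} [Fact p.Prime] [Finite S] (hS : IsPGroup p S) {F : FusionSystem S}
    {W R : Subgroup Ω} (hR : R ≤ S)
    (hW : ∀ γ ∈ F.autGroup R, ∀ x : R, (x : Ω) ∈ W → ((γ x : R) : Ω) ∈ W)
    (hcomm : ∀ γ ∈ F.autGroup R, ∀ x : R, (x : Ω)⁻¹ * ((γ x : R) : Ω) ∈ W) :
    fixSub F p W R ≤ pCore p (F.autGroup R) := by
  have hfinR : Finite R := finite_of_le hR
  apply le_pCore (fixSub_normal hW)
  apply isPGroup_of_coprime_trivial
  rintro ⟨β, a1, b1⟩ hcop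
  have hord : orderOf (β : MulAut R) = orderOf (⟨β, a1, b1⟩ : fixSub F p W R) := by
    rw [← Subgroup.orderOf_coe (⟨β, a1, b1⟩ : fixSub F p W R), ← Subgroup.orderOf_coe β]
  have := eq_one_of_fixes_omega (hS.to_le hR) W (β : MulAut R) (hord ▸ hcop) (hW _ β.2)
    (hcomm _ β.2) a1 b1
  exact Subtype.ext (Subtype.ext this)

/-- commutators `x⁻¹ α(x)` with `α ∈ Aut_F(R)` lie in the focal subgroup -/
theorem comm_mem_focal {F : FusionSystem S} {R : Subgroup Ω} (hR : R ≤ S) {γ : MulAut R}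
    (hγ : γ ∈ F.autGroup R) (x : R) : (x : Ω)⁻¹ * ((γ x : R) : Ω) ∈ F.focalSubgroup := by
  obtain ⟨φ, hφ, e⟩ := (mem_autGroup_iff hR).1 hγ
  apply Subgroup.subset_closure
  refine ⟨R, φ, x, hφ, ?_⟩
  rw [e x, extAut_apply]

theorem aut_mem_focal {F : FusionSystem S} {R : Subgroup Ω} (hR : R ≤ S) {γ : MulAut R}
    (hγ : γ ∈ F.autGroup R) (x : R) (hx : (x : Ω) ∈ F.focalSubgroup) :
    ((γ x : R) : Ω) ∈ F.focalSubgroup := by
  have := F.focalSubgroup.mul_mem hx (comm_mem_focal hR hγ x)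
  rwa [mul_inv_cancel_left] at this

end Cfsg.Agent.Helper87
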