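import Mathlib
import Cfsg.Prelude.Def_FusionSystem
import Cfsg.Agent.Lib.Helper87.FusionMore

set_option autoImplicit false

namespace Cfsg.Agent.Helper87

open Cfsg Cfsg.FusionSystem

variable {Ω : Type*} [Group Ω] {S : Subgroup Ω}

theorem fullyNormalized_of_le_normalizer [Finite S] (F : FusionSystem S) {R : Subgroup Ω}
    (hR : R ≤ S) (hN : S ≤ Subgroup.normalizer (R : Set Ω)) : F.IsFullyNormalized R := by
  refine ⟨hR, fun Q _ => ?_⟩
  have : normalizerIn S R = S := inf_eq_left.2 hN
  rw [this]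
  exact card_normalizerIn_le Q

/-- a fully centralized subgroup containing its centralizer is centric -/
theorem isCentric_of_fullyCentralized [Finite S] {F : FusionSystem S} {R : Subgroup Ω}
    (hfc : F.IsFullyCentralized R) (hC : centralizerIn S R ≤ R) : F.IsCentric R := by
  refine ⟨hfc.1, fun Q hQ => ?_⟩
  obtain ⟨f, hf⟩ := isConj_iff.1 hQ
  have hmap : ∀ c ∈ centralizerIn S R, f c ∈ Q ⊓ centralizerIn S Q := by
    intro c hc
    have hcR := hC hc
    refine ⟨hf.map_mem hcR, hf.1.mem hcR, ?_⟩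
    show f c ∈ Subgroup.centralizer (Q : Set Ω)
    rw [Subgroup.mem_centralizer_iff]
    intro y hy
    obtain ⟨x, hx, rfl⟩ := hf.surj hy
    rw [← hf.1.map_mul hx hcR, ← hf.1.map_mul hcR hx]
    congr 1
    have hc2 : c ∈ Subgroup.centralizer (R : Set Ω) := hc.2
    rw [Subgroup.mem_centralizer_iff] at hc2
    exact hc2 x hx
  have hfin1 : Finite (centralizerIn S Q) := finite_of_le (inf_le_left : centralizerIn S Q ≤ S)
  have hfin2 : Finite (Q ⊓ centralizerIn S Q : Subgroup Ω) :=
    finite_of_le (inf_le_right.trans (inf_le_left : centralizerIn S Q ≤ S))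
  have hinj : Function.Injective
      (fun c : centralizerIn S R => (⟨f c, hmap c c.2⟩ : (Q ⊓ centralizerIn S Q : Subgroup Ω))) := by
    intro a b hab
    have h1 : f a = f b := congrArg Subtype.val hab
    exact Subtype.ext (hf.1.inj (hC a.2) (hC b.2) h1)
  have h1 : Nat.card (centralizerIn S R) ≤ Nat.card (Q ⊓ centralizerIn S Q : Subgroup Ω) :=
    Nat.card_le_card_of_injective _ hinj
  have h2 := hfc.2 Q hQ
  have h3 : Q ⊓ centralizerIn S Q = centralizerIn S Q :=
    Subgroup.eq_of_le_of_card_ge inf_le_right (h2.trans h1)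
  rw [← h3]
  exact inf_le_left

/-- conjugation by the elements of `S` on a normal subgroup `R`, as a homomorphism into `Aut_F(R)` -/
def conjHomS (F : FusionSystem S) {R : Subgroup Ω} (hR : R ≤ S)
    (hN : S ≤ Subgroup.normalizer (R : Set Ω)) : S →* F.autGroup R where
  toFun s := ⟨conjAut R s (hN s.2),
    autInducedBy_le_autGroup F hR (conjAut_mem_autInducedBy s.2 (hN s.2))⟩
  map_one' := by
    apply Subtype.ext
    ext x
    simp [conjAut_apply]
  map_mul' a b := by
    apply Subtype.ext
    ext x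
    show ((a : Ω) * (b : Ω)) * (x : Ω) * ((a : Ω) * (b : Ω))⁻¹ = (a : Ω) * ((b : Ω) * (x : Ω) * (b : Ω)⁻¹) * (a : Ω)⁻¹
    group

theorem conjHomS_apply (F : FusionSystem S) {R : Subgroup Ω} (hR : R ≤ S)
    (hN : S ≤ Subgroup.normalizer (R : Set Ω)) (s : S) :
    ((conjHomS F hR hN s : F.autGroup R) : MulAut R) = conjAut R s (hN s.2) := rfl

theorem range_conjHomS (F : FusionSystem S) {R : Subgroup Ω} (hR : R ≤ S)
    (hN : S ≤ Subgroup.normalizer (R : Set Ω)) :
    (conjHomS F hR hN).range = (autInducedBy S R).subgroupOf (F.autGroup R) := by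
  ext α
  rw [Subgroup.mem_subgroupOf]
  constructor
  · rintro ⟨s, rfl⟩
    exact conjAut_mem_autInducedBy s.2 (hN s.2)
  · intro h
    obtain ⟨g, hg, e⟩ := mem_autInducedBy_iff.1 h
    refine ⟨⟨g, hg⟩, Subtype.ext ?_⟩
    ext x
    rw [conjHomS_apply, conjAut_apply, e]

/-- the normalizer of a non-normal Sylow subgroup of prime order is strongly `p`-embedded -/
theorem isStronglyPEmbedded_normalizer {X : Type*} [Group X] [Finite X] {p : ℕ} [Fact p.Prime]
    (P₁ : Sylow p X) (hcard : Nat.card P₁ = p) (hnn : ¬ (P₁ : Subgroup X).Normal) :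
    IsStronglyPEmbedded p (Subgroup.normalizer ((P₁ : Subgroup X) : Set X)) := by
  have hp : p.Prime := Fact.out
  refine ⟨?_, ?_, P₁, ?_⟩
  · rw [← hcard]
    exact Subgroup.card_subgroup_dvd_card _
  · intro h
    exact hnn (Subgroup.normalizer_eq_top_iff.1 h)
  · unfold kGeneratedCore
    apply iSup_le
    rintro ⟨Q, hQ, hrank⟩
    have hne : Q ≠ ⊥ := by
      rintro rfl
      apply hrank
      intro A _ _
      have : Nat.card A = 1 := by
        have : Subsingleton (⊥ : Subgroup X) := inferInstance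
        have : Subsingleton A := inferInstance
        exact Nat.card_unique
      rw [this]
      simp
    have hQeq : Q = (P₁ : Subgroup X) := by
      apply Subgroup.eq_of_le_of_card_ge hQ
      have h1 : Nat.card Q ∣ p := hcard ▸ Subgroup.card_dvd_of_le hQ
      rcases (Nat.dvd_prime hp).1 h1 with h2 | h2
      · exact absurd (Subgroup.card_eq_one.1 h2) hne
      · rw [hcard, h2]
    show Subgroup.normalizer (Q : Set X) ≤ _
    rw [hQeq]

/-- if `Aut_S(R)` is normal in `Aut_F(R)` for `R ⊴ S`, every `F`-automorphism of `R` has extender `S` -/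
theorem le_ext_of_normal {F : FusionSystem S} {R : Subgroup Ω} (hR : R ≤ S)
    (hN : S ≤ Subgroup.normalizer (R : Set Ω))
    (hnorm : ((autInducedBy S R).subgroupOf (F.autGroup R)).Normal) {g : Ω → Ω} (h : Iso F R R g) :
    S ≤ h.ext := by
  intro s hs
  refine ⟨hs, hN hs, ?_⟩
  have hα : (h.equiv : MulAut R) ∈ F.autGroup R := h.equiv_mem_autGroup
  have hc : conjAut R s (hN hs) ∈ autInducedBy S R := conjAut_mem_autInducedBy hs (hN hs)
  have hc' : (⟨conjAut R s (hN hs), autInducedBy_le_autGroup F hR hc⟩ : F.autGroup R) ∈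
      (autInducedBy S R).subgroupOf (F.autGroup R) := Subgroup.mem_subgroupOf.2 hc
  have h1 := hnorm.conj_mem _ hc' ⟨h.equiv, hα⟩
  rw [Subgroup.mem_subgroupOf] at h1
  obtain ⟨k, hk, e⟩ := mem_autInducedBy_iff.1 h1
  refine ⟨k, hk, fun x hx => ?_⟩
  have h2 := e (h.equiv ⟨x, hx⟩)
  have h3 : ((h.equiv ⟨x, hx⟩ : R) : Ω) = g x := h.equiv_apply _
  rw [h3] at h2
  rw [← h2]
  show g (s * x * s⁻¹) = (((h.equiv : MulAut R) * conjAut R s (hN hs) * (h.equiv : MulAut R)⁻¹)
    ((h.equiv : MulAut R) ⟨x, hx⟩) : R)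
  rw [MulAut.mul_apply, MulAut.mul_apply, MulAut.inv_apply_self]
  rfl

/-- criterion for a normal subgroup of index `p` to be essential -/
theorem isEssential_of_index_prime {p : ℕ} [Fact p.Prime] [Finite S] (hS : IsPGroup p S)
    {F : FusionSystem S} (hF : F.IsSaturated p) {R : Subgroup Ω} (hR : R ≤ S)
    (hN : S ≤ Subgroup.normalizer (R : Set Ω)) (hC : centralizerIn S R ≤ R)
    (hidx : R.relIndex S = p)
    (hnn : ¬ ((autInducedBy S R).subgroupOf (F.autGroup R)).Normal) : F.IsEssential p R := by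
  classical
  have hfn := fullyNormalized_of_le_normalizer F hR hN
  have hfc := fullyCentralized_of_fullyNormalized hS hF hfn
  have hcen := isCentric_of_fullyCentralized hfc hC
  obtain ⟨-, P₀, hP₀⟩ := fullyAutomized_of_fullyNormalized hS hF hfn
  haveI hnorm : ((Inn R).subgroupOf (F.autGroup R)).Normal := (inn_normal R).subgroupOf _
  refine ⟨hcen, hfn, hnorm, ?_⟩
  have hfinR : Finite R := finite_of_le hR
  let π := QuotientGroup.mk' ((Inn R).subgroupOf (F.autGroup R))
  have hπ : Function.Surjective π := QuotientGroup.mk'_surjective _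
  let P₁ : Sylow p (F.autGroup R ⧸ (Inn R).subgroupOf (F.autGroup R)) := P₀.mapSurjective hπ
  have hP₁ : (P₁ : Subgroup (F.autGroup R ⧸ (Inn R).subgroupOf (F.autGroup R))) =
      ((autInducedBy S R).subgroupOf (F.autGroup R)).map π := by
    rw [← hP₀]
    exact Sylow.coe_mapSurjective hπ P₀
  let κ := π.comp (conjHomS F hR hN)
  have hrange : κ.range = (P₁ : Subgroup (F.autGroup R ⧸ (Inn R).subgroupOf (F.autGroup R))) := by
    rw [hP₁, ← range_conjHomS F hR hN, MonoidHom.range_comp]
  have hker : κ.ker = R.subgroupOf S := by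
    ext s
    rw [MonoidHom.mem_ker, Subgroup.mem_subgroupOf]
    show π (conjHomS F hR hN s) = 1 ↔ _
    rw [QuotientGroup.mk'_apply, QuotientGroup.eq_one_iff, Subgroup.mem_subgroupOf, conjHomS_apply]
    constructor
    · intro h
      exact mem_of_conjAut_mem_inn hcen s.2 (hN s.2) h
    · intro h
      refine ⟨⟨s, h⟩, ?_⟩
      ext x
      simp [MulAut.conj_apply, conjAut_apply]
  have hcard : Nat.card P₁ = p := by
    have h1 : Nat.card κ.range = Nat.card P₁ := by rw [hrange]
    rw [← h1, ← Subgroup.index_ker, hker]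
    exact hidx
  have hnn' : ¬ (P₁ : Subgroup (F.autGroup R ⧸ (Inn R).subgroupOf (F.autGroup R))).Normal := by
    intro h
    apply hnn
    have h1 : (autInducedBy S R).subgroupOf (F.autGroup R) =
        (P₁ : Subgroup (F.autGroup R ⧸ (Inn R).subgroupOf (F.autGroup R))).comap π := by
      rw [hP₁, Subgroup.comap_map_eq, QuotientGroup.ker_mk']
      symm
      apply sup_eq_left.2
      intro α hα
      rw [Subgroup.mem_subgroupOf] at hα ⊢
      exact inn_le_autInducedBy hR hα
    rw [h1]
    exact h.comap π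
  exact ⟨_, isStronglyPEmbedded_normalizer P₁ hcard hnn'⟩

end Cfsg.Agent.Helper87
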