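import Mathlib

/-!
# O2520 / S3C piece (Q2) s3c_normalizer_mem (helper87), for helper20's S3C sub-server (S0984).
`N(P) = P {1, a, b, ab}`: the four cosets are told apart by their action on `x`, `x'`.
-/

set_option autoImplicit false

namespace Cfsg.Agent.Helper87.O2520

universe u

/-- (Q2) -/
theorem s3c_normalizer_mem {G : Type u} [Group G] [Finite G] (P : Subgroup G) (hP : Nat.card P = 9)
    (hN : Nat.card (Subgroup.normalizer (P : Set G)) = 36) (x x' a b : G)
    (hx : x ∈ P) (hx' : x' ∈ P) (hx1 : x ≠ 1) (hx'1 : x' ≠ 1)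
    (ha : a ∈ Subgroup.normalizer (P : Set G)) (hb : b ∈ Subgroup.normalizer (P : Set G))
    (hoa : orderOf a = 2) (hob : orderOf b = 2) (hab : a * b = b * a)
    (hax : a * x * a⁻¹ = x) (hax' : a * x' * a⁻¹ = x'⁻¹)
    (hbx : b * x * b⁻¹ = x⁻¹) (hbx' : b * x' * b⁻¹ = x') :
    ∀ g ∈ Subgroup.normalizer (P : Set G),
      ∃ p ∈ P, g = p ∨ g = p * a ∨ g = p * b ∨ g = p * (a * b) := by
  haveI : Fact (Nat.Prime 3) := ⟨by norm_num⟩
  have hPcomm : ∀ p ∈ P, ∀ q ∈ P, p * q = q * p := by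
    intro p hp q hq
    have h := IsPGroup.commutative_of_card_eq_prime_sq (p := 3) (G := P) (by rw [hP]; norm_num)
      ⟨p, hp⟩ ⟨q, hq⟩
    exact congrArg Subtype.val h
  -- no element of `P` is its own inverse, except `1`
  have hodd : ∀ z ∈ P, z = z⁻¹ → z = 1 := by
    intro z hz h
    have h2 : z ^ 2 = 1 := by
      rw [pow_two]
      nth_rewrite 2 [h]
      exact mul_inv_cancel z
    have h9 : z ^ 9 = 1 := by
      have := pow_card_eq_one' (G := P) (x := ⟨z, hz⟩)
      rw [hP] at this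
      exact congrArg Subtype.val this
    calc z = z ^ 9 * ((z ^ 2) ^ 4)⁻¹ := by group
      _ = 1 := by rw [h9, h2]; simp
  have hxne : x ≠ x⁻¹ := fun h => hx1 (hodd x hx h)
  have hx'ne : x' ≠ x'⁻¹ := fun h => hx'1 (hodd x' hx' h)
  -- the four coset representatives and their action
  obtain ⟨t, htdef⟩ : ∃ t : Fin 4 → G, t = ![1, a, b, a * b] := ⟨_, rfl⟩
  obtain ⟨tx, htxdef⟩ : ∃ tx : Fin 4 → G, tx = ![x, x, x⁻¹, x⁻¹] := ⟨_, rfl⟩
  obtain ⟨tx', htx'def⟩ : ∃ tx' : Fin 4 → G, tx' = ![x', x'⁻¹, x', x'⁻¹] := ⟨_, rfl⟩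
  have habx : a * b * x * (a * b)⁻¹ = x⁻¹ := by
    calc a * b * x * (a * b)⁻¹ = a * (b * x * b⁻¹) * a⁻¹ := by group
      _ = (a * x * a⁻¹)⁻¹ := by rw [hbx]; group
      _ = x⁻¹ := by rw [hax]
  have habx' : a * b * x' * (a * b)⁻¹ = x'⁻¹ := by
    calc a * b * x' * (a * b)⁻¹ = a * (b * x' * b⁻¹) * a⁻¹ := by group
      _ = x'⁻¹ := by rw [hbx', hax']
  have htN : ∀ k, t k ∈ Subgroup.normalizer (P : Set G) := by
    intro k
    rw [htdef]
    fin_cases k
    · exact Subgroup.one_mem _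
    · exact ha
    · exact hb
    · exact Subgroup.mul_mem _ ha hb
  have htx : ∀ k, t k * x * (t k)⁻¹ = tx k := by
    intro k
    rw [htdef, htxdef]
    fin_cases k
    · show 1 * x * 1⁻¹ = x
      group
    · exact hax
    · exact hbx
    · exact habx
  have htx' : ∀ k, t k * x' * (t k)⁻¹ = tx' k := by
    intro k
    rw [htdef, htx'def]
    fin_cases k
    · show 1 * x' * 1⁻¹ = x'
      group
    · exact hax'
    · exact hbx'
    · exact habx'
  have htxP : ∀ k, tx k ∈ P := by
    intro k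
    rw [htxdef]
    fin_cases k
    · exact hx
    · exact hx
    · exact P.inv_mem hx
    · exact P.inv_mem hx
  have htx'P : ∀ k, tx' k ∈ P := by
    intro k
    rw [htx'def]
    fin_cases k
    · exact hx'
    · exact P.inv_mem hx'
    · exact hx'
    · exact P.inv_mem hx'
  -- the sign patterns determine `k`
  have hkl : ∀ k l : Fin 4, tx k = tx l → tx' k = tx' l → k = l := by
    intro k l h1 h2
    rw [htxdef] at h1
    rw [htx'def] at h2
    fin_cases k <;> fin_cases l <;>
      first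
        | rfl
        | exact absurd h1 hxne
        | exact absurd h1.symm hxne
        | exact absurd h2 hx'ne
        | exact absurd h2.symm hx'ne
  -- the parametrization
  let Φ : P × Fin 4 → Subgroup.normalizer (P : Set G) := fun pk =>
    ⟨pk.1.1 * t pk.2, Subgroup.mul_mem _ (Subgroup.le_normalizer pk.1.2) (htN pk.2)⟩
  have hconj : ∀ (p : G) (hp : p ∈ P) (k : Fin 4) (z w : G), w ∈ P → t k * z * (t k)⁻¹ = w →
      (p * t k) * z * (p * t k)⁻¹ = w := by
    intro p hp k z w hw h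
    calc (p * t k) * z * (p * t k)⁻¹ = p * (t k * z * (t k)⁻¹) * p⁻¹ := by group
      _ = p * w * p⁻¹ := by rw [h]
      _ = w := by rw [hPcomm p hp w hw]; group
  have hΦinj : Function.Injective Φ := by
    rintro ⟨p, k⟩ ⟨p', l⟩ h
    have h0 : p.1 * t k = p'.1 * t l := congrArg Subtype.val h
    have e1 : tx k = tx l := by
      rw [← hconj p.1 p.2 k x (tx k) (htxP k) (htx k), h0,
        hconj p'.1 p'.2 l x (tx l) (htxP l) (htx l)]
    have e2 : tx' k = tx' l := by
      rw [← hconj p.1 p.2 k x' (tx' k) (htx'P k) (htx' k), h0,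
        hconj p'.1 p'.2 l x' (tx' l) (htx'P l) (htx' l)]
    have hk : k = l := hkl k l e1 e2
    subst hk
    have hp : p.1 = p'.1 := mul_right_cancel h0
    have : p = p' := Subtype.ext hp
    rw [this]
  have hΦsurj : Function.Surjective Φ := by
    haveI : Finite P := Nat.finite_of_card_ne_zero (by rw [hP]; norm_num)
    refine (Function.Injective.bijective_of_nat_card_le hΦinj ?_).2
    rw [hN, Nat.card_prod, hP]
    simp
  intro g hg
  obtain ⟨⟨p, k⟩, hpk⟩ := hΦsurj ⟨g, hg⟩
  have hg' : g = p.1 * t k := (congrArg Subtype.val hpk).symm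
  refine ⟨p.1, p.2, ?_⟩
  rw [hg', htdef]
  fin_cases k
  · left
    show p.1 * 1 = p.1
    rw [mul_one]
  · right; left; rfl
  · right; right; left; rfl
  · right; right; right; rfl

end Cfsg.Agent.Helper87.O2520
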