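import Mathlib
import Cfsg.Prelude.Def_Blocks
import Cfsg.Agent.Lib.Helper55.O2520Defs
import Cfsg.Agent.Lib.Helper87.SVKit
import Cfsg.Agent.Lib.Helper17.Simple

/-!
# O2520 piece (C7) sylow7_local (helper87), for helper55's O2520 server (S0984).
-/

set_option autoImplicit false

namespace Cfsg.Agent.Helper87.O2520

open Cfsg Cfsg.Agent.Helper55.O2520
open scoped Classical

universe u

section grp
variable {G : Type u} [Group G] [Finite G] [IsSimpleGroup G] (hG : Nat.card G = 2520)
include hG

/-- (C7) -/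
theorem sylow7_local (h7 : Nat.card (Sylow 7 G) = 120) (Q : Sylow 7 G) :
    Nat.card (Subgroup.normalizer ((Q : Subgroup G) : Set G)) = 21 ∧
    Subgroup.centralizer ((Q : Subgroup G) : Set G) = (Q : Subgroup G) := by
  haveI : Fact (Nat.Prime 7) := ⟨by norm_num⟩
  have hna : ¬ IsMulCommutative G :=
    Cfsg.Agent.Helper17.not_comm_of_not_prime (by rw [hG]; norm_num)
  have hn7 : Nat.card G = 7 ^ 1 * 360 := by rw [hG]; norm_num
  obtain ⟨hP, -, -, -, -, -, hC⟩ :=
    Cfsg.Agent.Helper87.SV.h87_data hna 7 360 (by norm_num) hn7 (by norm_num)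
  constructor
  · rw [Cfsg.Agent.Helper87.SV.h87_card_normalizer Q, hG, h7]
  · obtain ⟨e, he1, he2, he3⟩ := hC Q
    rw [h7] at he3
    have hcard : Nat.card (Subgroup.centralizer ((Q : Subgroup G) : Set G)) = 7 := by
      have he6 : e ∣ 6 := he1
      have hele : e ≤ 6 := Nat.le_of_dvd (by norm_num) he6
      interval_cases e <;> omega
    -- `Q` is abelian (prime order), so `Q ≤ C(Q)`; equal cardinalities
    have hQcard : Nat.card (Q : Subgroup G) = 7 := hP Q
    have hle : (Q : Subgroup G) ≤ Subgroup.centralizer ((Q : Subgroup G) : Set G) := by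
      haveI : IsCyclic (Q : Subgroup G) := isCyclic_of_prime_card hQcard
      intro x hx
      rw [Subgroup.mem_centralizer_iff]
      intro y hy
      have hcomm : (⟨y, hy⟩ : (Q : Subgroup G)) * ⟨x, hx⟩ = ⟨x, hx⟩ * ⟨y, hy⟩ :=
        (IsCyclic.commGroup (α := (Q : Subgroup G))).mul_comm _ _
      exact congrArg Subtype.val hcomm
    exact (Subgroup.eq_of_le_of_card_ge hle (by rw [hcard, hQcard])).symm

end grp

end Cfsg.Agent.Helper87.O2520
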