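import Mathlib
import Cfsg.Agent.Lib.Helper62.SUO0
import Cfsg.Agent.Lib.Helper45.SUOConj

/-!
# SUO piece (C4) `exists_h` (helper62's server for S2282): the lower conjugate `h u h⁻¹`
-/

set_option autoImplicit false
set_option linter.unusedSectionVars false
set_option linter.unusedVariables false
set_option quotPrecheck false

namespace Cfsg.Agent.Helper87.SUO

open Matrix Cfsg Cfsg.Agent.Helper13 Cfsg.Agent.Helper87.PsuA Cfsg.Agent.Helper62.SUO

section C
variable {F : Type*} [Field F] [Fintype F] {q m : ℕ} (hF : Fintype.card F = q ^ 2)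
  {b : Fin (2 * m + 5) → Fin (2 * m + 5) → F}

local notation "V" => Fin (2 * m + 5) → F
local notation "G" => ↥(Cfsg.SU (2 * m + 5) F q)
local notation "H" => Cfsg.hermForm (2 * m + 5) F q

include hF

/-- values of the form on basis vectors, by index values -/
theorem h87_c4_Hb (hb : HB q b) (i j : ℕ) (hi : i < 2 * m + 5) (hj : j < 2 * m + 5) :
    H (b ⟨i, hi⟩) (b ⟨j, hj⟩) = if i + j = 2 * m + 4 then 1 else 0 := by
  rw [hb ⟨i, hi⟩ ⟨j, hj⟩]
  by_cases h : i + j = 2 * m + 4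
  · rw [if_pos h, if_pos]
    apply Fin.ext
    rw [Fin.val_rev]
    simp only
    omega
  · rw [if_neg h, if_neg]
    intro h2
    apply h
    have h3 := congrArg Fin.val h2
    rw [Fin.val_rev] at h3
    simp only at h3
    omega

/-- (C4) C3 with `x = ![u P, u (u P), P]`, `P = b (m+4)`, `y = ![b 0, e1, p]`, `d = b (m+2)`;
`H (u (u P)) P = -a`, all other Gram entries vanish; then `l = h u h⁻¹` -/
theorem exists_h (hb : HB q b) (t a : F) (ht : t ≠ 0) (hta : a + a ^ q + t * t ^ q = 0)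
    (ha : a ≠ 0) {u : G} (hu : u ∈ Usub hb) (hs : SupNZ q b u)
    (hP : actv u (b ⟨m + 4, by omega⟩) = b ⟨m + 4, by omega⟩ - b ⟨m + 3, by omega⟩)
    (hP' : actv u (b ⟨m + 3, by omega⟩) = b ⟨m + 3, by omega⟩ + t • b ⟨m + 2, by omega⟩
        + a • b ⟨m + 1, by omega⟩ + a • b ⟨m, by omega⟩)
    (e1 p : V)
    (he1 : e1 = (co q b (actv u (b ⟨1, by omega⟩)) ⟨0, by omega⟩)⁻¹ • b ⟨1, by omega⟩)
    (hp : p = ((-a * co q b (actv u (b ⟨1, by omega⟩)) ⟨0, by omega⟩) ^ q) • b ⟨2 * m + 3, by omega⟩) :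
    ∃ h : G, actv (h * u * h⁻¹) (b ⟨0, by omega⟩) = e1 ∧ actv (h * u * h⁻¹) p = b ⟨0, by omega⟩ := by
  obtain ⟨s, hsdef⟩ : ∃ s : F, s = co q b (actv u (b ⟨1, by omega⟩)) ⟨0, by omega⟩ := ⟨_, rfl⟩
  rw [← hsdef] at he1 hp
  have hs0 : s ≠ 0 := by
    rw [hsdef]
    exact hs ⟨0, by omega⟩ ⟨1, by omega⟩ rfl
  have hsq0 : s ^ q ≠ 0 := pow_ne_zero _ hs0
  have haq0 : a ^ q ≠ 0 := pow_ne_zero _ ha
  have huuP : actv u (actv u (b ⟨m + 4, by omega⟩)) =
      b ⟨m + 4, by omega⟩ - b ⟨m + 3, by omega⟩ - (b ⟨m + 3, by omega⟩ + t • b ⟨m + 2, by omega⟩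
        + a • b ⟨m + 1, by omega⟩ + a • b ⟨m, by omega⟩) := by
    rw [hP, actv_sub, hP, hP']
  have hvalue : H p e1 = -(a ^ q) := by
    rw [hp, he1, hermForm_smul_left, hermForm_smul_right, h87_c4_Hb hF hb, if_pos (by omega),
      mul_one, mul_pow, frob_neg hF, inv_pow]
    field_simp
  have H44 : H (b ⟨m + 4, by omega⟩) (b ⟨m + 4, by omega⟩) = 0 := by
    rw [h87_c4_Hb hF hb, if_neg (by omega)]
  have H43 : H (b ⟨m + 4, by omega⟩) (b ⟨m + 3, by omega⟩) = 0 := by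
    rw [h87_c4_Hb hF hb, if_neg (by omega)]
  have H42 : H (b ⟨m + 4, by omega⟩) (b ⟨m + 2, by omega⟩) = 0 := by
    rw [h87_c4_Hb hF hb, if_neg (by omega)]
  have H41 : H (b ⟨m + 4, by omega⟩) (b ⟨m + 1, by omega⟩) = 0 := by
    rw [h87_c4_Hb hF hb, if_neg (by omega)]
  have H40 : H (b ⟨m + 4, by omega⟩) (b ⟨m, by omega⟩) = 1 := by
    rw [h87_c4_Hb hF hb, if_pos (by omega)]
  obtain ⟨h, hh1, hh2⟩ := Cfsg.Agent.Helper45.SUO.h45_exists_conj hF u (b ⟨m + 4, by omega⟩) p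
    (b ⟨0, by omega⟩) e1 (b ⟨m + 2, by omega⟩)
    H44
    (by rw [hP, H_sub_right hF, H44, H43, sub_zero])
    (by
      rw [huuP, hvalue]
      simp only [H_sub_right hF, hermForm_add_right hF, hermForm_smul_right, H44, H43, H42, H41,
        H40]
      ring)
    (by rw [hvalue]; exact neg_ne_zero.2 haq0)
    (by
      rw [hp, hermForm_smul_left, hermForm_smul_right, h87_c4_Hb hF hb, if_neg (by omega),
        mul_zero, mul_zero])
    (by
      rw [hp, hermForm_smul_left, h87_c4_Hb hF hb, if_neg (by omega), mul_zero])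
    (by rw [h87_c4_Hb hF hb, if_neg (by omega)])
    (by rw [he1, hermForm_smul_right, h87_c4_Hb hF hb, if_neg (by omega), mul_zero])
    (by
      rw [he1, hermForm_smul_left, hermForm_smul_right, h87_c4_Hb hF hb, if_neg (by omega),
        mul_zero, mul_zero])
    (b_ne_zero hF hb _)
    (by rw [h87_c4_Hb hF hb, if_pos (by omega)])
    (by rw [hp, hermForm_smul_right, h87_c4_Hb hF hb, if_neg (by omega), mul_zero])
    (by rw [h87_c4_Hb hF hb, if_neg (by omega)])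
    (by rw [he1, hermForm_smul_right, h87_c4_Hb hF hb, if_neg (by omega), mul_zero])
  refine ⟨h, hh1, ?_⟩
  rw [← hh2, actv_actv_inv]

end C

end Cfsg.Agent.Helper87.SUO
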