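import Mathlib
import Cfsg.Agent.Lib.Helper87.ChainAut

set_option autoImplicit false

namespace Cfsg.Agent.Helper87

section Transv

variable {R : Type*} [CommGroup R]

/-- the fixed points of an automorphism -/
def fixedSub (a : MulAut R) : Subgroup R where
  carrier := {r | a r = r}
  one_mem' := map_one a
  mul_mem' := fun {x y} hx hy => by
    show a (x * y) = x * y
    rw [map_mul, hx, hy]
  inv_mem' := fun {x} hx => by
    show a x⁻¹ = x⁻¹
    rw [map_inv, hx]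

theorem mem_fixedSub {a : MulAut R} {r : R} : r ∈ fixedSub a ↔ a r = r := Iff.rfl

/-- `r ↦ r⁻¹ a(r)`, a homomorphism as `R` is commutative -/
def commHom (a : MulAut R) : R →* R where
  toFun r := r⁻¹ * a r
  map_one' := by simp
  map_mul' x y := by
    rw [map_mul, mul_inv, mul_mul_mul_comm]

theorem commHom_apply (a : MulAut R) (r : R) : commHom a r = r⁻¹ * a r := rfl

theorem apply_eq_mul_commHom (a : MulAut R) (r : R) : a r = r * commHom a r := by
  rw [commHom_apply, mul_inv_cancel_left]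

theorem commHom_ker (a : MulAut R) : (commHom a).ker = fixedSub a := by
  ext r
  rw [MonoidHom.mem_ker, commHom_apply, mem_fixedSub, inv_mul_eq_one, eq_comm]

theorem commHom_eq_one_iff {a : MulAut R} {r : R} : commHom a r = 1 ↔ r ∈ fixedSub a := by
  rw [← commHom_ker, MonoidHom.mem_ker]

/-- `[R, a]` -/
def commSub (a : MulAut R) : Subgroup R := (commHom a).range

theorem commHom_mem_commSub (a : MulAut R) (r : R) : commHom a r ∈ commSub a := ⟨r, rfl⟩

/-- a generalized transvection: nontrivial, fixed points of index `p`, and `[R, a]` fixed by `a` -/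
structure IsTransv (p : ℕ) (a : MulAut R) : Prop where
  ne_one : a ≠ 1
  index : (fixedSub a).index = p
  le : commSub a ≤ fixedSub a

namespace IsTransv

variable {p : ℕ} {a : MulAut R}

theorem card_commSub (h : IsTransv p a) : Nat.card (commSub a) = p := by
  unfold commSub
  rw [← Subgroup.index_ker, commHom_ker, h.index]

theorem apply_commHom (h : IsTransv p a) (r : R) : a (commHom a r) = commHom a r :=
  h.le (commHom_mem_commSub a r)

theorem pow_apply (h : IsTransv p a) (k : ℕ) (r : R) : (a ^ k) r = r * (commHom a r) ^ k := by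
  induction k with
  | zero => simp
  | succ k ih =>
    rw [pow_succ', MulAut.mul_apply, ih, map_mul, map_pow, h.apply_commHom,
      apply_eq_mul_commHom a r, pow_succ', mul_assoc]

theorem commHom_pow [hp : Fact p.Prime] (h : IsTransv p a) (r : R) : (commHom a r) ^ p = 1 := by
  have h1 : (⟨commHom a r, commHom_mem_commSub a r⟩ : commSub a) ^ Nat.card (commSub a) = 1 := by
    haveI : Finite (commSub a) :=
      Nat.finite_of_card_ne_zero (by rw [h.card_commSub]; exact hp.out.ne_zero)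
    exact pow_card_eq_one'
  rw [h.card_commSub] at h1
  have h2 := congrArg Subtype.val h1
  rwa [Subgroup.coe_pow, Subgroup.coe_one] at h2

theorem pow_prime [hp : Fact p.Prime] (h : IsTransv p a) : a ^ p = 1 := by
  apply MulEquiv.ext
  intro r
  rw [h.pow_apply, h.commHom_pow, mul_one, MulAut.one_apply]

theorem orderOf_eq [hp : Fact p.Prime] (h : IsTransv p a) : orderOf a = p :=
  orderOf_eq_prime h.pow_prime h.ne_one

theorem commHom_pow_eq (h : IsTransv p a) (k : ℕ) (r : R) :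
    commHom (a ^ k) r = (commHom a r) ^ k := by
  rw [commHom_apply, h.pow_apply, inv_mul_cancel_left]

theorem fixedSub_le_pow (a : MulAut R) (k : ℕ) : fixedSub a ≤ fixedSub (a ^ k) := by
  intro r hr
  rw [mem_fixedSub] at hr ⊢
  induction k with
  | zero => simp
  | succ k ih => rw [pow_succ', MulAut.mul_apply, ih, hr]

theorem commSub_pow_le (h : IsTransv p a) (k : ℕ) : commSub (a ^ k) ≤ commSub a := by
  rintro _ ⟨r, rfl⟩
  rw [h.commHom_pow_eq]
  exact Subgroup.pow_mem _ (commHom_mem_commSub a r) k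

end IsTransv

theorem commHom_conj (g a : MulAut R) (r : R) :
    commHom (g * a * g⁻¹) r = g (commHom a (g⁻¹ r)) := by
  rw [commHom_apply, commHom_apply, map_mul, map_inv, MulAut.apply_inv_self]
  rfl

theorem fixedSub_conj (g a : MulAut R) :
    fixedSub (g * a * g⁻¹) = (fixedSub a).map g.toMonoidHom := by
  ext r
  rw [mem_fixedSub, Subgroup.mem_map]
  constructor
  · intro h
    refine ⟨g⁻¹ r, ?_, MulAut.apply_inv_self R g r⟩
    rw [mem_fixedSub]
    have h2 : g (a (g⁻¹ r)) = r := h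
    apply g.injective
    rw [h2, MulAut.apply_inv_self]
  · rintro ⟨x, hx, rfl⟩
    rw [mem_fixedSub] at hx
    show g (a (g⁻¹ (g x))) = g x
    rw [MulAut.inv_apply_self, hx]

theorem commSub_conj (g a : MulAut R) :
    commSub (g * a * g⁻¹) = (commSub a).map g.toMonoidHom := by
  ext r
  constructor
  · rintro ⟨x, rfl⟩
    rw [commHom_conj]
    exact ⟨_, commHom_mem_commSub a _, rfl⟩
  · rintro ⟨_, ⟨x, rfl⟩, rfl⟩
    refine ⟨g x, ?_⟩
    rw [commHom_conj, MulAut.inv_apply_self]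
    rfl

theorem IsTransv.conj {p : ℕ} {a : MulAut R} (h : IsTransv p a) (g : MulAut R) :
    IsTransv p (g * a * g⁻¹) := by
  refine ⟨fun h1 => h.ne_one ?_, ?_, ?_⟩
  · have : a = g⁻¹ * (g * a * g⁻¹) * g := by group
    rw [this, h1]; group
  · rw [fixedSub_conj]
    rw [Subgroup.index_map_of_bijective (f := g.toMonoidHom) g.bijective]
    exact h.index
  · rw [fixedSub_conj, commSub_conj]
    exact Subgroup.map_mono h.le

theorem mem_presSub_of_forall {G : Type*} [Group G] [Finite G] {L : Subgroup G} {α : MulAut G}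
    (h : ∀ x ∈ L, α x ∈ L) : α ∈ presSub L := by
  intro x
  refine ⟨fun hx => ?_, h x⟩
  have hinj : Function.Injective (fun y : L => (⟨α y, h y y.2⟩ : L)) := by
    intro y y' hyy
    exact Subtype.ext (α.injective (congrArg Subtype.val hyy))
  obtain ⟨y, hy⟩ := (Finite.injective_iff_surjective.1 hinj) ⟨α x, hx⟩
  have : (y : G) = x := α.injective (congrArg Subtype.val hy)
  rw [← this]; exact y.2

theorem mem_stepStab_of_forall {G : Type*} [Group G] [Finite G] {L U : Subgroup G} {α : MulAut G}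
    (hL : ∀ x ∈ L, α x ∈ L) (hU : ∀ x ∈ U, α x ∈ U) (h : ∀ x ∈ U, x⁻¹ * α x ∈ L) :
    α ∈ stepStab L U :=
  ⟨mem_presSub_of_forall hL, mem_presSub_of_forall hU, h⟩

/-- two transvections `a`, `b` with `[R, a] ≤ C_R(b)` generate a `p`-group -/
theorem isPGroup_closure_pair [Finite R] {p : ℕ} [hp : Fact p.Prime] (hR : IsPGroup p R)
    {a b : MulAut R} (ha : IsTransv p a) (hb : IsTransv p b) (h : commSub a ≤ fixedSub b) :
    IsPGroup p (Subgroup.closure ({a, b} : Set (MulAut R))) := by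
  obtain ⟨n, hn⟩ := IsPGroup.iff_card.1 hR
  have hfa : ∀ x ∈ fixedSub b, a x ∈ fixedSub b := by
    intro x hx
    rw [apply_eq_mul_commHom]
    exact Subgroup.mul_mem _ hx (h (commHom_mem_commSub a x))
  have hfb : ∀ x ∈ fixedSub b, b x = x := fun x hx => hx
  have haS : a ∈ chainStab (![⊥, commSub a, fixedSub b, ⊤] : Fin 4 → Subgroup R) := by
    refine Subgroup.mem_iInf.2 (fun i => ?_)
    fin_cases i
    · show a ∈ stepStab ⊥ (commSub a)
      refine mem_stepStab_of_forall (fun x hx => ?_) (fun x hx => ?_) (fun x hx => ?_)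
      · rw [Subgroup.mem_bot] at hx ⊢; rw [hx, map_one]
      · rw [ha.le hx]; exact hx
      · rw [ha.le hx, inv_mul_cancel]; exact Subgroup.one_mem _
    · show a ∈ stepStab (commSub a) (fixedSub b)
      refine mem_stepStab_of_forall (fun x hx => ?_) hfa (fun x _ => commHom_mem_commSub a x)
      rw [ha.le hx]; exact hx
    · show a ∈ stepStab (fixedSub b) ⊤
      exact mem_stepStab_of_forall hfa (fun x _ => Subgroup.mem_top _)
        (fun x _ => h (commHom_mem_commSub a x))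
  have hbS : b ∈ chainStab (![⊥, commSub a, fixedSub b, ⊤] : Fin 4 → Subgroup R) := by
    refine Subgroup.mem_iInf.2 (fun i => ?_)
    fin_cases i
    · show b ∈ stepStab ⊥ (commSub a)
      refine mem_stepStab_of_forall (fun x hx => ?_) (fun x hx => ?_) (fun x hx => ?_)
      · rw [Subgroup.mem_bot] at hx ⊢; rw [hx, map_one]
      · rw [hfb x (h hx)]; exact hx
      · rw [hfb x (h hx), inv_mul_cancel]; exact Subgroup.one_mem _
    · show b ∈ stepStab (commSub a) (fixedSub b)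
      refine mem_stepStab_of_forall (fun x hx => ?_) (fun x hx => ?_) (fun x hx => ?_)
      · rw [hfb x (h hx)]; exact hx
      · rw [hfb x hx]; exact hx
      · rw [hfb x hx, inv_mul_cancel]; exact Subgroup.one_mem _
    · show b ∈ stepStab (fixedSub b) ⊤
      exact mem_stepStab_of_forall (fun x hx => by rw [hfb x hx]; exact hx)
        (fun x _ => Subgroup.mem_top _) (fun x _ => hb.le (commHom_mem_commSub b x))
  have hle : Subgroup.closure ({a, b} : Set (MulAut R)) ≤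
      chainStab (![⊥, commSub a, fixedSub b, ⊤] : Fin 4 → Subgroup R) := by
    rw [Subgroup.closure_le]
    rintro x (rfl | rfl)
    · exact haS
    · exact hbS
  intro γ
  refine ⟨n * 3, Subtype.ext ?_⟩
  have := chainStab_pow_eq_one (N := (![⊥, commSub a, fixedSub b, ⊤] : Fin 4 → Subgroup R))
    rfl rfl (hle γ.2)
  rw [hn, ← pow_mul] at this
  rw [Subgroup.coe_pow, Subgroup.coe_one]
  exact this

/-- in a group of automorphisms whose `p`-subgroups have order at most `p`, two transvections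
`a`, `b` with `[R, a] ≤ C_R(b)` generate the same subgroup -/
theorem mem_zpowers_of_commSub_le [Finite R] {p : ℕ} [hp : Fact p.Prime] (hR : IsPGroup p R)
    {G : Subgroup (MulAut R)}
    (hG : ∀ Q : Subgroup (MulAut R), Q ≤ G → IsPGroup p Q → Nat.card Q ≤ p)
    {a b : MulAut R} (ha : IsTransv p a) (hb : IsTransv p b) (haG : a ∈ G) (hbG : b ∈ G)
    (h : commSub a ≤ fixedSub b) : b ∈ Subgroup.zpowers a := by
  have hQ := isPGroup_closure_pair hR ha hb h
  have hQG : Subgroup.closure ({a, b} : Set (MulAut R)) ≤ G := by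
    rw [Subgroup.closure_le]
    rintro x (rfl | rfl)
    · exact haG
    · exact hbG
  have hcard := hG _ hQG hQ
  have hle : Subgroup.zpowers a ≤ Subgroup.closure ({a, b} : Set (MulAut R)) :=
    (Subgroup.zpowers_le).2 (Subgroup.subset_closure (Set.mem_insert a _))
  have hca : Nat.card (Subgroup.zpowers a) = p := by rw [Nat.card_zpowers, ha.orderOf_eq]
  have heq := Subgroup.eq_of_le_of_card_ge hle (by rw [hca]; exact hcard)
  rw [heq]
  exact Subgroup.subset_closure (Set.mem_insert_of_mem a rfl)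

theorem zpowers_eq_of_mem {p : ℕ} [hp : Fact p.Prime] [Finite R] {a b : MulAut R}
    (ha : IsTransv p a) (hb : IsTransv p b) (h : b ∈ Subgroup.zpowers a) :
    Subgroup.zpowers b = Subgroup.zpowers a := by
  apply Subgroup.eq_of_le_of_card_ge ((Subgroup.zpowers_le).2 h)
  rw [Nat.card_zpowers, Nat.card_zpowers, ha.orderOf_eq, hb.orderOf_eq]

theorem le_of_prime_card {p : ℕ} [hp : Fact p.Prime] {K H : Subgroup R} (hK : Nat.card K = p)
    {x : R} (hxK : x ∈ K) (hx1 : x ≠ 1) (hxH : x ∈ H) : K ≤ H := by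
  have htop : Subgroup.zpowers (⟨x, hxK⟩ : K) = ⊤ :=
    zpowers_eq_top_of_prime_card hK (fun h => hx1 (congrArg Subtype.val h))
  intro y hy
  have : (⟨y, hy⟩ : K) ∈ Subgroup.zpowers (⟨x, hxK⟩ : K) := by rw [htop]; exact Subgroup.mem_top _
  obtain ⟨k, hk⟩ := Subgroup.mem_zpowers_iff.1 this
  have h2 : x ^ k = y := by
    have h3 := congrArg Subtype.val hk
    rwa [Subgroup.coe_zpow] at h3
  rw [← h2]
  exact Subgroup.zpow_mem _ hxH k

theorem exists_pow_eq_of_prime_card [Finite R] {p : ℕ} [hp : Fact p.Prime] {K : Subgroup R}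
    (hK : Nat.card K = p) {d y : R} (hd : d ∈ K) (hd1 : d ≠ 1) (hy : y ∈ K) :
    ∃ s : ℕ, d ^ s = y := by
  have h1 : K ≤ Subgroup.zpowers d := le_of_prime_card hK hd hd1 (Subgroup.mem_zpowers d)
  exact (Submonoid.mem_powers_iff _ _).1 (mem_powers_iff_mem_zpowers.2 (h1 hy))

theorem exists_ne_one_of_prime_card {p : ℕ} [hp : Fact p.Prime] {K : Subgroup R}
    (hK : Nat.card K = p) : ∃ x ∈ K, x ≠ 1 := by
  have hne : K ≠ ⊥ := by
    intro h
    rw [h, Subgroup.card_bot] at hK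
    exact hp.out.one_lt.ne hK
  obtain ⟨x, hx⟩ := (Subgroup.ne_bot_iff_exists_ne_one).1 hne
  exact ⟨x, x.2, fun h => hx (Subtype.ext h)⟩

section Pair

variable [Finite R] {p : ℕ} [hp : Fact p.Prime] (hR : IsPGroup p R) {G : Subgroup (MulAut R)}
  (hG : ∀ Q : Subgroup (MulAut R), Q ≤ G → IsPGroup p Q → Nat.card Q ≤ p)

include hR hG

theorem commSub_inf_fixedSub_eq_bot {a b : MulAut R} (ha : IsTransv p a) (hb : IsTransv p b)
    (haG : a ∈ G) (hbG : b ∈ G) (hne : b ∉ Subgroup.zpowers a) :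
    commSub a ⊓ fixedSub b = ⊥ := by
  rw [Subgroup.eq_bot_iff_forall]
  intro x hx
  by_contra hx1
  exact hne (mem_zpowers_of_commSub_le hR hG ha hb haG hbG
    (le_of_prime_card ha.card_commSub hx.1 hx1 hx.2))

omit hR hG in
theorem not_mem_zpowers_symm {a b : MulAut R} (ha : IsTransv p a) (hb : IsTransv p b)
    (hne : b ∉ Subgroup.zpowers a) : a ∉ Subgroup.zpowers b := by
  intro h
  have := zpowers_eq_of_mem hb ha h
  exact hne (this ▸ Subgroup.mem_zpowers b)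

/-- any third Sylow subgroup is conjugate to the first under a power of the second -/
theorem exists_conj_mem_zpowers {a b c : MulAut R} (ha : IsTransv p a) (hb : IsTransv p b)
    (hc : IsTransv p c) (haG : a ∈ G) (hbG : b ∈ G) (hcG : c ∈ G)
    (hab : b ∉ Subgroup.zpowers a) (hbc : c ∉ Subgroup.zpowers b) :
    ∃ s : ℕ, c ∈ Subgroup.zpowers (b ^ s * a * (b ^ s)⁻¹) := by
  obtain ⟨ℓ, hℓ, hℓ1⟩ := exists_ne_one_of_prime_card ha.card_commSub
  have h1 := commSub_inf_fixedSub_eq_bot hR hG ha hb haG hbG hab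
  have h2 := commSub_inf_fixedSub_eq_bot hR hG hb hc hbG hcG hbc
  have hm1 : commHom b ℓ ≠ 1 := by
    intro h
    have : ℓ ∈ commSub a ⊓ fixedSub b := ⟨hℓ, commHom_eq_one_iff.1 h⟩
    rw [h1, Subgroup.mem_bot] at this
    exact hℓ1 this
  have hd1 : commHom c (commHom b ℓ) ≠ 1 := by
    intro h
    have : commHom b ℓ ∈ commSub b ⊓ fixedSub c :=
      ⟨commHom_mem_commSub b ℓ, commHom_eq_one_iff.1 h⟩
    rw [h2, Subgroup.mem_bot] at this
    exact hm1 this
  obtain ⟨s, hs⟩ := exists_pow_eq_of_prime_card hc.card_commSub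
    (commHom_mem_commSub c (commHom b ℓ)) hd1
    (Subgroup.inv_mem _ (commHom_mem_commSub c ℓ))
  refine ⟨s, ?_⟩
  have hℓ' : (b ^ s) ℓ ∈ fixedSub c := by
    rw [← commHom_eq_one_iff, hb.pow_apply, map_mul, map_pow, hs, mul_inv_cancel]
  have hℓ'1 : (b ^ s) ℓ ≠ 1 := by
    intro h
    apply hℓ1
    have := (b ^ s).injective (h.trans (map_one (b ^ s)).symm)
    exact this
  have hℓ'mem : (b ^ s) ℓ ∈ commSub (b ^ s * a * (b ^ s)⁻¹) := by
    rw [commSub_conj]; exact ⟨ℓ, hℓ, rfl⟩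
  have ha' := ha.conj (b ^ s)
  have ha'G : b ^ s * a * (b ^ s)⁻¹ ∈ G :=
    G.mul_mem (G.mul_mem (G.pow_mem hbG s) haG) (G.inv_mem (G.pow_mem hbG s))
  exact mem_zpowers_of_commSub_le hR hG ha' hc ha'G hcG
    (le_of_prime_card ha'.card_commSub hℓ'mem hℓ'1 hℓ')

/-- decomposition `R = [R,a] [R,b] (C_R(a) ∩ C_R(b))` -/
theorem exists_decomp {a b : MulAut R} (ha : IsTransv p a) (hb : IsTransv p b)
    (haG : a ∈ G) (hbG : b ∈ G) (hab : b ∉ Subgroup.zpowers a) (r : R) :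
    ∃ ℓ ∈ commSub a, ∃ m ∈ commSub b, ∃ w ∈ fixedSub a ⊓ fixedSub b, r = ℓ * m * w := by
  have hba := not_mem_zpowers_symm ha hb hab
  have h1 := commSub_inf_fixedSub_eq_bot hR hG ha hb haG hbG hab
  have h2 := commSub_inf_fixedSub_eq_bot hR hG hb ha hbG haG hba
  obtain ⟨ℓ₀, hℓ₀, hℓ₀1⟩ := exists_ne_one_of_prime_card ha.card_commSub
  obtain ⟨m₀, hm₀, hm₀1⟩ := exists_ne_one_of_prime_card hb.card_commSub
  have hd1 : commHom a m₀ ≠ 1 := by
    intro h
    have : m₀ ∈ commSub b ⊓ fixedSub a := ⟨hm₀, commHom_eq_one_iff.1 h⟩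
    rw [h2, Subgroup.mem_bot] at this
    exact hm₀1 this
  have hd2 : commHom b ℓ₀ ≠ 1 := by
    intro h
    have : ℓ₀ ∈ commSub a ⊓ fixedSub b := ⟨hℓ₀, commHom_eq_one_iff.1 h⟩
    rw [h1, Subgroup.mem_bot] at this
    exact hℓ₀1 this
  obtain ⟨s, hs⟩ := exists_pow_eq_of_prime_card ha.card_commSub
    (commHom_mem_commSub a m₀) hd1 (commHom_mem_commSub a r)
  have hm : r * (m₀ ^ s)⁻¹ ∈ fixedSub a := by
    rw [← commHom_eq_one_iff, map_mul, map_inv, map_pow, hs, mul_inv_cancel]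
  obtain ⟨t, ht⟩ := exists_pow_eq_of_prime_card hb.card_commSub
    (commHom_mem_commSub b ℓ₀) hd2 (commHom_mem_commSub b (r * (m₀ ^ s)⁻¹))
  have hw2 : r * (m₀ ^ s)⁻¹ * (ℓ₀ ^ t)⁻¹ ∈ fixedSub b := by
    rw [← commHom_eq_one_iff, map_mul (commHom b) (r * (m₀ ^ s)⁻¹), map_inv (commHom b) (ℓ₀ ^ t),
      map_pow, ht, mul_inv_cancel]
  have hw1 : r * (m₀ ^ s)⁻¹ * (ℓ₀ ^ t)⁻¹ ∈ fixedSub a :=
    Subgroup.mul_mem _ hm (Subgroup.inv_mem _ (Subgroup.pow_mem _ (ha.le hℓ₀) t))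
  refine ⟨ℓ₀ ^ t, Subgroup.pow_mem _ hℓ₀ t, m₀ ^ s, Subgroup.pow_mem _ hm₀ s, _, ⟨hw1, hw2⟩, ?_⟩
  have e : ℓ₀ ^ t * m₀ ^ s * (r * (m₀ ^ s)⁻¹ * (ℓ₀ ^ t)⁻¹) =
      r * (m₀ ^ s * (m₀ ^ s)⁻¹) * (ℓ₀ ^ t * (ℓ₀ ^ t)⁻¹) := by
    simp only [mul_comm, mul_assoc, mul_left_comm]
  rw [e, mul_inv_cancel, mul_inv_cancel, mul_one, mul_one]

theorem commSub_sup_inf_fixedSub_eq_bot {a b : MulAut R} (ha : IsTransv p a) (hb : IsTransv p b)
    (haG : a ∈ G) (hbG : b ∈ G) (hab : b ∉ Subgroup.zpowers a) :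
    (commSub a ⊔ commSub b) ⊓ (fixedSub a ⊓ fixedSub b) = ⊥ := by
  have hba := not_mem_zpowers_symm ha hb hab
  have h1 := commSub_inf_fixedSub_eq_bot hR hG ha hb haG hbG hab
  have h2 := commSub_inf_fixedSub_eq_bot hR hG hb ha hbG haG hba
  rw [Subgroup.eq_bot_iff_forall]
  rintro x ⟨hxV, hxa, hxb⟩
  obtain ⟨ℓ, hℓ, m, hm, rfl⟩ := Subgroup.mem_sup.1 hxV
  have hm1 : m = 1 := by
    have : m ∈ commSub b ⊓ fixedSub a := by
      refine ⟨hm, ?_⟩
      have h3 : ℓ⁻¹ * (ℓ * m) ∈ fixedSub a :=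
        Subgroup.mul_mem _ (Subgroup.inv_mem _ (ha.le hℓ)) hxa
      rwa [inv_mul_cancel_left] at h3
    rwa [h2, Subgroup.mem_bot] at this
  have hℓ1 : ℓ = 1 := by
    have : ℓ ∈ commSub a ⊓ fixedSub b := by
      refine ⟨hℓ, ?_⟩
      have h3 : (ℓ * m) * m⁻¹ ∈ fixedSub b :=
        Subgroup.mul_mem _ hxb (Subgroup.inv_mem _ (hb.le hm))
      rwa [mul_inv_cancel_right] at h3
    rwa [h1, Subgroup.mem_bot] at this
  rw [hm1, hℓ1, mul_one]

theorem fixedSub_eq_sup {a b : MulAut R} (ha : IsTransv p a) (hb : IsTransv p b)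
    (haG : a ∈ G) (hbG : b ∈ G) (hab : b ∉ Subgroup.zpowers a) :
    fixedSub a = commSub a ⊔ (fixedSub a ⊓ fixedSub b) := by
  have hba := not_mem_zpowers_symm ha hb hab
  have h2 := commSub_inf_fixedSub_eq_bot hR hG hb ha hbG haG hba
  apply le_antisymm
  · intro x hx
    obtain ⟨ℓ, hℓ, m, hm, w, hw, rfl⟩ := exists_decomp hR hG ha hb haG hbG hab x
    have hm1 : m = 1 := by
      have : m ∈ commSub b ⊓ fixedSub a := by
        refine ⟨hm, ?_⟩
        have h3 : ℓ⁻¹ * (ℓ * m * w) * w⁻¹ ∈ fixedSub a :=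
          Subgroup.mul_mem _ (Subgroup.mul_mem _ (Subgroup.inv_mem _ (ha.le hℓ)) hx)
            (Subgroup.inv_mem _ hw.1)
        have e : ℓ⁻¹ * (ℓ * m * w) * w⁻¹ = m := by group
        rwa [e] at h3
      rwa [h2, Subgroup.mem_bot] at this
    rw [hm1, mul_one]
    exact Subgroup.mul_mem _ (Subgroup.mem_sup_left hℓ) (Subgroup.mem_sup_right hw)
  · exact sup_le ha.le inf_le_left

omit hR hG in
theorem fixedSub_le_of_mem_zpowers {a c : MulAut R} (hc : c ∈ Subgroup.zpowers a) :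
    fixedSub a ≤ fixedSub c := by
  obtain ⟨k, rfl⟩ := (Submonoid.mem_powers_iff _ _).1 (mem_powers_iff_mem_zpowers.2 hc)
  exact IsTransv.fixedSub_le_pow a k

omit hR hG in
theorem commSub_le_of_mem_zpowers {a c : MulAut R} (ha : IsTransv p a)
    (hc : c ∈ Subgroup.zpowers a) : commSub c ≤ commSub a := by
  obtain ⟨k, rfl⟩ := (Submonoid.mem_powers_iff _ _).1 (mem_powers_iff_mem_zpowers.2 hc)
  exact ha.commSub_pow_le k

/-- every transvection of `G` centralizes `C_R(a) ∩ C_R(b)` and has its commutator in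
`[R,a][R,b]` -/
theorem transv_structure {a b c : MulAut R} (ha : IsTransv p a) (hb : IsTransv p b)
    (hc : IsTransv p c) (haG : a ∈ G) (hbG : b ∈ G) (hcG : c ∈ G)
    (hab : b ∉ Subgroup.zpowers a) :
    fixedSub a ⊓ fixedSub b ≤ fixedSub c ∧ commSub c ≤ commSub a ⊔ commSub b := by
  by_cases hca : c ∈ Subgroup.zpowers a
  · exact ⟨inf_le_left.trans (fixedSub_le_of_mem_zpowers hca),
      (commSub_le_of_mem_zpowers ha hca).trans le_sup_left⟩
  by_cases hcb : c ∈ Subgroup.zpowers b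
  · exact ⟨inf_le_right.trans (fixedSub_le_of_mem_zpowers hcb),
      (commSub_le_of_mem_zpowers hb hcb).trans le_sup_right⟩
  obtain ⟨s, hs⟩ := exists_conj_mem_zpowers hR hG ha hb hc haG hbG hcG hab hcb
  have ha' := ha.conj (b ^ s)
  constructor
  · refine le_trans ?_ (fixedSub_le_of_mem_zpowers hs)
    rw [fixedSub_conj]
    rintro w ⟨hwa, hwb⟩
    refine ⟨w, hwa, ?_⟩
    exact IsTransv.fixedSub_le_pow b s hwb
  · refine (commSub_le_of_mem_zpowers ha' hs).trans ?_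
    rw [commSub_conj]
    rintro _ ⟨ℓ, hℓ, rfl⟩
    show (b ^ s) ℓ ∈ _
    rw [hb.pow_apply]
    exact Subgroup.mul_mem _ (Subgroup.mem_sup_left hℓ)
      (Subgroup.mem_sup_right (Subgroup.pow_mem _ (commHom_mem_commSub b ℓ) s))

/-- the subgroup generated by transvections of `G` centralizes `C_R(a) ∩ C_R(b)` and moves
elements only by `[R,a][R,b]` -/
theorem closure_transv_structure {a b : MulAut R} (ha : IsTransv p a) (hb : IsTransv p b)
    (haG : a ∈ G) (hbG : b ∈ G) (hab : b ∉ Subgroup.zpowers a) {γ : MulAut R}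
    (hγ : γ ∈ Subgroup.closure {c : MulAut R | c ∈ G ∧ IsTransv p c}) :
    (∀ w ∈ fixedSub a ⊓ fixedSub b, γ w = w) ∧ ∀ r : R, r⁻¹ * γ r ∈ commSub a ⊔ commSub b := by
  induction hγ using Subgroup.closure_induction with
  | mem c hc =>
    obtain ⟨h1, h2⟩ := transv_structure hR hG ha hb hc.2 haG hbG hc.1 hab
    exact ⟨fun w hw => h1 hw, fun r => h2 (commHom_mem_commSub c r)⟩
  | one => exact ⟨fun w _ => rfl, fun r => by simp⟩
  | mul x y _ _ hx hy =>
    refine ⟨fun w hw => ?_, fun r => ?_⟩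
    · rw [MulAut.mul_apply, hy.1 w hw, hx.1 w hw]
    · have e : r⁻¹ * (x * y) r = (r⁻¹ * y r) * ((y r)⁻¹ * x (y r)) := by
        rw [MulAut.mul_apply]; group
      rw [e]
      exact Subgroup.mul_mem _ (hy.2 r) (hx.2 (y r))
  | inv x _ hx =>
    refine ⟨fun w hw => ?_, fun r => ?_⟩
    · have := hx.1 w hw
      rw [← this, MulAut.inv_apply_self, this]
    · have h1 := hx.2 (x⁻¹ r)
      rw [MulAut.apply_inv_self] at h1
      have h2 := Subgroup.inv_mem _ h1
      rwa [mul_inv_rev, inv_inv] at h2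

omit hR hG in
theorem pow_prime_of_mem {K : Subgroup R} (hK : Nat.card K = p) {x : R} (hx : x ∈ K) :
    x ^ p = 1 := by
  have h1 : (⟨x, hx⟩ : K) ^ Nat.card K = 1 := pow_card_eq_one'
  rw [hK] at h1
  have h2 := congrArg Subtype.val h1
  rwa [Subgroup.coe_pow, Subgroup.coe_one] at h2

/-- the element of `⟨a, b⟩` inverting `[R,a][R,b]` and centralizing `C_R(a) ∩ C_R(b)` -/
theorem exists_inverting {a b : MulAut R} (ha : IsTransv p a) (hb : IsTransv p b)
    (haG : a ∈ G) (hbG : b ∈ G) (hab : b ∉ Subgroup.zpowers a) :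
    ∃ h ∈ Subgroup.closure ({a, b} : Set (MulAut R)),
      (∀ w ∈ fixedSub a ⊓ fixedSub b, h w = w) ∧
      (∀ v ∈ commSub a ⊔ commSub b, h v = v⁻¹) ∧ h * a = a * h := by
  have hba := not_mem_zpowers_symm ha hb hab
  have h1 := commSub_inf_fixedSub_eq_bot hR hG ha hb haG hbG hab
  have h2 := commSub_inf_fixedSub_eq_bot hR hG hb ha hbG haG hba
  obtain ⟨ℓ₀, hℓ₀, hℓ₀1⟩ := exists_ne_one_of_prime_card ha.card_commSub
  obtain ⟨m₀, hm₀, hm₀1⟩ := exists_ne_one_of_prime_card hb.card_commSub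
  have hd1 : commHom a m₀ ≠ 1 := by
    intro h
    have : m₀ ∈ commSub b ⊓ fixedSub a := ⟨hm₀, commHom_eq_one_iff.1 h⟩
    rw [h2, Subgroup.mem_bot] at this
    exact hm₀1 this
  have hd2 : commHom b ℓ₀ ≠ 1 := by
    intro h
    have : ℓ₀ ∈ commSub a ⊓ fixedSub b := ⟨hℓ₀, commHom_eq_one_iff.1 h⟩
    rw [h1, Subgroup.mem_bot] at this
    exact hℓ₀1 this
  obtain ⟨i, hi⟩ := exists_pow_eq_of_prime_card ha.card_commSub hℓ₀ hℓ₀1
    (commHom_mem_commSub a m₀)
  obtain ⟨j, hj⟩ := exists_pow_eq_of_prime_card hb.card_commSub hm₀ hm₀1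
    (commHom_mem_commSub b ℓ₀)
  have hℓp : ℓ₀ ^ p = 1 := pow_prime_of_mem ha.card_commSub hℓ₀
  have hmp : m₀ ^ p = 1 := pow_prime_of_mem hb.card_commSub hm₀
  have hi' : ¬ p ∣ i := by
    rintro ⟨q, rfl⟩
    rw [pow_mul, hℓp, one_pow] at hi
    exact hd1 hi.symm
  have hj' : ¬ p ∣ j := by
    rintro ⟨q, rfl⟩
    rw [pow_mul, hmp, one_pow] at hj
    exact hd2 hj.symm
  -- choose `t` with `p ∣ 1 + i * j * t`
  obtain ⟨t, q, ht⟩ : ∃ t q : ℕ, 1 + i * j * t = p * q := by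
    have hu : ((i * j : ℕ) : ZMod p) ≠ 0 := by
      rw [Ne, ZMod.natCast_eq_zero_iff]
      intro h
      rcases (Nat.Prime.dvd_mul hp.out).1 h with h | h
      · exact hi' h
      · exact hj' h
    have h3 : ((1 + i * j * ((-1 : ZMod p) * ((i * j : ℕ) : ZMod p)⁻¹).val : ℕ) : ZMod p) = 0 := by
      push_cast
      rw [ZMod.natCast_zmod_val]
      have h4 : ((i : ZMod p) * (j : ZMod p)) * ((i : ZMod p) * (j : ZMod p))⁻¹ = 1 := by
        apply mul_inv_cancel₀
        have := hu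
        push_cast at this
        exact this
      calc (1 : ZMod p) + (i : ZMod p) * (j : ZMod p) * (-1 * ((i : ZMod p) * (j : ZMod p))⁻¹)
          = 1 - ((i : ZMod p) * (j : ZMod p)) * ((i : ZMod p) * (j : ZMod p))⁻¹ := by ring
        _ = 0 := by rw [h4, sub_self]
    rw [ZMod.natCast_eq_zero_iff] at h3
    obtain ⟨q, hq⟩ := h3
    exact ⟨_, q, hq⟩
  have hℓe : ℓ₀ ^ (1 + i * j * t) = 1 := by rw [ht, pow_mul, hℓp, one_pow]
  have hme : m₀ ^ (1 + i * j * t) = 1 := by rw [ht, pow_mul, hmp, one_pow]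
  have a_ℓ : a ℓ₀ = ℓ₀ := ha.le hℓ₀
  have a_m : a m₀ = m₀ * ℓ₀ ^ i := by rw [apply_eq_mul_commHom, hi]
  have B_ℓ : (b ^ t) ℓ₀ = ℓ₀ * m₀ ^ (j * t) := by rw [hb.pow_apply, ← hj, ← pow_mul]
  have B_m : (b ^ t) m₀ = m₀ := IsTransv.fixedSub_le_pow b t (hb.le hm₀)
  have w_ℓ : (a * b ^ t * a) ℓ₀ = m₀ ^ (j * t) := by
    show a ((b ^ t) (a ℓ₀)) = _
    rw [a_ℓ, B_ℓ, map_mul, map_pow, a_ℓ, a_m, mul_pow, ← pow_mul]
    calc ℓ₀ * (m₀ ^ (j * t) * ℓ₀ ^ (i * (j * t)))
        = m₀ ^ (j * t) * ℓ₀ ^ (1 + i * j * t) := by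
          rw [pow_add, pow_one, mul_assoc i j t]
          simp only [mul_comm, mul_left_comm, mul_assoc]
      _ = m₀ ^ (j * t) := by rw [hℓe, mul_one]
  have w_m : (a * b ^ t * a) m₀ = ℓ₀ ^ i := by
    show a ((b ^ t) (a m₀)) = _
    rw [a_m, map_mul, map_pow, B_m, B_ℓ, mul_pow, ← pow_mul]
    have e : m₀ * (ℓ₀ ^ i * m₀ ^ (j * t * i)) = m₀ ^ (1 + i * j * t) * ℓ₀ ^ i := by
      rw [pow_add, pow_one]
      have : j * t * i = i * j * t := by ring
      rw [this]
      simp only [mul_comm, mul_left_comm, mul_assoc]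
    rw [e, hme, one_mul, map_pow, a_ℓ]
  have h_ℓ : ((a * b ^ t * a) * (a * b ^ t * a)) ℓ₀ = ℓ₀⁻¹ := by
    rw [MulAut.mul_apply, w_ℓ, map_pow, w_m, ← pow_mul]
    apply eq_inv_of_mul_eq_one_left
    rw [← pow_succ, ← hℓe]
    congr 1
    ring
  have h_m : ((a * b ^ t * a) * (a * b ^ t * a)) m₀ = m₀⁻¹ := by
    rw [MulAut.mul_apply, w_m, map_pow, w_ℓ, ← pow_mul]
    apply eq_inv_of_mul_eq_one_left
    rw [← pow_succ, ← hme]
    congr 1
    ring
  have hamem : a ∈ Subgroup.closure ({a, b} : Set (MulAut R)) :=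
    Subgroup.subset_closure (Set.mem_insert a _)
  have hbmem : b ∈ Subgroup.closure ({a, b} : Set (MulAut R)) :=
    Subgroup.subset_closure (Set.mem_insert_of_mem a rfl)
  have hwmem : a * b ^ t * a ∈ Subgroup.closure ({a, b} : Set (MulAut R)) :=
    Subgroup.mul_mem _ (Subgroup.mul_mem _ hamem (Subgroup.pow_mem _ hbmem t)) hamem
  have hV : ∀ v ∈ commSub a ⊔ commSub b, ((a * b ^ t * a) * (a * b ^ t * a)) v = v⁻¹ := by
    intro v hv
    obtain ⟨ℓ, hℓ, m, hm, rfl⟩ := Subgroup.mem_sup.1 hv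
    obtain ⟨x, rfl⟩ := exists_pow_eq_of_prime_card ha.card_commSub hℓ₀ hℓ₀1 hℓ
    obtain ⟨y, rfl⟩ := exists_pow_eq_of_prime_card hb.card_commSub hm₀ hm₀1 hm
    rw [map_mul, map_pow, map_pow, h_ℓ, h_m, mul_inv, inv_pow, inv_pow]
  have hW : ∀ w ∈ fixedSub a ⊓ fixedSub b, ((a * b ^ t * a) * (a * b ^ t * a)) w = w := by
    have hw1 : ∀ w ∈ fixedSub a ⊓ fixedSub b, (a * b ^ t * a) w = w := by
      intro w hw
      show a ((b ^ t) (a w)) = w
      rw [hw.1, IsTransv.fixedSub_le_pow b t hw.2, hw.1]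
    intro w hw
    rw [MulAut.mul_apply, hw1 w hw, hw1 w hw]
  refine ⟨(a * b ^ t * a) * (a * b ^ t * a), Subgroup.mul_mem _ hwmem hwmem, hW, hV, ?_⟩
  apply MulEquiv.ext
  intro r
  obtain ⟨ℓ, hℓ, m, hm, w, hw, rfl⟩ := exists_decomp hR hG ha hb haG hbG hab r
  have hv : ℓ * m ∈ commSub a ⊔ commSub b :=
    Subgroup.mul_mem _ (Subgroup.mem_sup_left hℓ) (Subgroup.mem_sup_right hm)
  have hav : a (ℓ * m) ∈ commSub a ⊔ commSub b := by
    rw [apply_eq_mul_commHom]
    exact Subgroup.mul_mem _ hv (Subgroup.mem_sup_left (commHom_mem_commSub a _))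
  obtain ⟨H, hH⟩ : ∃ H, H = (a * b ^ t * a) * (a * b ^ t * a) := ⟨_, rfl⟩
  rw [← hH] at hV hW ⊢
  show H (a (ℓ * m * w)) = a (H (ℓ * m * w))
  have e1 : H (a (ℓ * m * w)) = (a (ℓ * m))⁻¹ * w := by
    rw [map_mul a (ℓ * m) w, map_mul H, hV _ hav, hw.1, hW w hw]
  have e2 : a (H (ℓ * m * w)) = (a (ℓ * m))⁻¹ * w := by
    rw [map_mul H (ℓ * m) w, hV _ hv, hW w hw, map_mul a, map_inv, hw.1]
  rw [e1, e2]


omit hR hG in
theorem pow_prime_of_mem_sup {a b : MulAut R} (ha : IsTransv p a) (hb : IsTransv p b) {v : R}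
    (hv : v ∈ commSub a ⊔ commSub b) : v ^ p = 1 := by
  obtain ⟨ℓ, hℓ, m, hm, rfl⟩ := Subgroup.mem_sup.1 hv
  rw [mul_pow, pow_prime_of_mem ha.card_commSub hℓ, pow_prime_of_mem hb.card_commSub hm, one_mul]

/-- a transvection of `G` does not normalize the group generated by another one -/
theorem conj_not_mem_zpowers {a b : MulAut R} (ha : IsTransv p a) (hb : IsTransv p b)
    (haG : a ∈ G) (hbG : b ∈ G) (hab : b ∉ Subgroup.zpowers a) :
    a * b * a⁻¹ ∉ Subgroup.zpowers b := by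
  intro hmem
  have hba := not_mem_zpowers_symm ha hb hab
  have h1 := commSub_inf_fixedSub_eq_bot hR hG ha hb haG hbG hab
  have h2 := commSub_inf_fixedSub_eq_bot hR hG hb ha hbG haG hba
  obtain ⟨m₀, hm₀, hm₀1⟩ := exists_ne_one_of_prime_card hb.card_commSub
  have hle := commSub_le_of_mem_zpowers hb hmem
  rw [commSub_conj] at hle
  have h3 : a m₀ ∈ commSub b := hle ⟨m₀, hm₀, rfl⟩
  have h4 : commHom a m₀ ∈ commSub a ⊓ fixedSub b := by
    refine ⟨commHom_mem_commSub a m₀, hb.le ?_⟩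
    rw [commHom_apply]
    exact Subgroup.mul_mem _ (Subgroup.inv_mem _ hm₀) h3
  rw [h1, Subgroup.mem_bot] at h4
  have h5 : m₀ ∈ commSub b ⊓ fixedSub a := ⟨hm₀, commHom_eq_one_iff.1 h4⟩
  rw [h2, Subgroup.mem_bot] at h5
  exact hm₀1 h5

/-- Frattini argument: every element of `G` is a product of transvections of `G` and an element
normalizing `⟨a⟩` -/
theorem exists_frattini {a b : MulAut R} (ha : IsTransv p a) (hb : IsTransv p b)
    (haG : a ∈ G) (hbG : b ∈ G) (hab : b ∉ Subgroup.zpowers a) {α : MulAut R} (hα : α ∈ G) :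
    ∃ n ∈ Subgroup.closure {c : MulAut R | c ∈ G ∧ IsTransv p c},
      (n⁻¹ * α) * a * (n⁻¹ * α)⁻¹ ∈ Subgroup.zpowers a := by
  have hc := ha.conj α
  have hcG : α * a * α⁻¹ ∈ G := G.mul_mem (G.mul_mem hα haG) (G.inv_mem hα)
  by_cases hca : α * a * α⁻¹ ∈ Subgroup.zpowers a
  · refine ⟨1, Subgroup.one_mem _, ?_⟩
    rw [inv_one, one_mul]; exact hca
  -- find a transvection `b'` outside `⟨a⟩` with `c ∉ ⟨b'⟩`
  obtain ⟨b', hb', hb'G, hab', hcb'⟩ : ∃ b', IsTransv p b' ∧ b' ∈ G ∧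
      b' ∉ Subgroup.zpowers a ∧ α * a * α⁻¹ ∉ Subgroup.zpowers b' := by
    by_cases hcb : α * a * α⁻¹ ∈ Subgroup.zpowers b
    · refine ⟨a * b * a⁻¹, hb.conj a, G.mul_mem (G.mul_mem haG hbG) (G.inv_mem haG), ?_, ?_⟩
      · intro h
        apply hab
        have h1 : b = a⁻¹ * (a * b * a⁻¹) * a := by group
        rw [h1]
        exact Subgroup.mul_mem _ (Subgroup.mul_mem _ (Subgroup.inv_mem _ (Subgroup.mem_zpowers a)) h)
          (Subgroup.mem_zpowers a)
      · intro h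
        have e1 := zpowers_eq_of_mem hb hc hcb
        have e2 := zpowers_eq_of_mem (hb.conj a) hc h
        apply conj_not_mem_zpowers hR hG ha hb haG hbG hab
        rw [← e1, e2]
        exact Subgroup.mem_zpowers _
    · exact ⟨b, hb, hbG, hab, hcb⟩
  obtain ⟨s, hs⟩ := exists_conj_mem_zpowers hR hG ha hb' hc haG hb'G hcG hab' hcb'
  have hb'mem : b' ∈ Subgroup.closure {c : MulAut R | c ∈ G ∧ IsTransv p c} :=
    Subgroup.subset_closure ⟨hb'G, hb'⟩
  refine ⟨b' ^ s, Subgroup.pow_mem _ hb'mem s, ?_⟩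
  obtain ⟨k, hk⟩ := Subgroup.mem_zpowers_iff.1 hs
  have e : (b' ^ s)⁻¹ * α * a * ((b' ^ s)⁻¹ * α)⁻¹ = (b' ^ s)⁻¹ * (α * a * α⁻¹) * (b' ^ s) := by
    group
  rw [e, ← hk]
  have e2 : (b' ^ s)⁻¹ * (b' ^ s * a * (b' ^ s)⁻¹) ^ k * b' ^ s = a ^ k := by
    have e3 : (b' ^ s * a * (b' ^ s)⁻¹) ^ k = b' ^ s * a ^ k * (b' ^ s)⁻¹ := by
      have := map_zpow (MulAut.conj (b' ^ s)) a k
      simpa [MulAut.conj_apply] using this.symm
    rw [e3]; group
  rw [e2]
  exact Subgroup.zpow_mem _ (Subgroup.mem_zpowers a) k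

/-- `[R,a][R,b]` is invariant under `G` -/
theorem map_mem_sup {a b : MulAut R} (ha : IsTransv p a) (hb : IsTransv p b)
    (haG : a ∈ G) (hbG : b ∈ G) (hab : b ∉ Subgroup.zpowers a) {α : MulAut R} (hα : α ∈ G)
    {v : R} (hv : v ∈ commSub a ⊔ commSub b) : α v ∈ commSub a ⊔ commSub b := by
  obtain ⟨ℓ, hℓ, m, hm, rfl⟩ := Subgroup.mem_sup.1 hv
  rw [map_mul]
  have h1 : α ℓ ∈ commSub (α * a * α⁻¹) := by
    rw [commSub_conj]; exact ⟨ℓ, hℓ, rfl⟩
  have h2 : α m ∈ commSub (α * b * α⁻¹) := by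
    rw [commSub_conj]; exact ⟨m, hm, rfl⟩
  exact Subgroup.mul_mem _
    ((transv_structure hR hG ha hb (ha.conj α) haG hbG
      (G.mul_mem (G.mul_mem hα haG) (G.inv_mem hα)) hab).2 h1)
    ((transv_structure hR hG ha hb (hb.conj α) haG hbG
      (G.mul_mem (G.mul_mem hα hbG) (G.inv_mem hα)) hab).2 h2)

/-- `C_R(a) ∩ C_R(b)` is the largest `G`-invariant subgroup of `C_R(a)` -/
theorem map_mem_fixedSub_of_mem_inf {a b : MulAut R} (ha : IsTransv p a) (hb : IsTransv p b)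
    (haG : a ∈ G) (hbG : b ∈ G) (hab : b ∉ Subgroup.zpowers a) {α : MulAut R} (hα : α ∈ G)
    {w : R} (hw : w ∈ fixedSub a ⊓ fixedSub b) : α w ∈ fixedSub a := by
  have hc := ha.conj α⁻¹
  have hcG : α⁻¹ * a * α⁻¹⁻¹ ∈ G :=
    G.mul_mem (G.mul_mem (G.inv_mem hα) haG) (G.inv_mem (G.inv_mem hα))
  have h1 := (transv_structure hR hG ha hb hc haG hbG hcG hab).1 hw
  rw [mem_fixedSub] at h1 ⊢
  have h2 : α⁻¹ (a (α w)) = w := by
    have : (α⁻¹ * a * α⁻¹⁻¹) w = α⁻¹ (a (α w)) := by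
      rw [inv_inv]; rfl
    rw [← this]; exact h1
  have h3 := congrArg α h2
  rwa [MulAut.apply_inv_self] at h3

end Pair

end Transv

end Cfsg.Agent.Helper87
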