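import Mathlib

set_option autoImplicit false

namespace Cfsg.Agent.Helper87

section Char

variable {G : Type*} [Group G]

/-- invariant under all automorphisms -/
def IsChar (N : Subgroup G) : Prop := ∀ α : MulAut G, N.map α.toMonoidHom ≤ N

theorem IsChar.apply_mem {N : Subgroup G} (h : IsChar N) (α : MulAut G) {x : G} (hx : x ∈ N) :
    α x ∈ N := h α ⟨x, hx, rfl⟩

theorem isChar_bot : IsChar (⊥ : Subgroup G) := fun α => by rw [Subgroup.map_bot]

theorem isChar_top : IsChar (⊤ : Subgroup G) := fun _ => le_top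

theorem IsChar.sup {N M : Subgroup G} (hN : IsChar N) (hM : IsChar M) : IsChar (N ⊔ M) :=
  fun α => by rw [Subgroup.map_sup]; exact sup_le_sup (hN α) (hM α)

theorem IsChar.inf {N M : Subgroup G} (hN : IsChar N) (hM : IsChar M) : IsChar (N ⊓ M) :=
  fun α => (Subgroup.map_inf_le _ _ _).trans (inf_le_inf (hN α) (hM α))

/-- build a chain with cyclic steps from a step lemma -/
theorem exists_chain_of_step [Finite G] (good : Subgroup G → Prop)
    (hstep : ∀ N, good N → N ≠ ⊤ → ∃ N', good N' ∧ N < N' ∧ ∃ x, N' = N ⊔ Subgroup.zpowers x) :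
    ∀ (d : ℕ) (N : Subgroup G), good N → Nat.card G - Nat.card N = d →
      ∃ (m : ℕ) (c : Fin (m + 1) → Subgroup G), c 0 = N ∧ c (Fin.last m) = ⊤ ∧
        (∀ i, good (c i)) ∧
        ∀ i : Fin m, c i.castSucc ≤ c i.succ ∧
          ∃ x, c i.succ = c i.castSucc ⊔ Subgroup.zpowers x := by
  intro d
  induction d using Nat.strong_induction_on with
  | _ d ih =>
  intro N hN hd
  by_cases htop : N = ⊤
  · exact ⟨0, fun _ => N, rfl, htop, fun _ => hN, fun i => i.elim0⟩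
  · obtain ⟨N', hN', hlt, x, hx⟩ := hstep N hN htop
    have hcardlt : Nat.card N < Nat.card N' := by
      by_contra hge
      push Not at hge
      exact hlt.ne (Subgroup.eq_of_le_of_card_ge hlt.le hge)
    have hle : Nat.card N' ≤ Nat.card G := Subgroup.card_le_card_group N'
    obtain ⟨m, c', hc0, hclast, hcall, hcstep⟩ :=
      ih (Nat.card G - Nat.card N') (by omega) N' hN' rfl
    refine ⟨m + 1, Fin.cons N c', Fin.cons_zero _ _, ?_, ?_, ?_⟩
    · rw [← Fin.succ_last, Fin.cons_succ]; exact hclast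
    · intro i
      refine Fin.cases ?_ (fun j => ?_) i
      · rw [Fin.cons_zero]; exact hN
      · rw [Fin.cons_succ]; exact hcall j
    · intro i
      refine Fin.cases ?_ (fun j => ?_) i
      · rw [Fin.castSucc_zero, Fin.cons_zero, Fin.cons_succ, hc0]
        exact ⟨hlt.le, x, hx⟩
      · rw [Fin.castSucc_succ, Fin.cons_succ, Fin.cons_succ]
        exact hcstep j

end Char

section OmegaAgemo

variable (p : ℕ) (G : Type*) [CommGroup G]

/-- `Ω_k(G)`: elements of order dividing `p ^ k` -/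
def omegaSub (k : ℕ) : Subgroup G := (powMonoidHom (p ^ k) : G →* G).ker

/-- `℧^j(G)`: the `p ^ j`-th powers -/
def agemoSub (j : ℕ) : Subgroup G := (powMonoidHom (p ^ j) : G →* G).range

variable {p G}

theorem mem_omegaSub {k : ℕ} {x : G} : x ∈ omegaSub p G k ↔ x ^ p ^ k = 1 := MonoidHom.mem_ker

theorem mem_agemoSub {j : ℕ} {x : G} : x ∈ agemoSub p G j ↔ ∃ y : G, y ^ p ^ j = x :=
  MonoidHom.mem_range

theorem isChar_omegaSub (k : ℕ) : IsChar (omegaSub p G k) := by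
  rintro α _ ⟨x, hx, rfl⟩
  rw [SetLike.mem_coe, mem_omegaSub] at hx
  rw [mem_omegaSub]
  show (α x) ^ p ^ k = 1
  rw [← map_pow, hx, map_one]

theorem isChar_agemoSub (j : ℕ) : IsChar (agemoSub p G j) := by
  rintro α _ ⟨x, hx, rfl⟩
  rw [SetLike.mem_coe, mem_agemoSub] at hx
  obtain ⟨y, rfl⟩ := hx
  rw [mem_agemoSub]
  exact ⟨α y, by rw [← map_pow]; rfl⟩

theorem omegaSub_zero : omegaSub p G 0 = ⊥ := by
  ext x; rw [mem_omegaSub, pow_zero, pow_one, Subgroup.mem_bot]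

theorem agemoSub_zero : agemoSub p G 0 = ⊤ := by
  ext x; rw [mem_agemoSub]; simp

theorem omegaSub_eq_top_of_card [Finite G] {k : ℕ} (h : Nat.card G = p ^ k) :
    omegaSub p G k = ⊤ := by
  ext x; rw [mem_omegaSub, ← h]; simp [pow_card_eq_one']

theorem agemoSub_eq_bot_of_card [Finite G] {k : ℕ} (h : Nat.card G = p ^ k) :
    agemoSub p G k = ⊥ := by
  ext x; rw [mem_agemoSub, Subgroup.mem_bot]
  constructor
  · rintro ⟨y, rfl⟩; rw [← h]; exact pow_card_eq_one'
  · rintro rfl; exact ⟨1, one_pow _⟩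

end OmegaAgemo

section Cyclic

/-- in a cyclic group of order `p ^ e`, an element killed by `p ^ k` with `k < e` is a `p`-th
power -/
theorem exists_pow_prime_eq_of_cyclic {C : Type*} [CommGroup C] [IsCyclic C] {p : ℕ}
    [hp : Fact p.Prime] {e k : ℕ} (hcard : Nat.card C = p ^ e) (hk : k < e) {a : C}
    (ha : a ^ p ^ k = 1) : ∃ b : C, b ^ p = a := by
  haveI : Finite C := Nat.finite_of_card_ne_zero (by rw [hcard]; exact pow_ne_zero _ hp.out.ne_zero)
  obtain ⟨g, hg⟩ := IsCyclic.exists_monoid_generator (α := C)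
  have hord : orderOf g = p ^ e := by
    rw [← hcard]
    exact orderOf_eq_card_of_forall_mem_zpowers
      (fun x => Submonoid.powers_le_zpowers g (hg x))
  obtain ⟨m, rfl⟩ := (Submonoid.mem_powers_iff _ _).1 (hg a)
  rw [← pow_mul] at ha
  have h1 : p ^ e ∣ m * p ^ k := by rw [← hord]; exact orderOf_dvd_of_pow_eq_one ha
  have h2 : p ^ k * p ∣ p ^ k * m := by
    rw [← pow_succ, mul_comm (p ^ k) m]
    exact (pow_dvd_pow p hk).trans h1
  have h3 : p ∣ m := Nat.dvd_of_mul_dvd_mul_left (pow_pos hp.out.pos k) h2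
  obtain ⟨m', rfl⟩ := h3
  exact ⟨g ^ m', by rw [← pow_mul, mul_comm]⟩

end Cyclic

section KL

variable {ι : Type*} [Fintype ι] [DecidableEq ι] {C : ι → Type*} [∀ i, CommGroup (C i)]
  [∀ i, IsCyclic (C i)] {p : ℕ} [hp : Fact p.Prime]

/-- the key step: in a product of cyclic `p`-groups of pairwise distinct orders,
`Ω_ℓ ⊓ ℧^j` is generated modulo `Ω_{ℓ-1} ⊔ (Ω_ℓ ⊓ ℧^{j+1})` by one element -/
theorem omega_agemo_step (e : ι → ℕ) (hcard : ∀ i, Nat.card (C i) = p ^ e i)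
    (he : Function.Injective e) (ℓ j : ℕ) (hℓ : 1 ≤ ℓ) :
    ∃ x₀ ∈ omegaSub p (∀ i, C i) ℓ ⊓ agemoSub p (∀ i, C i) j,
      omegaSub p (∀ i, C i) ℓ ⊓ agemoSub p (∀ i, C i) j ≤
        (omegaSub p (∀ i, C i) (ℓ - 1) ⊔
          (omegaSub p (∀ i, C i) ℓ ⊓ agemoSub p (∀ i, C i) (j + 1))) ⊔
          Subgroup.zpowers x₀ := by
  classical
  haveI : ∀ i, Finite (C i) := fun i =>
    Nat.finite_of_card_ne_zero (by rw [hcard]; exact pow_ne_zero _ hp.out.ne_zero)
  -- the special coordinate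
  have hx₀ : ∃ x₀ ∈ omegaSub p (∀ i, C i) ℓ ⊓ agemoSub p (∀ i, C i) j,
      ∀ i, e i = ℓ + j → ∀ a : C i, Pi.mulSingle i (a ^ p ^ j) ∈ Subgroup.zpowers x₀ := by
    by_cases h : ∃ i, e i = ℓ + j
    · obtain ⟨i₀, hi₀⟩ := h
      obtain ⟨g, hg⟩ := IsCyclic.exists_monoid_generator (α := C i₀)
      refine ⟨Pi.mulSingle i₀ (g ^ p ^ j), Subgroup.mem_inf.2 ⟨?_, ?_⟩, ?_⟩
      · rw [mem_omegaSub, ← Pi.mulSingle_pow, ← pow_mul, ← pow_add, add_comm, ← hi₀, ← hcard,
          pow_card_eq_one', Pi.mulSingle_one]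
      · rw [mem_agemoSub]
        exact ⟨Pi.mulSingle i₀ g, by rw [← Pi.mulSingle_pow]⟩
      · intro i hi a
        have : i = i₀ := he (hi.trans hi₀.symm)
        subst this
        obtain ⟨m, rfl⟩ := (Submonoid.mem_powers_iff _ _).1 (hg a)
        rw [← pow_mul, mul_comm, pow_mul, Pi.mulSingle_pow (x := g ^ p ^ j)]
        exact Subgroup.pow_mem _ (Subgroup.mem_zpowers _) _
    · exact ⟨1, Subgroup.one_mem _, fun i hi => absurd ⟨i, hi⟩ h⟩
  obtain ⟨x₀, hx₀mem, hx₀z⟩ := hx₀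
  refine ⟨x₀, hx₀mem, ?_⟩
  intro z hz
  obtain ⟨hzΩ, hz℧⟩ := Subgroup.mem_inf.1 hz
  rw [mem_omegaSub] at hzΩ
  rw [mem_agemoSub] at hz℧
  obtain ⟨y, rfl⟩ := hz℧
  rw [← Finset.univ_prod_mulSingle (y ^ p ^ j)]
  refine Subgroup.prod_mem _ (fun i _ => ?_)
  have hyi : (y ^ p ^ j) i = (y i) ^ p ^ j := rfl
  have hzi : ((y i) ^ p ^ j) ^ p ^ ℓ = 1 := by
    have := congrFun hzΩ i
    exact this
  rw [hyi]
  rcases lt_trichotomy (e i) (ℓ + j) with hlt | heq | hgt
  · -- killed by `p ^ (ℓ - 1)`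
    refine Subgroup.mem_sup_left (Subgroup.mem_sup_left ?_)
    rw [mem_omegaSub, ← Pi.mulSingle_pow, ← pow_mul, ← pow_add]
    have h1 : e i ≤ j + (ℓ - 1) := by omega
    obtain ⟨t, ht⟩ := Nat.exists_eq_add_of_le h1
    rw [ht, pow_add, pow_mul, ← hcard, pow_card_eq_one', one_pow, Pi.mulSingle_one]
  · exact Subgroup.mem_sup_right (hx₀z i heq (y i))
  · -- a `p ^ (j + 1)`-th power
    refine Subgroup.mem_sup_left (Subgroup.mem_sup_right (Subgroup.mem_inf.2 ⟨?_, ?_⟩))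
    · rw [mem_omegaSub, ← Pi.mulSingle_pow, hzi, Pi.mulSingle_one]
    · rw [mem_agemoSub]
      have h1 : (y i) ^ p ^ (j + ℓ) = 1 := by rw [pow_add, pow_mul]; exact hzi
      obtain ⟨b, hb⟩ := exists_pow_prime_eq_of_cyclic (hcard i) (by omega : j + ℓ < e i) h1
      refine ⟨Pi.mulSingle i b, ?_⟩
      rw [← Pi.mulSingle_pow, pow_succ', pow_mul, hb]

/-- every characteristic proper subgroup of a product of cyclic `p`-groups of distinct orders
lies in a larger characteristic subgroup generated over it by one element -/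
theorem exists_char_step (e : ι → ℕ) (hcard : ∀ i, Nat.card (C i) = p ^ e i)
    (he : Function.Injective e) (N : Subgroup (∀ i, C i)) (hN : IsChar N) (hne : N ≠ ⊤) :
    ∃ N', IsChar N' ∧ N < N' ∧ ∃ x, N' = N ⊔ Subgroup.zpowers x := by
  classical
  haveI : ∀ i, Finite (C i) := fun i =>
    Nat.finite_of_card_ne_zero (by rw [hcard]; exact pow_ne_zero _ hp.out.ne_zero)
  have hK : Nat.card (∀ i, C i) = p ^ (∑ i, e i) := by
    rw [Nat.card_pi, ← Finset.prod_pow_eq_pow_sum]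
    exact Finset.prod_congr rfl (fun i _ => hcard i)
  have hΩtop : omegaSub p (∀ i, C i) (∑ i, e i) = ⊤ := omegaSub_eq_top_of_card hK
  have h℧bot : agemoSub p (∀ i, C i) (∑ i, e i + 1) = ⊥ := by
    ext x; rw [mem_agemoSub, Subgroup.mem_bot]
    constructor
    · rintro ⟨y, rfl⟩; rw [pow_succ, pow_mul, ← hK, pow_card_eq_one', one_pow]
    · rintro rfl; exact ⟨1, one_pow _⟩
  have hex1 : ∃ ℓ, ¬ omegaSub p (∀ i, C i) ℓ ≤ N :=
    ⟨_, fun h => hne (top_le_iff.1 (hΩtop ▸ h))⟩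
  obtain ⟨ℓ, hℓspec, hℓmin⟩ : ∃ ℓ, ¬ omegaSub p (∀ i, C i) ℓ ≤ N ∧
      ∀ k < ℓ, omegaSub p (∀ i, C i) k ≤ N :=
    ⟨Nat.find hex1, Nat.find_spec hex1, fun k hk => not_not.1 (Nat.find_min hex1 hk)⟩
  have hℓ0 : ℓ ≠ 0 := by
    intro h0
    rw [h0, omegaSub_zero] at hℓspec
    exact hℓspec bot_le
  have hℓ1 : 1 ≤ ℓ := Nat.one_le_iff_ne_zero.2 hℓ0
  have hΩprev : omegaSub p (∀ i, C i) (ℓ - 1) ≤ N := hℓmin _ (by omega)
  have hex2 : ∃ j, omegaSub p (∀ i, C i) ℓ ⊓ agemoSub p (∀ i, C i) (j + 1) ≤ N :=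
    ⟨_, by rw [h℧bot, inf_bot_eq]; exact bot_le⟩
  obtain ⟨j, hjspec, hjmin⟩ : ∃ j, omegaSub p (∀ i, C i) ℓ ⊓ agemoSub p (∀ i, C i) (j + 1) ≤ N ∧
      ∀ k < j, ¬ omegaSub p (∀ i, C i) ℓ ⊓ agemoSub p (∀ i, C i) (k + 1) ≤ N :=
    ⟨Nat.find hex2, Nat.find_spec hex2, fun k hk => Nat.find_min hex2 hk⟩
  have hnot : ¬ omegaSub p (∀ i, C i) ℓ ⊓ agemoSub p (∀ i, C i) j ≤ N := by
    rcases Nat.eq_zero_or_pos j with h0 | hpos
    · rw [h0, agemoSub_zero, inf_top_eq]; exact hℓspec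
    · have := hjmin (j - 1) (by omega)
      rwa [Nat.sub_add_cancel hpos] at this
  obtain ⟨x₀, hx₀, hKL⟩ := omega_agemo_step e hcard he ℓ j hℓ1
  refine ⟨N ⊔ (omegaSub p (∀ i, C i) ℓ ⊓ agemoSub p (∀ i, C i) j),
    hN.sup ((isChar_omegaSub _).inf (isChar_agemoSub _)), lt_of_le_of_ne le_sup_left ?_, x₀, ?_⟩
  · intro heq
    exact hnot (le_sup_right.trans heq.ge)
  · apply le_antisymm
    · refine sup_le le_sup_left (hKL.trans (sup_le_sup_right ?_ _))
      exact sup_le hΩprev hjspec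
    · exact sup_le le_sup_left (((Subgroup.zpowers_le).2 hx₀).trans le_sup_right)

/-- a characteristic chain with cyclic steps in a product of cyclic `p`-groups of distinct
orders -/
theorem exists_char_chain_pi (e : ι → ℕ) (hcard : ∀ i, Nat.card (C i) = p ^ e i)
    (he : Function.Injective e) :
    ∃ (m : ℕ) (c : Fin (m + 1) → Subgroup (∀ i, C i)), c 0 = ⊥ ∧ c (Fin.last m) = ⊤ ∧
      (∀ i, IsChar (c i)) ∧
      ∀ i : Fin m, c i.castSucc ≤ c i.succ ∧
        ∃ x, c i.succ = c i.castSucc ⊔ Subgroup.zpowers x := by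
  have : ∀ i, Finite (C i) := fun i =>
    Nat.finite_of_card_ne_zero (by rw [hcard]; exact pow_ne_zero _ hp.out.ne_zero)
  exact exists_chain_of_step IsChar (exists_char_step e hcard he) _ ⊥ isChar_bot rfl

end KL

section Split

/-- splitting two coordinates off a product -/
def piSplitTwo {ι : Type*} [DecidableEq ι] (C : ι → Type*) [∀ i, Mul (C i)] (i j : ι)
    (hij : i ≠ j) :
    (∀ k, C k) ≃* (C i × C j) × (∀ k : {k : ι // k ≠ i ∧ k ≠ j}, C k.1) where
  toFun x := ((x i, x j), fun k => x k.1)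
  invFun y := fun k =>
    if h : k = i then h ▸ y.1.1 else if h' : k = j then h' ▸ y.1.2 else y.2 ⟨k, h, h'⟩
  left_inv x := by
    funext k
    by_cases h : k = i
    · subst h; simp
    · by_cases h' : k = j
      · subst h'; simp [h]
      · simp [h, h']
  right_inv y := by
    refine Prod.ext (Prod.ext ?_ ?_) ?_
    · simp
    · simp [hij.symm]
    · funext k
      simp [k.2.1, k.2.2]
  map_mul' x y := rfl

end Split

section Transport

variable {A : Type*} [CommGroup A] [Finite A] {p : ℕ} [hp : Fact p.Prime]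

/-- a finite abelian `p`-group without a direct factor `(ℤ/pⁿ)²` has a chain of characteristic
subgroups with cyclic steps -/
theorem exists_char_chain_of_distinct (hA : IsPGroup p A)
    (hdist : ¬ ∃ (n : ℕ) (H : Type) (_ : CommGroup H), 0 < n ∧
      Nonempty (A ≃* (Multiplicative (ZMod (p ^ n)) × Multiplicative (ZMod (p ^ n))) × H)) :
    ∃ (m : ℕ) (c : Fin (m + 1) → Subgroup A), c 0 = ⊥ ∧ c (Fin.last m) = ⊤ ∧
      (∀ i, IsChar (c i)) ∧
      ∀ i : Fin m, c i.castSucc ≤ c i.succ ∧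
        ∃ x, c i.succ = c i.castSucc ⊔ Subgroup.zpowers x := by
  classical
  obtain ⟨ι, hι, n, hn, ⟨f⟩⟩ := CommGroup.equiv_prod_multiplicative_zmod_of_finite A
  obtain ⟨K, hK⟩ := IsPGroup.iff_card.1 hA
  haveI : ∀ i, NeZero (n i) := fun i => ⟨by have := hn i; omega⟩
  have hcardC : ∀ i, Nat.card (Multiplicative (ZMod (n i))) = n i := fun i => by
    rw [Nat.card_congr Multiplicative.toAdd, Nat.card_zmod]
  have hdvd : ∀ i, ∃ e, n i = p ^ e := by
    intro i
    have h1 : Nat.card (Multiplicative (ZMod (n i))) ∣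
        Nat.card (∀ i, Multiplicative (ZMod (n i))) :=
      Subgroup.card_dvd_of_injective
        (MonoidHom.mulSingle (fun i => Multiplicative (ZMod (n i))) i)
        (fun a b h => Pi.mulSingle_injective i h)
    rw [hcardC, ← Nat.card_congr f.toEquiv, hK] at h1
    obtain ⟨e, -, he⟩ := (Nat.dvd_prime_pow hp.out).1 h1
    exact ⟨e, he⟩
  choose e he using hdvd
  have hcard : ∀ i, Nat.card (Multiplicative (ZMod (n i))) = p ^ e i := fun i => by
    rw [hcardC, he]
  have hinj : Function.Injective e := by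
    intro i j hij
    by_contra hne
    apply hdist
    have hpos : 0 < e i := by
      rcases Nat.eq_zero_or_pos (e i) with h0 | h
      · have := hn i
        rw [he, h0, pow_zero] at this
        omega
      · exact h
    refine ⟨e i, (∀ k : {k : ι // k ≠ i ∧ k ≠ j}, Multiplicative (ZMod (n k.1))), inferInstance,
      hpos, ⟨?_⟩⟩
    refine (f.trans (piSplitTwo _ i j hne)).trans (MulEquiv.prodCongr (MulEquiv.prodCongr ?_ ?_)
      (MulEquiv.refl _))
    · exact AddEquiv.toMultiplicative (ZMod.ringEquivCongr (he i)).toAddEquiv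
    · exact AddEquiv.toMultiplicative (ZMod.ringEquivCongr ((he j).trans (by rw [hij]))).toAddEquiv
  obtain ⟨m, c, hc0, hclast, hcchar, hcstep⟩ := exists_char_chain_pi e hcard hinj
  refine ⟨m, fun i => (c i).map f.symm.toMonoidHom, ?_, ?_, fun i => ?_, fun i => ⟨?_, ?_⟩⟩
  · show (c 0).map f.symm.toMonoidHom = ⊥
    rw [hc0, Subgroup.map_bot]
  · show (c (Fin.last m)).map f.symm.toMonoidHom = ⊤
    rw [hclast, ← MonoidHom.range_eq_map]
    exact MonoidHom.range_eq_top.2 f.symm.surjective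
  · rintro α _ ⟨_, ⟨y, hy, rfl⟩, rfl⟩
    refine ⟨f (α (f.symm y)), ?_, by simp⟩
    exact (hcchar i).apply_mem ((f.symm.trans α).trans f) hy
  · exact Subgroup.map_mono (hcstep i).1
  · obtain ⟨x, hx⟩ := (hcstep i).2
    refine ⟨f.symm x, ?_⟩
    show (c i.succ).map f.symm.toMonoidHom = (c i.castSucc).map f.symm.toMonoidHom ⊔ _
    rw [hx, Subgroup.map_sup, MonoidHom.map_zpowers]
    rfl

end Transport

end Cfsg.Agent.Helper87
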