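import Mathlib
import Cfsg.Agent.Lib.Helper87.SVKit

/-!
# No nonabelian simple group of order 4620 (exercise order for S0983, helper17's sieve)
-/

set_option autoImplicit false

namespace Cfsg.Agent.Helper87.SV

open Nat MulAction Cfsg.Agent.Helper17 Cfsg.Agent.Helper17.Sieve Cfsg.Agent.Helper75.FixKill

set_option maxRecDepth 100000 in
theorem h87_4620_adm11 : ∀ d ∈ List.range (420 + 1), d ∣ 420 → d % 11 = 1 →
    ¬ Bad (11 ^ 1 * 420) 11 1 420 d → d = 210 := by
  decide +kernel

set_option maxRecDepth 100000 in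
theorem h87_4620_adm7 : ∀ d ∈ List.range (660 + 1), d ∣ 660 → d % 7 = 1 →
    ¬ Bad (7 ^ 1 * 660) 7 1 660 d → d = 15 ∨ d = 22 ∨ d = 330 := by
  decide +kernel

set_option maxRecDepth 100000 in
theorem h87_4620_adm5 : ∀ d ∈ List.range (924 + 1), d ∣ 924 → d % 5 = 1 →
    ¬ Bad (5 ^ 1 * 924) 5 1 924 d → d = 11 ∨ d = 66 ∨ d = 231 := by
  decide +kernel

/-- no nonabelian simple group of order 4620 -/
theorem no_4620.{u} : NoSimple.{u} 4620 := by
  intro G _ _ _ hna hn0
  have h11 : Fact (Nat.Prime 11) := ⟨by norm_num⟩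
  have h7 : Fact (Nat.Prime 7) := ⟨by norm_num⟩
  have h5 : Fact (Nat.Prime 5) := ⟨by norm_num⟩
  have hn11 : Nat.card G = 11 ^ 1 * 420 := by rw [hn0]; norm_num
  have hn7 : Nat.card G = 7 ^ 1 * 660 := by rw [hn0]; norm_num
  have hn5 : Nat.card G = 5 ^ 1 * 924 := by rw [hn0]; norm_num
  obtain ⟨hP11, hr11, hd11, hm11, hb11, -, -⟩ :=
    h87_data hna 11 420 (by norm_num) hn11 (by norm_num)
  obtain ⟨hP7, hr7, hd7, hm7, hb7, hone7, he7⟩ :=
    h87_data hna 7 660 (by norm_num) hn7 (by norm_num)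
  obtain ⟨hP5, hr5, hd5, hm5, hb5, -, he5⟩ :=
    h87_data hna 5 924 (by norm_num) hn5 (by norm_num)
  have hc11 : Nat.card (Sylow 11 G) = 210 := h87_4620_adm11 _ hr11 hd11 hm11 hb11
  obtain ⟨P7⟩ : Nonempty (Sylow 7 G) := inferInstance
  obtain ⟨P5⟩ : Nonempty (Sylow 5 G) := inferInstance
  obtain ⟨e7, he7a, he7b, he7c⟩ := he7 P7
  obtain ⟨e5, he5a, he5b, he5c⟩ := he5 P5
  have he7le : e7 ≤ 6 := Nat.le_of_dvd (by norm_num) he7a
  have he5le : e5 ≤ 4 := Nat.le_of_dvd (by norm_num) he5a
  rcases h87_4620_adm7 _ hr7 hd7 hm7 hb7 with h | h | h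
  · -- `n_7 = 15`: `11 ∣ |C(P7)|`, so `7 ∣ |N(P11)| = 22`
    rw [h] at he7c
    have h11c : 11 ∣ Nat.card (Subgroup.centralizer ((P7 : Subgroup G) : Set G)) := by
      generalize Nat.card (Subgroup.centralizer ((P7 : Subgroup G) : Set G)) = c at he7c
      interval_cases e7 <;> omega
    have := h87_link hP7 hP11 P7 h11c
    rw [hn0, hc11] at this
    omega
  · -- `n_7 = 22`: an element of order 5 in `C(P7)` has no admissible number of fixed points
    rw [h] at he7c
    have h5c : 5 ∣ Nat.card (Subgroup.centralizer ((P7 : Subgroup G) : Set G)) := by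
      generalize Nat.card (Subgroup.centralizer ((P7 : Subgroup G) : Set G)) = c at he7c
      interval_cases e7 <;> omega
    obtain ⟨f, m', -, hf1, hf2, -, hf3, -⟩ :=
      exists_fix (G := G) (by rw [hn0]; norm_num) (p := 7) (r := 5) (by norm_num) P7 (hP7 P7)
        hone7 h5c
    rw [h] at hf2 hf3
    omega
  · -- `n_7 = 330`, `|N(P7)| = 14`
    rcases h87_4620_adm5 _ hr5 hd5 hm5 hb5 with h' | h' | h'
    · rw [h'] at he5c
      have h7c : 7 ∣ Nat.card (Subgroup.centralizer ((P5 : Subgroup G) : Set G)) := by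
        generalize Nat.card (Subgroup.centralizer ((P5 : Subgroup G) : Set G)) = c at he5c
        interval_cases e5 <;> omega
      have := h87_link hP5 hP7 P5 h7c
      rw [hn0, h] at this
      omega
    · rw [h'] at he5c
      have h7c : 7 ∣ Nat.card (Subgroup.centralizer ((P5 : Subgroup G) : Set G)) := by
        generalize Nat.card (Subgroup.centralizer ((P5 : Subgroup G) : Set G)) = c at he5c
        interval_cases e5 <;> omega
      have := h87_link hP5 hP7 P5 h7c
      rw [hn0, h] at this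
      omega
    · -- counting: `2100 + 1980 + 924 > 4620`
      have c11 := card_orderOf_eq_prime (G := G) (p := 11) hP11
      have c7 := card_orderOf_eq_prime (G := G) (p := 7) hP7
      have c5 := card_orderOf_eq_prime (G := G) (p := 5) hP5
      rw [hc11] at c11
      rw [h] at c7
      rw [h'] at c5
      have hsum := sum_card_orderOf_le (G := G) ({5, 7, 11} : Finset ℕ)
      rw [Finset.sum_insert (by decide), Finset.sum_insert (by decide), Finset.sum_singleton,
        c11, c7, c5, hn0] at hsum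
      omega

end Cfsg.Agent.Helper87.SV
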