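import Mathlib
import Cfsg.Agent.Lib.Helper87.SV4620

/-!
# O6232 (N4620): no simple group of order 4620 (helper17's lemma server for S0983;
name + statement verbatim from `tools/o6232_sigs_helper17.lean.txt`)
-/

set_option autoImplicit false

namespace Cfsg.Agent.Helper87.O6232

universe u

/-- (N4620) `4620 = 2^2 * 3 * 5 * 7 * 11`. -/
theorem no_4620 {G : Type u} [Group G] [Finite G] [IsSimpleGroup G] : Nat.card G ≠ 4620 := by
  intro h
  have hna : ¬ IsMulCommutative G :=
    Cfsg.Agent.Helper17.not_comm_of_not_prime (by rw [h]; norm_num)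
  exact Cfsg.Agent.Helper87.SV.no_4620.{u} G hna h

end Cfsg.Agent.Helper87.O6232
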