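import Mathlib
import Cfsg.Agent.S0885
import Cfsg.Agent.Lib.Helper12.PPlusOne
import Cfsg.Agent.Lib.Helper17.Simple

/-!
# O6232 (N4960): no simple group of order 4960 = 2^5 * 5 * 31 (helper17's lemma server for S0983;
name + statement verbatim from `tools/o6232_sigs_helper17.lean.txt`).

`n_31 = 32`, so `G` acts faithfully and transitively on its 32 Sylow 31-subgroups and the image has
order `(31 + 1) * 31 * 5`; helper12's `PPlusOne` gives double transitivity, trivial three-point
stabilizers and two-point stabilizers of order `5`; `G` is simple, so there is no regular normal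
subgroup: a Zassenhaus group, and Feit's theorem (S0885) with `h = 31`, `e = 5` is contradicted.
-/

set_option autoImplicit false

namespace Cfsg.Agent.Helper87.O6232

open MulAction

universe u

theorem h87_count4960 : ∀ n ∈ Nat.divisors 160, n % 31 = 1 → n ≠ 1 → n = 32 := by decide +kernel

/-- (N4960) `4960 = 2^5 * 5 * 31`. -/
theorem no_4960 {G : Type u} [Group G] [Finite G] [IsSimpleGroup G] : Nat.card G ≠ 4960 := by
  classical
  intro hG
  have h31 : Fact (Nat.Prime 31) := ⟨by norm_num⟩
  have hp : Nat.Prime 31 := by norm_num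
  have hG' : Nat.card G = 31 ^ 1 * 160 := by rw [hG]; norm_num
  obtain ⟨hd1, hd2⟩ := Cfsg.Agent.Helper17.sylow_count (G := G) hG' (by norm_num)
  have hne := Cfsg.Agent.Helper17.sylow_count_ne_one (G := G) hG' (by norm_num) one_ne_zero
    (by norm_num)
  have hn31 : Nat.card (Sylow 31 G) = 32 :=
    h87_count4960 _ (Nat.mem_divisors.2 ⟨hd1, by norm_num⟩) hd2 hne
  -- the permutation representation on the Sylow 31-subgroups
  have hfin : Fintype (Sylow 31 G) := Fintype.ofFinite _
  have hα : Fintype.card (Sylow 31 G) = 31 + 1 := by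
    rw [← Nat.card_eq_fintype_card, hn31]
  have hinj : Function.Injective (MulAction.toPermHom G (Sylow 31 G)) := by
    rw [← MonoidHom.ker_eq_bot_iff]
    rcases (MonoidHom.normal_ker (MulAction.toPermHom G (Sylow 31 G))).eq_bot_or_eq_top with h | h
    · exact h
    · exfalso
      apply hne
      rw [Nat.card_eq_one_iff_unique]
      refine ⟨⟨fun P Q => ?_⟩, inferInstance⟩
      obtain ⟨g, hg⟩ := MulAction.exists_smul_eq G P Q
      have hgk : g ∈ (MulAction.toPermHom G (Sylow 31 G)).ker := by rw [h]; trivial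
      rw [MonoidHom.mem_ker] at hgk
      have : (MulAction.toPermHom G (Sylow 31 G) g) P = P := by rw [hgk]; rfl
      rw [← hg]
      exact this.symm
  set G' : Subgroup (Equiv.Perm (Sylow 31 G)) := (MulAction.toPermHom G (Sylow 31 G)).range
    with hG'def
  have e : G ≃* G' := MonoidHom.ofInjective hinj
  have hcard : Nat.card G' = (31 + 1) * 31 * 5 := by
    rw [← Nat.card_congr e.toEquiv, hG]
  have hsimple : IsSimpleGroup G' := e.symm.isSimpleGroup
  have htrans : MulAction.IsPretransitive G' (Sylow 31 G) := by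
    refine ⟨fun x y => ?_⟩
    obtain ⟨g, hg⟩ := MulAction.exists_smul_eq G x y
    exact ⟨⟨MulAction.toPermHom G (Sylow 31 G) g, g, rfl⟩, hg⟩
  have hd : 5 < 31 := by norm_num
  have h2t := Cfsg.Agent.Helper12.PPlusOne.two_trans hp hα G' hcard
  have h3f := Cfsg.Agent.Helper12.PPlusOne.three_fix hp hα G' hcard hd
  obtain ⟨a⟩ : Nonempty (Sylow 31 G) := inferInstance
  obtain ⟨b, hb⟩ : ∃ b : Sylow 31 G, b ≠ a :=
    Fintype.exists_ne_of_one_lt_card (by rw [hα]; norm_num) a
  have hab : a ≠ b := Ne.symm hb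
  have hcD := Cfsg.Agent.Helper12.PPlusOne.card_D hp hα G' hcard hab
  obtain ⟨w, hwa, hwo⟩ := Cfsg.Agent.Helper12.PPlusOne.exists_u hp hα G' hcard a
  have hw1 : w ≠ 1 := by
    intro h
    rw [h, orderOf_one] at hwo
    norm_num at hwo
  have hfaith : FaithfulSMul ↥G' (Sylow 31 G) := by
    refine ⟨fun {g h} hgh => ?_⟩
    apply Subtype.ext
    apply Equiv.ext
    exact hgh
  have hex : ∃ g : G', g ≠ 1 ∧ ∃ x y : Sylow 31 G, x ≠ y ∧ g • x = x ∧ g • y = y := by
    have h1 : 1 < Nat.card ↥(stabilizer G' a ⊓ stabilizer G' b : Subgroup G') := by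
      rw [hcD]; norm_num
    haveI : Finite ↥(stabilizer G' a ⊓ stabilizer G' b : Subgroup G') := inferInstance
    haveI := Finite.one_lt_card_iff_nontrivial.mp h1
    obtain ⟨g, hg⟩ := exists_ne (1 : ↥(stabilizer G' a ⊓ stabilizer G' b : Subgroup G'))
    exact ⟨g, fun h => hg (Subtype.ext h), a, b, hab, (Subgroup.mem_inf.mp g.2).1,
      (Subgroup.mem_inf.mp g.2).2⟩
  have hZ : Cfsg.IsZassenhausGroup ↥G' (Sylow 31 G) := by
    refine ⟨hfaith, h2t, h3f, hex, ?_⟩
    intro N hNn hNt
    rcases hNn.eq_bot_or_eq_top with h | h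
    · exfalso
      subst h
      obtain ⟨n, hn⟩ := MulAction.exists_smul_eq (⊥ : Subgroup G') a b
      have hn1 : n = 1 := Subsingleton.elim _ _
      rw [hn1, one_smul] at hn
      exact hab hn
    · subst h
      refine ⟨a, fun hbot => ?_⟩
      have hmem : (⟨w, Subgroup.mem_top w⟩ : (⊤ : Subgroup G')) ∈
          MulAction.stabilizer (⊤ : Subgroup G') a := hwa
      rw [hbot, Subgroup.mem_bot] at hmem
      exact hw1 (congrArg Subtype.val hmem)
  have hHa : Subgroup.zpowers w ≤ stabilizer G' a := by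
    rw [Subgroup.zpowers_le]; exact hwa
  have hHcard : Nat.card (Subgroup.zpowers w) + 1 = Fintype.card (Sylow 31 G) := by
    rw [Nat.card_zpowers, hwo, hα]
  have hHfix : ∀ v ∈ Subgroup.zpowers w, v ≠ 1 → ∀ c : Sylow 31 G, v • c = c → c = a := by
    intro v hv hv1 c hvc
    by_contra hc
    exact hv1 (Cfsg.Agent.Helper12.PPlusOne.zpowers_free hp hα G' hwa hwo hc hv hvc)
  rcases Cfsg.Agent.S0885.result hZ hab 31 5 hα hcD (by decide) (Subgroup.zpowers w) hHa hHcard
    hHfix with h | ⟨h, -, -⟩
  · omega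
  · obtain ⟨k, hk⟩ := IsPGroup.iff_card.1 h
    rw [Nat.card_zpowers, hwo] at hk
    have hk5 : k < 5 := by
      by_contra hge
      push Not at hge
      have : 2 ^ 5 ≤ 2 ^ k := Nat.pow_le_pow_right (by norm_num) hge
      omega
    interval_cases k <;> omega

end Cfsg.Agent.Helper87.O6232
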