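import Mathlib
import Cfsg.Prelude.Def_FusionSystem
import Cfsg.Agent.Lib.Helper87.FusionNormal
import Cfsg.Agent.Lib.Helper87.Transv
import Cfsg.Agent.Lib.Helper84.FusNormal
import Cfsg.Agent.Lib.Helper88.EssentialOmit

set_option autoImplicit false

namespace Cfsg.Agent.Helper87

open Cfsg Cfsg.FusionSystem

variable {Ω : Type*} [Group Ω] {S : Subgroup Ω} [Finite S] {p : ℕ} [hp : Fact p.Prime]

/-- what an essential subgroup provides -/
structure EssData (F : FusionSystem S) (p : ℕ) (P : Subgroup Ω) : Prop where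
  le : P ≤ S
  cen : F.IsCentric P
  rad : F.IsRadical p P
  fa : F.IsFullyAutomized p P
  twist : ∃ g ∈ F.autGroup P, ∀ t ∈ autInducedBy S P,
    g * t * g⁻¹ ∈ autInducedBy S P → t ∈ Inn P
  outer : ∃ t ∈ autInducedBy S P, t ∉ Inn P

theorem essData (hS : IsPGroup p S) {F : FusionSystem S} (hF : F.IsSaturated p) {P : Subgroup Ω}
    (hP : F.IsEssential p P) : EssData F p P := by
  have hrad := Cfsg.Agent.Helper84.essential_radical F hS hF hP
  obtain ⟨hcen, hfn, hn, M₀, hM₀⟩ := hP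
  have := hn
  have hPS := hcen.1
  have : Finite P := finite_of_le hPS
  have : Finite (MulAut P) :=
    Finite.of_injective (fun e : MulAut P => (e : P → P)) DFunLike.coe_injective
  have hfa := fullyAutomized_of_fullyNormalized hS hF hfn
  obtain ⟨-, PA, hPA⟩ := hfa
  obtain ⟨M, hMtop, ⟨x₀, hx₀P, hx₀I⟩, hMkey⟩ :=
    Cfsg.Agent.Helper88.exists_subgroup_of_spe_quotient _ M₀ hM₀ PA
  refine ⟨hPS, hcen, hrad, fullyAutomized_of_fullyNormalized hS hF hfn, ?_, ?_⟩
  · obtain ⟨g, hg⟩ : ∃ g : F.autGroup P, g ∉ M := by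
      by_contra hcon
      push Not at hcon
      exact hMtop (eq_top_iff.2 fun g _ => hcon g)
    refine ⟨g, g.2, fun t ht hgt => ?_⟩
    by_contra htI
    apply hg
    have htA : t ∈ F.autGroup P := autInducedBy_le_autGroup F hPS ht
    apply hMkey ⟨t, htA⟩
    · rw [hPA, Subgroup.mem_subgroupOf]; exact ht
    · rw [Subgroup.mem_subgroupOf]; exact htI
    · rw [hPA, Subgroup.mem_subgroupOf]; exact hgt
  · refine ⟨x₀, ?_, ?_⟩
    · rw [hPA, Subgroup.mem_subgroupOf] at hx₀P; exact hx₀P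
    · intro h; apply hx₀I; rw [Subgroup.mem_subgroupOf]; exact h

namespace EssData

variable {F : FusionSystem S} {P : Subgroup Ω}

theorem centralizerIn_le (h : EssData F p P) : centralizerIn S P ≤ P :=
  h.cen.2 P (isConj_refl h.le)

/-- some element of `N_S(P)` lies outside `P` -/
theorem exists_normalizer_not_mem (h : EssData F p P) : ∃ s ∈ normalizerIn S P, s ∉ P := by
  obtain ⟨t, ht, htI⟩ := h.outer
  obtain ⟨s, hs, hsN, e⟩ := mem_autInducedBy_iff'.1 ht
  refine ⟨s, ⟨hs, hsN⟩, fun hsP => htI ⟨⟨s, hsP⟩, ?_⟩⟩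
  ext y
  rw [e]
  simp [MulAut.conj_apply]

variable {m : ℕ}

theorem isPGroup_chainStab (hS : IsPGroup p S) (hP : P ≤ S) {C : Fin (m + 1) → Subgroup ↥P}
    (h0 : C 0 = ⊥) (hl : C (Fin.last m) = ⊤) (K : Subgroup (MulAut P)) :
    IsPGroup p ((chainStab C).subgroupOf K) := by
  haveI : Finite P := finite_of_le hP
  obtain ⟨n, hn⟩ := IsPGroup.iff_card.1 (hS.to_le hP)
  intro g
  refine ⟨n * m, ?_⟩
  apply Subtype.ext
  apply Subtype.ext
  have := chainStab_pow_eq_one h0 hl (Subgroup.mem_subgroupOf.1 g.2)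
  rw [hn, ← pow_mul] at this
  simpa using this

/-- Sylow maximality of `Aut_S(P)` along a chain -/
theorem mem_autInducedBy_of_chainStab (h : EssData F p P) (hS : IsPGroup p S)
    {C : Fin (m + 1) → Subgroup ↥P} (h0 : C 0 = ⊥) (hl : C (Fin.last m) = ⊤)
    (hT : autInducedBy S P ≤ chainStab C) {β : MulAut P} (hβ : β ∈ F.autGroup P)
    (hβC : β ∈ chainStab C) : β ∈ autInducedBy S P := by
  obtain ⟨-, R, hR⟩ := h.fa
  have hQ := isPGroup_chainStab hS h.le h0 hl (F.autGroup P)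
  have hRQ : (R : Subgroup (F.autGroup P)) ≤ (chainStab C).subgroupOf (F.autGroup P) := by
    rw [hR]
    intro a ha
    rw [Subgroup.mem_subgroupOf] at ha ⊢
    exact hT ha
  have heq := R.is_maximal' hQ hRQ
  have : (⟨β, hβ⟩ : F.autGroup P) ∈ (R : Subgroup (F.autGroup P)) := by
    rw [← heq, Subgroup.mem_subgroupOf]; exact hβC
  rw [hR, Subgroup.mem_subgroupOf] at this
  exact this

/-- the stabilizer of an invariant chain lies in `Inn(P)` -/
theorem mem_inn_of_chainStab (h : EssData F p P) (hS : IsPGroup p S)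
    {C : Fin (m + 1) → Subgroup ↥P} (h0 : C 0 = ⊥) (hl : C (Fin.last m) = ⊤)
    (hpres : F.autGroup P ≤ chainPres C) {β : MulAut P} (hβ : β ∈ F.autGroup P)
    (hβC : β ∈ chainStab C) : β ∈ Inn P := by
  have hn : ((chainStab C).subgroupOf (F.autGroup P)).Normal := by
    constructor
    intro k hk a
    rw [Subgroup.mem_subgroupOf] at hk ⊢
    exact chainStab_conj hk (hpres a.2)
  have hQ := isPGroup_chainStab hS h.le h0 hl (F.autGroup P)
  have hle := le_pCore hn hQ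
  rw [← h.rad.2]
  exact ⟨⟨β, hβ⟩, hle (Subgroup.mem_subgroupOf.2 hβC), rfl⟩

end EssData

/-- abstract twisting lemma: an element of `T` acting trivially modulo `Zg ∩ g⁻¹(Zg)` lies in `I` -/
theorem twist_trivial {G : Type*} [Group G] [Finite G] {Zg : Subgroup G}
    {T AutF I : Subgroup (MulAut G)}
    (hsyl : ∀ C : Fin (3 + 1) → Subgroup G, C 0 = ⊥ → C (Fin.last 3) = ⊤ → T ≤ chainStab C →
      ∀ β ∈ AutF, β ∈ chainStab C → β ∈ T)
    (hTA : T ≤ AutF) {g : MulAut G} (hg : g ∈ AutF)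
    (hgT : ∀ t ∈ T, g * t * g⁻¹ ∈ T → t ∈ I)
    (hT1 : ∀ t ∈ T, ∀ z ∈ Zg, t z = z) (hT2 : ∀ t ∈ T, ∀ y, y⁻¹ * t y ∈ Zg)
    {t : MulAut G} (ht : t ∈ T) (h : ∀ y, g (y⁻¹ * t y) ∈ Zg) : t ∈ I := by
  apply hgT t ht
  have hL : Zg ⊓ Zg.map g.toMonoidHom ≤ Zg := inf_le_left
  apply hsyl ![⊥, Zg ⊓ Zg.map g.toMonoidHom, Zg, ⊤] rfl rfl
  · intro s hs
    have hfix := hT1 s hs
    refine Subgroup.mem_iInf.2 (fun i => ?_)
    fin_cases i
    · show s ∈ stepStab ⊥ (Zg ⊓ Zg.map g.toMonoidHom)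
      refine mem_stepStab_of_forall (fun x hx => ?_) (fun x hx => ?_) (fun x hx => ?_)
      · rw [Subgroup.mem_bot] at hx ⊢; rw [hx, map_one]
      · rw [hfix x (hL hx)]; exact hx
      · rw [hfix x (hL hx), inv_mul_cancel]; exact Subgroup.one_mem _
    · show s ∈ stepStab (Zg ⊓ Zg.map g.toMonoidHom) Zg
      refine mem_stepStab_of_forall (fun x hx => ?_) (fun x hx => ?_) (fun x hx => ?_)
      · rw [hfix x (hL hx)]; exact hx
      · rw [hfix x hx]; exact hx
      · rw [hfix x hx, inv_mul_cancel]; exact Subgroup.one_mem _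
    · show s ∈ stepStab Zg ⊤
      refine mem_stepStab_of_forall (fun x hx => ?_) (fun x _ => Subgroup.mem_top _)
        (fun x _ => hT2 s hs x)
      rw [hfix x hx]; exact hx
  · exact AutF.mul_mem (AutF.mul_mem hg (hTA ht)) (AutF.inv_mem hg)
  · have hmod : ∀ y, y⁻¹ * (g * t * g⁻¹) y ∈ Zg ⊓ Zg.map g.toMonoidHom := by
      intro y
      have e : y⁻¹ * (g * t * g⁻¹) y = g ((g⁻¹ y)⁻¹ * t (g⁻¹ y)) := by
        rw [map_mul, map_inv, MulAut.apply_inv_self]
        rfl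
      rw [e]
      exact ⟨h _, ⟨_, hT2 t ht _, rfl⟩⟩
    have hfix : ∀ y ∈ Zg ⊓ Zg.map g.toMonoidHom, (g * t * g⁻¹) y = y := by
      rintro y ⟨-, z, hz, rfl⟩
      show g (t (g⁻¹ (g z))) = g z
      rw [MulAut.inv_apply_self, hT1 t ht z hz]
    have hZ : ∀ x ∈ Zg, (g * t * g⁻¹) x ∈ Zg := by
      intro x hx
      have : (g * t * g⁻¹) x = x * (x⁻¹ * (g * t * g⁻¹) x) := by group
      rw [this]
      exact Zg.mul_mem hx (hL (hmod x))
    refine Subgroup.mem_iInf.2 (fun i => ?_)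
    fin_cases i
    · show g * t * g⁻¹ ∈ stepStab ⊥ (Zg ⊓ Zg.map g.toMonoidHom)
      refine mem_stepStab_of_forall (fun x hx => ?_) (fun x hx => ?_) (fun x hx => ?_)
      · rw [Subgroup.mem_bot] at hx ⊢; rw [hx, map_one]
      · rw [hfix x hx]; exact hx
      · rw [hfix x hx, inv_mul_cancel]; exact Subgroup.one_mem _
    · show g * t * g⁻¹ ∈ stepStab (Zg ⊓ Zg.map g.toMonoidHom) Zg
      refine mem_stepStab_of_forall (fun x hx => ?_) hZ (fun x _ => hmod x)
      rw [hfix x hx]; exact hx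
    · show g * t * g⁻¹ ∈ stepStab Zg ⊤
      exact mem_stepStab_of_forall hZ (fun x _ => Subgroup.mem_top _) (fun x _ => hL (hmod x))

end Cfsg.Agent.Helper87
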