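import Mathlib

set_option autoImplicit false
set_option linter.unusedSectionVars false
set_option linter.unusedVariables false
set_option linter.style.haveILetI false

/-! # Equivariant sections of an equivariant surjection -/

namespace Cfsg.Agent.Helper87.EquivSection

/-- an equivariant map, each point of whose target has a lift with at least the same stabilizer,
has an equivariant section -/
theorem exists_equivariant_section {H X Y : Type*} [Group H] [MulAction H X] [MulAction H Y]
    (π : Y → X) (hπ : ∀ (h : H) (y : Y), π (h • y) = h • π y)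
    (hlift : ∀ x : X, ∃ y : Y, π y = x ∧ MulAction.stabilizer H x ≤ MulAction.stabilizer H y) :
    ∃ s : X → Y, (∀ x, π (s x) = x) ∧ ∀ (h : H) (x : X), s (h • x) = h • s x := by
  classical
  let rep : X → X := fun x => Quotient.out (Quotient.mk (MulAction.orbitRel H X) x)
  have hrep : ∀ x, ∃ h : H, h • rep x = x := by
    intro x
    have h1 : (MulAction.orbitRel H X).r (rep x) x := Quotient.exact (Quotient.out_eq _)
    rw [MulAction.orbitRel_apply] at h1
    obtain ⟨h, hh⟩ := h1
    refine ⟨h⁻¹, ?_⟩
    rw [← hh]
    simp
  have hrep_smul : ∀ (h : H) (x : X), rep (h • x) = rep x := by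
    intro h x
    simp only [rep]
    congr 1
    apply Quotient.sound
    show (MulAction.orbitRel H X).r (h • x) x
    rw [MulAction.orbitRel_apply]
    exact ⟨h, rfl⟩
  choose mv hmv using hrep
  choose lift hl1 hl2 using hlift
  refine ⟨fun x => mv x • lift (rep x), ?_, ?_⟩
  · intro x
    rw [hπ, hl1, hmv]
  · intro h x
    show mv (h • x) • lift (rep (h • x)) = h • mv x • lift (rep x)
    rw [hrep_smul]
    have h1 : (mv (h • x))⁻¹ * h * mv x ∈ MulAction.stabilizer H (rep x) := by
      rw [MulAction.mem_stabilizer_iff, mul_smul, mul_smul, hmv, inv_smul_eq_iff,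
        ← hrep_smul h x, hmv]
    have h2 := hl2 (rep x) h1
    rw [MulAction.mem_stabilizer_iff, mul_smul, mul_smul, inv_smul_eq_iff] at h2
    exact h2.symm

end Cfsg.Agent.Helper87.EquivSection
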