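import Mathlib
import Cfsg.Agent.Lib.Helper87.EquivSection

set_option autoImplicit false
set_option linter.unusedSectionVars false
set_option linter.unusedVariables false
set_option linter.style.haveILetI false

/-! # A crossed transfer: complements of a normal abelian subgroup containing a given subgroup

`A ⊴ Γ` abelian, `D ≤ Γ` with `D ∩ A = 1`, `P = AD` of index prime to `|A|`.  If every coset of `A`
contains an element `g` controlling fusion of `D` in `P` (`g⁻¹ d g ∈ P → g⁻¹ d g ∈ D`), then `A` has a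
complement in `Γ` containing `D`. -/

namespace Cfsg.Agent.Helper87.CrossedTransfer

open Cfsg.Agent.Helper87.EquivSection
open scoped IsMulCommutative

section Core

variable {Γ : Type*} [Group Γ] {A D P : Subgroup Γ} [hAn : A.Normal] [hAc : IsMulCommutative A]
  {τ : Γ → Γ}

/-- the `A`-part of `g * x` -/
def beta (h1 : ∀ g, g * (τ g)⁻¹ ∈ A) (g x : Γ) : A := ⟨g * x * (τ (g * x))⁻¹, h1 (g * x)⟩

theorem tau_tau (h1 : ∀ g, g * (τ g)⁻¹ ∈ A) (h2 : ∀ g, ∀ a ∈ A, τ (a * g) = τ g) (g : Γ) :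
    τ (τ g) = τ g := by
  have h := h2 g _ (A.inv_mem (h1 g))
  have e : (g * (τ g)⁻¹)⁻¹ * g = τ g := by group
  rw [e] at h
  exact h

theorem beta_mul (h1 : ∀ g, g * (τ g)⁻¹ ∈ A) (h2 : ∀ g, ∀ a ∈ A, τ (a * g) = τ g) (g h x : Γ) :
    beta h1 (g * h) x = MulAut.conjNormal g (beta h1 h x) * beta h1 g (τ (h * x)) := by
  have hb : g * (h * x * (τ (h * x))⁻¹) * g⁻¹ ∈ A := hAn.conj_mem _ (h1 (h * x)) g
  have e : g * h * x = (g * (h * x * (τ (h * x))⁻¹) * g⁻¹) * (g * τ (h * x)) := by group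
  have e2 : τ (g * h * x) = τ (g * τ (h * x)) := by
    rw [e]; exact h2 _ _ hb
  apply Subtype.ext
  show g * h * x * (τ (g * h * x))⁻¹
    = g * (h * x * (τ (h * x))⁻¹) * g⁻¹ * (g * τ (h * x) * (τ (g * τ (h * x)))⁻¹)
  rw [e2]
  group

theorem beta_mul_right (h1 : ∀ g, g * (τ g)⁻¹ ∈ A) (h4 : ∀ g, ∀ d ∈ D, τ (g * d) = τ g * d)
    (g x : Γ) {d : Γ} (hd : d ∈ D) : beta h1 g (x * d) = beta h1 g x := by
  apply Subtype.ext
  show g * (x * d) * (τ (g * (x * d)))⁻¹ = g * x * (τ (g * x))⁻¹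
  rw [← mul_assoc g x d, h4 _ d hd]
  group

theorem beta_of_mem_A (h1 : ∀ g, g * (τ g)⁻¹ ∈ A) (h2 : ∀ g, ∀ a ∈ A, τ (a * g) = τ g)
    {a : Γ} (ha : a ∈ A) {x : Γ} (hx : τ x = x) : beta h1 a x = ⟨a, ha⟩ := by
  apply Subtype.ext
  show a * x * (τ (a * x))⁻¹ = a
  rw [h2 x a ha, hx]
  group

theorem beta_of_mem_D (h1 : ∀ g, g * (τ g)⁻¹ ∈ A) (h3 : ∀ g, ∀ d ∈ D, τ (d * g) = d * τ g)
    {d : Γ} (hd : d ∈ D) {x : Γ} (hx : τ x = x) : beta h1 d x = 1 := by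
  apply Subtype.ext
  show d * x * (τ (d * x))⁻¹ = 1
  rw [h3 x d hd, hx]
  group

/-- two fixed points of `τ` in the same coset of `P` differ by an element of `D` -/
theorem exists_eq_mul_of_fixed (hP : ∀ g, g ∈ P ↔ ∃ a ∈ A, ∃ d ∈ D, g = a * d)
    (h2 : ∀ g, ∀ a ∈ A, τ (a * g) = τ g) (h4 : ∀ g, ∀ d ∈ D, τ (g * d) = τ g * d)
    {x x' : Γ} (hx : τ x = x) (hx' : τ x' = x') (h : x⁻¹ * x' ∈ P) : ∃ d ∈ D, x' = x * d := by
  obtain ⟨a, ha, d, hd, e⟩ := (hP _).1 h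
  refine ⟨d, hd, ?_⟩
  have e1 : x' = (x * a * x⁻¹) * (x * d) := by
    have : x' = x * (x⁻¹ * x') := by group
    rw [this, e]; group
  have h5 := h2 (x * d) _ (hAn.conj_mem a ha x)
  rw [← e1, hx', h4 x d hd, hx] at h5
  exact h5

/-- the representative of a coset of `P` among the fixed points of `τ` -/
noncomputable def rr (τ : Γ → Γ) (y : Γ ⧸ P) : Γ := τ (Quotient.out y)

theorem tau_rr (h1 : ∀ g, g * (τ g)⁻¹ ∈ A) (h2 : ∀ g, ∀ a ∈ A, τ (a * g) = τ g) (y : Γ ⧸ P) :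
    τ (rr τ y) = rr τ y := tau_tau h1 h2 _

theorem mk_tau (hAP : A ≤ P) (h1 : ∀ g, g * (τ g)⁻¹ ∈ A) (g : Γ) :
    ((τ g : Γ) : Γ ⧸ P) = (g : Γ ⧸ P) := by
  rw [QuotientGroup.eq]
  have h5 : (τ g)⁻¹ * g = (τ g)⁻¹ * (g * (τ g)⁻¹) * (τ g)⁻¹⁻¹ := by group
  rw [h5]
  exact hAP (hAn.conj_mem _ (h1 g) _)

theorem mk_rr (hAP : A ≤ P) (h1 : ∀ g, g * (τ g)⁻¹ ∈ A) (y : Γ ⧸ P) :
    ((rr τ y : Γ) : Γ ⧸ P) = y := by
  unfold rr
  rw [mk_tau hAP h1]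
  exact Quotient.out_eq y

theorem beta_reindex (hP : ∀ g, g ∈ P ↔ ∃ a ∈ A, ∃ d ∈ D, g = a * d) (hAP : A ≤ P)
    (h1 : ∀ g, g * (τ g)⁻¹ ∈ A) (h2 : ∀ g, ∀ a ∈ A, τ (a * g) = τ g)
    (h4 : ∀ g, ∀ d ∈ D, τ (g * d) = τ g * d) (g h : Γ) (y : Γ ⧸ P) :
    beta h1 g (τ (h * rr τ y)) = beta h1 g (rr τ (h • y)) := by
  have hx : τ (rr τ (h • y)) = rr τ (h • y) := tau_rr h1 h2 _
  have hx' : τ (τ (h * rr τ y)) = τ (h * rr τ y) := tau_tau h1 h2 _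
  have hmk : ((rr τ (h • y) : Γ) : Γ ⧸ P) = ((τ (h * rr τ y) : Γ) : Γ ⧸ P) := by
    rw [mk_rr hAP h1, mk_tau hAP h1]
    have : ((h * rr τ y : Γ) : Γ ⧸ P) = h • ((rr τ y : Γ) : Γ ⧸ P) := rfl
    rw [this, mk_rr hAP h1]
  obtain ⟨d, hd, e⟩ := exists_eq_mul_of_fixed hP h2 h4 hx hx' (QuotientGroup.eq.1 hmk)
  rw [e, beta_mul_right h1 h4 _ _ hd]

variable [Fintype (Γ ⧸ P)]

/-- the crossed transfer -/
noncomputable def cc (P : Subgroup Γ) [Fintype (Γ ⧸ P)] (h1 : ∀ g, g * (τ g)⁻¹ ∈ A) (g : Γ) : A :=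
  ∏ y : Γ ⧸ P, beta h1 g (rr τ y)

theorem cc_mul (hP : ∀ g, g ∈ P ↔ ∃ a ∈ A, ∃ d ∈ D, g = a * d) (hAP : A ≤ P)
    (h1 : ∀ g, g * (τ g)⁻¹ ∈ A) (h2 : ∀ g, ∀ a ∈ A, τ (a * g) = τ g)
    (h4 : ∀ g, ∀ d ∈ D, τ (g * d) = τ g * d) (g h : Γ) :
    cc P h1 (g * h) = MulAut.conjNormal g (cc P h1 h) * cc P h1 g := by
  unfold cc
  rw [map_prod, ← Finset.prod_mul_distrib]
  have e : ∀ y : Γ ⧸ P, beta h1 (g * h) (rr τ y)
      = MulAut.conjNormal g (beta h1 h (rr τ y)) * beta h1 g (rr τ (h • y)) := by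
    intro y
    rw [beta_mul h1 h2, beta_reindex hP hAP h1 h2 h4]
  rw [Finset.prod_congr rfl (fun y _ => e y), Finset.prod_mul_distrib, Finset.prod_mul_distrib]
  congr 1
  exact Equiv.prod_comp (MulAction.toPerm h : Equiv.Perm (Γ ⧸ P)) (fun y => beta h1 g (rr τ y))

theorem cc_of_mem_A (h1 : ∀ g, g * (τ g)⁻¹ ∈ A) (h2 : ∀ g, ∀ a ∈ A, τ (a * g) = τ g)
    {a : Γ} (ha : a ∈ A) : cc P h1 a = (⟨a, ha⟩ : A) ^ Fintype.card (Γ ⧸ P) := by
  unfold cc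
  rw [Finset.prod_congr rfl (fun y _ => beta_of_mem_A h1 h2 ha (tau_rr h1 h2 y)),
    Finset.prod_const, Finset.card_univ]

theorem cc_of_mem_D (h1 : ∀ g, g * (τ g)⁻¹ ∈ A) (h2 : ∀ g, ∀ a ∈ A, τ (a * g) = τ g)
    (h3 : ∀ g, ∀ d ∈ D, τ (d * g) = d * τ g) {d : Γ} (hd : d ∈ D) : cc P h1 d = 1 := by
  unfold cc
  rw [Finset.prod_congr rfl (fun y _ => beta_of_mem_D h1 h3 hd (tau_rr h1 h2 y)),
    Finset.prod_const_one]

end Core

section Main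

variable {Γ : Type*} [Group Γ] {A D P : Subgroup Γ} [hAn : A.Normal] [hAc : IsMulCommutative A]

/-- the complement, from a bi-invariant projection onto a transversal -/
theorem exists_complement_of_tau [Finite Γ]
    (hP : ∀ g, g ∈ P ↔ ∃ a ∈ A, ∃ d ∈ D, g = a * d)
    (hcop : (Nat.card A).Coprime P.index) {τ : Γ → Γ}
    (h1 : ∀ g, g * (τ g)⁻¹ ∈ A) (h2 : ∀ g, ∀ a ∈ A, τ (a * g) = τ g)
    (h3 : ∀ g, ∀ d ∈ D, τ (d * g) = d * τ g) (h4 : ∀ g, ∀ d ∈ D, τ (g * d) = τ g * d) :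
    ∃ K : Subgroup Γ, D ≤ K ∧ K ⊓ A = ⊥ ∧ ∀ g, ∃ a ∈ A, a * g ∈ K := by
  classical
  haveI : Fintype (Γ ⧸ P) := Fintype.ofFinite _
  have hAP : A ≤ P := fun a ha => (hP a).2 ⟨a, ha, 1, D.one_mem, (mul_one a).symm⟩
  have hn : Fintype.card (Γ ⧸ P) = P.index := by
    rw [Subgroup.index_eq_card, Nat.card_eq_fintype_card]
  have hcop' : (Nat.card A).Coprime (Fintype.card (Γ ⧸ P)) := by rw [hn]; exact hcop
  have hmul := cc_mul hP hAP h1 h2 h4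
  have hone : cc P h1 1 = 1 := by
    have h5 := hmul 1 1
    rw [mul_one, map_one, MulAut.one_apply] at h5
    exact (mul_eq_left.1 h5.symm)
  have hconj : ∀ (a : A) (b : A), MulAut.conjNormal (a : Γ) b = b := by
    intro a b
    apply Subtype.ext
    rw [MulAut.conjNormal_apply]
    have : a * b = b * a := mul_comm a b
    have h5 : (a : Γ) * b = b * a := congrArg Subtype.val this
    rw [h5]; group
  let K : Subgroup Γ :=
    { carrier := {g | cc P h1 g = 1}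
      one_mem' := hone
      mul_mem' := by
        intro g h hg hh
        show cc P h1 (g * h) = 1
        rw [hmul, show cc P h1 h = 1 from hh, show cc P h1 g = 1 from hg, map_one, mul_one]
      inv_mem' := by
        intro g hg
        show cc P h1 g⁻¹ = 1
        have h5 := hmul g g⁻¹
        rw [mul_inv_cancel, hone, show cc P h1 g = 1 from hg, mul_one] at h5
        have h6 := congrArg (MulAut.conjNormal g).symm h5
        rw [MulEquiv.symm_apply_apply, map_one] at h6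
        exact h6.symm }
  refine ⟨K, ?_, ?_, ?_⟩
  · intro d hd
    exact cc_of_mem_D h1 h2 h3 hd
  · rw [eq_bot_iff]
    intro g hg
    rw [Subgroup.mem_bot]
    have hgK : cc P h1 g = 1 := hg.1
    rw [cc_of_mem_A h1 h2 hg.2] at hgK
    have h5 : (powCoprime hcop') ⟨g, hg.2⟩ = (powCoprime hcop') 1 := by
      rw [powCoprime_apply, powCoprime_apply, hgK, one_pow]
    have h6 := (powCoprime hcop').injective h5
    exact congrArg Subtype.val h6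
  · intro g
    obtain ⟨a, ha⟩ := (powCoprime hcop').surjective (cc P h1 g)⁻¹
    rw [powCoprime_apply] at ha
    refine ⟨a, a.2, ?_⟩
    show cc P h1 ((a : Γ) * g) = 1
    rw [hmul, hconj, cc_of_mem_A h1 h2 a.2, Subtype.coe_eta, ha, mul_inv_cancel]

/-- **Gaschütz's theorem with a prescribed complement in the Sylow subgroup**, under a fusion
condition. -/
theorem exists_complement [Finite Γ]
    (hP : ∀ g, g ∈ P ↔ ∃ a ∈ A, ∃ d ∈ D, g = a * d)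
    (hAD : ∀ g, g ∈ A → g ∈ D → g = 1)
    (hcop : (Nat.card A).Coprime P.index)
    (hfus : ∀ g : Γ, ∃ a ∈ A, ∀ d ∈ D, (a * g)⁻¹ * d * (a * g) ∈ P → (a * g)⁻¹ * d * (a * g) ∈ D) :
    ∃ K : Subgroup Γ, D ≤ K ∧ K ⊓ A = ⊥ ∧ ∀ g, ∃ a ∈ A, a * g ∈ K := by
  letI actY : MulAction (D × D) Γ :=
    { smul := fun h g => (h.1 : Γ) * g * ((h.2 : Γ))⁻¹
      one_smul := fun g => by
        show ((1 : D × D).1 : Γ) * g * (((1 : D × D).2 : Γ))⁻¹ = g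
        simp
      mul_smul := fun h k g => by
        show ((h * k).1 : Γ) * g * (((h * k).2 : Γ))⁻¹
          = (h.1 : Γ) * ((k.1 : Γ) * g * ((k.2 : Γ))⁻¹) * ((h.2 : Γ))⁻¹
        simp only [Prod.fst_mul, Prod.snd_mul, Subgroup.coe_mul, mul_inv_rev]
        group }
  letI actX : MulAction (D × D) (Γ ⧸ A) :=
    { smul := fun h x => ((h.1 : Γ) : Γ ⧸ A) * x * (((h.2 : Γ) : Γ ⧸ A))⁻¹
      one_smul := fun x => by
        show (((1 : D × D).1 : Γ) : Γ ⧸ A) * x * ((((1 : D × D).2 : Γ) : Γ ⧸ A))⁻¹ = x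
        simp
      mul_smul := fun h k x => by
        show ((((h * k).1 : D) : Γ) : Γ ⧸ A) * x * (((((h * k).2 : D) : Γ) : Γ ⧸ A))⁻¹
          = ((h.1 : Γ) : Γ ⧸ A) * (((k.1 : Γ) : Γ ⧸ A) * x * (((k.2 : Γ) : Γ ⧸ A))⁻¹)
            * (((h.2 : Γ) : Γ ⧸ A))⁻¹
        simp only [Prod.fst_mul, Prod.snd_mul, Subgroup.coe_mul, QuotientGroup.mk_mul, mul_inv_rev]
        group }
  have hsmulY : ∀ (h : D × D) (g : Γ), h • g = (h.1 : Γ) * g * ((h.2 : Γ))⁻¹ := fun _ _ => rfl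
  have hsmulX : ∀ (h : D × D) (x : Γ ⧸ A),
      h • x = ((h.1 : Γ) : Γ ⧸ A) * x * (((h.2 : Γ) : Γ ⧸ A))⁻¹ := fun _ _ => rfl
  obtain ⟨s, hs1, hs2⟩ := exists_equivariant_section (H := D × D)
    (π := (QuotientGroup.mk : Γ → Γ ⧸ A))
    (by
      intro h y
      rw [hsmulY, hsmulX]
      rfl)
    (by
      intro x
      obtain ⟨g, rfl⟩ := QuotientGroup.mk_surjective x
      obtain ⟨a, ha, hgood⟩ := hfus g
      refine ⟨a * g, ?_, ?_⟩
      · rw [QuotientGroup.mk_mul, (QuotientGroup.eq_one_iff a).2 ha, one_mul]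
      · intro h hh
        rw [MulAction.mem_stabilizer_iff] at hh ⊢
        rw [hsmulY]
        rw [hsmulX] at hh
        have hga : ((g : Γ) : Γ ⧸ A) = ((a * g : Γ) : Γ ⧸ A) := by
          rw [QuotientGroup.mk_mul, (QuotientGroup.eq_one_iff a).2 ha, one_mul]
        rw [hga] at hh
        set y := a * g with hy
        have h5 : (((h.1 : Γ) * y * ((h.2 : Γ))⁻¹ : Γ) : Γ ⧸ A) = ((y : Γ) : Γ ⧸ A) := hh
        have h6 : y⁻¹ * ((h.1 : Γ) * y * ((h.2 : Γ))⁻¹) ∈ A := QuotientGroup.eq.1 h5.symm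
        have h7 : y⁻¹ * (h.1 : Γ) * y ∈ P := by
          rw [hP]
          refine ⟨_, h6, (h.2 : Γ), h.2.2, ?_⟩
          group
        have h8 := hgood (h.1 : Γ) h.1.2 h7
        have h9 : y⁻¹ * ((h.1 : Γ) * y * ((h.2 : Γ))⁻¹) = 1 := by
          apply hAD _ h6
          have : y⁻¹ * ((h.1 : Γ) * y * ((h.2 : Γ))⁻¹) = (y⁻¹ * (h.1 : Γ) * y) * ((h.2 : Γ))⁻¹ := by
            group
          rw [this]
          exact D.mul_mem h8 (D.inv_mem h.2.2)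
        have h10 : (h.1 : Γ) * y * ((h.2 : Γ))⁻¹ = y * (y⁻¹ * ((h.1 : Γ) * y * ((h.2 : Γ))⁻¹)) := by
          group
        rw [h10, h9, mul_one])
  have hmk : ∀ g : Γ, ((s (g : Γ ⧸ A) : Γ) : Γ ⧸ A) = (g : Γ ⧸ A) := fun g => hs1 _
  apply exists_complement_of_tau (τ := fun g => s (g : Γ ⧸ A)) hP hcop
  · intro g
    have h5 : (s (g : Γ ⧸ A))⁻¹ * g ∈ A := QuotientGroup.eq.1 (hmk g)
    have h6 : g * (s (g : Γ ⧸ A))⁻¹ = g * ((s (g : Γ ⧸ A))⁻¹ * g) * g⁻¹ := by group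
    show g * (s (g : Γ ⧸ A))⁻¹ ∈ A
    rw [h6]
    exact hAn.conj_mem _ h5 g
  · intro g a ha
    show s ((a * g : Γ) : Γ ⧸ A) = s (g : Γ ⧸ A)
    rw [QuotientGroup.mk_mul, (QuotientGroup.eq_one_iff a).2 ha, one_mul]
  · intro g d hd
    show s ((d * g : Γ) : Γ ⧸ A) = d * s (g : Γ ⧸ A)
    have h5 := hs2 (⟨d, hd⟩, 1) (g : Γ ⧸ A)
    rw [hsmulY, hsmulX] at h5
    simp only [OneMemClass.coe_one, QuotientGroup.mk_one, inv_one, mul_one] at h5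
    rw [QuotientGroup.mk_mul]
    exact h5
  · intro g d hd
    show s ((g * d : Γ) : Γ ⧸ A) = s (g : Γ ⧸ A) * d
    have h5 := hs2 (1, ⟨d⁻¹, D.inv_mem hd⟩) (g : Γ ⧸ A)
    rw [hsmulY, hsmulX] at h5
    simp only [OneMemClass.coe_one, QuotientGroup.mk_one, one_mul, QuotientGroup.mk_inv,
      inv_inv] at h5
    rw [QuotientGroup.mk_mul]
    exact h5

end Main

end Cfsg.Agent.Helper87.CrossedTransfer
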