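import Mathlib
import Cfsg.Prelude.Def_FusionSystem
import Cfsg.Agent.Lib.Helper87.ModelSolv
import Cfsg.Agent.Lib.Helper87.CrossedTransfer

set_option autoImplicit false
set_option linter.unusedSectionVars false
set_option linter.unusedVariables false
set_option linter.style.haveILetI false

/-! # Uniqueness of the model of a constrained fusion system

Two models `G₁`, `G₂` are compared inside the pullback of `G₁ → Aut_F(O_p(F)) ← G₂`; the graph of the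
isomorphism is a complement of `1 × Z` containing the diagonal image of `S`, produced by the crossed
transfer of `CrossedTransfer`. -/

namespace Cfsg.Agent.Helper87.ModelUnique

open Cfsg Cfsg.FusionSystem Cfsg.Agent.Helper87 Cfsg.Agent.Helper85 Cfsg.Agent.Helper87.ModelSolv

variable {Ω : Type*} [Group Ω] {S : Subgroup Ω}

/-- the image of `S` acts on `Q` by conjugation -/
theorem autHom_iota {G : Type*} [Group G] (ι : S →* G) (hinj : Function.Injective ι)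
    {Q : Subgroup Ω} (hQ : Q ≤ S) [hN : (imageAlong ι Q).Normal] (s : S) (q : Q) :
    ((autHom ι hinj hQ (ι s) q : Q) : Ω) = s * q * (s : Ω)⁻¹ := by
  have hq : (q : Ω) ∈ S := hQ q.2
  apply au_injOn hinj (hQ (Subtype.property _)) (S.mul_mem (S.mul_mem s.2 hq) (S.inv_mem s.2))
  rw [au_autHom, au_conj ι s.2 hq, au_mem ι s.2]

section Pullback

variable {G₁ : Type*} [Group G₁] {G₂ : Type*} [Group G₂] (ι₁ : S →* G₁) (ι₂ : S →* G₂)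
  (hi₁ : Function.Injective ι₁) (hi₂ : Function.Injective ι₂) {Q : Subgroup Ω} (hQ : Q ≤ S)
  [hN₁ : (imageAlong ι₁ Q).Normal] [hN₂ : (imageAlong ι₂ Q).Normal]

/-- the pullback of the two actions on `Q` -/
noncomputable def pb : Subgroup (G₁ × G₂) :=
  MonoidHom.eqLocus ((autHom ι₁ hi₁ hQ).comp (MonoidHom.fst G₁ G₂))
    ((autHom ι₂ hi₂ hQ).comp (MonoidHom.snd G₁ G₂))

theorem mem_pb {g : G₁ × G₂} :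
    g ∈ pb ι₁ ι₂ hi₁ hi₂ hQ ↔ autHom ι₁ hi₁ hQ g.1 = autHom ι₂ hi₂ hQ g.2 := Iff.rfl

/-- the diagonal image of `S` -/
noncomputable def diag : S →* ↥(pb ι₁ ι₂ hi₁ hi₂ hQ) :=
  (ι₁.prod ι₂).codRestrict (pb ι₁ ι₂ hi₁ hi₂ hQ) (fun s => by
    rw [mem_pb]
    apply MulEquiv.ext
    intro q
    apply Subtype.ext
    show ((autHom ι₁ hi₁ hQ (ι₁ s) q : Q) : Ω) = ((autHom ι₂ hi₂ hQ (ι₂ s) q : Q) : Ω)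
    rw [autHom_iota, autHom_iota])

theorem diag_coe (s : S) : ((diag ι₁ ι₂ hi₁ hi₂ hQ s : ↥(pb ι₁ ι₂ hi₁ hi₂ hQ)) : G₁ × G₂)
    = (ι₁ s, ι₂ s) := rfl

/-- the first projection -/
noncomputable def pr₁ : ↥(pb ι₁ ι₂ hi₁ hi₂ hQ) →* G₁ :=
  (MonoidHom.fst G₁ G₂).comp (pb ι₁ ι₂ hi₁ hi₂ hQ).subtype

/-- the second projection -/
noncomputable def pr₂ : ↥(pb ι₁ ι₂ hi₁ hi₂ hQ) →* G₂ :=
  (MonoidHom.snd G₁ G₂).comp (pb ι₁ ι₂ hi₁ hi₂ hQ).subtype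

theorem pr₁_apply (g : ↥(pb ι₁ ι₂ hi₁ hi₂ hQ)) : pr₁ ι₁ ι₂ hi₁ hi₂ hQ g = (g : G₁ × G₂).1 := rfl

theorem pr₂_apply (g : ↥(pb ι₁ ι₂ hi₁ hi₂ hQ)) : pr₂ ι₁ ι₂ hi₁ hi₂ hQ g = (g : G₁ × G₂).2 := rfl

theorem pb_ext {g h : ↥(pb ι₁ ι₂ hi₁ hi₂ hQ)} (e₁ : (g : G₁ × G₂).1 = (h : G₁ × G₂).1)
    (e₂ : (g : G₁ × G₂).2 = (h : G₁ × G₂).2) : g = h :=
  Subtype.ext (Prod.ext e₁ e₂)

theorem pr₁_surjective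
    (hsurj : ∀ g₁ : G₁, ∃ g₂ : G₂, autHom ι₁ hi₁ hQ g₁ = autHom ι₂ hi₂ hQ g₂) :
    Function.Surjective (pr₁ ι₁ ι₂ hi₁ hi₂ hQ) := by
  intro g₁
  obtain ⟨g₂, hg₂⟩ := hsurj g₁
  exact ⟨⟨(g₁, g₂), (mem_pb ι₁ ι₂ hi₁ hi₂ hQ).2 hg₂⟩, rfl⟩

theorem snd_mem_ker (g : ↥(pb ι₁ ι₂ hi₁ hi₂ hQ)) (h : (g : G₁ × G₂).1 = 1) :
    (g : G₁ × G₂).2 ∈ (autHom ι₂ hi₂ hQ).ker := by
  rw [MonoidHom.mem_ker]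
  have h1 := (mem_pb ι₁ ι₂ hi₁ hi₂ hQ).1 g.2
  rw [h, map_one] at h1
  exact h1.symm

theorem fst_mem_ker (g : ↥(pb ι₁ ι₂ hi₁ hi₂ hQ)) (h : (g : G₁ × G₂).2 = 1) :
    (g : G₁ × G₂).1 ∈ (autHom ι₁ hi₁ hQ).ker := by
  rw [MonoidHom.mem_ker]
  have h1 := (mem_pb ι₁ ι₂ hi₁ hi₂ hQ).1 g.2
  rw [h, map_one] at h1
  exact h1

theorem mem_ker_pr₁ {g : ↥(pb ι₁ ι₂ hi₁ hi₂ hQ)} :
    g ∈ (pr₁ ι₁ ι₂ hi₁ hi₂ hQ).ker ↔ (g : G₁ × G₂).1 = 1 := MonoidHom.mem_ker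

theorem ker_pr₁_comm (hk₂ : (autHom ι₂ hi₂ hQ).ker ≤ imageAlong ι₂ Q) :
    IsMulCommutative ↥(pr₁ ι₁ ι₂ hi₁ hi₂ hQ).ker := by
  refine ⟨⟨fun a b => ?_⟩⟩
  apply Subtype.ext
  apply pb_ext
  · show ((a : ↥(pb ι₁ ι₂ hi₁ hi₂ hQ)) : G₁ × G₂).1 * ((b : ↥(pb ι₁ ι₂ hi₁ hi₂ hQ)) : G₁ × G₂).1
      = ((b : ↥(pb ι₁ ι₂ hi₁ hi₂ hQ)) : G₁ × G₂).1 * ((a : ↥(pb ι₁ ι₂ hi₁ hi₂ hQ)) : G₁ × G₂).1
    rw [(mem_ker_pr₁ ι₁ ι₂ hi₁ hi₂ hQ).1 a.2, (mem_ker_pr₁ ι₁ ι₂ hi₁ hi₂ hQ).1 b.2]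
  · show ((a : ↥(pb ι₁ ι₂ hi₁ hi₂ hQ)) : G₁ × G₂).2 * ((b : ↥(pb ι₁ ι₂ hi₁ hi₂ hQ)) : G₁ × G₂).2
      = ((b : ↥(pb ι₁ ι₂ hi₁ hi₂ hQ)) : G₁ × G₂).2 * ((a : ↥(pb ι₁ ι₂ hi₁ hi₂ hQ)) : G₁ × G₂).2
    have ha := snd_mem_ker ι₁ ι₂ hi₁ hi₂ hQ a ((mem_ker_pr₁ ι₁ ι₂ hi₁ hi₂ hQ).1 a.2)
    have hb := snd_mem_ker ι₁ ι₂ hi₁ hi₂ hQ b ((mem_ker_pr₁ ι₁ ι₂ hi₁ hi₂ hQ).1 b.2)
    have hb' := hk₂ hb
    rw [ker_autHom] at ha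
    exact ((Subgroup.mem_centralizer_iff.1 ha) _ hb').symm

theorem ker_pr₁_isPGroup {p : ℕ} (hkp : IsPGroup p (autHom ι₂ hi₂ hQ).ker) :
    IsPGroup p ↥(pr₁ ι₁ ι₂ hi₁ hi₂ hQ).ker := by
  intro a
  have ha := snd_mem_ker ι₁ ι₂ hi₁ hi₂ hQ a ((mem_ker_pr₁ ι₁ ι₂ hi₁ hi₂ hQ).1 a.2)
  obtain ⟨k, hk⟩ := hkp ⟨_, ha⟩
  refine ⟨k, ?_⟩
  apply Subtype.ext
  apply pb_ext
  · show (((a ^ p ^ k : ↥(pr₁ ι₁ ι₂ hi₁ hi₂ hQ).ker) : ↥(pb ι₁ ι₂ hi₁ hi₂ hQ)) : G₁ × G₂).1 = 1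
    rw [Subgroup.coe_pow, Subgroup.coe_pow, Prod.pow_fst, (mem_ker_pr₁ ι₁ ι₂ hi₁ hi₂ hQ).1 a.2,
      one_pow]
  · show (((a ^ p ^ k : ↥(pr₁ ι₁ ι₂ hi₁ hi₂ hQ).ker) : ↥(pb ι₁ ι₂ hi₁ hi₂ hQ)) : G₁ × G₂).2 = 1
    rw [Subgroup.coe_pow, Subgroup.coe_pow, Prod.pow_snd]
    have := congrArg Subtype.val hk
    exact this

theorem mem_comap_range_iff {g : ↥(pb ι₁ ι₂ hi₁ hi₂ hQ)} :
    g ∈ (ι₁.range).comap (pr₁ ι₁ ι₂ hi₁ hi₂ hQ) ↔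
      ∃ a ∈ (pr₁ ι₁ ι₂ hi₁ hi₂ hQ).ker, ∃ d ∈ (diag ι₁ ι₂ hi₁ hi₂ hQ).range, g = a * d := by
  constructor
  · rintro ⟨s, hs⟩
    refine ⟨g * (diag ι₁ ι₂ hi₁ hi₂ hQ s)⁻¹, ?_, diag ι₁ ι₂ hi₁ hi₂ hQ s, ⟨s, rfl⟩, by group⟩
    rw [MonoidHom.mem_ker, map_mul, map_inv, ← hs]
    show ι₁ s * (ι₁ s)⁻¹ = 1
    exact mul_inv_cancel _
  · rintro ⟨a, ha, d, ⟨s, rfl⟩, rfl⟩
    rw [Subgroup.mem_comap, map_mul, MonoidHom.mem_ker.1 ha, one_mul]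
    exact ⟨s, rfl⟩

theorem ker_inf_diag {g : ↥(pb ι₁ ι₂ hi₁ hi₂ hQ)} (ha : g ∈ (pr₁ ι₁ ι₂ hi₁ hi₂ hQ).ker)
    (hd : g ∈ (diag ι₁ ι₂ hi₁ hi₂ hQ).range) : g = 1 := by
  obtain ⟨s, rfl⟩ := hd
  have h1 : ι₁ s = 1 := MonoidHom.mem_ker.1 ha
  have h2 : s = 1 := hi₁ (h1.trans (map_one ι₁).symm)
  rw [h2, map_one]

/-- the isomorphism, from a complement of the kernel of the first projection containing the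
diagonal -/
theorem iso_of_complement (hk₁ : (autHom ι₁ hi₁ hQ).ker ≤ ι₁.range)
    (hk₂ : (autHom ι₂ hi₂ hQ).ker ≤ ι₂.range)
    (hsurj : ∀ g₁ : G₁, ∃ g₂ : G₂, autHom ι₁ hi₁ hQ g₁ = autHom ι₂ hi₂ hQ g₂)
    (hsurj' : ∀ g₂ : G₂, ∃ g₁ : G₁, autHom ι₁ hi₁ hQ g₁ = autHom ι₂ hi₂ hQ g₂)
    (K : Subgroup ↥(pb ι₁ ι₂ hi₁ hi₂ hQ)) (hDK : (diag ι₁ ι₂ hi₁ hi₂ hQ).range ≤ K)
    (hKA : K ⊓ (pr₁ ι₁ ι₂ hi₁ hi₂ hQ).ker = ⊥)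
    (hKs : ∀ g, ∃ a ∈ (pr₁ ι₁ ι₂ hi₁ hi₂ hQ).ker, a * g ∈ K) :
    ∃ φ : G₁ ≃* G₂, ∀ x : S, φ (ι₁ x) = ι₂ x := by
  have inj₁ : Function.Injective ((pr₁ ι₁ ι₂ hi₁ hi₂ hQ).comp K.subtype) := by
    rw [injective_iff_map_eq_one]
    intro k hk
    have h1 : (k : ↥(pb ι₁ ι₂ hi₁ hi₂ hQ)) ∈ K ⊓ (pr₁ ι₁ ι₂ hi₁ hi₂ hQ).ker := ⟨k.2, hk⟩
    rw [hKA, Subgroup.mem_bot] at h1
    exact Subtype.ext h1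
  have surj₁ : Function.Surjective ((pr₁ ι₁ ι₂ hi₁ hi₂ hQ).comp K.subtype) := by
    intro g₁
    obtain ⟨g, rfl⟩ := pr₁_surjective ι₁ ι₂ hi₁ hi₂ hQ hsurj g₁
    obtain ⟨a, ha, hag⟩ := hKs g
    refine ⟨⟨a * g, hag⟩, ?_⟩
    show pr₁ ι₁ ι₂ hi₁ hi₂ hQ (a * g) = pr₁ ι₁ ι₂ hi₁ hi₂ hQ g
    rw [map_mul, MonoidHom.mem_ker.1 ha, one_mul]
  have inj₂ : Function.Injective ((pr₂ ι₁ ι₂ hi₁ hi₂ hQ).comp K.subtype) := by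
    rw [injective_iff_map_eq_one]
    intro k hk
    have hk' : ((k : ↥(pb ι₁ ι₂ hi₁ hi₂ hQ)) : G₁ × G₂).2 = 1 := hk
    have h1 := fst_mem_ker ι₁ ι₂ hi₁ hi₂ hQ (k : ↥(pb ι₁ ι₂ hi₁ hi₂ hQ)) hk'
    obtain ⟨z, hz⟩ := hk₁ h1
    have hd : diag ι₁ ι₂ hi₁ hi₂ hQ z ∈ K := hDK ⟨z, rfl⟩
    have h2 : (k : ↥(pb ι₁ ι₂ hi₁ hi₂ hQ))⁻¹ * diag ι₁ ι₂ hi₁ hi₂ hQ z
        ∈ K ⊓ (pr₁ ι₁ ι₂ hi₁ hi₂ hQ).ker := by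
      refine ⟨K.mul_mem (K.inv_mem k.2) hd, ?_⟩
      show (k : ↥(pb ι₁ ι₂ hi₁ hi₂ hQ))⁻¹ * diag ι₁ ι₂ hi₁ hi₂ hQ z ∈ (pr₁ ι₁ ι₂ hi₁ hi₂ hQ).ker
      rw [MonoidHom.mem_ker, map_mul, map_inv]
      show (((k : ↥(pb ι₁ ι₂ hi₁ hi₂ hQ)) : G₁ × G₂).1)⁻¹ * ι₁ z = 1
      rw [hz]
      exact inv_mul_cancel _
    rw [hKA, Subgroup.mem_bot] at h2
    have h3 : diag ι₁ ι₂ hi₁ hi₂ hQ z = (k : ↥(pb ι₁ ι₂ hi₁ hi₂ hQ)) := by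
      have := eq_of_inv_mul_eq_one h2
      exact this.symm
    have h4 : ι₂ z = 1 := by
      have h5 := congrArg (fun g : ↥(pb ι₁ ι₂ hi₁ hi₂ hQ) => (g : G₁ × G₂).2) h3
      exact h5.trans hk'
    have h5 : z = 1 := hi₂ (h4.trans (map_one ι₂).symm)
    apply Subtype.ext
    rw [← h3, h5, map_one]
    rfl
  have surj₂ : Function.Surjective ((pr₂ ι₁ ι₂ hi₁ hi₂ hQ).comp K.subtype) := by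
    intro g₂
    obtain ⟨g₁, hg₁⟩ := hsurj' g₂
    let g : ↥(pb ι₁ ι₂ hi₁ hi₂ hQ) := ⟨(g₁, g₂), (mem_pb ι₁ ι₂ hi₁ hi₂ hQ).2 hg₁⟩
    obtain ⟨a, ha, hag⟩ := hKs g
    have h1 := snd_mem_ker ι₁ ι₂ hi₁ hi₂ hQ a ((mem_ker_pr₁ ι₁ ι₂ hi₁ hi₂ hQ).1 ha)
    obtain ⟨z, hz⟩ := hk₂ h1
    have hd : diag ι₁ ι₂ hi₁ hi₂ hQ z ∈ K := hDK ⟨z, rfl⟩
    refine ⟨⟨(diag ι₁ ι₂ hi₁ hi₂ hQ z)⁻¹ * (a * g), K.mul_mem (K.inv_mem hd) hag⟩, ?_⟩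
    show (ι₂ z)⁻¹ * ((a : G₁ × G₂).2 * g₂) = g₂
    rw [hz]
    group
  let e₁ : ↥K ≃* G₁ := MulEquiv.ofBijective _ ⟨inj₁, surj₁⟩
  let e₂ : ↥K ≃* G₂ := MulEquiv.ofBijective _ ⟨inj₂, surj₂⟩
  refine ⟨e₁.symm.trans e₂, fun x => ?_⟩
  have h1 : e₁ ⟨diag ι₁ ι₂ hi₁ hi₂ hQ x, hDK ⟨x, rfl⟩⟩ = ι₁ x := rfl
  rw [MulEquiv.trans_apply, ← h1, MulEquiv.symm_apply_apply]
  rfl

end Pullback

section Fusion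

variable {G₁ : Type*} [Group G₁] {G₂ : Type*} [Group G₂] {ι₁ : S →* G₁} {ι₂ : S →* G₂}
  {F : FusionSystem S} {Q : Subgroup Ω}

theorem fusion_condition (hr₁ : F.IsRealizedBy ι₁) (hr₂ : F.IsRealizedBy ι₂) (hQ : Q ≤ S)
    [hN₁ : (imageAlong ι₁ Q).Normal] [hN₂ : (imageAlong ι₂ Q).Normal]
    (g : ↥(pb ι₁ ι₂ hr₁.1 hr₂.1 hQ)) :
    ∃ a ∈ (pr₁ ι₁ ι₂ hr₁.1 hr₂.1 hQ).ker, ∀ d ∈ (diag ι₁ ι₂ hr₁.1 hr₂.1 hQ).range,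
      (a * g)⁻¹ * d * (a * g) ∈ (ι₁.range).comap (pr₁ ι₁ ι₂ hr₁.1 hr₂.1 hQ) →
      (a * g)⁻¹ * d * (a * g) ∈ (diag ι₁ ι₂ hr₁.1 hr₂.1 hQ).range := by
  obtain ⟨⟨g₁, g₂⟩, hg⟩ := g
  let U : Subgroup Ω := preimageAlong ι₁ ((ι₁.range).map (MulAut.conj g₁).toMonoidHom)
  have hU : ∀ x, x ∈ U ↔ x ∈ S ∧ g₁⁻¹ * au ι₁ x * g₁ ∈ ι₁.range := by
    intro x
    show x ∈ preimageAlong ι₁ ((ι₁.range).map (MulAut.conj g₁).toMonoidHom) ↔ _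
    rw [mem_pre]
    constructor
    · rintro ⟨hx, y, hy, e⟩
      refine ⟨hx, ?_⟩
      have h1 : au ι₁ x = g₁ * y * g₁⁻¹ := e.symm
      rw [h1]
      have h2 : g₁⁻¹ * (g₁ * y * g₁⁻¹) * g₁ = y := by group
      rw [h2]
      exact hy
    · rintro ⟨hx, h⟩
      refine ⟨hx, _, h, ?_⟩
      show g₁ * (g₁⁻¹ * au ι₁ x * g₁) * g₁⁻¹ = au ι₁ x
      group
  let f : Ω → Ω := fun x => au (backHom ι₁ hr₁.1) (g₁⁻¹ * au ι₁ x * g₁)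
  have hf1 : ∀ x ∈ U, au ι₁ (f x) = g₁⁻¹ * au ι₁ x * g₁ :=
    fun x hx => au_au_back ι₁ hr₁.1 ((hU x).1 hx).2
  have hfS : ∀ x, f x ∈ S := fun x => au_backHom_mem ι₁ hr₁.1 _
  have hmor : Mor F U f := by
    rw [realized_mor_iff hr₁]
    refine ⟨fun x hx => ((hU x).1 hx).1, fun x _ => hfS x, g₁⁻¹, fun x hx => ?_⟩
    rw [hf1 x hx, inv_inv]
  obtain ⟨-, -, k₂, hk₂⟩ := (realized_mor_iff hr₂).1 hmor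
  have hQU : Q ≤ U := by
    intro q hq
    rw [hU]
    refine ⟨hQ hq, ?_⟩
    have h1 : au ι₁ q ∈ imageAlong ι₁ Q := mem_img.2 ⟨q, hQ hq, hq, rfl⟩
    have h2 := hN₁.conj_mem _ h1 g₁⁻¹
    rw [inv_inv] at h2
    obtain ⟨x, hxS, -, e⟩ := mem_img.1 h2
    rw [← e]
    exact au_mem_range' ι₁ hxS
  have hρ : autHom ι₂ hr₂.1 hQ k₂ = (autHom ι₂ hr₂.1 hQ g₂)⁻¹ := by
    have hg' : autHom ι₁ hr₁.1 hQ g₁ = autHom ι₂ hr₂.1 hQ g₂ := hg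
    rw [← hg', ← map_inv]
    apply MulEquiv.ext
    intro q
    apply Subtype.ext
    have e1 : ((autHom ι₂ hr₂.1 hQ k₂ q : Q) : Ω) = f q := by
      apply au_injOn hr₂.1 (hQ (Subtype.property _)) (hfS _)
      rw [au_autHom, hk₂ q (hQU q.2)]
    have e2 : ((autHom ι₁ hr₁.1 hQ g₁⁻¹ q : Q) : Ω) = f q := by
      apply au_injOn hr₁.1 (hQ (Subtype.property _)) (hfS _)
      rw [au_autHom, hf1 q (hQU q.2), inv_inv]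
    rw [e1, e2]
  have ha_mem : ((1 : G₁), k₂⁻¹ * g₂⁻¹) ∈ pb ι₁ ι₂ hr₁.1 hr₂.1 hQ := by
    rw [mem_pb]
    show autHom ι₁ hr₁.1 hQ 1 = autHom ι₂ hr₂.1 hQ (k₂⁻¹ * g₂⁻¹)
    rw [map_one, map_mul, map_inv, map_inv, hρ, inv_inv, mul_inv_cancel]
  refine ⟨⟨(1, k₂⁻¹ * g₂⁻¹), ha_mem⟩, rfl, ?_⟩
  rintro _ ⟨s, rfl⟩ hP
  have h1 : (1 * g₁)⁻¹ * ι₁ s * (1 * g₁) ∈ ι₁.range := hP
  rw [one_mul] at h1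
  have hsU : (s : Ω) ∈ U := (hU s).2 ⟨s.2, by rw [au_mem ι₁ s.2]; exact h1⟩
  refine ⟨⟨f s, hfS s⟩, ?_⟩
  apply pb_ext
  · show ι₁ ⟨f s, hfS s⟩ = (1 * g₁)⁻¹ * ι₁ s * (1 * g₁)
    rw [← au_mem ι₁ (hfS s), hf1 s hsU, au_mem ι₁ s.2, one_mul]
  · show ι₂ ⟨f s, hfS s⟩ = (k₂⁻¹ * g₂⁻¹ * g₂)⁻¹ * ι₂ s * (k₂⁻¹ * g₂⁻¹ * g₂)
    rw [← au_mem ι₂ (hfS s), hk₂ s hsU, au_mem ι₂ s.2]
    group

end Fusion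

section Main

variable [Finite S] {p : ℕ} [Fact p.Prime] {F : FusionSystem S}
  {G₁ : Type*} [Group G₁] {G₂ : Type*} [Group G₂] {ι₁ : S →* G₁} {ι₂ : S →* G₂}

/-- in a model, the kernel of the action on the core lies in `O_p` -/
theorem ker_autHom_le_pCore {G : Type*} [Group G] {ι : S →* G} (hG : F.IsModel p G ι)
    [hN : (imageAlong ι F.core).Normal] :
    (autHom ι hG.2.1.1 (core_le F)).ker ≤ pCore p G := by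
  rw [ker_autHom]
  exact le_trans (Subgroup.centralizer_le (by exact_mod_cast pCore_le_img_core hG)) hG.2.2.2

theorem img_le_range {G : Type*} [Group G] (ι : S →* G) (Q : Subgroup Ω) :
    imageAlong ι Q ≤ ι.range := by
  intro y hy
  obtain ⟨x, hxS, -, rfl⟩ := mem_img.1 hy
  exact au_mem_range' ι hxS

/-- **Uniqueness of models.** -/
theorem exists_iso (h₁ : F.IsModel p G₁ ι₁) (h₂ : F.IsModel p G₂ ι₂) :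
    ∃ φ : G₁ ≃* G₂, ∀ x : S, φ (ι₁ x) = ι₂ x := by
  haveI hN₁ : (imageAlong ι₁ F.core).Normal := model_image_normal h₁ (isNormal_core F)
  haveI hN₂ : (imageAlong ι₂ F.core).Normal := model_image_normal h₂ (isNormal_core F)
  haveI : Finite G₁ := h₁.1
  haveI : Finite G₂ := h₂.1
  have hr₁ := h₁.2.1
  have hr₂ := h₂.2.1
  have hQ : F.core ≤ S := core_le F
  have hkc₁ := ker_autHom_le_pCore h₁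
  have hkc₂ := ker_autHom_le_pCore h₂
  have hk₁ : (autHom ι₁ hr₁.1 hQ).ker ≤ ι₁.range :=
    hkc₁.trans ((pCore_le_img_core h₁).trans (img_le_range ι₁ _))
  have hk₂ : (autHom ι₂ hr₂.1 hQ).ker ≤ ι₂.range :=
    hkc₂.trans ((pCore_le_img_core h₂).trans (img_le_range ι₂ _))
  have hk₂' : (autHom ι₂ hr₂.1 hQ).ker ≤ imageAlong ι₂ F.core := hkc₂.trans (pCore_le_img_core h₂)
  have hsurj : ∀ g₁ : G₁, ∃ g₂ : G₂, autHom ι₁ hr₁.1 hQ g₁ = autHom ι₂ hr₂.1 hQ g₂ := by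
    intro g₁
    obtain ⟨g₂, e⟩ := exists_autHom_eq hr₂ hQ (autHom_mem_autGroup hr₁ hQ g₁)
    exact ⟨g₂, e.symm⟩
  have hsurj' : ∀ g₂ : G₂, ∃ g₁ : G₁, autHom ι₁ hr₁.1 hQ g₁ = autHom ι₂ hr₂.1 hQ g₂ := by
    intro g₂
    exact exists_autHom_eq hr₁ hQ (autHom_mem_autGroup hr₂ hQ g₂)
  haveI hAc := ker_pr₁_comm ι₁ ι₂ hr₁.1 hr₂.1 hQ hk₂'
  have hAp := ker_pr₁_isPGroup ι₁ ι₂ hr₁.1 hr₂.1 hQ (p := p)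
    ((pCore_isPGroup (p := p) (G := G₂)).to_le hkc₂)
  have hcop : (Nat.card (pr₁ ι₁ ι₂ hr₁.1 hr₂.1 hQ).ker).Coprime
      ((ι₁.range).comap (pr₁ ι₁ ι₂ hr₁.1 hr₂.1 hQ)).index := by
    rw [Subgroup.index_comap_of_surjective _ (pr₁_surjective ι₁ ι₂ hr₁.1 hr₂.1 hQ hsurj)]
    obtain ⟨T, hT⟩ := h₁.2.2.1
    rw [← hT]
    obtain ⟨m, hm⟩ := IsPGroup.iff_card.1 hAp
    rw [hm]
    exact Nat.Coprime.pow_left m ((Nat.Prime.coprime_iff_not_dvd Fact.out).2 T.not_dvd_index)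
  obtain ⟨K, hDK, hKA, hKs⟩ := CrossedTransfer.exists_complement
    (A := (pr₁ ι₁ ι₂ hr₁.1 hr₂.1 hQ).ker) (D := (diag ι₁ ι₂ hr₁.1 hr₂.1 hQ).range)
    (P := (ι₁.range).comap (pr₁ ι₁ ι₂ hr₁.1 hr₂.1 hQ))
    (fun g => mem_comap_range_iff ι₁ ι₂ hr₁.1 hr₂.1 hQ)
    (fun g ha hd => ker_inf_diag ι₁ ι₂ hr₁.1 hr₂.1 hQ ha hd) hcop
    (fusion_condition hr₁ hr₂ hQ)
  exact iso_of_complement ι₁ ι₂ hr₁.1 hr₂.1 hQ hk₁ hk₂ hsurj hsurj' K hDK hKA hKs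

end Main

end Cfsg.Agent.Helper87.ModelUnique
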