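import Mathlib
import Cfsg.Prelude.Def_FusionSystem
import Cfsg.Agent.Lib.Helper87.FusionPuig
import Cfsg.Agent.Lib.Helper30.Cores

set_option autoImplicit false
set_option linter.style.haveILetI false

/-! # Centralizers of normal `p`-subgroups in groups with trivial `p'`-core

If `O_{p'}(G) = 1`, `Y ⊴ G` and `C_T(Y) ≤ Y` for a Sylow `p`-subgroup `T`, then `C_G(Y) ≤ Y`
(Burnside's transfer theorem applied to `C_G(Y)`). -/

namespace Cfsg.Agent.Helper87.CentNormalP

open Cfsg

theorem centralizer_le_of_sylow {G : Type*} [Group G] [Finite G] {p : ℕ} [Fact p.Prime]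
    (hO : pPrimeCore p G = ⊥) (Y : Subgroup G) [hY : Y.Normal] (T : Sylow p G)
    (hTY : Subgroup.centralizer (Y : Set G) ⊓ (T : Subgroup G) ≤ Y) :
    Subgroup.centralizer (Y : Set G) ≤ Y := by
  set C : Subgroup G := Subgroup.centralizer (Y : Set G) with hC
  haveI hCn : C.Normal := Subgroup.normal_centralizer
  obtain ⟨P, hP⟩ := Cfsg.Agent.Helper87.exists_sylow_inf_normal T C
  -- `P` is central in `C`
  have hcen : ∀ x ∈ (P : Subgroup C), ∀ c : C, c * x = x * c := by
    intro x hx c
    have hxT : (x : G) ∈ (T : Subgroup G) := by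
      have : x ∈ (T : Subgroup G).subgroupOf C := hP ▸ hx
      exact Subgroup.mem_subgroupOf.1 this
    have hxY : (x : G) ∈ Y := hTY ⟨x.2, hxT⟩
    have := Subgroup.mem_centralizer_iff.1 c.2 (x : G) hxY
    apply Subtype.ext
    show (c : G) * x = x * c
    exact this.symm
  have hPc : Subgroup.normalizer ((P : Subgroup C) : Set C) ≤
      Subgroup.centralizer ((P : Subgroup C) : Set C) := by
    intro c _
    rw [Subgroup.mem_centralizer_iff]
    intro x hx
    exact (hcen x hx c).symm
  have hcompl := MonoidHom.ker_transferSylow_isComplement' P hPc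
  have hnd := MonoidHom.not_dvd_card_ker_transferSylow P hPc
  set K := (MonoidHom.transferSylow P hPc).ker with hK
  have hKle : K ≤ pPrimeCore p C := by
    unfold Cfsg.pPrimeCore
    apply le_sSup
    exact ⟨inferInstance, ((Nat.Prime.coprime_iff_not_dvd Fact.out).mpr hnd).symm⟩
  have hcore : pPrimeCore p C = ⊥ := by
    have h1 := Cfsg.Agent.Helper30.pPrimeCore_subnormal_map_le p (Subgroup.Normal.isSubnormal hCn)
    rw [hO, le_bot_iff] at h1
    exact (Subgroup.map_eq_bot_iff_of_injective _ (Subgroup.subtype_injective C)).1 h1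
  have hKbot : K = ⊥ := by
    rw [eq_bot_iff, ← hcore]; exact hKle
  rw [hKbot] at hcompl
  have hPtop : (P : Subgroup C) = ⊤ := Subgroup.isComplement'_bot_left.1 hcompl
  intro c hc
  have h1 : (⟨c, hc⟩ : C) ∈ (P : Subgroup C) := by rw [hPtop]; exact Subgroup.mem_top _
  have h2 : (⟨c, hc⟩ : C) ∈ (T : Subgroup G).subgroupOf C := hP ▸ h1
  exact hTY ⟨hc, Subgroup.mem_subgroupOf.1 h2⟩

end Cfsg.Agent.Helper87.CentNormalP
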