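import Mathlib
import Cfsg.Prelude.Def_FusionSystem
import Cfsg.Prelude.Def_FusionComponents
import Cfsg.Agent.Lib.Helper87.FusionAlperin
import Cfsg.Agent.Lib.Helper87.CentNormalP
import Cfsg.Agent.Lib.Helper85.Realized
import Cfsg.Agent.Lib.Helper88.RealizedNormal
import Cfsg.Agent.Lib.Helper54.PSolv

set_option autoImplicit false
set_option linter.style.haveILetI false
set_option linter.unusedSectionVars false

/-! # Models as quotients by the `p'`-core

A finite group realizing a system on a Sylow `p`-subgroup, in which the image of a subgroup `R` with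
`C_S(R) ≤ R` is normal, gives a model after factoring out `O_{p'}`. -/

namespace Cfsg.Agent.Helper87.ModelQuot

open Cfsg Cfsg.FusionSystem Cfsg.Agent.Helper87 Cfsg.Agent.Helper85

variable {Ω : Type*} [Group Ω] {S : Subgroup Ω} {G : Type*} [Group G]

theorem sylow_inf_pPrimeCore [Finite G] {p : ℕ} [Fact p.Prime] (T : Sylow p G) :
    (T : Subgroup G) ⊓ pPrimeCore p G = ⊥ := by
  rw [eq_bot_iff]
  intro x hx
  rw [Subgroup.mem_bot]
  have h1 : orderOf x ∣ Nat.card (T : Subgroup G) := by
    have := orderOf_dvd_natCard (⟨x, hx.1⟩ : (T : Subgroup G))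
    rwa [Subgroup.orderOf_mk] at this
  have h2 : orderOf x ∣ Nat.card (pPrimeCore p G) := by
    have := orderOf_dvd_natCard (⟨x, hx.2⟩ : pPrimeCore p G)
    rwa [Subgroup.orderOf_mk] at this
  obtain ⟨n, hn⟩ := IsPGroup.iff_card.1 T.isPGroup'
  have h3 : (Nat.card (T : Subgroup G)).Coprime (Nat.card (pPrimeCore p G)) := by
    rw [hn]
    exact Nat.Coprime.pow_left n (Cfsg.Agent.Helper54.pPrimeCore_coprime p).symm
  have h4 : orderOf x = 1 := Nat.eq_one_of_dvd_coprimes h3 h1 h2
  exact orderOf_eq_one_iff.1 h4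

/-- the model obtained by factoring out `O_{p'}` -/
theorem model_quotient_of_centric [Finite S] [Finite G] {p : ℕ} [Fact p.Prime] (hS : IsPGroup p S)
    {F : FusionSystem S} {ι : S →* G} (h : F.IsRealizedBy ι) (T : Sylow p G)
    (hT : (T : Subgroup G) = ι.range) {R : Subgroup Ω} (hRS : R ≤ S)
    (hRn : (imageAlong ι R).Normal) (hRc : centralizerIn S R ≤ R) :
    F.IsModel p (G ⧸ pPrimeCore p G) ((QuotientGroup.mk' (pPrimeCore p G)).comp ι) := by
  obtain ⟨hr, T', hT'⟩ := Cfsg.Agent.Helper88.RealizedNormal.realized_quotient hS h T hT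
    (pPrimeCore p G) (sylow_inf_pPrimeCore T)
  refine ⟨inferInstance, hr, ⟨T', hT'⟩, ?_⟩
  set ι' : S →* G ⧸ pPrimeCore p G := (QuotientGroup.mk' (pPrimeCore p G)).comp ι with hι'
  have hO : pPrimeCore p (G ⧸ pPrimeCore p G) = ⊥ := Cfsg.Agent.Helper54.pPrimeCore_quotient_eq_bot p
  -- the image of `R`
  have himg : imageAlong ι' R = (imageAlong ι R).map (QuotientGroup.mk' (pPrimeCore p G)) := by
    unfold imageAlong
    rw [hι', ← Subgroup.map_map]
  haveI hYn : (imageAlong ι' R).Normal := by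
    rw [himg]
    exact Subgroup.Normal.map hRn _ (QuotientGroup.mk'_surjective _)
  have hYp : IsPGroup p (imageAlong ι' R) := (hS.to_subgroup (R.subgroupOf S)).map ι'
  have hYle : imageAlong ι' R ≤ pCore p (G ⧸ pPrimeCore p G) := le_pCore hYn hYp
  have hcen : Subgroup.centralizer ((imageAlong ι' R : Subgroup (G ⧸ pPrimeCore p G)) : Set _) ≤
      imageAlong ι' R := by
    apply Cfsg.Agent.Helper87.CentNormalP.centralizer_le_of_sylow hO (imageAlong ι' R) T'
    rintro z ⟨hzc, hzT⟩
    have hzT' : z ∈ ι'.range := by rw [← hT']; exact hzT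
    obtain ⟨s, rfl⟩ := hzT'
    have hs : (s : Ω) ∈ centralizerIn S R := by
      refine ⟨s.2, ?_⟩
      show (s : Ω) ∈ Subgroup.centralizer (R : Set Ω)
      rw [Subgroup.mem_centralizer_iff]
      intro r hrR
      have hr' : r ∈ R := hrR
      have hzc' : ι' s ∈ Subgroup.centralizer ((imageAlong ι' R : Subgroup _) : Set _) := hzc
      have h1 := Subgroup.mem_centralizer_iff.1 hzc' (ι' ⟨r, hRS hr'⟩)
        (mem_img.2 ⟨r, hRS hr', hr', au_mem ι' (hRS hr')⟩)
      rw [← map_mul, ← map_mul] at h1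
      have h2 := hr.1 h1
      exact congrArg Subtype.val h2
    exact mem_img.2 ⟨s, s.2, hRc hs, au_mem ι' s.2⟩
  exact (Subgroup.centralizer_le hYle).trans (hcen.trans hYle)

end Cfsg.Agent.Helper87.ModelQuot
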