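import Mathlib
import Cfsg.Prelude.Def_FusionSystem
import Cfsg.Agent.Lib.Helper87.FusionSaturated
import Cfsg.Agent.Lib.Helper87.FusionNormalizerSys
import Cfsg.Agent.Lib.Helper87.FusionAlperin
import Cfsg.Agent.Lib.Helper85.Realized
import Cfsg.Agent.Lib.Helper85.Model
import Cfsg.Agent.Lib.Helper85.NormalizerModel
import Cfsg.Agent.Lib.Helper85.NormalizerSys
import Cfsg.Agent.Lib.Helper85.QuotLift

set_option autoImplicit false
set_option linter.unusedSectionVars false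
set_option linter.unusedVariables false
set_option linter.style.haveILetI false

/-! # The model of `N_F(Q)` inside the model of `N_F(R)`

`Q` fully normalized, `R₀ ≥ Q` normal in `N_F(Q)`, `φ : N_S(R₀) → N_S(R)` a map of the system carrying
`R₀` onto `R`, `L'` a model of `N_F(R)` in which the centralizer of the image of `R` lies in that image.
Then the normalizer in `L'` of the image of `φ(Q)` is a model of `N_F(Q)`, through `ι' ∘ φ`. -/

namespace Cfsg.Agent.Helper87.SubModel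

open Cfsg Cfsg.FusionSystem Cfsg.Agent.Helper87 Cfsg.Agent.Helper85
open scoped Pointwise

variable {Ω : Type*} [Group Ω] {S : Subgroup Ω}

/-- realizedness from a function level criterion -/
theorem isRealizedBy_of_mor_iff {F : FusionSystem S} {G : Type*} [Group G] {ι : S →* G}
    (hinj : Function.Injective ι)
    (h : ∀ (P : Subgroup Ω) (f : Ω → Ω), P ≤ S → (∀ x ∈ P, f x ∈ S) →
      (Mor F P f ↔ ∃ g : G, ∀ x ∈ P, au ι (f x) = g * au ι x * g⁻¹)) : F.IsRealizedBy ι := by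
  refine ⟨hinj, fun P hP φ hφ => ?_⟩
  have hfS : ∀ x ∈ P, extFun φ x ∈ S := fun x hx => by rw [extFun_mem φ hx]; exact hφ ⟨x, hx⟩
  rw [mem_hom_iff_mor, h P (extFun φ) hP hfS]
  constructor
  · rintro ⟨g, hg⟩
    refine ⟨g, fun x => ?_⟩
    have h1 := hg x x.2
    rw [extFun_apply, au_mem ι (hφ x), au_mem ι (hP x.2)] at h1
    exact h1
  · rintro ⟨g, hg⟩
    refine ⟨g, fun x hx => ?_⟩
    rw [extFun_mem φ hx, au_mem ι (hφ ⟨x, hx⟩), au_mem ι (hP hx)]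
    exact hg ⟨x, hx⟩

theorem finN [Finite S] (P : Subgroup Ω) : Finite ↥(normalizerIn S P) :=
  finite_of_le (inf_le_left : normalizerIn S P ≤ S)

/-- the data -/
structure Data [Finite S] (F : FusionSystem S) (p : ℕ) (Q R₀ R : Subgroup Ω) (φ : Ω → Ω)
    (N : FusionSystem (normalizerIn S Q)) (N' : FusionSystem (normalizerIn S R))
    {L' : Type*} [Group L'] (ι' : ↥(normalizerIn S R) →* L') : Prop where
  hS : IsPGroup p S
  hF : F.IsSaturated p
  hQ : F.IsFullyNormalized Q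
  hN : F.IsNormalizerSystem Q N
  hR₀ : N.IsNormal R₀
  hQR₀ : Q ≤ R₀
  hφ : Mor F (normalizerIn S R₀) φ
  hφR : Iso F R₀ R φ
  hN' : F.IsNormalizerSystem R N'
  hL' : N'.IsModel p L' ι'
  hcen : Subgroup.centralizer ((imageAlong ι' R : Subgroup L') : Set L') ≤ imageAlong ι' R

namespace Data

variable [Finite S] {F : FusionSystem S} {p : ℕ} [Fact p.Prime] {Q R₀ R : Subgroup Ω} {φ : Ω → Ω}
  {N : FusionSystem (normalizerIn S Q)} {N' : FusionSystem (normalizerIn S R)}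
  {L' : Type*} [Group L'] {ι' : ↥(normalizerIn S R) →* L'}

theorem hQS (d : Data F p Q R₀ R φ N N' ι') : Q ≤ S := d.hQ.1

theorem hQT (d : Data F p Q R₀ R φ N N' ι') : Q ≤ normalizerIn S Q := le_normalizerIn d.hQS

theorem hR₀T (d : Data F p Q R₀ R φ N N' ι') : R₀ ≤ normalizerIn S Q := d.hR₀.1

theorem hR₀S (d : Data F p Q R₀ R φ N N' ι') : R₀ ≤ S := d.hR₀T.trans inf_le_left

theorem hRS (d : Data F p Q R₀ R φ N N' ι') : R ≤ S := d.hφR.le_right

theorem hRT' (d : Data F p Q R₀ R φ N N' ι') : R ≤ normalizerIn S R := le_normalizerIn d.hRS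

/-- `N_S(Q) ≤ N_S(R₀)` -/
theorem hTT₀ (d : Data F p Q R₀ R φ N N' ι') : normalizerIn S Q ≤ normalizerIn S R₀ := by
  haveI := finN (S := S) Q
  intro x hx
  exact ⟨hx.1, stronglyClosed_le_normalizer (stronglyClosed_of_isNormal d.hR₀) hx⟩

theorem hφT (d : Data F p Q R₀ R φ N N' ι') : Mor F (normalizerIn S Q) φ := d.hφ.restrict d.hTT₀

theorem φ_mem (d : Data F p Q R₀ R φ N N' ι') {x : Ω} (hx : x ∈ normalizerIn S R₀) :
    φ x ∈ normalizerIn S R := map_normalizerIn d.hφ d.hφR hx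

theorem φ_mem_T (d : Data F p Q R₀ R φ N N' ι') {x : Ω} (hx : x ∈ normalizerIn S Q) :
    φ x ∈ normalizerIn S R := d.φ_mem (d.hTT₀ hx)

theorem hr' (d : Data F p Q R₀ R φ N N' ι') : N'.IsRealizedBy ι' := d.hL'.2.1

theorem subN (d : Data F p Q R₀ R φ N N' ι') {P : Subgroup Ω} {f : Ω → Ω} (h : Mor N P f) :
    Mor F P f := ((mor_normalizerSystem_iff d.hN).1 h).1

theorem subN' (d : Data F p Q R₀ R φ N N' ι') {P : Subgroup Ω} {f : Ω → Ω} (h : Mor N' P f) :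
    Mor F P f := ((mor_normalizerSystem_iff d.hN').1 h).1

/-- `Q` is normal in `N_F(Q)` -/
theorem hQN (d : Data F p Q R₀ R φ N N' ι') : N.IsNormal Q := normalizerSystem_isNormal d.hQS d.hN

/-- the image of `Q` under `φ` -/
def V (d : Data F p Q R₀ R φ N N' ι') : Subgroup Ω := (d.hφT.restrict d.hQT).image

theorem mem_V (d : Data F p Q R₀ R φ N N' ι') {y : Ω} : y ∈ d.V ↔ ∃ q ∈ Q, φ q = y := Iff.rfl

theorem V_le (d : Data F p Q R₀ R φ N N' ι') : d.V ≤ normalizerIn S R := by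
  rintro _ ⟨q, hq, rfl⟩
  exact d.φ_mem_T (d.hQT hq)

/-- the image of `φ(Q)` in the model -/
abbrev VL (d : Data F p Q R₀ R φ N N' ι') : Subgroup L' := imageAlong ι' d.V

theorem mem_VL (d : Data F p Q R₀ R φ N N' ι') {y : L'} : y ∈ d.VL ↔ ∃ q ∈ Q, au ι' (φ q) = y := by
  rw [mem_img]
  constructor
  · rintro ⟨v, -, ⟨q, hq, rfl⟩, e⟩; exact ⟨q, hq, e⟩
  · rintro ⟨q, hq, e⟩; exact ⟨φ q, d.φ_mem_T (d.hQT hq), ⟨q, hq, rfl⟩, e⟩

/-- the normalizer of the image of `φ(Q)` -/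
abbrev HL (d : Data F p Q R₀ R φ N N' ι') : Subgroup L' :=
  Subgroup.normalizer ((d.VL : Subgroup L') : Set L')

theorem au_φ_mul (d : Data F p Q R₀ R φ N N' ι') {x y : Ω} (hx : x ∈ normalizerIn S Q)
    (hy : y ∈ normalizerIn S Q) : au ι' (φ (x * y)) = au ι' (φ x) * au ι' (φ y) := by
  rw [d.hφT.map_mul hx hy, au_mul ι' (d.φ_mem_T hx) (d.φ_mem_T hy)]

theorem au_φ_inj (d : Data F p Q R₀ R φ N N' ι') {x y : Ω} (hx : x ∈ normalizerIn S Q)
    (hy : y ∈ normalizerIn S Q) (e : au ι' (φ x) = au ι' (φ y)) : x = y :=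
  d.hφT.inj hx hy (au_injOn d.hr'.1 (d.φ_mem_T hx) (d.φ_mem_T hy) e)

/-- elements of `N_S(Q)` normalize the image of `φ(Q)` -/
theorem au_φ_mem_HL (d : Data F p Q R₀ R φ N N' ι') {s : Ω} (hs : s ∈ normalizerIn S Q) :
    au ι' (φ s) ∈ d.HL := by
  haveI : Finite L' := d.hL'.1
  haveI : Finite ((d.VL : Subgroup L') : Set L') := Set.toFinite _
  apply Subgroup.mem_normalizer_fintype
  intro y hy
  obtain ⟨q, hq, rfl⟩ := d.mem_VL.1 hy
  have hsq : s * q * s⁻¹ ∈ Q := by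
    have := (Subgroup.mem_normalizer_iff.1 hs.2 q).1 hq
    exact this
  have e : au ι' (φ s) * au ι' (φ q) * (au ι' (φ s))⁻¹ = au ι' (φ (s * q * s⁻¹)) := by
    have hqT := d.hQT hq
    rw [d.hφT.map_mul (Subgroup.mul_mem _ hs hqT) (Subgroup.inv_mem _ hs), d.hφT.map_mul hs hqT,
      d.hφT.map_inv hs, au_conj ι' (d.φ_mem_T hs) (d.φ_mem_T hqT)]
  rw [e]
  exact d.mem_VL.2 ⟨_, hsq, rfl⟩

/-- the embedding of `N_S(Q)` -/
noncomputable def j (d : Data F p Q R₀ R φ N N' ι') : ↥(normalizerIn S Q) →* ↥d.HL where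
  toFun s := ⟨au ι' (φ (s : Ω)), d.au_φ_mem_HL s.2⟩
  map_one' := by
    apply Subtype.ext
    show au ι' (φ ((1 : ↥(normalizerIn S Q)) : Ω)) = 1
    rw [Subgroup.coe_one, d.hφT.map_one, au_one]
  map_mul' := by
    intro a b
    apply Subtype.ext
    show au ι' (φ ((a * b : ↥(normalizerIn S Q)) : Ω)) = au ι' (φ a) * au ι' (φ b)
    rw [Subgroup.coe_mul, d.au_φ_mul a.2 b.2]

theorem j_coe (d : Data F p Q R₀ R φ N N' ι') (s : ↥(normalizerIn S Q)) :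
    ((d.j s : ↥d.HL) : L') = au ι' (φ (s : Ω)) := rfl

theorem au_j (d : Data F p Q R₀ R φ N N' ι') {x : Ω} (hx : x ∈ normalizerIn S Q) :
    ((au d.j x : ↥d.HL) : L') = au ι' (φ x) := by
  rw [au_mem d.j hx]; rfl

theorem j_injective (d : Data F p Q R₀ R φ N N' ι') : Function.Injective d.j := by
  intro a b hab
  have h1 : au ι' (φ (a : Ω)) = au ι' (φ (b : Ω)) := congrArg Subtype.val hab
  exact Subtype.ext (d.au_φ_inj a.2 b.2 h1)

/-- maps of `N_F(Q)` are induced by elements of the normalizer -/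
theorem realized_mp (d : Data F p Q R₀ R φ N N' ι') {P : Subgroup Ω} {f : Ω → Ω} (hf : Mor N P f) :
    ∃ l ∈ d.HL, ∀ x ∈ P, au ι' (φ (f x)) = l * au ι' (φ x) * l⁻¹ := by
  haveI := finN (S := S) Q
  obtain ⟨ĝ, hĝ, eĝ, hĝR⟩ := (isNormal_iff.1 d.hR₀).2 P f hf
  have hP : P ≤ normalizerIn S Q := hf.le
  have hW₀ : P ⊔ R₀ ≤ normalizerIn S Q := sup_le hP d.hR₀T
  have hĝF : Mor F (P ⊔ R₀) ĝ := d.subN hĝ
  have hQW₀ : Q ≤ P ⊔ R₀ := d.hQR₀.trans le_sup_right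
  have hĝQ : ∀ q ∈ Q, ĝ q ∈ Q := fun q hq =>
    Mor.map_stronglyClosed (stronglyClosed_of_isNormal d.hQN) hĝ (hQW₀ hq) hq
  have hφW₀ : Mor F (P ⊔ R₀) φ := d.hφT.restrict hW₀
  obtain ⟨φi, hφi, e1, e2⟩ := (Iso.of_mor hφW₀).symm
  have hθ1 : Mor F hφW₀.image (fun y => ĝ (φi y)) :=
    hφi.1.comp hĝF (fun y hy => hφi.map_mem hy)
  have hθ : Mor F hφW₀.image (fun y => φ (ĝ (φi y))) :=
    hθ1.comp d.hφT (fun y hy => hĝ.mem (hφi.map_mem hy))
  have hWT' : hφW₀.image ≤ normalizerIn S R := by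
    rintro _ ⟨x, hx, rfl⟩
    exact d.φ_mem_T (hW₀ hx)
  have hRW : R ≤ hφW₀.image := by
    intro r hr
    obtain ⟨r₀, hr₀, rfl⟩ := d.hφR.surj hr
    exact ⟨r₀, le_sup_right (a := P) hr₀, rfl⟩
  have hθN' : Mor N' hφW₀.image (fun y => φ (ĝ (φi y))) := by
    rw [mor_normalizerSystem_iff d.hN']
    refine ⟨hθ, hWT', fun y hy => d.φ_mem_T (hĝ.mem (hφi.map_mem hy)),
      fun y => φ (ĝ (φi y)), ?_, fun _ _ => rfl, fun y => ?_⟩
    · rw [sup_eq_left.2 hRW]; exact hθ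
    · constructor
      · intro hy
        obtain ⟨r₀, hr₀, rfl⟩ := d.hφR.surj hy
        obtain ⟨r₁, hr₁, rfl⟩ := (hĝR r₀).1 hr₀
        refine ⟨φ r₁, d.hφR.map_mem hr₁, ?_⟩
        show φ (ĝ (φi (φ r₁))) = _
        rw [e1 r₁ (le_sup_right (a := P) hr₁)]
      · rintro ⟨x, hx, rfl⟩
        obtain ⟨r₁, hr₁, rfl⟩ := d.hφR.surj hx
        show φ (ĝ (φi (φ r₁))) ∈ R
        rw [e1 r₁ (le_sup_right (a := P) hr₁)]
        exact d.hφR.map_mem ((hĝR _).2 ⟨r₁, hr₁, rfl⟩)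
  obtain ⟨-, -, l, hl⟩ := (realized_mor_iff d.hr').1 hθN'
  refine ⟨l, ?_, fun x hx => ?_⟩
  · haveI : Finite L' := d.hL'.1
    haveI : Finite ((d.VL : Subgroup L') : Set L') := Set.toFinite _
    apply Subgroup.mem_normalizer_fintype
    intro y hy
    obtain ⟨q, hq, rfl⟩ := d.mem_VL.1 hy
    have hqW : φ q ∈ hφW₀.image := ⟨q, hQW₀ hq, rfl⟩
    rw [← hl (φ q) hqW]
    show au ι' (φ (ĝ (φi (φ q)))) ∈ d.VL
    rw [e1 q (hQW₀ hq)]
    exact d.mem_VL.2 ⟨ĝ q, hĝQ q hq, rfl⟩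
  · have hxW : φ x ∈ hφW₀.image := ⟨x, le_sup_left (b := R₀) hx, rfl⟩
    rw [← hl (φ x) hxW]
    show au ι' (φ (f x)) = au ι' (φ (ĝ (φi (φ x))))
    rw [e1 x (le_sup_left (b := R₀) hx), eĝ x hx]

/-- conjugation by an element of the normalizer induces a map of `N_F(Q)` -/
theorem realized_mpr (d : Data F p Q R₀ R φ N N' ι') {P : Subgroup Ω}
    (hP : P ≤ normalizerIn S Q) {f : Ω → Ω} (hfT : ∀ x ∈ P, f x ∈ normalizerIn S Q) {l : L'}
    (hl : l ∈ d.HL) (e : ∀ x ∈ P, au ι' (φ (f x)) = l * au ι' (φ x) * l⁻¹) : Mor N P f := by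
  have hW₁ : P ⊔ Q ≤ normalizerIn S Q := sup_le hP d.hQT
  have hφW₁ : Mor F (P ⊔ Q) φ := d.hφT.restrict hW₁
  let θ : Ω → Ω := fun y => au (backHom ι' d.hr'.1) (l * au ι' y * l⁻¹)
  have hθS : ∀ y, θ y ∈ normalizerIn S R := fun y => au_backHom_mem ι' d.hr'.1 _
  let U₁ : Subgroup Ω :=
    { carrier := {w | w ∈ normalizerIn S Q ∧ l * au ι' (φ w) * l⁻¹ ∈ ι'.range}
      one_mem' := ⟨Subgroup.one_mem _, by
        rw [d.hφT.map_one, au_one, mul_one, mul_inv_cancel]; exact Subgroup.one_mem _⟩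
      mul_mem' := by
        rintro a b ⟨ha, ha'⟩ ⟨hb, hb'⟩
        refine ⟨Subgroup.mul_mem _ ha hb, ?_⟩
        rw [d.au_φ_mul ha hb]
        have h5 : l * (au ι' (φ a) * au ι' (φ b)) * l⁻¹
            = (l * au ι' (φ a) * l⁻¹) * (l * au ι' (φ b) * l⁻¹) := by group
        rw [h5]; exact Subgroup.mul_mem _ ha' hb'
      inv_mem' := by
        rintro a ⟨ha, ha'⟩
        refine ⟨Subgroup.inv_mem _ ha, ?_⟩
        rw [d.hφT.map_inv ha, au_inv ι' (d.φ_mem_T ha)]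
        have h5 : l * (au ι' (φ a))⁻¹ * l⁻¹ = (l * au ι' (φ a) * l⁻¹)⁻¹ := by group
        rw [h5]; exact Subgroup.inv_mem _ ha' }
  have hPU : P ≤ U₁ := fun x hx =>
    ⟨hP hx, by rw [← e x hx]; exact au_mem_range' ι' (d.φ_mem_T (hfT x hx))⟩
  have hlV : ∀ q ∈ Q, ∃ q' ∈ Q, l * au ι' (φ q) * l⁻¹ = au ι' (φ q') := by
    intro q hq
    have h5 := (Subgroup.mem_normalizer_iff.1 hl _).1 (d.mem_VL.2 ⟨q, hq, rfl⟩)
    obtain ⟨q', hq', e'⟩ := d.mem_VL.1 h5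
    exact ⟨q', hq', e'.symm⟩
  have hQU : Q ≤ U₁ := fun q hq => ⟨d.hQT hq, by
    obtain ⟨q', hq', e'⟩ := hlV q hq
    rw [e']; exact au_mem_range' ι' (d.φ_mem_T (d.hQT hq'))⟩
  have hWU : P ⊔ Q ≤ U₁ := sup_le hPU hQU
  have hθ1 : ∀ w ∈ P ⊔ Q, au ι' (θ (φ w)) = l * au ι' (φ w) * l⁻¹ :=
    fun w hw => au_au_back ι' d.hr'.1 (hWU hw).2
  have hθN' : Mor N' hφW₁.image θ := by
    rw [realized_mor_iff d.hr']
    refine ⟨?_, fun y _ => hθS y, l, ?_⟩
    · rintro _ ⟨w, hw, rfl⟩; exact d.φ_mem_T (hW₁ hw)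
    · rintro _ ⟨w, hw, rfl⟩; exact hθ1 w hw
  have hθF : Mor F hφW₁.image θ := d.subN' hθN'
  have hθP : ∀ x ∈ P, θ (φ x) = φ (f x) := by
    intro x hx
    apply au_injOn d.hr'.1 (hθS _) (d.φ_mem_T (hfT x hx))
    rw [hθ1 x (le_sup_left (b := Q) hx), e x hx]
  have hθQ : ∀ q ∈ Q, ∃ q' ∈ Q, θ (φ q) = φ q' := by
    intro q hq
    obtain ⟨q', hq', e'⟩ := hlV q hq
    refine ⟨q', hq', ?_⟩
    apply au_injOn d.hr'.1 (hθS _) (d.φ_mem_T (d.hQT hq'))
    rw [hθ1 q (le_sup_right (a := P) hq), e']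
  obtain ⟨φi, hφi, e1, e2⟩ := (Iso.of_mor d.hφT).symm
  have hc1 : Mor F (P ⊔ Q) (fun w => θ (φ w)) := hφW₁.comp hθF (fun w hw => ⟨w, hw, rfl⟩)
  let U₂ : Subgroup Ω :=
    { carrier := {w | w ∈ P ⊔ Q ∧ θ (φ w) ∈ d.hφT.image}
      one_mem' := ⟨Subgroup.one_mem _, by
        have h5 : θ (φ 1) = 1 := hc1.map_one
        rw [h5]; exact Subgroup.one_mem _⟩
      mul_mem' := by
        rintro a b ⟨ha, ha'⟩ ⟨hb, hb'⟩
        refine ⟨Subgroup.mul_mem _ ha hb, ?_⟩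
        have h5 : θ (φ (a * b)) = θ (φ a) * θ (φ b) := hc1.map_mul ha hb
        rw [h5]; exact Subgroup.mul_mem _ ha' hb'
      inv_mem' := by
        rintro a ⟨ha, ha'⟩
        refine ⟨Subgroup.inv_mem _ ha, ?_⟩
        have h5 : θ (φ a⁻¹) = (θ (φ a))⁻¹ := hc1.map_inv ha
        rw [h5]; exact Subgroup.inv_mem _ ha' }
  have hPU₂ : P ≤ U₂ := fun x hx =>
    ⟨le_sup_left (b := Q) hx, by rw [hθP x hx]; exact ⟨f x, hfT x hx, rfl⟩⟩
  have hQU₂ : Q ≤ U₂ := fun q hq => ⟨le_sup_right (a := P) hq, by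
    obtain ⟨q', hq', e'⟩ := hθQ q hq
    rw [e']; exact ⟨q', d.hQT hq', rfl⟩⟩
  have hWU₂ : P ⊔ Q ≤ U₂ := sup_le hPU₂ hQU₂
  have hψ : Mor F (P ⊔ Q) (fun w => φi (θ (φ w))) :=
    hc1.comp hφi.1 (fun w hw => (hWU₂ hw).2)
  have hψP : ∀ x ∈ P, φi (θ (φ x)) = f x := fun x hx => by
    rw [hθP x hx, e1 (f x) (hfT x hx)]
  have hψQ : ∀ q ∈ Q, φi (θ (φ q)) ∈ Q := fun q hq => by
    obtain ⟨q', hq', e'⟩ := hθQ q hq
    rw [e', e1 q' (d.hQT hq')]; exact hq'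
  rw [mor_normalizerSystem_iff d.hN]
  refine ⟨(hψ.restrict le_sup_left).congr hψP, hP, hfT, fun w => φi (θ (φ w)), hψ, hψP,
    fun y => ⟨fun hy => ?_, ?_⟩⟩
  · haveI : Finite Q := finite_of_le d.hQS
    have hinj : Function.Injective (fun q : Q => (⟨φi (θ (φ q)), hψQ q q.2⟩ : Q)) := by
      intro a b hab
      exact Subtype.ext (hψ.inj (le_sup_right (a := P) a.2) (le_sup_right (a := P) b.2)
        (congrArg Subtype.val hab))
    obtain ⟨x, hx⟩ := (Finite.injective_iff_surjective.1 hinj) ⟨y, hy⟩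
    exact ⟨x, x.2, congrArg Subtype.val hx⟩
  · rintro ⟨x, hx, rfl⟩; exact hψQ x hx

/-- the normalizer realizes `N_F(Q)` -/
theorem realized (d : Data F p Q R₀ R φ N N' ι') : N.IsRealizedBy d.j := by
  apply isRealizedBy_of_mor_iff d.j_injective
  intro P f hP hfT
  constructor
  · intro hf
    obtain ⟨l, hl, e⟩ := d.realized_mp hf
    refine ⟨⟨l, hl⟩, fun x hx => ?_⟩
    apply Subtype.ext
    rw [Subgroup.coe_mul, Subgroup.coe_mul, Subgroup.coe_inv, d.au_j (hfT x hx), d.au_j (hP hx)]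
    exact e x hx
  · rintro ⟨l, hl⟩
    apply d.realized_mpr hP hfT l.2
    intro x hx
    have h5 := congrArg Subtype.val (hl x hx)
    rw [Subgroup.coe_mul, Subgroup.coe_mul, Subgroup.coe_inv, d.au_j (hfT x hx),
      d.au_j (hP hx)] at h5
    exact h5

/-- a `p`-subgroup of the normalizer containing the image of `N_S(Q)` has at most its order -/
theorem card_le_of_isPGroup (d : Data F p Q R₀ R φ N N' ι') {X : Subgroup L'} (hXp : IsPGroup p X)
    (hXH : X ≤ d.HL) (hjX : ∀ s ∈ normalizerIn S Q, au ι' (φ s) ∈ X) :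
    Nat.card X ≤ Nat.card (normalizerIn S Q) := by
  haveI : Finite L' := d.hL'.1
  obtain ⟨T', hT'⟩ := d.hL'.2.2.1
  obtain ⟨P', hP'⟩ := hXp.exists_le_sylow
  obtain ⟨l, hl⟩ := MulAction.exists_smul_eq L' T' P'
  -- every element of `X` is `l t l⁻¹` with `t` in the image of `ι'`
  have hXr : ∀ x ∈ X, l⁻¹ * x * l ∈ ι'.range := by
    intro x hx
    have h1 : x ∈ (P' : Subgroup L') := hP' hx
    rw [← hl] at h1
    rw [← hT']
    have h2 : x ∈ (MulAut.conj l • (T' : Subgroup L')) := h1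
    rw [Subgroup.mem_pointwise_smul_iff_inv_smul_mem] at h2
    have h3 : (MulAut.conj l)⁻¹ • x = l⁻¹ * x * l := by
      rw [MulAut.smul_def, MulAut.conj_inv_apply]
    rw [h3] at h2
    exact h2
  -- the conjugation map on `φ(Q)`
  let c : Ω → Ω := fun y => au (backHom ι' d.hr'.1) (l⁻¹ * au ι' y * l)
  have hcS : ∀ y, c y ∈ normalizerIn S R := fun y => au_backHom_mem ι' d.hr'.1 _
  have hVX : ∀ v ∈ d.V, au ι' v ∈ X := by
    rintro _ ⟨q, hq, rfl⟩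
    exact hjX q (d.hQT hq)
  have hc1 : ∀ v ∈ d.V, au ι' (c v) = l⁻¹ * au ι' v * l :=
    fun v hv => au_au_back ι' d.hr'.1 (hXr _ (hVX v hv))
  have hcN' : Mor N' d.V c := by
    rw [realized_mor_iff d.hr']
    refine ⟨d.V_le, fun y _ => hcS y, l⁻¹, fun v hv => ?_⟩
    rw [hc1 v hv, inv_inv]
  have hcF : Mor F d.V c := d.subN' hcN'
  have hconj : F.IsConj Q hcF.image := by
    rw [isConj_iff]
    exact ⟨fun x => c (φ x), (Iso.of_mor (d.hφT.restrict d.hQT)).comp (Iso.of_mor hcF)⟩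
  have hfn := d.hQ.2 _ hconj
  -- the preimage of `X`
  let Y : Subgroup Ω :=
    preimageAlong ι' (X.map (MulAut.conj l⁻¹).toMonoidHom)
  have hY : ∀ y, y ∈ Y ↔ y ∈ normalizerIn S R ∧ l * au ι' y * l⁻¹ ∈ X := by
    intro y
    show y ∈ preimageAlong ι' (X.map (MulAut.conj l⁻¹).toMonoidHom) ↔ _
    rw [mem_pre]
    constructor
    · rintro ⟨hy, x, hx, e⟩
      refine ⟨hy, ?_⟩
      have h1 : au ι' y = l⁻¹ * x * l⁻¹⁻¹ := e.symm
      rw [h1]
      have h2 : l * (l⁻¹ * x * l⁻¹⁻¹) * l⁻¹ = x := by group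
      rw [h2]; exact hx
    · rintro ⟨hy, h⟩
      refine ⟨hy, _, h, ?_⟩
      show l⁻¹ * (l * au ι' y * l⁻¹) * l⁻¹⁻¹ = au ι' y
      group
  haveI : Finite Y := finite_of_le (fun y hy => ((hY y).1 hy).1.1 : Y ≤ S)
  have hcard : Nat.card X ≤ Nat.card Y := by
    apply Nat.card_le_card_of_injective
      (fun x : X => (⟨au (backHom ι' d.hr'.1) (l⁻¹ * x * l), by
        rw [hY]
        refine ⟨au_backHom_mem ι' d.hr'.1 _, ?_⟩
        rw [au_au_back ι' d.hr'.1 (hXr _ x.2)]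
        have h2 : l * (l⁻¹ * (x : L') * l) * l⁻¹ = x := by group
        rw [h2]; exact x.2⟩ : Y))
    intro a b hab
    have h1 : au (backHom ι' d.hr'.1) (l⁻¹ * a * l) = au (backHom ι' d.hr'.1) (l⁻¹ * b * l) :=
      congrArg Subtype.val hab
    have h2 := congrArg (au ι') h1
    rw [au_au_back ι' d.hr'.1 (hXr _ a.2), au_au_back ι' d.hr'.1 (hXr _ b.2)] at h2
    apply Subtype.ext
    have h3 : (a : L') = l * (l⁻¹ * a * l) * l⁻¹ := by group
    rw [h3, h2]; group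
  have hYN : Y ≤ normalizerIn S hcF.image := by
    intro y hy
    obtain ⟨hyT, hyX⟩ := (hY y).1 hy
    refine ⟨hyT.1, ?_⟩
    haveI : Finite ((hcF.image : Subgroup Ω) : Set Ω) :=
      Set.Finite.subset (Set.toFinite (S : Set Ω)) hcF.image_le
    apply Subgroup.mem_normalizer_fintype
    rintro _ ⟨v, hv, rfl⟩
    -- `x = l (ι' y) l⁻¹` normalizes the image of `φ(Q)`
    have hxH := hXH hyX
    obtain ⟨q, hq, rfl⟩ := hv
    have h1 := (Subgroup.mem_normalizer_iff.1 hxH _).1 (d.mem_VL.2 ⟨q, hq, rfl⟩)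
    obtain ⟨q', hq', e'⟩ := d.mem_VL.1 h1
    refine ⟨φ q', ⟨q', hq', rfl⟩, ?_⟩
    have hcv : c (φ q) ∈ normalizerIn S R := hcS _
    apply au_injOn d.hr'.1 (hcS _)
      (Subgroup.mul_mem _ (Subgroup.mul_mem _ hyT hcv) (Subgroup.inv_mem _ hyT))
    rw [au_conj ι' hyT hcv, hc1 _ ⟨q', hq', rfl⟩, hc1 _ ⟨q, hq, rfl⟩, e']
    group
  haveI : Finite ↥(normalizerIn S hcF.image) := finN _
  calc Nat.card X ≤ Nat.card Y := hcard
    _ ≤ Nat.card (normalizerIn S hcF.image) := Subgroup.card_le_of_le hYN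
    _ ≤ Nat.card (normalizerIn S Q) := hfn

/-- the image of `N_S(Q)` is a Sylow subgroup of the normalizer -/
theorem exists_sylow (d : Data F p Q R₀ R φ N N' ι') :
    ∃ T : Sylow p ↥d.HL, (T : Subgroup ↥d.HL) = d.j.range := by
  haveI : Finite L' := d.hL'.1
  haveI := finN (S := S) Q
  have hTp : IsPGroup p ↥(normalizerIn S Q) := d.hS.to_le inf_le_left
  have hjp : IsPGroup p d.j.range := by
    rw [MonoidHom.range_eq_map]
    exact (hTp.to_subgroup ⊤).map d.j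
  obtain ⟨P₀, hP₀⟩ := hjp.exists_le_sylow
  refine ⟨P₀, ?_⟩
  symm
  apply Subgroup.eq_of_le_of_card_ge hP₀
  have h1 : Nat.card ((P₀ : Subgroup ↥d.HL).map d.HL.subtype) = Nat.card (P₀ : Subgroup ↥d.HL) :=
    Subgroup.card_map_of_injective d.HL.subtype_injective
  have h2 := d.card_le_of_isPGroup (X := (P₀ : Subgroup ↥d.HL).map d.HL.subtype)
    (P₀.isPGroup'.map _) (Subgroup.map_subtype_le _)
    (fun s hs => ⟨d.j ⟨s, hs⟩, hP₀ ⟨_, rfl⟩, rfl⟩)
  have h3 : Nat.card (normalizerIn S Q) = Nat.card d.j.range :=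
    Nat.card_congr (MonoidHom.ofInjective d.j_injective).toEquiv
  rw [← h3, ← h1]
  exact h2

/-- the image of `R` lies in the normalizer -/
theorem imgR_le_HL (d : Data F p Q R₀ R φ N N' ι') : imageAlong ι' R ≤ d.HL := by
  intro y hy
  obtain ⟨r, -, hr, rfl⟩ := mem_img.1 hy
  obtain ⟨r₀, hr₀, rfl⟩ := d.hφR.surj hr
  exact d.au_φ_mem_HL (d.hR₀T hr₀)

/-- the centralizer condition -/
theorem centralizer_le (d : Data F p Q R₀ R φ N N' ι') :
    Subgroup.centralizer ((pCore p ↥d.HL : Subgroup ↥d.HL) : Set ↥d.HL) ≤ pCore p ↥d.HL := by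
  haveI : Finite L' := d.hL'.1
  haveI := finN (S := S) R
  haveI hRn : (imageAlong ι' R).Normal :=
    model_image_normal d.hL' (normalizerSystem_isNormal d.hRS d.hN')
  have hRH := d.imgR_le_HL
  have hRHn : ((imageAlong ι' R).subgroupOf d.HL).Normal := hRn.subgroupOf d.HL
  have hRp : IsPGroup p ↥(imageAlong ι' R) :=
    ((d.hS.to_le d.hRS).comap_subtype (K := normalizerIn S R)).map ι'
  have hRHp : IsPGroup p ↥((imageAlong ι' R).subgroupOf d.HL) := hRp.comap_subtype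
  have hle : (imageAlong ι' R).subgroupOf d.HL ≤ pCore p ↥d.HL := le_pCore hRHn hRHp
  intro c hc
  apply hle
  show (c : L') ∈ imageAlong ι' R
  apply d.hcen
  rw [Subgroup.mem_centralizer_iff]
  intro y hy
  have h1 := (Subgroup.mem_centralizer_iff.1 hc) ⟨y, hRH hy⟩
    (hle (show ((⟨y, hRH hy⟩ : ↥d.HL) : L') ∈ imageAlong ι' R from hy))
  exact congrArg Subtype.val h1

/-- **The normalizer of the image of `φ(Q)` is a model of `N_F(Q)`.** -/
theorem isModel (d : Data F p Q R₀ R φ N N' ι') : N.IsModel p ↥d.HL d.j := by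
  haveI : Finite L' := d.hL'.1
  exact ⟨inferInstance, d.realized, d.exists_sylow, d.centralizer_le⟩

end Data

end Cfsg.Agent.Helper87.SubModel
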