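import Mathlib
import Cfsg.Prelude.Def_FusionSystem
import Cfsg.Prelude.Def_FusionComponents
import Cfsg.Prelude.Def_LocalEven
import Cfsg.Agent.Lib.Helper87.FactorPre
import Cfsg.Agent.Lib.Helper87.ModelQuot
import Cfsg.Agent.Lib.Helper87.SubModel
import Cfsg.Agent.Lib.Helper87.ModelUnique
import Cfsg.Agent.Lib.Helper87.FusionNormalCrit
import Cfsg.Agent.Lib.Helper85.NormalizerModel
import Cfsg.Agent.Lib.Helper85.NormalizerSys
import Cfsg.Agent.Lib.Helper46.Involves2

set_option autoImplicit false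
set_option linter.style.haveILetI false
set_option linter.unusedSectionVars false
set_option linter.unusedVariables false

/-! # The model of a normalizer system of a factor system

`Q` strongly closed in the saturated system `F`, `E = F/Q` through `θ`, `R'` a centric subgroup of `E`,
`R` its full preimage, `L` a model of `N_F(R)`.  Then `L/ι(Q)` modulo its `p'`-core is a model of
`N_E(R')`; so every model of `N_E(R')` is involved in `L`. -/

namespace Cfsg.Agent.Helper87.QdFactor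

open Cfsg Cfsg.FusionSystem Cfsg.Agent.Helper87 Cfsg.Agent.Helper85 Cfsg.Agent.Helper87.FactorPre

variable {Ω : Type*} [Group Ω] {S : Subgroup Ω} {Ω' : Type*} [Group Ω'] {S' : Subgroup Ω'}

/-- the data -/
structure Data [Finite S] (F : FusionSystem S) (p : ℕ) (Q : Subgroup Ω) (θ : S →* Ω')
    (E : FusionSystem S') (R' : Subgroup Ω')
    (N : FusionSystem (normalizerIn S (preimageAlong θ R')))
    (N' : FusionSystem (normalizerIn S' R')) {L : Type*} [Group L]
    (ι : ↥(normalizerIn S (preimageAlong θ R')) →* L) : Prop where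
  hS : IsPGroup p S
  hF : F.IsSaturated p
  hQ : F.StronglyClosed Q
  hE : F.IsFactorSystem Q θ E
  hR'c : E.IsCentric R'
  hN : F.IsNormalizerSystem (preimageAlong θ R') N
  hN' : E.IsNormalizerSystem R' N'
  hL : N.IsModel p L ι

namespace Data

variable [Finite S] {F : FusionSystem S} {p : ℕ} [Fact p.Prime] {Q : Subgroup Ω} {θ : S →* Ω'}
  {E : FusionSystem S'} {R' : Subgroup Ω'} {N : FusionSystem (normalizerIn S (preimageAlong θ R'))}
  {N' : FusionSystem (normalizerIn S' R')} {L : Type*} [Group L]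
  {ι : ↥(normalizerIn S (preimageAlong θ R')) →* L}

theorem hrange (d : Data F p Q θ E R' N N' ι) : θ.range = S' := d.hE.2.2.1

theorem hker (d : Data F p Q θ E R' N N' ι) : kerOf θ = Q := kerOf_eq_of_factor d.hE

theorem hR' (d : Data F p Q θ E R' N N' ι) : R' ≤ S' := d.hR'c.1

theorem hQR (d : Data F p Q θ E R' N N' ι) : Q ≤ preimageAlong θ R' := d.hker ▸ kerOf_le_pre θ R'

theorem hRS (d : Data F p Q θ E R' N N' ι) : preimageAlong θ R' ≤ S := preimageAlong_le θ R'

theorem hRT (d : Data F p Q θ E R' N N' ι) :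
    preimageAlong θ R' ≤ normalizerIn S (preimageAlong θ R') := le_normalizerIn d.hRS

theorem hQT (d : Data F p Q θ E R' N N' ι) : Q ≤ normalizerIn S (preimageAlong θ R') :=
  d.hQR.trans d.hRT

theorem hTS (d : Data F p Q θ E R' N N' ι) : normalizerIn S (preimageAlong θ R') ≤ S := inf_le_left

theorem hT (d : Data F p Q θ E R' N N' ι) :
    preimageAlong θ (normalizerIn S' R') = normalizerIn S (preimageAlong θ R') := by
  have h := pre_normalizerIn d.hrange d.hRS (d.hker.symm ▸ d.hQR)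
  rwa [img_pre d.hrange d.hR'] at h

theorem mem_T (d : Data F p Q θ E R' N N' ι) {x : Ω} :
    x ∈ normalizerIn S (preimageAlong θ R') ↔ x ∈ S ∧ au θ x ∈ normalizerIn S' R' := by
  rw [← d.hT, mem_pre]

theorem hα (d : Data F p Q θ E R' N N' ι) : F.IsSurjectiveMorphism E θ :=
  factor_surjectiveMorphism d.hS d.hF d.hQ d.hE

theorem hr (d : Data F p Q θ E R' N N' ι) : N.IsRealizedBy ι := d.hL.2.1

theorem hinj (d : Data F p Q θ E R' N N' ι) : Function.Injective ι := d.hL.2.1.1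

theorem finT (d : Data F p Q θ E R' N N' ι) : Finite ↥(normalizerIn S (preimageAlong θ R')) :=
  finite_of_le d.hTS

theorem imgR_normal (d : Data F p Q θ E R' N N' ι) :
    (imageAlong ι (preimageAlong θ R')).Normal := by
  haveI := d.finT
  exact model_image_normal d.hL (normalizerSystem_isNormal d.hRS d.hN)

/-- the image of `Q` is normal in the model -/
theorem imgQ_normal (d : Data F p Q θ E R' N N' ι) : (imageAlong ι Q).Normal := by
  haveI hRn : (imageAlong ι (preimageAlong θ R')).Normal := d.imgR_normal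
  have hinj := d.hinj
  refine ⟨fun n hn l => ?_⟩
  obtain ⟨q, hqT, hqQ, rfl⟩ := mem_img.1 hn
  set f : Ω → Ω := fun x => au (backHom ι hinj) (l * au ι x * l⁻¹) with hf
  have hrangeQ : ∀ x ∈ Q, l * au ι x * l⁻¹ ∈ ι.range := by
    intro x hx
    have h1 : au ι x ∈ imageAlong ι (preimageAlong θ R') :=
      mem_img.2 ⟨x, d.hQT hx, d.hQR hx, rfl⟩
    have h2 := hRn.conj_mem _ h1 l
    obtain ⟨r, hrT, -, hr⟩ := mem_img.1 h2
    rw [← hr]
    exact au_mem_range' ι hrT
  have hfe : ∀ x ∈ Q, au ι (f x) = l * au ι x * l⁻¹ :=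
    fun x hx => au_au_back ι hinj (hrangeQ x hx)
  have hmor : Mor N Q f :=
    (realized_mor_iff d.hr).2 ⟨d.hQT, fun x _ => au_backHom_mem ι hinj _, l, hfe⟩
  have hmorF : Mor F Q f := ((mor_normalizerSystem_iff d.hN).1 hmor).1
  have hfq := Mor.map_stronglyClosed d.hQ hmorF hqQ hqQ
  rw [← hfe q hqQ]
  exact mem_img.2 ⟨f q, d.hQT hfq, hfq, rfl⟩

/-- `θ` restricted to the normalizers -/
noncomputable def thetaT (d : Data F p Q θ E R' N N' ι) :
    ↥(normalizerIn S (preimageAlong θ R')) →* ↥(normalizerIn S' R') where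
  toFun t := ⟨au θ t, (d.mem_T.1 t.2).2⟩
  map_one' := Subtype.ext (au_one θ)
  map_mul' x y := Subtype.ext (au_mul θ (d.hTS x.2) (d.hTS y.2))

theorem thetaT_surjective (d : Data F p Q θ E R' N N' ι) : Function.Surjective d.thetaT := by
  rintro ⟨y, hy⟩
  obtain ⟨s, hs, rfl⟩ := exists_au_eq d.hrange ((inf_le_left : normalizerIn S' R' ≤ S') hy)
  exact ⟨⟨s, d.mem_T.2 ⟨hs, hy⟩⟩, rfl⟩

theorem hPT (d : Data F p Q θ E R' N N' ι) {P' : Subgroup Ω'} (hP' : P' ≤ normalizerIn S' R') :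
    preimageAlong θ P' ≤ normalizerIn S (preimageAlong θ R') := by
  intro x hx
  obtain ⟨hxS, hx'⟩ := mem_pre.1 hx
  exact d.mem_T.2 ⟨hxS, hP' hx'⟩

section quot

variable [hQn : (imageAlong ι Q).Normal]

theorem ker_le (d : Data F p Q θ E R' N N' ι) :
    d.thetaT.ker ≤ ((QuotientGroup.mk' (imageAlong ι Q)).comp ι).ker := by
  intro t ht
  have h1 : au θ t = 1 := congrArg Subtype.val (MonoidHom.mem_ker.1 ht)
  have h2 : (t : Ω) ∈ Q := by
    have : (t : Ω) ∈ kerOf θ := mem_kerOf.2 ⟨d.hTS t.2, h1⟩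
    rwa [d.hker] at this
  rw [MonoidHom.mem_ker, MonoidHom.comp_apply, QuotientGroup.mk'_apply, QuotientGroup.eq_one_iff]
  exact mem_img.2 ⟨t, t.2, h2, au_mem ι t.2⟩

/-- the embedding of `N_{S'}(R')` into the quotient `L/ι(Q)` -/
noncomputable def jbar (d : Data F p Q θ E R' N N' ι) :
    ↥(normalizerIn S' R') →* L ⧸ imageAlong ι Q :=
  d.thetaT.liftOfSurjective d.thetaT_surjective
    ⟨(QuotientGroup.mk' (imageAlong ι Q)).comp ι, d.ker_le⟩

theorem jbar_thetaT (d : Data F p Q θ E R' N N' ι) (t : ↥(normalizerIn S (preimageAlong θ R'))) :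
    d.jbar (d.thetaT t) = QuotientGroup.mk' (imageAlong ι Q) (ι t) :=
  MonoidHom.liftOfRightInverse_comp_apply _ _ _ _ t

theorem au_jbar (d : Data F p Q θ E R' N N' ι) {t : Ω}
    (ht : t ∈ normalizerIn S (preimageAlong θ R')) :
    au d.jbar (au θ t) = QuotientGroup.mk' (imageAlong ι Q) (au ι t) := by
  have h1 : au θ t ∈ normalizerIn S' R' := (d.mem_T.1 ht).2
  rw [au_mem d.jbar h1, au_mem ι ht]
  exact d.jbar_thetaT ⟨t, ht⟩

theorem jbar_injective (d : Data F p Q θ E R' N N' ι) : Function.Injective d.jbar := by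
  rw [injective_iff_map_eq_one]
  intro y hy
  obtain ⟨t, rfl⟩ := d.thetaT_surjective y
  rw [d.jbar_thetaT, QuotientGroup.mk'_apply, QuotientGroup.eq_one_iff] at hy
  obtain ⟨q, hqT, hqQ, hq⟩ := mem_img.1 hy
  have hqt : q = t := au_injOn d.hinj hqT t.2 (by rw [hq, au_mem ι t.2])
  apply Subtype.ext
  show au θ t = 1
  rw [← hqt]
  have hqk : q ∈ kerOf θ := by rw [d.hker]; exact hqQ
  exact (mem_kerOf.1 hqk).2

/-- maps of `N_E(R')` are induced by conjugation in the quotient -/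
theorem realized_mp (d : Data F p Q θ E R' N N' ι) {P' : Subgroup Ω'} {f' : Ω' → Ω'}
    (hf' : Mor N' P' f') :
    ∃ g : L ⧸ imageAlong ι Q, ∀ y ∈ P', au d.jbar (f' y) = g * au d.jbar y * g⁻¹ := by
  obtain ⟨hf'E, hP'T, hval, g', hg', e1, e2⟩ := (mor_normalizerSystem_iff d.hN').1 hf'
  have hPR'S : P' ⊔ R' ≤ S' := hg'.le
  obtain ⟨g, hg, hgg'⟩ := lift d.hα hPR'S hg'
  have hP_le : preimageAlong θ P' ≤ preimageAlong θ (P' ⊔ R') := preimageAlong_mono θ le_sup_left
  have hR_le : preimageAlong θ R' ≤ preimageAlong θ (P' ⊔ R') := preimageAlong_mono θ le_sup_right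
  have hgR : ∀ x ∈ preimageAlong θ R', g x ∈ preimageAlong θ R' := by
    intro x hx
    refine mem_pre.2 ⟨hg.mem (hR_le hx), ?_⟩
    rw [← hgg' x (hR_le hx)]
    exact (e2 _).2 ⟨au θ x, (mem_pre.1 hx).2, rfl⟩
  have hiso : Iso F (preimageAlong θ R') (preimageAlong θ R') g :=
    iso_of_card_le (hg.restrict hR_le) d.hRS hgR le_rfl
  have hPT := d.hPT hP'T
  have hgf : ∀ x ∈ preimageAlong θ P', au θ (g x) = f' (au θ x) := by
    intro x hx
    rw [← hgg' x (hP_le hx), e1 _ (mem_pre.1 hx).2]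
  have hmorN : Mor N (preimageAlong θ P') g := by
    rw [mor_normalizerSystem_iff d.hN]
    refine ⟨hg.restrict hP_le, hPT, fun x hx => ?_, g, hg.restrict (sup_le hP_le hR_le),
      fun _ _ => rfl, hiso.2⟩
    refine d.mem_T.2 ⟨hg.mem (hP_le hx), ?_⟩
    rw [hgf x hx]
    exact hval _ (mem_pre.1 hx).2
  obtain ⟨-, -, l, hl⟩ := (realized_mor_iff d.hr).1 hmorN
  refine ⟨QuotientGroup.mk' _ l, fun y hy => ?_⟩
  obtain ⟨x, hxS, rfl⟩ := exists_au_eq d.hrange (hf'E.le hy)
  have hx : x ∈ preimageAlong θ P' := mem_pre.2 ⟨hxS, hy⟩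
  rw [← hgf x hx, d.au_jbar (hmorN.mem hx), d.au_jbar (hPT hx), hl x hx]
  simp only [map_mul, map_inv]

/-- conjugation in the quotient induces maps of `N_E(R')` -/
theorem realized_mpr (d : Data F p Q θ E R' N N' ι) {P' : Subgroup Ω'} {f' : Ω' → Ω'}
    (hP' : P' ≤ normalizerIn S' R') (hval : ∀ y ∈ P', f' y ∈ normalizerIn S' R')
    (h : ∃ g : L ⧸ imageAlong ι Q, ∀ y ∈ P', au d.jbar (f' y) = g * au d.jbar y * g⁻¹) :
    Mor N' P' f' := by
  obtain ⟨gbar, hg⟩ := h
  obtain ⟨l, rfl⟩ := QuotientGroup.mk'_surjective (imageAlong ι Q) gbar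
  have hinj := d.hinj
  have hP'S : P' ≤ S' := hP'.trans inf_le_left
  have hPT := d.hPT hP'
  have key : ∀ x ∈ preimageAlong θ P', ∃ t ∈ normalizerIn S (preimageAlong θ R'),
      au θ t = f' (au θ x) ∧ (au ι t)⁻¹ * (l * au ι x * l⁻¹) ∈ imageAlong ι Q := by
    intro x hx
    have hy : au θ x ∈ P' := (mem_pre.1 hx).2
    obtain ⟨t, htS, ht⟩ := exists_au_eq d.hrange
      ((inf_le_left : normalizerIn S' R' ≤ S') (hval _ hy))
    have htT : t ∈ normalizerIn S (preimageAlong θ R') :=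
      d.mem_T.2 ⟨htS, by rw [ht]; exact hval _ hy⟩
    refine ⟨t, htT, ht, ?_⟩
    have h1 := hg _ hy
    rw [← ht, d.au_jbar htT, d.au_jbar (hPT hx)] at h1
    rw [← map_inv, ← map_mul, ← map_mul] at h1
    exact QuotientGroup.eq.1 h1
  set f : Ω → Ω := fun x => au (backHom ι hinj) (l * au ι x * l⁻¹) with hf
  have hrng : ∀ x ∈ preimageAlong θ P', l * au ι x * l⁻¹ ∈ ι.range := by
    intro x hx
    obtain ⟨t, htT, -, h2⟩ := key x hx
    obtain ⟨q, hqT, -, hq⟩ := mem_img.1 h2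
    have e : l * au ι x * l⁻¹ = au ι t * au ι q := by rw [hq]; group
    rw [e, ← au_mul ι htT hqT]
    exact au_mem_range' ι (Subgroup.mul_mem _ htT hqT)
  have hfe : ∀ x ∈ preimageAlong θ P', au ι (f x) = l * au ι x * l⁻¹ :=
    fun x hx => au_au_back ι hinj (hrng x hx)
  have hfT : ∀ x, f x ∈ normalizerIn S (preimageAlong θ R') := fun x => au_backHom_mem ι hinj _
  have hmorN : Mor N (preimageAlong θ P') f :=
    (realized_mor_iff d.hr).2 ⟨hPT, fun x _ => hfT x, l, hfe⟩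
  have hff' : ∀ x ∈ preimageAlong θ P', au θ (f x) = f' (au θ x) := by
    intro x hx
    obtain ⟨t, htT, ht, h2⟩ := key x hx
    rw [← hfe x hx, ← au_inv ι htT, ← au_mul ι (Subgroup.inv_mem _ htT) (hfT x)] at h2
    obtain ⟨q, hqT, hqQ, hq⟩ := mem_img.1 h2
    have h3 : q = t⁻¹ * f x :=
      au_injOn hinj hqT (Subgroup.mul_mem _ (Subgroup.inv_mem _ htT) (hfT x)) hq
    rw [← ht]
    symm
    rw [au_eq_iff θ (d.hTS htT) (d.hTS (hfT x)), d.hker, ← h3]
    exact hqQ
  obtain ⟨hfF, -, -, g, hgF, e1, e2⟩ := (mor_normalizerSystem_iff d.hN).1 hmorN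
  obtain ⟨g'', hg'', hgg⟩ := descend d.hα.1 hgF
  have hle : P' ⊔ R' ≤ imageAlong θ (preimageAlong θ P' ⊔ preimageAlong θ R') := by
    apply sup_le
    · have := imageAlong_mono θ (le_sup_left : preimageAlong θ P' ≤
        preimageAlong θ P' ⊔ preimageAlong θ R')
      rwa [img_pre d.hrange hP'S] at this
    · have := imageAlong_mono θ (le_sup_right : preimageAlong θ R' ≤
        preimageAlong θ P' ⊔ preimageAlong θ R')
      rwa [img_pre d.hrange d.hR'] at this
  have hg''P : ∀ y ∈ P', g'' y = f' y := by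
    intro y hy
    obtain ⟨x, hxS, rfl⟩ := exists_au_eq d.hrange (hP'S hy)
    have hx : x ∈ preimageAlong θ P' := mem_pre.2 ⟨hxS, hy⟩
    rw [hgg x ((le_sup_left : preimageAlong θ P' ≤ preimageAlong θ P' ⊔ preimageAlong θ R') hx),
      e1 x hx, hff' x hx]
  rw [mor_normalizerSystem_iff d.hN']
  refine ⟨((hg''.restrict hle).restrict le_sup_left).congr hg''P, hP', hval, g'',
    hg''.restrict hle, hg''P, fun y => ?_⟩
  constructor
  · intro hy
    obtain ⟨r, hrS, rfl⟩ := exists_au_eq d.hrange (d.hR' hy)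
    have hr : r ∈ preimageAlong θ R' := mem_pre.2 ⟨hrS, hy⟩
    obtain ⟨r₀, hr₀, rfl⟩ := (e2 r).1 hr
    exact ⟨au θ r₀, (mem_pre.1 hr₀).2,
      hgg r₀ ((le_sup_right : preimageAlong θ R' ≤ preimageAlong θ P' ⊔ preimageAlong θ R') hr₀)⟩
  · rintro ⟨x', hx', rfl⟩
    obtain ⟨r, hrS, rfl⟩ := exists_au_eq d.hrange (d.hR' hx')
    have hr : r ∈ preimageAlong θ R' := mem_pre.2 ⟨hrS, hx'⟩
    rw [hgg r ((le_sup_right : preimageAlong θ R' ≤ preimageAlong θ P' ⊔ preimageAlong θ R') hr)]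
    exact (mem_pre.1 ((e2 _).2 ⟨r, hr, rfl⟩)).2

theorem realized (d : Data F p Q θ E R' N N' ι) : N'.IsRealizedBy d.jbar :=
  Cfsg.Agent.Helper87.SubModel.isRealizedBy_of_mor_iff d.jbar_injective
    (fun P' f' hP' hval => ⟨d.realized_mp, d.realized_mpr hP' hval⟩)

theorem jbar_range (d : Data F p Q θ E R' N N' ι) :
    d.jbar.range = (ι.range).map (QuotientGroup.mk' (imageAlong ι Q)) := by
  ext z
  constructor
  · rintro ⟨y, rfl⟩
    obtain ⟨t, rfl⟩ := d.thetaT_surjective y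
    rw [d.jbar_thetaT]
    exact ⟨ι t, ⟨t, rfl⟩, rfl⟩
  · rintro ⟨_, ⟨t, rfl⟩, rfl⟩
    exact ⟨d.thetaT t, d.jbar_thetaT t⟩

theorem exists_sylow (d : Data F p Q θ E R' N N' ι) :
    ∃ Tb : Sylow p (L ⧸ imageAlong ι Q), (Tb : Subgroup (L ⧸ imageAlong ι Q)) = d.jbar.range := by
  haveI := d.hL.1
  obtain ⟨T₀, hT₀⟩ := d.hL.2.2.1
  have hp : IsPGroup p d.jbar.range := by
    rw [d.jbar_range, ← hT₀]
    exact T₀.isPGroup'.map _
  have hidx : ¬ p ∣ d.jbar.range.index := by
    rw [d.jbar_range, ← hT₀]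
    intro hdvd
    exact T₀.not_dvd_index
      (hdvd.trans (Subgroup.index_map_dvd _ (QuotientGroup.mk'_surjective _)))
  exact ⟨hp.toSylow hidx, rfl⟩

theorem imgR' (d : Data F p Q θ E R' N N' ι) :
    imageAlong d.jbar R' =
      (imageAlong ι (preimageAlong θ R')).map (QuotientGroup.mk' (imageAlong ι Q)) := by
  ext z
  constructor
  · intro hz
    obtain ⟨y, hyT, hyR, rfl⟩ := mem_img.1 hz
    obtain ⟨r, hrS, rfl⟩ := exists_au_eq d.hrange (d.hR' hyR)
    have hr : r ∈ preimageAlong θ R' := mem_pre.2 ⟨hrS, hyR⟩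
    rw [d.au_jbar (d.hRT hr)]
    exact ⟨au ι r, mem_img.2 ⟨r, d.hRT hr, hr, rfl⟩, rfl⟩
  · rintro ⟨_, hw, rfl⟩
    obtain ⟨r, hrT, hrR, rfl⟩ := mem_img.1 hw
    rw [← d.au_jbar hrT]
    exact mem_img.2 ⟨au θ r, (d.mem_T.1 hrT).2, (mem_pre.1 hrR).2, rfl⟩

/-- the quotient of `L/ι(Q)` by its `p'`-core is a model of `N_E(R')` -/
theorem isModel (d : Data F p Q θ E R' N N' ι) :
    N'.IsModel p ((L ⧸ imageAlong ι Q) ⧸ pPrimeCore p (L ⧸ imageAlong ι Q))
      ((QuotientGroup.mk' (pPrimeCore p (L ⧸ imageAlong ι Q))).comp d.jbar) := by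
  haveI := d.hL.1
  haveI : Finite S' := Cfsg.Agent.Helper85.factor_finite d.hE
  haveI : Finite (normalizerIn S' R') := finite_of_le (inf_le_left : normalizerIn S' R' ≤ S')
  obtain ⟨Tb, hTb⟩ := d.exists_sylow
  have hS' : IsPGroup p (normalizerIn S' R') :=
    (factor_isPGroup d.hS d.hE).to_le (inf_le_left : normalizerIn S' R' ≤ S')
  haveI : (imageAlong ι (preimageAlong θ R')).Normal := d.imgR_normal
  apply Cfsg.Agent.Helper87.ModelQuot.model_quotient_of_centric hS' d.realized Tb hTb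
    (le_normalizerIn d.hR')
  · rw [d.imgR']
    exact Subgroup.Normal.map inferInstance _ (QuotientGroup.mk'_surjective _)
  · rintro c ⟨hc, hcc⟩
    exact d.hR'c.2 R' (isConj_refl d.hR') ⟨(inf_le_left : normalizerIn S' R' ≤ S') hc, hcc⟩

/-- every model of `N_E(R')` is involved in `L` -/
theorem involves (d : Data F p Q θ E R' N N' ι) {L' : Type*} [Group L']
    {ι' : ↥(normalizerIn S' R') →* L'} (hL' : N'.IsModel p L' ι') {H : Type*} [Group H]
    (h : Involves H L') : Involves H L := by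
  haveI : Finite S' := Cfsg.Agent.Helper85.factor_finite d.hE
  haveI : Finite (normalizerIn S' R') := finite_of_le (inf_le_left : normalizerIn S' R' ≤ S')
  obtain ⟨φ, -⟩ := Cfsg.Agent.Helper87.ModelUnique.exists_iso hL' d.isModel
  have h1 := Cfsg.Agent.Helper46.involves_of_injective φ.toMonoidHom φ.injective h
  have h2 := Cfsg.Agent.Helper46.involves_of_involves_quotient
    (QuotientGroup.mk' (pPrimeCore p (L ⧸ imageAlong ι Q))) (QuotientGroup.mk'_surjective _) h1
  exact Cfsg.Agent.Helper46.involves_of_involves_quotient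
    (QuotientGroup.mk' (imageAlong ι Q)) (QuotientGroup.mk'_surjective _) h2

end quot

end Data

end Cfsg.Agent.Helper87.QdFactor
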