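import Mathlib
import Cfsg.Agent.Lib.Helper87.FusionOmega

set_option autoImplicit false

namespace Cfsg.Agent.Helper87

open Cfsg Cfsg.FusionSystem

variable {Ω : Type*} [Group Ω] {S : Subgroup Ω}

theorem alperinClosed_inner (F : FusionSystem S) :
    AlperinClosed F (fun P f => ∃ g ∈ S, ∀ x ∈ P, f x = g * x * g⁻¹) where
  congr := by
    rintro P f f' ⟨g, hg, e⟩ hff
    exact ⟨g, hg, fun x hx => by rw [← hff x hx, e x hx]⟩
  restrict := by
    rintro P Q f - ⟨g, hg, e⟩ hQP
    exact ⟨g, hg, fun x hx => e x (hQP hx)⟩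
  comp := by
    rintro P Q f g hf hg hPQ ⟨a, ha, e1⟩ ⟨b, hb, e2⟩
    refine ⟨b * a, S.mul_mem hb ha, fun x hx => ?_⟩
    show g (f x) = _
    rw [e2 _ (hPQ x hx), e1 x hx]; group

/-- a saturated system all of whose automizers (of fully normalized subgroups) are `p`-groups is the inner system -/
theorem eq_inner_of_isPGroup_autGroup {p : ℕ} [Fact p.Prime] [Finite S] (hS : IsPGroup p S)
    {F : FusionSystem S} (hF : F.IsSaturated p)
    (h : ∀ R : Subgroup Ω, F.IsFullyNormalized R → IsPGroup p (F.autGroup R)) :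
    ∀ P : Subgroup Ω, F.Hom P = (innerFusionSystem S).Hom P := by
  intro P
  apply Set.Subset.antisymm
  · intro φ hφ
    have hmor : Mor F P (extFun φ) := mor_of_mem hφ
    obtain ⟨g, hg, e⟩ := alperin hS hF _ (alperinClosed_inner F) (by
      intro R hfn _ _ α hα
      obtain ⟨hRS, T, hT⟩ := fullyAutomized_of_fullyNormalized hS hF hfn
      have htop : (⊤ : Subgroup (F.autGroup R)) = T :=
        T.is_maximal' ((h R hfn).to_subgroup ⊤) le_top
      have hmem : (⟨α, hα⟩ : F.autGroup R) ∈ (T : Subgroup (F.autGroup R)) := by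
        rw [← htop]; trivial
      rw [hT, Subgroup.mem_subgroupOf] at hmem
      obtain ⟨g, hg, e⟩ := mem_autInducedBy_iff.1 hmem
      exact ⟨g, hg, fun x hx => by rw [extAut_mem α hx, e]⟩) P _ hmor
    refine ⟨hmor.le, g, hg, fun x => ?_⟩
    rw [← e x x.2, extFun_apply]
  · exact inner_isSubsystemOf F le_rfl P

/-- induction principle: if no automizer contains a minimal nontrivial coprime action, all automizers are `p`-groups -/
theorem isPGroup_autGroup_of_no_minAct {p : ℕ} [Fact p.Prime] [Finite S] (hS : IsPGroup p S)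
    (F : FusionSystem S)
    (h : ∀ R : Subgroup Ω, R ≤ S → ∀ β ∈ F.autGroup R, ∀ m : ℕ, m.Coprime p →
      MinAct p β ⊤ m → False) :
    ∀ R : Subgroup Ω, R ≤ S → IsPGroup p (F.autGroup R) := by
  intro R
  induction' hn : Nat.card R using Nat.strong_induction_on with n ih generalizing R
  intro hRS
  have hfinR : Finite R := finite_of_le hRS
  apply isPGroup_of_coprime_trivial
  rintro ⟨β, hβ⟩ hcop
  have hord : orderOf (⟨β, hβ⟩ : F.autGroup R) = orderOf β := (Subgroup.orderOf_coe _).symm
  rw [hord] at hcop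
  by_contra hne
  have hmor : Mor F R (extAut β) := (mem_autGroup_iff hRS).1 hβ
  apply h R hRS β hβ (orderOf β) hcop
  refine { pgroup := (hS.to_le hRS).to_subgroup ⊤, inv := fun _ _ => trivial, cop := hcop,
           pow := fun x _ => by rw [pow_orderOf_eq_one]; rfl, min := ?_, nontriv := ?_ }
  · intro K hK hKinv
    have hK'R : K.map R.subtype ≤ R := Subgroup.map_subtype_le K
    have hK'S : K.map R.subtype ≤ S := hK'R.trans hRS
    have hfinK : Finite K := inferInstance
    have hcardK : Nat.card (K.map R.subtype) = Nat.card K :=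
      Subgroup.card_map_of_injective (Subgroup.subtype_injective R)
    have hcardlt : Nat.card (K.map R.subtype) < Nat.card R := by
      rw [hcardK]
      by_contra hge
      push Not at hge
      have : Nat.card (⊤ : Subgroup R) ≤ Nat.card K := by rw [Subgroup.card_top]; exact hge
      exact hK.ne (Subgroup.eq_of_le_of_card_ge le_top this)
    have hpK := ih _ (hn ▸ hcardlt) (K.map R.subtype) rfl hK'S
    have hmap : ∀ c ∈ K.map R.subtype, extAut β c ∈ K.map R.subtype := by
      rintro _ ⟨k, hk, rfl⟩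
      exact ⟨β k, hKinv k hk, (extAut_apply β k).symm⟩
    have hiso : Iso F (K.map R.subtype) (K.map R.subtype) (extAut β) :=
      iso_of_card_le (hmor.restrict hK'R) hK'S hmap le_rfl
    have hγ := hiso.equiv_mem_autGroup
    have hpow : ∀ (j : ℕ) (y : K.map R.subtype),
        (((hiso.equiv : MulAut (K.map R.subtype)) ^ j) y : Ω) = (((β ^ j) ⟨y, hK'R y.2⟩ : R) : Ω) := by
      intro j
      induction j with
      | zero => intro y; rfl
      | succ j ihj =>
        intro y
        rw [pow_succ', pow_succ', MulAut.mul_apply, MulAut.mul_apply]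
        have h1 := hiso.equiv_apply (((hiso.equiv : MulAut (K.map R.subtype)) ^ j) y)
        rw [h1, extAut_mem β (hK'R (Subtype.mem _))]
        congr 2
        exact Subtype.ext (ihj y)
    have hγm : (hiso.equiv : MulAut (K.map R.subtype)) ^ orderOf β = 1 := by
      ext y
      rw [hpow, pow_orderOf_eq_one]; rfl
    obtain ⟨j, hj⟩ := hpK ⟨_, hγ⟩
    have hj' : (hiso.equiv : MulAut (K.map R.subtype)) ^ p ^ j = 1 := congrArg Subtype.val hj
    have hd1 : orderOf (hiso.equiv : MulAut (K.map R.subtype)) ∣ orderOf β :=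
      orderOf_dvd_of_pow_eq_one hγm
    have hd2 : orderOf (hiso.equiv : MulAut (K.map R.subtype)) ∣ p ^ j :=
      orderOf_dvd_of_pow_eq_one hj'
    have hc : (orderOf (hiso.equiv : MulAut (K.map R.subtype))).Coprime (p ^ j) :=
      (hcop.pow_right j).coprime_dvd_left hd1
    have hγ1 : (hiso.equiv : MulAut (K.map R.subtype)) = 1 :=
      orderOf_eq_one_iff.mp (hc.eq_one_of_dvd hd2)
    intro k hk
    have hk' : (k : Ω) ∈ K.map R.subtype := ⟨k, hk, rfl⟩
    have h1 := hiso.equiv_apply ⟨(k : Ω), hk'⟩
    rw [hγ1] at h1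
    apply Subtype.ext
    rw [← extAut_apply β k]
    exact h1.symm
  · intro hall
    apply hne
    apply Subtype.ext
    ext x
    rw [hall x trivial]; rfl

end Cfsg.Agent.Helper87
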