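import Mathlib
import Cfsg.Prelude.Def_FusionSystem
import Cfsg.Agent.Lib.Helper87.CenFunctor
import Cfsg.Agent.Lib.Helper87.FusionAlperin

set_option autoImplicit false
set_option linter.style.haveILetI false
set_option linter.unusedSectionVars false
set_option linter.unusedVariables false

/-! # Control of transfer by a positive characteristic functor: basic API

`Tr D₀ P f` says that `x⁻¹ f(x) ∈ D₀` for all `x ∈ P`. -/

namespace Cfsg.Agent.Helper87.TrfFunctor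

open Cfsg Cfsg.FusionSystem Cfsg.Agent.Helper87 Cfsg.Agent.Helper87.GlaubFunctor
  Cfsg.Agent.Helper87.CenFunctor

universe u

variable {Ω : Type u} [Group Ω] {S : Subgroup Ω} {W : ∀ (Q : Type u) [Group Q], Subgroup Q}

/-- all quotients `x⁻¹ f(x)` with `x ∈ P` lie in `D₀` -/
def Tr (D₀ P : Subgroup Ω) (f : Ω → Ω) : Prop := ∀ x ∈ P, x⁻¹ * f x ∈ D₀

theorem alperinClosed_tr (F : FusionSystem S) (D₀ : Subgroup Ω) : AlperinClosed F (Tr D₀) where
  congr := by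
    intro P f f' h hff x hx
    rw [← hff x hx]; exact h x hx
  restrict := by
    intro P Q f _ h hQP x hx
    exact h x (hQP hx)
  comp := by
    intro P Q f g hf hg hPQ h1 h2 x hx
    show x⁻¹ * g (f x) ∈ D₀
    have e : x⁻¹ * g (f x) = (x⁻¹ * f x) * ((f x)⁻¹ * g (f x)) := by group
    rw [e]
    exact D₀.mul_mem (h1 x hx) (h2 _ (hPQ x hx))

theorem Tr.restrict {D₀ P P' : Subgroup Ω} {f : Ω → Ω} (h : Tr D₀ P f) (hP' : P' ≤ P) :
    Tr D₀ P' f := fun x hx => h x (hP' hx)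

theorem Tr.congr {D₀ P : Subgroup Ω} {f f' : Ω → Ω} (h : Tr D₀ P f)
    (hff : ∀ x ∈ P, f x = f' x) : Tr D₀ P f' := by
  intro x hx
  rw [← hff x hx]; exact h x hx

theorem Tr.mono {D₀ D₁ P : Subgroup Ω} {f : Ω → Ω} (h : Tr D₀ P f) (hD : D₀ ≤ D₁) :
    Tr D₁ P f := fun x hx => hD (h x hx)

/-- transport along a map with the property -/
theorem Tr.conj {F : FusionSystem S} {D₀ M A : Subgroup Ω} {φ γ γ' : Ω → Ω}
    (hφ : Mor F M φ) (hφg : Tr D₀ M φ) (hA : A ≤ M) (hγM : ∀ x ∈ A, γ x ∈ M)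
    (hcomm : ∀ a ∈ A, γ' (φ a) = φ (γ a)) (hg' : ∀ a ∈ A, (φ a)⁻¹ * γ' (φ a) ∈ D₀) :
    Tr D₀ A γ := by
  intro a ha
  have hw : a⁻¹ * γ a ∈ M := M.mul_mem (M.inv_mem (hA ha)) (hγM a ha)
  have h1 : φ (a⁻¹ * γ a) = (φ a)⁻¹ * γ' (φ a) := by
    rw [hφ.map_mul (M.inv_mem (hA ha)) (hγM a ha), hφ.map_inv (hA ha), hcomm a ha]
  have h2 : φ (a⁻¹ * γ a) ∈ D₀ := by rw [h1]; exact hg' a ha
  have h3 := hφg _ hw
  have e : a⁻¹ * γ a = φ (a⁻¹ * γ a) * ((a⁻¹ * γ a)⁻¹ * φ (a⁻¹ * γ a))⁻¹ := by group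
  rw [e]
  exact D₀.mul_mem h2 (D₀.inv_mem h3)

/-! ### the focal subgroup -/

theorem mem_focal {F : FusionSystem S} {P : Subgroup Ω} {f : Ω → Ω} (hf : Mor F P f) {x : Ω}
    (hx : x ∈ P) : x⁻¹ * f x ∈ F.focalSubgroup := by
  obtain ⟨φ, hφ, e⟩ := hf
  apply Subgroup.subset_closure
  exact ⟨P, φ, ⟨x, hx⟩, hφ, by rw [e ⟨x, hx⟩]⟩

theorem focal_le_iff {F : FusionSystem S} {D₀ : Subgroup Ω} :
    F.focalSubgroup ≤ D₀ ↔ ∀ (P : Subgroup Ω) (f : Ω → Ω), Mor F P f → Tr D₀ P f := by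
  constructor
  · intro h P f hf x hx
    exact h (mem_focal hf hx)
  · intro h
    unfold FusionSystem.focalSubgroup
    rw [Subgroup.closure_le]
    rintro y ⟨P, φ, x, hφ, rfl⟩
    have := h P _ (mor_of_mem hφ) x x.2
    rwa [extFun_apply] at this

/-! ### the hypothesis: maps normalizing `W(S)` have quotients in `D₀` -/

/-- all maps of `F` whose source contains `W(S)` and which carry `W(S)` into itself have their
quotients `x⁻¹ f(x)` in `D₀` -/
def NT (W : ∀ (Q : Type u) [Group Q], Subgroup Q) (F : FusionSystem S) (D₀ : Subgroup Ω) : Prop :=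
  ∀ (P : Subgroup Ω) (f : Ω → Ω), Mor F P f → WW W S ≤ P →
    (∀ x ∈ WW W S, f x ∈ WW W S) → Tr D₀ P f

/-- under `NT`, `D₀` contains the commutators of `S` -/
theorem NT.conj_mem {F : FusionSystem S} {D₀ : Subgroup Ω} {p : ℕ} (hW : IsPos p W) [Finite S]
    (hS : IsPGroup p S) (h : NT W F D₀) {s a : Ω} (hs : s ∈ S) (ha : a ∈ S) :
    a⁻¹ * (s * a * s⁻¹) ∈ D₀ := by
  have hm : Mor F S (fun x => s * x * s⁻¹) := Mor.conj (F := F) le_rfl hs
  have hn : s ∈ normalizerIn S (WW W S) := by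
    rw [pos_normalizerIn_top hW hS]; exact hs
  exact h S _ hm (WW_le W S) (fun x hx => (Subgroup.mem_normalizer_iff.1 hn.2 x).1 hx) a ha

end Cfsg.Agent.Helper87.TrfFunctor
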