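import Mathlib
import Cfsg.Agent.Lib.Helper87.TrfFunctor
import Cfsg.Agent.Lib.Helper87.CenConstrained

set_option autoImplicit false
set_option linter.style.haveILetI false
set_option linter.unusedSectionVars false
set_option linter.unusedVariables false

/-! # Control of transfer for constrained systems: the part inside the normal centric subgroup -/

namespace Cfsg.Agent.Helper87.TrfConstrained

open Cfsg Cfsg.FusionSystem Cfsg.Agent.Helper87 Cfsg.Agent.Helper85
  Cfsg.Agent.Helper87.GlaubFunctor Cfsg.Agent.Helper87.CenFunctor Cfsg.Agent.Helper87.TrfFunctor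

open scoped commutatorElement

universe u

variable {Ω : Type u} [Group Ω] {W : ∀ (Q : Type u) [Group Q], Subgroup Q}

/-- in a saturated system with a normal centric subgroup `R`, the part of the focal subgroup inside
`R` lies in every subgroup `D₀` containing the quotients of the maps normalizing `W` of the
underlying group, provided `W` satisfies the local focal condition -/
theorem inf_focal_le_of_constrained {p : ℕ} [Fact p.Prime] (hW : IsPos p W)
    (hT : ∀ (G : Type u) [Group G] [Finite G] (P : Sylow p G),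
      Subgroup.centralizer ((Cfsg.pCore p G : Subgroup G) : Set G) ≤ Cfsg.pCore p G →
      Cfsg.pCore p G ⊓ commutator G = Cfsg.pCore p G ⊓
        (commutator ↥(Subgroup.normalizer
          (((W ↥(P : Subgroup G)).map (P : Subgroup G).subtype : Subgroup G) : Set G))).map
          (Subgroup.normalizer
            (((W ↥(P : Subgroup G)).map (P : Subgroup G).subtype : Subgroup G) : Set G)).subtype)
    {T : Subgroup Ω} [Finite T] (hTp : IsPGroup p T) {E : FusionSystem T} (hE : E.IsSaturated p)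
    {R : Subgroup Ω} (hRn : E.IsNormal R) (hRc : E.IsCentric R) {D₀ : Subgroup Ω}
    (hNT : NT W E D₀) : R ⊓ E.focalSubgroup ≤ D₀ := by
  obtain ⟨L, _, ι, hL, -⟩ :=
    Cfsg.Agent.Helper87.ModelExists.exists_model_centralizer hTp hE hRn hRc
  haveI : Finite L := hL.1
  obtain ⟨P₀, hP₀⟩ := hL.2.2.1
  have hreal := hL.2.1
  have hinj : Function.Injective ι := hreal.1
  let e : ↥T ≃* ↥(P₀ : Subgroup L) :=
    (MonoidHom.ofInjective hinj).trans (MulEquiv.subgroupCongr hP₀.symm)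
  have h2 := hW.h2 ↥T ↥(P₀ : Subgroup L) hTp e
  have hmap : ((W ↥(P₀ : Subgroup L)).map (P₀ : Subgroup L).subtype : Subgroup L) =
      (W ↥T).map ι := by
    rw [← h2, Subgroup.map_map]
    congr 1
  have hTL := hT L P₀ hL.2.2.2
  rw [hmap] at hTL
  have hRS : R ≤ T := (isNormal_iff.1 hRn).1
  have hXT : WW W T ≤ T := WW_le W T
  have hYn : (imageAlong ι R).Normal := model_image_normal hL hRn
  have hYp : IsPGroup p (imageAlong ι R) := (hTp.to_subgroup (R.subgroupOf T)).map ι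
  have hYle : imageAlong ι R ≤ pCore p L := le_pCore hYn hYp
  have hmemX : ∀ x ∈ WW W T, au ι x ∈ (W ↥T).map ι := by
    intro x hx
    obtain ⟨hxT, hxW⟩ := mem_WW.1 hx
    rw [au_mem ι hxT]
    exact ⟨⟨x, hxT⟩, hxW, rfl⟩
  have hmemX' : ∀ x ∈ T, au ι x ∈ (W ↥T).map ι → x ∈ WW W T := by
    intro x hxT hx
    rw [au_mem ι hxT] at hx
    obtain ⟨w, hw, hwx⟩ := hx
    have := hinj hwx
    exact mem_WW.2 ⟨hxT, this ▸ hw⟩
  have hXrange : (W ↥T).map ι ≤ ι.range := by
    rintro _ ⟨x, -, rfl⟩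
    exact ⟨x, rfl⟩
  -- the range normalizes the image of `W(T)`
  have hrangeM : ι.range ≤ Subgroup.normalizer (((W ↥T).map ι : Subgroup L) : Set L) := by
    rintro _ ⟨t, rfl⟩
    haveI : Finite (((W ↥T).map ι : Subgroup L) : Set L) :=
      Finite.of_injective (fun y : (((W ↥T).map ι : Subgroup L) : Set L) => (y : L))
        Subtype.val_injective
    apply Subgroup.mem_normalizer_fintype
    rintro _ ⟨w, hw, rfl⟩
    have hwX : (w : Ω) ∈ WW W T := mem_WW.2 ⟨w.2, hw⟩
    have hn : (t : Ω) ∈ normalizerIn T (WW W T) := by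
      rw [pos_normalizerIn_top hW hTp]; exact t.2
    have h3 : (t : Ω) * (w : Ω) * (t : Ω)⁻¹ ∈ WW W T :=
      (Subgroup.mem_normalizer_iff.1 hn.2 _).1 hwX
    have h4 := hmemX _ h3
    rw [au_conj ι t.2 w.2, au_mem ι w.2, au_mem ι t.2] at h4
    exact h4
  -- the focal subgroup maps into the commutator subgroup of the model
  have hfoc : E.focalSubgroup ≤ ((commutator L).comap ι).map T.subtype := by
    unfold FusionSystem.focalSubgroup
    rw [Subgroup.closure_le]
    rintro y ⟨P, φ, x, hφ, rfl⟩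
    have hP := (E.le_of_mem hφ).1
    have hφS := (E.le_of_mem hφ).2
    obtain ⟨g, hg⟩ := (hreal.2 P hP φ hφS).1 hφ
    refine ⟨(⟨x, hP x.2⟩ : T)⁻¹ * ⟨φ x, hφS x⟩, ?_, rfl⟩
    show ι ((⟨x, hP x.2⟩ : T)⁻¹ * ⟨φ x, hφS x⟩) ∈ commutator L
    rw [map_mul, map_inv, hg x]
    have e1 : (ι ⟨x, hP x.2⟩)⁻¹ * (g * ι ⟨x, hP x.2⟩ * g⁻¹) = ⁅(ι ⟨x, hP x.2⟩)⁻¹, g⁆ := by
      rw [commutatorElement_def]; group
    rw [e1]
    exact Subgroup.commutator_mem_commutator (Subgroup.mem_top _) (Subgroup.mem_top _)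
  -- the Sylow subgroup of the normalizer
  have hP₀M : (P₀ : Subgroup L) ≤
      Subgroup.normalizer (((W ↥T).map ι : Subgroup L) : Set L) := hP₀ ▸ hrangeM
  -- the focal subgroup of the normalizer
  have key : ((P₀.subtype hP₀M : Sylow p ↥(Subgroup.normalizer
      (((W ↥T).map ι : Subgroup L) : Set L))) : Subgroup ↥(Subgroup.normalizer
      (((W ↥T).map ι : Subgroup L) : Set L))).focalSubgroup ≤
      (imageAlong ι D₀).subgroupOf (Subgroup.normalizer (((W ↥T).map ι : Subgroup L) : Set L)) := by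
    rw [Subgroup.focalSubgroup_def, Subgroup.closure_le]
    rintro g ⟨hgP, x, hxP, u, rfl⟩
    have hxr : (x : L) ∈ ι.range := by
      have : (x : L) ∈ (P₀ : Subgroup L) := hxP
      rwa [hP₀] at this
    have hgr : ((⁅x, u⁆ : ↥(Subgroup.normalizer (((W ↥T).map ι : Subgroup L) : Set L))) : L) ∈
        ι.range := by
      have : ((⁅x, u⁆ : ↥(Subgroup.normalizer (((W ↥T).map ι : Subgroup L) : Set L))) : L) ∈
          (P₀ : Subgroup L) := hgP
      rwa [hP₀] at this
    obtain ⟨tx, htx⟩ := hxr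
    -- the subgroup on which conjugation by `u` stays inside the range
    set Pu : Subgroup Ω := preimageAlong ι
      ((ι.range).map (MulAut.conj (u : L)⁻¹).toMonoidHom) with hPu
    have hmemPu : ∀ z : Ω, z ∈ Pu ↔ z ∈ T ∧ (u : L) * au ι z * (u : L)⁻¹ ∈ ι.range := by
      intro z
      rw [hPu, mem_pre, Subgroup.mem_map_equiv]
      simp
    have hcoe : ((⁅x, u⁆ : ↥(Subgroup.normalizer (((W ↥T).map ι : Subgroup L) : Set L))) : L) =
        (x : L) * ((u : L) * (x : L)⁻¹ * (u : L)⁻¹) := by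
      rw [commutatorElement_def]
      simp only [Subgroup.coe_mul, Subgroup.coe_inv]
      group
    have hy₀ : ((tx⁻¹ : T) : Ω) ∈ Pu := by
      rw [hmemPu]
      refine ⟨(tx⁻¹ : T).2, ?_⟩
      rw [au_mem ι (tx⁻¹ : T).2]
      have e1 : ι ⟨((tx⁻¹ : T) : Ω), (tx⁻¹ : T).2⟩ = (x : L)⁻¹ := by
        rw [← htx, ← map_inv]
      rw [e1]
      have e2 : (u : L) * (x : L)⁻¹ * (u : L)⁻¹ = (x : L)⁻¹ *
          ((x : L) * ((u : L) * (x : L)⁻¹ * (u : L)⁻¹)) := by group
      rw [e2, ← hcoe]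
      exact Subgroup.mul_mem _ (Subgroup.inv_mem _ ⟨tx, htx⟩) hgr
    have hXPu : WW W T ≤ Pu := by
      intro z hz
      rw [hmemPu]
      refine ⟨hXT hz, hXrange ?_⟩
      exact (Subgroup.mem_normalizer_iff.1 u.2 _).1 (hmemX z hz)
    have hPuT : Pu ≤ T := fun z hz => ((hmemPu z).1 hz).1
    have hf : Mor E Pu (fun z => au (backHom ι hinj) ((u : L) * au ι z * (u : L)⁻¹)) := by
      rw [realized_mor_iff hreal]
      refine ⟨hPuT, fun z _ => au_backHom_mem ι hinj _, (u : L), fun z hz => ?_⟩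
      exact au_au_back ι hinj ((hmemPu z).1 hz).2
    have hfX : ∀ z ∈ WW W T,
        (fun z => au (backHom ι hinj) ((u : L) * au ι z * (u : L)⁻¹)) z ∈ WW W T := by
      intro z hz
      apply hmemX' _ (au_backHom_mem ι hinj _)
      show au ι (au (backHom ι hinj) ((u : L) * au ι z * (u : L)⁻¹)) ∈ (W ↥T).map ι
      rw [au_au_back ι hinj ((hmemPu z).1 (hXPu hz)).2]
      exact (Subgroup.mem_normalizer_iff.1 u.2 _).1 (hmemX z hz)
    have htr := hNT Pu _ hf hXPu hfX _ hy₀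
    -- the element of `D₀`
    apply Subgroup.mem_subgroupOf.2
    have hfy₀T : au (backHom ι hinj) ((u : L) * au ι ((tx⁻¹ : T) : Ω) * (u : L)⁻¹) ∈ T :=
      au_backHom_mem ι hinj _
    have hdT : (((tx⁻¹ : T) : Ω))⁻¹ *
        au (backHom ι hinj) ((u : L) * au ι ((tx⁻¹ : T) : Ω) * (u : L)⁻¹) ∈ T :=
      T.mul_mem (T.inv_mem (tx⁻¹ : T).2) hfy₀T
    refine mem_img.2 ⟨_, hdT, htr, ?_⟩
    rw [au_mul ι (T.inv_mem (tx⁻¹ : T).2) hfy₀T, au_inv ι (tx⁻¹ : T).2,
      au_au_back ι hinj ((hmemPu _).1 hy₀).2, au_mem ι (tx⁻¹ : T).2]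
    have e1 : ι ⟨((tx⁻¹ : T) : Ω), (tx⁻¹ : T).2⟩ = (x : L)⁻¹ := by
      rw [← htx, ← map_inv]
    rw [e1, hcoe]
    group
  -- conclusion
  rintro y ⟨hyR, hyf⟩
  obtain ⟨y', hy'c, rfl⟩ := hfoc hyf
  have h1 : ι y' ∈ pCore p L := by
    apply hYle
    refine mem_img.2 ⟨(y' : Ω), y'.2, hyR, ?_⟩
    rw [au_mem ι y'.2]
  have h3 : ι y' ∈ pCore p L ⊓ commutator L := ⟨h1, hy'c⟩
  rw [hTL] at h3
  obtain ⟨m', hm'c, hm'e⟩ := h3.2
  have hm'P : m' ∈ ((P₀.subtype hP₀M : Sylow p ↥(Subgroup.normalizer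
      (((W ↥T).map ι : Subgroup L) : Set L))) : Subgroup ↥(Subgroup.normalizer
      (((W ↥T).map ι : Subgroup L) : Set L))) := by
    rw [Sylow.coe_subtype, Subgroup.mem_subgroupOf]
    have : (m' : L) = ι y' := hm'e
    rw [this, hP₀]
    exact ⟨y', rfl⟩
  have hm'f : m' ∈ ((P₀.subtype hP₀M : Sylow p ↥(Subgroup.normalizer
      (((W ↥T).map ι : Subgroup L) : Set L))) : Subgroup ↥(Subgroup.normalizer
      (((W ↥T).map ι : Subgroup L) : Set L))).focalSubgroup := by
    rw [← Subgroup.commutator_inf_eq_focalSubgroup]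
    exact ⟨hm'c, hm'P⟩
  have h4 := key hm'f
  rw [Subgroup.mem_subgroupOf] at h4
  have h5 : (m' : L) = ι y' := hm'e
  rw [h5] at h4
  obtain ⟨d, hdT, hdD, hde⟩ := mem_img.1 h4
  rw [au_mem ι hdT] at hde
  have := hinj hde
  have h6 : d = (y' : Ω) := congrArg (fun t : T => (t : Ω)) this
  show (y' : Ω) ∈ D₀
  rw [← h6]
  exact hdD

end Cfsg.Agent.Helper87.TrfConstrained
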