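import Mathlib
import Cfsg.Agent.Lib.Helper87.TrfFunctor
import Cfsg.Agent.Lib.Helper87.GlaubNormal
import Cfsg.Agent.Lib.Helper87.FactorPre
import Cfsg.Agent.Lib.Helper85.NormalizerModel
import Cfsg.Agent.Lib.Helper85.Trans3

set_option autoImplicit false
set_option linter.style.haveILetI false
set_option linter.unusedSectionVars false
set_option linter.unusedVariables false

/-! # Control of transfer: the factor system step and the transfer step -/

namespace Cfsg.Agent.Helper87.TrfStep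

open Cfsg Cfsg.FusionSystem Cfsg.Agent.Helper87 Cfsg.Agent.Helper85
  Cfsg.Agent.Helper87.GlaubFunctor Cfsg.Agent.Helper87.FactorPre Cfsg.Agent.Helper87.GlaubNormal
  Cfsg.Agent.Helper87.CenFunctor Cfsg.Agent.Helper87.TrfFunctor MulAction

universe u

section Factor

variable {Ω : Type u} [Group Ω] {S : Subgroup Ω} {Ω' : Type u} [Group Ω'] {S' : Subgroup Ω'}
  [Finite S] {p : ℕ} [Fact p.Prime] {F : FusionSystem S} {Q : Subgroup Ω} {θ : S →* Ω'}
  {E : FusionSystem S'} {W : ∀ (Q : Type u) [Group Q], Subgroup Q}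

/-- if all maps of the normalizer system of the preimage `V` of `W(S/Q)` have their quotients in
`D₀`, the image of `D₀` satisfies the hypothesis `NT` in the factor system -/
theorem nt_factor (hS : IsPGroup p S) (hF : F.IsSaturated p) (hQ : F.StronglyClosed Q)
    (hE : F.IsFactorSystem Q θ E)
    {FV : FusionSystem (normalizerIn S (preimageAlong θ (WW W S')))}
    (hFV : F.IsNormalizerSystem (preimageAlong θ (WW W S')) FV)
    (hNV : normalizerIn S (preimageAlong θ (WW W S')) = S) {D₀ : Subgroup Ω}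
    (hall : ∀ (P : Subgroup Ω) (f : Ω → Ω), Mor FV P f → Tr D₀ P f) :
    NT W E (imageAlong θ D₀) := by
  have hα := factor_surjectiveMorphism hS hF hQ hE
  have hrange : θ.range = S' := hE.2.2.1
  intro Pb fb hfb hWP hfW y hy
  obtain ⟨f, hf, ef⟩ := lift hα hfb.le hfb
  have hVP : preimageAlong θ (WW W S') ≤ preimageAlong θ Pb := preimageAlong_mono θ hWP
  have hfV : ∀ x ∈ preimageAlong θ (WW W S'), f x ∈ preimageAlong θ (WW W S') := by
    intro x hx
    refine mem_pre.2 ⟨hf.mem (hVP hx), ?_⟩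
    rw [← ef x (hVP hx)]
    exact hfW _ (mem_pre.1 hx).2
  have hIV : Iso F (preimageAlong θ (WW W S')) (preimageAlong θ (WW W S')) f :=
    iso_of_card_le (hf.restrict hVP) (preimageAlong_le θ _) hfV le_rfl
  have hmorFV : Mor FV (preimageAlong θ Pb) f := by
    rw [mor_normalizerSystem_iff hFV]
    refine ⟨hf, hNV.symm ▸ preimageAlong_le θ Pb, fun x hx => hNV.symm ▸ hf.mem hx, f, ?_,
      fun _ _ => rfl, hIV.2⟩
    rw [sup_eq_left.2 hVP]
    exact hf
  have htr := hall _ _ hmorFV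
  obtain ⟨x, hxS, rfl⟩ := exists_au_eq hrange (hfb.le hy)
  have hx : x ∈ preimageAlong θ Pb := mem_pre.2 ⟨hxS, hy⟩
  rw [ef x hx]
  refine mem_img.2 ⟨x⁻¹ * f x, S.mul_mem (S.inv_mem hxS) (hf.mem hx), htr x hx, ?_⟩
  rw [au_mul θ (S.inv_mem hxS) (hf.mem hx), au_inv θ hxS]

/-- if all maps of the factor system have their quotients in the image of `D₀`, all maps of the
system have their quotients in `D₀ Q` -/
theorem mod_of_factor (hS : IsPGroup p S) (hF : F.IsSaturated p)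
    (hQ : F.StronglyClosed Q) (hE : F.IsFactorSystem Q θ E) {D₀ : Subgroup Ω}
    (hall : ∀ (P : Subgroup Ω') (f : Ω' → Ω'), Mor E P f → Tr (imageAlong θ D₀) P f)
    {P : Subgroup Ω} {f : Ω → Ω} (hf : Mor F P f) {x : Ω} (hx : x ∈ P) :
    ∃ d ∈ D₀, ∃ q ∈ Q, x⁻¹ * f x = d * q := by
  have hα := factor_surjectiveMorphism hS hF hQ hE
  have hker : kerOf θ = Q := kerOf_eq_of_factor hE
  obtain ⟨fb, hfb, efb⟩ := descend hα.1 hf
  have hxS : x ∈ S := hf.le hx
  have h1 := hall _ _ hfb (au θ x) (mem_img.2 ⟨x, hxS, hx, rfl⟩)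
  rw [efb x hx] at h1
  obtain ⟨d, hdS, hdD, hde⟩ := mem_img.1 h1
  have hwS : x⁻¹ * f x ∈ S := S.mul_mem (S.inv_mem hxS) (hf.mem hx)
  have h2 : au θ d = au θ (x⁻¹ * f x) := by
    rw [hde, au_mul θ (S.inv_mem hxS) (hf.mem hx), au_inv θ hxS]
  have h3 := (au_eq_iff θ hdS hwS).1 h2
  rw [hker] at h3
  exact ⟨d, hdD, _, h3, by group⟩

end Factor

section Transfer

variable {Ω : Type u} [Group Ω] {S : Subgroup Ω} {F : FusionSystem S}

/-- a stable transfer which is a power map on a subgroup on which the given homomorphism is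
invariant under the system -/
theorem exists_stable_transfer_on [Finite S] {p : ℕ} [Fact p.Prime] (hS : IsPGroup p S)
    (hF : F.IsSaturated p) {A : Type*} [CommGroup A] (lam : S →* A) (Z : Subgroup Ω)
    (hZS : Z ≤ S)
    (hinv : ∀ (z : Ω) (hz : z ∈ Z) (Q : Subgroup Ω) (f : Ω → Ω) (hf : Mor F Q f) (hzQ : z ∈ Q),
      lam ⟨f z, hf.mem hzQ⟩ = lam ⟨z, hZS hz⟩) :
    ∃ (t : S →* A) (k : ℕ), ¬ p ∣ k ∧
      (∀ (P : Subgroup Ω) (φ : P →* Ω) (hφ : φ ∈ F.Hom P) (x : P),
        t ⟨φ x, (F.le_of_mem hφ).2 x⟩ = t ⟨x, (F.le_of_mem hφ).1 x.2⟩) ∧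
      (∀ z : S, (z : Ω) ∈ Z → t z = lam z ^ k) := by
  classical
  obtain ⟨X, iX, fX, hgr, hst, k₀, hk₀, hpk₀⟩ := exists_char_biset hS hF
  letI : MulAction S X := rightAct S X
  have hsm : ∀ (t : S) (x : X), t • x = ((1 : S), t) • x := fun _ _ => rfl
  haveI : SMulCommClass (rightCentralizer S X) S X := ⟨fun γ t x => by
    show (γ : Equiv.Perm X) (t • x) = t • (γ : Equiv.Perm X) x
    rw [hsm, hsm]
    exact mem_rightCentralizer.1 γ.2 t x⟩
  have hfree : ∀ (t : S) (x : X), t • x = x → t = 1 := fun t x h => rightAct_free hgr t x h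
  haveI : Fintype (Orb S X) := Fintype.ofFinite _
  let τ : rightCentralizer S X →* A := trf (X := X) hfree lam⁻¹
  have hcard : Fintype.card (Orb S X) = k₀ := by
    have h1 := Nat.card_congr (orbEquiv (T := S) (X := X) hfree)
    rw [Nat.card_prod, hk₀, mul_comm, Nat.card_eq_fintype_card (α := Orb S X)] at h1
    have hpos : 0 < Nat.card S := Nat.card_pos
    exact (Nat.eq_of_mul_eq_mul_right hpos h1).symm
  refine ⟨τ.comp (leftHom S X), k₀, hpk₀, ?_, ?_⟩
  · intro P φ hφ x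
    obtain ⟨ε, hε⟩ := exists_intertwiner hgr hst (F.le_of_mem hφ).1 hφ (F.le_of_mem hφ).2
    show τ (leftHom S X ⟨φ x, _⟩) = τ (leftHom S X ⟨x, _⟩)
    rw [hε x, map_mul, map_mul, map_inv, mul_comm, inv_mul_cancel_left]
  · intro z hz
    show τ (leftHom S X z) = lam z ^ k₀
    rw [← hcard]
    apply trf_eq_pow
    intro x n t h
    rw [← map_pow] at h
    have h1 : ((z ^ n, (1 : S)) : S × S) • x = ((1 : S), t) • x := h
    have h2 : ((z ^ n, t⁻¹) : S × S) ∈ MulAction.stabilizer (S × S) x := by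
      rw [MulAction.mem_stabilizer_iff]
      have e : ((z ^ n, t⁻¹) : S × S) = ((1 : S), t⁻¹) * (z ^ n, (1 : S)) := by simp
      rw [e, mul_smul, h1, ← mul_smul]
      have e2 : (((1 : S), t⁻¹) : S × S) * ((1 : S), t) = 1 := by simp
      rw [e2, one_smul]
    obtain ⟨Q, f, hf, hmem⟩ := hgr x
    obtain ⟨hzQ, hfz⟩ := (hmem _ _).1 h2
    have hzc : ((z ^ n : S) : Ω) ∈ Z := by
      rw [Subgroup.coe_pow]
      exact Subgroup.pow_mem _ hz n
    have h3 := hinv _ hzc Q f hf hzQ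
    have h4 : (⟨f ((z ^ n : S) : Ω), hf.mem hzQ⟩ : S) = t⁻¹ := Subtype.ext hfz
    rw [h4] at h3
    have h5 : (⟨((z ^ n : S) : Ω), hZS hzc⟩ : S) = z ^ n := rfl
    rw [h5] at h3
    rw [MonoidHom.inv_apply, ← map_inv, h3, map_pow]

/-- stable homomorphisms kill the focal subgroup -/
theorem focal_le_ker' {A : Type*} [CommGroup A] (F : FusionSystem S) (t : S →* A)
    (ht : ∀ (P : Subgroup Ω) (φ : P →* Ω) (hφ : φ ∈ F.Hom P) (x : P),
      t ⟨φ x, (F.le_of_mem hφ).2 x⟩ = t ⟨x, (F.le_of_mem hφ).1 x.2⟩) :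
    F.focalSubgroup ≤ t.ker.map S.subtype := by
  unfold FusionSystem.focalSubgroup
  rw [Subgroup.closure_le]
  rintro y ⟨P, φ, x, hφ, rfl⟩
  refine ⟨(⟨x, (F.le_of_mem hφ).1 x.2⟩ : S)⁻¹ * ⟨φ x, (F.le_of_mem hφ).2 x⟩, ?_, rfl⟩
  rw [SetLike.mem_coe, MonoidHom.mem_ker, map_mul, map_inv, ht P φ hφ x, inv_mul_cancel]

/-- **Transfer step.** If `D` contains the commutators of `S` and the quotients `z⁻¹ f(z)` for
`z ∈ Q`, then `Q ∩ foc(F) ≤ D`. -/
theorem inf_focal_le_of_invariant [Finite S] {p : ℕ} [Fact p.Prime] (hS : IsPGroup p S)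
    (hF : F.IsSaturated p) {Q D : Subgroup Ω} (hQS : Q ≤ S)
    (hD : ∀ a ∈ S, ∀ b ∈ S, a⁻¹ * (b * a * b⁻¹) ∈ D)
    (hinv : ∀ z ∈ Q, ∀ (P : Subgroup Ω) (f : Ω → Ω), Mor F P f → z ∈ P → z⁻¹ * f z ∈ D) :
    Q ⊓ F.focalSubgroup ≤ D := by
  haveI hn : (D.subgroupOf S).Normal := ⟨fun a ha b => by
    rw [Subgroup.mem_subgroupOf] at ha ⊢
    have h1 := hD a a.2 b b.2
    have e : ((b * a * b⁻¹ : S) : Ω) = (a : Ω) * ((a : Ω)⁻¹ * ((b : Ω) * a * (b : Ω)⁻¹)) := by
      simp only [Subgroup.coe_mul, Subgroup.coe_inv]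
      group
    rw [e]
    exact D.mul_mem ha h1⟩
  letI : CommGroup (S ⧸ D.subgroupOf S) :=
    { (inferInstance : Group (S ⧸ D.subgroupOf S)) with
      mul_comm := by
        intro x y
        induction x using QuotientGroup.induction_on with
        | H a =>
          induction y using QuotientGroup.induction_on with
          | H b =>
            rw [← QuotientGroup.mk_mul, ← QuotientGroup.mk_mul, QuotientGroup.eq,
              Subgroup.mem_subgroupOf]
            have h1 := hD b b.2 a⁻¹ (S.inv_mem a.2)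
            have e : (((a * b)⁻¹ * (b * a) : S) : Ω) =
                (b : Ω)⁻¹ * ((a : Ω)⁻¹ * (b : Ω) * ((a : Ω)⁻¹)⁻¹) := by
              simp only [Subgroup.coe_mul, Subgroup.coe_inv]
              group
            rw [e]
            exact h1 }
  obtain ⟨t, k, hpk, ht1, ht2⟩ := exists_stable_transfer_on hS hF
    (QuotientGroup.mk' (D.subgroupOf S)) Q hQS (by
      intro z hz P f hf hzP
      symm
      rw [QuotientGroup.mk'_apply, QuotientGroup.mk'_apply, QuotientGroup.eq,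
        Subgroup.mem_subgroupOf]
      exact hinv z hz P f hf hzP)
  rintro z ⟨hzQ, hzf⟩
  obtain ⟨z', hz'ker, rfl⟩ := focal_le_ker' F t ht1 hzf
  rw [SetLike.mem_coe, MonoidHom.mem_ker, ht2 z' hzQ] at hz'ker
  obtain ⟨e, he⟩ := hS z'
  have h1 : (QuotientGroup.mk' (D.subgroupOf S) z') ^ p ^ e = 1 := by
    rw [← map_pow, he, map_one]
  have hcop : Nat.Coprime k (p ^ e) :=
    Nat.Coprime.pow_right _ ((Nat.Prime.coprime_iff_not_dvd Fact.out).2 hpk).symm
  have h2 : orderOf (QuotientGroup.mk' (D.subgroupOf S) z') ∣ Nat.gcd k (p ^ e) :=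
    Nat.dvd_gcd (orderOf_dvd_of_pow_eq_one hz'ker) (orderOf_dvd_of_pow_eq_one h1)
  rw [hcop, Nat.dvd_one, orderOf_eq_one_iff] at h2
  have h3 : z' ∈ D.subgroupOf S := by
    rw [← QuotientGroup.eq_one_iff]; exact h2
  exact Subgroup.mem_subgroupOf.1 h3

end Transfer

end Cfsg.Agent.Helper87.TrfStep
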