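import Mathlib
import Cfsg.Agent.Lib.Helper87.TrfLocal
import Cfsg.Agent.Lib.Helper87.TrfStep
import Cfsg.Agent.Lib.Helper87.TrfConstrained
import Cfsg.Agent.Lib.Helper87.CenMain

set_option autoImplicit false
set_option linter.style.haveILetI false
set_option linter.unusedSectionVars false
set_option linter.unusedVariables false

/-! # Control of transfer by a positive characteristic functor

If the functor `W` satisfies the local focal condition in all finite groups `G` with
`C_G(O_p(G)) ≤ O_p(G)`, then for every saturated fusion system `F` over `S`, every subgroup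
containing the quotients `x⁻¹ f(x)` of the maps of `F` normalizing `W(S)` contains the focal
subgroup of `F` (Díaz-Glesser-Mazza-Park, after Glauberman). -/

namespace Cfsg.Agent.Helper87.TrfMain

open Cfsg Cfsg.FusionSystem Cfsg.Agent.Helper87 Cfsg.Agent.Helper85
  Cfsg.Agent.Helper87.GlaubFunctor Cfsg.Agent.Helper87.FactorPre Cfsg.Agent.Helper87.GlaubNormal
  Cfsg.Agent.Helper87.CenFunctor Cfsg.Agent.Helper87.TrfFunctor Cfsg.Agent.Helper87.TrfStep
  Cfsg.Agent.Helper87.TrfLocal Cfsg.Agent.Helper87.CenMain

universe u

/-- the hypothesis `NT` passes to the normalizer system of a subgroup normalized by `S` -/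
theorem nt_of_top {Ω : Type u} [Group Ω] {S : Subgroup Ω} {W : ∀ (Q : Type u) [Group Q], Subgroup Q}
    {F : FusionSystem S} {D₀ : Subgroup Ω} (hNT : NT W F D₀) {X : Subgroup Ω}
    (hN : normalizerIn S X = S) {NX : FusionSystem (normalizerIn S X)}
    (hNX : F.IsNormalizerSystem X NX) : NT W NX D₀ := by
  apply nt_of_chain hNX
  intro A γ hA hγ hγT hWA hγW
  rw [hN] at hWA hγW
  exact hNT A γ hγ hWA hγW

/-- **Control of transfer.** -/
theorem main {p : ℕ} [Fact p.Prime] {W : ∀ (Q : Type u) [Group Q], Subgroup Q}
    (hW : IsPos p W)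
    (hT : ∀ (G : Type u) [Group G] [Finite G] (P : Sylow p G),
      Subgroup.centralizer ((Cfsg.pCore p G : Subgroup G) : Set G) ≤ Cfsg.pCore p G →
      Cfsg.pCore p G ⊓ commutator G = Cfsg.pCore p G ⊓
        (commutator ↥(Subgroup.normalizer
          (((W ↥(P : Subgroup G)).map (P : Subgroup G).subtype : Subgroup G) : Set G))).map
          (Subgroup.normalizer
            (((W ↥(P : Subgroup G)).map (P : Subgroup G).subtype : Subgroup G) : Set G)).subtype) :
    ∀ n : ℕ, ∀ (Ω : Type u) [Group Ω] (S : Subgroup Ω) [Finite S] (F : FusionSystem S),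
      nu F = n → IsPGroup p S → F.IsSaturated p → ∀ D₀ : Subgroup Ω, NT W F D₀ →
      F.focalSubgroup ≤ D₀ := by
  intro n
  induction n using Nat.strong_induction_on with
  | _ n ih =>
    intro Ω _ S _ F hn hS hF D₀' hNT'
    -- reduction to a subgroup of the focal subgroup
    suffices H : ∀ D₀ : Subgroup Ω, NT W F D₀ → D₀ ≤ F.focalSubgroup → F.focalSubgroup ≤ D₀ by
      have h1 : NT W F (D₀' ⊓ F.focalSubgroup) := by
        intro P f hf hWP hfW x hx
        exact ⟨hNT' P f hf hWP hfW x hx, mem_focal hf hx⟩
      exact (H _ h1 inf_le_right).trans inf_le_left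
    intro D₀ hNT hD₀foc
    have hQ : F.IsNormal F.core := isNormal_core F
    have hQs : F.StronglyClosed F.core := stronglyClosed_of_isNormal hQ
    have hQS : F.core ≤ S := hQ.1
    haveI : Finite F.core := finite_of_le hQS
    -- normalizer systems of smaller measure
    have key : ∀ X : Subgroup Ω, F.IsFullyNormalized X → Nat.card F.core < Nat.card X →
        ∀ NX : FusionSystem (normalizerIn S X), F.IsNormalizerSystem X NX →
          ∀ D₁ : Subgroup Ω, NT W NX D₁ →
            ∀ (P : Subgroup Ω) (f : Ω → Ω), Mor NX P f → Tr D₁ P f := by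
      intro X hXfn hlt NX hNX D₁ hD₁
      haveI : Finite ↥(normalizerIn S X) := finite_of_le (inf_le_left : normalizerIn S X ≤ S)
      have hsat := Cfsg.Agent.Helper84.normalizerSystem_saturated F hS hF hXfn NX hNX
      apply focal_le_iff.1
      apply ih (nu NX) _ Ω (normalizerIn S X) NX rfl
        (hS.to_le (inf_le_left : normalizerIn S X ≤ S)) hsat D₁ hD₁
      rw [← hn]
      by_cases h : Nat.card (normalizerIn S X) < Nat.card S
      · exact nu_lt_of_card_lt F NX h
      · have hc : Nat.card (normalizerIn S X) = Nat.card S :=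
          le_antisymm (card_normalizerIn_le X) (not_lt.1 h)
        apply nu_lt_of_core F NX hc
        have hXn : NX.IsNormal X := normalizerSystem_isNormal hXfn.1 hNX
        have hle : X ≤ NX.core := le_core hXn
        haveI : Finite NX.core := finite_of_le (Cfsg.Agent.Helper87.ModelSolv.core_le NX)
        exact lt_of_lt_of_le hlt (Subgroup.card_le_of_le hle)
    by_cases hQbot : F.core = ⊥
    · -- trivial core: local control
      apply focal_le_iff.2
      apply Cfsg.Agent.Helper87.TrfLocal.local_to_global hW hS hF hNT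
      intro X hXfn hXne NX hNX D₁ hD₁
      apply key X hXfn _ NX hNX D₁ hD₁
      haveI : Finite X := finite_of_le hXfn.1
      rw [hQbot, Subgroup.card_bot]
      exact (Subgroup.one_lt_card_iff_ne_bot X).2 hXne
    · have hwc : ∀ X₂, F.IsConj F.core X₂ → X₂ = F.core :=
        fun X₂ hc => eq_of_isConj_of_isNormal hQ hc
      obtain ⟨hQfn, hNS⟩ := fn_of_weaklyClosed hQS hwc
      by_cases hQtop : S ≤ F.core
      · -- `S` is normal in the system
        apply focal_le_iff.2
        intro P f hf
        obtain ⟨g, hg, e, hgQ⟩ := (isNormal_iff.1 hQ).2 P f hf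
        have hcS : F.core = S := le_antisymm hQS hQtop
        have hSle : S ≤ P ⊔ F.core := hQtop.trans le_sup_right
        have hIS : Iso F S S g := by
          have h1 : Iso F F.core F.core g := ⟨hg.restrict le_sup_right, hgQ⟩
          rwa [hcS] at h1
        have htr := hNT (P ⊔ F.core) g hg ((WW_le W S).trans hSle)
          (fun x hx => pos_iso_mem hW hS hIS hx)
        exact (htr.restrict le_sup_left).congr e
      · -- the factor system
        have hSn : S ≤ Subgroup.normalizer ((F.core : Subgroup Ω) : Set Ω) :=
          stronglyClosed_le_normalizer hQs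
        haveI : (F.core.subgroupOf S).Normal := Subgroup.normal_subgroupOf_of_le_normalizer hSn
        obtain ⟨E, hE⟩ := Cfsg.Agent.S5132.result p hS F F.core hQs
        have hrange : (QuotientGroup.mk' (F.core.subgroupOf S)).range = ⊤ := hE.2.2.1
        have hker : kerOf (QuotientGroup.mk' (F.core.subgroupOf S)) = F.core :=
          kerOf_eq_of_factor hE
        haveI : Finite ↥(⊤ : Subgroup (↥S ⧸ F.core.subgroupOf S)) :=
          Cfsg.Agent.Helper85.factor_finite hE
        have hS' : IsPGroup p ↥(⊤ : Subgroup (↥S ⧸ F.core.subgroupOf S)) := factor_isPGroup hS hE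
        have hEsat := factor_saturated hS hF hQs hE
        have hpretop : preimageAlong (QuotientGroup.mk' (F.core.subgroupOf S)) ⊤ = S := by
          ext x
          rw [mem_pre]
          exact ⟨fun h => h.1, fun h => ⟨h, Subgroup.mem_top _⟩⟩
        have hcardS' : Nat.card ↥(⊤ : Subgroup (↥S ⧸ F.core.subgroupOf S)) < Nat.card S := by
          have h1 := card_pre hrange (A' := (⊤ : Subgroup (↥S ⧸ F.core.subgroupOf S))) le_rfl
          rw [hpretop, hker] at h1
          have h2 : 1 < Nat.card F.core := (Subgroup.one_lt_card_iff_ne_bot F.core).2 hQbot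
          have h3 : 0 < Nat.card ↥(⊤ : Subgroup (↥S ⧸ F.core.subgroupOf S)) := Nat.card_pos
          rw [h1]
          nlinarith
        have hVS : preimageAlong (QuotientGroup.mk' (F.core.subgroupOf S)) (WW W ⊤) ≤ S :=
          preimageAlong_le _ _
        have hQV : F.core ≤ preimageAlong (QuotientGroup.mk' (F.core.subgroupOf S)) (WW W ⊤) := by
          have := kerOf_le_pre (QuotientGroup.mk' (F.core.subgroupOf S)) (WW W ⊤)
          rwa [hker] at this
        have hNV : normalizerIn S
            (preimageAlong (QuotientGroup.mk' (F.core.subgroupOf S)) (WW W ⊤)) = S := by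
          have h1 := pre_normalizerIn hrange hVS (hker.symm ▸ hQV)
          rw [img_pre hrange (WW_le W ⊤), pos_normalizerIn_top hW hS', hpretop] at h1
          exact h1.symm
        have hVfn : F.IsFullyNormalized
            (preimageAlong (QuotientGroup.mk' (F.core.subgroupOf S)) (WW W ⊤)) :=
          Cfsg.Agent.Helper87.CenStep.fn_of_normalizerIn_eq hVS hNV
        obtain ⟨FV, hFV⟩ := Cfsg.Agent.S5096.result F _ hVS
        have htopne : (⊤ : Subgroup (↥S ⧸ F.core.subgroupOf S)) ≠ ⊥ := by
          intro h
          apply hQtop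
          intro s hs
          have h1 : (QuotientGroup.mk' (F.core.subgroupOf S)) ⟨s, hs⟩ ∈
              (⊤ : Subgroup (↥S ⧸ F.core.subgroupOf S)) := Subgroup.mem_top _
          rw [h, Subgroup.mem_bot] at h1
          exact (hE.2.1 ⟨s, hs⟩).1 h1
        have hWne : WW W (⊤ : Subgroup (↥S ⧸ F.core.subgroupOf S)) ≠ ⊥ :=
          pos_ne_bot hW hS' htopne
        have hVnle : ¬ preimageAlong (QuotientGroup.mk' (F.core.subgroupOf S)) (WW W ⊤) ≤
            F.core := by
          intro hle
          apply hWne
          rw [eq_bot_iff]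
          intro y hy
          obtain ⟨v, hvS, rfl⟩ := exists_au_eq hrange (Subgroup.mem_top y)
          have hv : v ∈ preimageAlong (QuotientGroup.mk' (F.core.subgroupOf S)) (WW W ⊤) :=
            mem_pre.2 ⟨hvS, hy⟩
          have hvQ : v ∈ kerOf (QuotientGroup.mk' (F.core.subgroupOf S)) := by
            rw [hker]; exact hle hv
          rw [Subgroup.mem_bot]
          exact (mem_kerOf.1 hvQ).2
        obtain ⟨v, hv, hvQ⟩ := SetLike.not_le_iff_exists.1 hVnle
        have hcardV : Nat.card F.core <
            Nat.card (preimageAlong (QuotientGroup.mk' (F.core.subgroupOf S)) (WW W ⊤)) :=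
          card_lt_of_not_mem hQV hVS hv hvQ
        have hallV := key _ hVfn hcardV FV hFV D₀ (nt_of_top hNT hNV hFV)
        have hntE : NT W E (imageAlong (QuotientGroup.mk' (F.core.subgroupOf S)) D₀) :=
          nt_factor hS hF hQs hE hFV hNV hallV
        have hfocE : E.focalSubgroup ≤ imageAlong (QuotientGroup.mk' (F.core.subgroupOf S)) D₀ :=
          ih (nu E) (by rw [← hn]; exact nu_lt_of_card_lt F E hcardS') _ ⊤ E rfl hS' hEsat _ hntE
        have hallE := focal_le_iff.1 hfocE
        -- the part of the focal subgroup inside the core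
        have hinf : F.core ⊓ F.focalSubgroup ≤ D₀ := by
          by_cases hcen : centralizerIn S F.core ≤ F.core
          · have hQc : F.IsCentric F.core := ⟨hQS, fun Q₂ hc => by rw [hwc Q₂ hc]; exact hcen⟩
            exact Cfsg.Agent.Helper87.TrfConstrained.inf_focal_le_of_constrained hW hT hS hF hQ
              hQc hNT
          · have hR₀wc := weaklyClosed_sup_centralizer hQs
            have hR₀S : F.core ⊔ centralizerIn S F.core ≤ S := sup_le hQS inf_le_left
            obtain ⟨hR₀fn, hNR₀⟩ := fn_of_weaklyClosed hR₀S hR₀wc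
            obtain ⟨F₀, hF₀⟩ := Cfsg.Agent.S5096.result F _ hR₀S
            obtain ⟨c, hc, hcQ⟩ := SetLike.not_le_iff_exists.1 hcen
            have hcardR₀ : Nat.card F.core < Nat.card ↥(F.core ⊔ centralizerIn S F.core) :=
              card_lt_of_not_mem le_sup_left hR₀S
                ((le_sup_right : centralizerIn S F.core ≤ F.core ⊔ centralizerIn S F.core) hc)
                hcQ
            have hall₀ := key _ hR₀fn hcardR₀ F₀ hF₀ D₀ (nt_of_top hNT hNR₀ hF₀)
            apply inf_focal_le_of_invariant hS hF hQS
              (fun a ha b hb => hNT.conj_mem hW hS hb ha)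
            intro z hz P f hf hzP
            obtain ⟨g, hg, e, hgQ⟩ := (isNormal_iff.1 hQ).2 P f hf
            have hIQ : Iso F F.core F.core g := ⟨hg.restrict le_sup_right, hgQ⟩
            obtain ⟨g', hg', eg'⟩ :=
              (isReceptive_iff.1 (receptive_of_fullyNormalized hS hF hQfn)).2 F.core g hIQ
            have hle : F.core ⊔ centralizerIn S F.core ≤ hIQ.ext :=
              sup_le hIQ.le_ext hIQ.centralizerIn_le_ext
            have hmor₀ : Mor F₀ (F.core ⊔ centralizerIn S F.core) g' :=
              mor_normalizerSystem_of_weaklyClosed hR₀wc hNR₀ hF₀ le_rfl (hg'.restrict hle)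
            have h1 := hall₀ _ _ hmor₀ z (le_sup_left (b := centralizerIn S F.core) hz)
            rw [eg' z hz, e z hzP] at h1
            exact h1
        -- conclusion
        apply focal_le_iff.2
        intro P f hf x hx
        obtain ⟨d, hd, q, hq, hdq⟩ := mod_of_factor hS hF hQs hE hallE hf hx
        have hqf : q ∈ F.focalSubgroup := by
          have e : q = d⁻¹ * (x⁻¹ * f x) := by rw [hdq]; group
          rw [e]
          exact Subgroup.mul_mem _ (Subgroup.inv_mem _ (hD₀foc hd)) (mem_focal hf hx)
        rw [hdq]
        exact D₀.mul_mem hd (hinf ⟨hq, hqf⟩)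

end Cfsg.Agent.Helper87.TrfMain
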