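import Mathlib
import Cfsg.Prelude.Def_Blocks
import Cfsg.Agent.Lib.Helper55.O2520Defs
import Cfsg.Agent.Lib.Helper87.O2520S3C_Q1
import Cfsg.Agent.Lib.Helper87.O2520S3C_Q2
import Cfsg.Agent.Lib.Helper49.O2520S3C_Q5

/-!
# O2520 / S3C piece (K4) local36 (helper87), for helper86's S3C sub-server (S0984):
assembled from (Q1) s3c_structure, (Q2) s3c_normalizer_mem (mine) and (Q5) s3c_three_involutions (helper49).
-/

set_option autoImplicit false

namespace Cfsg.Agent.Helper87.O2520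

universe u

/-- if every element of `N` conjugates `x` to `x` or `x⁻¹` then `N` normalizes `zpowers x` -/
theorem h87_le_normalizer_zpowers {G : Type u} [Group G] [Finite G] (N : Subgroup G) (x : G)
    (h : ∀ n ∈ N, n * x * n⁻¹ = x ∨ n * x * n⁻¹ = x⁻¹) :
    N ≤ Subgroup.normalizer ((Subgroup.zpowers x : Subgroup G) : Set G) := by
  intro n hn
  apply Subgroup.mem_normalizer_fintype
  intro g hg
  obtain ⟨k, rfl⟩ := Subgroup.mem_zpowers_iff.mp hg
  have h1 : n * x ^ k * n⁻¹ = (n * x * n⁻¹) ^ k := by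
    rw [conj_zpow]
  show n * x ^ k * n⁻¹ ∈ Subgroup.zpowers x
  rw [h1]
  rcases h n hn with h2 | h2
  · rw [h2]; exact Subgroup.zpow_mem_zpowers x k
  · rw [h2]; exact Subgroup.zpow_mem _ (Subgroup.inv_mem _ (Subgroup.mem_zpowers x)) k

/-- a subgroup strictly between `P` (order 9) and `N` (order 36) has order 18 -/
theorem h87_card_eighteen {G : Type u} [Group G] [Finite G] (P M N : Subgroup G)
    (hP : Nat.card P = 9) (hN : Nat.card N = 36) (hPM : P ≤ M) (hMN : M ≤ N)
    (a b : G) (haM : a ∈ M) (haP : a ∉ P) (hbN : b ∈ N) (hbM : b ∉ M) : Nat.card M = 18 := by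
  have h1 : 9 ∣ Nat.card M := hP ▸ Subgroup.card_dvd_of_le hPM
  have h2 : Nat.card M ∣ 36 := hN ▸ Subgroup.card_dvd_of_le hMN
  have h3 : Nat.card M ≠ 9 := by
    intro h
    have : P = M := Subgroup.eq_of_le_of_card_ge hPM (by rw [h, hP])
    exact haP (this ▸ haM)
  have h4 : Nat.card M ≠ 36 := by
    intro h
    have : M = N := Subgroup.eq_of_le_of_card_ge hMN (by rw [h, hN])
    exact hbM (this ▸ hbN)
  obtain ⟨k, hk⟩ := h1
  have hk4 : k ∣ 4 := by
    rw [hk] at h2
    exact (Nat.mul_dvd_mul_iff_left (by norm_num : 0 < 9)).mp (by simpa using h2)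
  have hkle : k ≤ 4 := Nat.le_of_dvd (by norm_num) hk4
  interval_cases k <;> omega

/-- (K4) -/
theorem local36 {G : Type u} [Group G] [Finite G] (P : Subgroup G) (hP : Nat.card P = 9)
    (hexp : ∀ x ∈ P, x ^ 3 = 1) (hC : Subgroup.centralizer (P : Set G) = P)
    (hN : Nat.card (Subgroup.normalizer (P : Set G)) = 36)
    (h4 : ∀ u ∈ Subgroup.normalizer (P : Set G), orderOf u ≠ 4) :
    ∃ x x' y : G, x ∈ P ∧ x' ∈ P ∧ y ∈ P ∧ x ≠ 1 ∧ x' ≠ 1 ∧ y ≠ 1 ∧
      Subgroup.normalizer (P : Set G) ≤ Subgroup.normalizer ((Subgroup.zpowers x : Subgroup G) : Set G) ∧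
      Subgroup.normalizer (P : Set G) ≤ Subgroup.normalizer ((Subgroup.zpowers x' : Subgroup G) : Set G) ∧
      (∀ n ∈ Subgroup.normalizer (P : Set G), n * x * n⁻¹ ≠ x') ∧
      (∀ n ∈ Subgroup.normalizer (P : Set G), n * y = y * n → n ∈ P) ∧
      Nat.card (Subgroup.normalizer (P : Set G) ⊓ Subgroup.centralizer ({x} : Set G) : Subgroup G) = 18 ∧
      Nat.card (Subgroup.normalizer (P : Set G) ⊓ Subgroup.centralizer ({x'} : Set G) : Subgroup G) = 18 ∧
      3 ≤ Nat.card {j : G // orderOf j = 2 ∧ j * x = x * j} ∧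
      3 ≤ Nat.card {j : G // orderOf j = 2 ∧ j * x' = x' * j} := by
  obtain ⟨x, x', a, b, hx, hx', hx1, hx'1, ha, hb, hoa, hob, hab, hax, hax', hbx, hbx'⟩ :=
    s3c_structure P hP hexp hC hN h4
  have hQ2 := s3c_normalizer_mem P hP hN x x' a b hx hx' hx1 hx'1 ha hb hoa hob hab hax hax' hbx hbx'
  have hcomm : ∀ p ∈ P, ∀ q ∈ P, p * q = q * p := by
    intro p hp q hq
    have hp' : p ∈ Subgroup.centralizer (P : Set G) := by rw [hC]; exact hp
    exact (Subgroup.mem_centralizer_iff.mp hp' q hq).symm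
  have hodd : ∀ z ∈ P, z = z⁻¹ → z = 1 := fun z hz h => h87_eq_one_of_eq_inv z (hexp z hz) h
  have hxne : x ≠ x⁻¹ := fun h => hx1 (hodd x hx h)
  have hx'ne : x' ≠ x'⁻¹ := fun h => hx'1 (hodd x' hx' h)
  have habx : a * b * x * (a * b)⁻¹ = x⁻¹ := by
    calc a * b * x * (a * b)⁻¹ = a * (b * x * b⁻¹) * a⁻¹ := by group
      _ = (a * x * a⁻¹)⁻¹ := by rw [hbx]; group
      _ = x⁻¹ := by rw [hax]
  have habx' : a * b * x' * (a * b)⁻¹ = x'⁻¹ := by
    calc a * b * x' * (a * b)⁻¹ = a * (b * x' * b⁻¹) * a⁻¹ := by group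
      _ = x'⁻¹ := by rw [hbx', hax']
  -- conjugation by `p * t` on an element `z` of `P` with `t z t⁻¹ = w ∈ P`
  have hconj : ∀ (p : G), p ∈ P → ∀ (t z w : G), w ∈ P → t * z * t⁻¹ = w →
      (p * t) * z * (p * t)⁻¹ = w := by
    intro p hp t z w hw h
    calc (p * t) * z * (p * t)⁻¹ = p * (t * z * t⁻¹) * p⁻¹ := by group
      _ = p * w * p⁻¹ := by rw [h]
      _ = w := by rw [hcomm p hp w hw]; group
  -- the action of `N` on `x`, `x'`
  have hactx : ∀ n ∈ Subgroup.normalizer (P : Set G), n * x * n⁻¹ = x ∨ n * x * n⁻¹ = x⁻¹ := by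
    intro n hn
    obtain ⟨p, hp, h | h | h | h⟩ := hQ2 n hn
    · left; rw [h, hcomm p hp x hx]; group
    · left; rw [h]; exact hconj p hp a x x hx hax
    · right; rw [h]; exact hconj p hp b x x⁻¹ (P.inv_mem hx) hbx
    · right; rw [h]; exact hconj p hp (a * b) x x⁻¹ (P.inv_mem hx) habx
  have hactx' : ∀ n ∈ Subgroup.normalizer (P : Set G), n * x' * n⁻¹ = x' ∨ n * x' * n⁻¹ = x'⁻¹ := by
    intro n hn
    obtain ⟨p, hp, h | h | h | h⟩ := hQ2 n hn
    · left; rw [h, hcomm p hp x' hx']; group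
    · right; rw [h]; exact hconj p hp a x' x'⁻¹ (P.inv_mem hx') hax'
    · left; rw [h]; exact hconj p hp b x' x' hx' hbx'
    · right; rw [h]; exact hconj p hp (a * b) x' x'⁻¹ (P.inv_mem hx') habx'
  -- `x'` is neither `x` nor `x⁻¹`
  have hxx' : x ≠ x' := by
    intro h
    apply hx'ne
    rw [← hax']
    nth_rewrite 1 [← h]
    rw [← h, hax]
  have hxix' : x⁻¹ ≠ x' := by
    intro h
    apply hx'ne
    have h1 : a * x⁻¹ * a⁻¹ = x⁻¹ := by
      calc a * x⁻¹ * a⁻¹ = (a * x * a⁻¹)⁻¹ := by group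
        _ = x⁻¹ := by rw [hax]
    rw [h] at h1
    rw [← hax']
    exact h1.symm
  -- `a`, `b` are not in `P`
  have hsq : ∀ t : G, orderOf t = 2 → t * t = 1 := by
    intro t ht
    have := pow_orderOf_eq_one t
    rwa [ht, pow_two] at this
  have hnotP : ∀ t : G, orderOf t = 2 → t ∉ P := by
    intro t ht htP
    have h1 : t = t⁻¹ := (inv_eq_of_mul_eq_one_left (hsq t ht)).symm
    have h2 := hodd t htP h1
    rw [h2, orderOf_one] at ht
    norm_num at ht
  have haP : a ∉ P := hnotP a hoa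
  have hbP : b ∉ P := hnotP b hob
  have hPN : P ≤ Subgroup.normalizer (P : Set G) := Subgroup.le_normalizer
  refine ⟨x, x', x * x', hx, hx', P.mul_mem hx hx', hx1, hx'1, ?_,
    h87_le_normalizer_zpowers _ x hactx, h87_le_normalizer_zpowers _ x' hactx', ?_, ?_, ?_, ?_,
    Cfsg.Agent.Helper49.O2520.s3c_three_involutions P hP hC x hx a hoa ?_,
    Cfsg.Agent.Helper49.O2520.s3c_three_involutions P hP hC x' hx' b hob ?_⟩
  · -- `x * x' ≠ 1`
    intro h
    exact hxix' (inv_eq_of_mul_eq_one_right h)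
  · -- no `N`-conjugate of `x` is `x'`
    intro n hn h
    rcases hactx n hn with h1 | h1
    · exact hxx' (h1.symm.trans h)
    · exact hxix' (h1.symm.trans h)
  · -- the centralizer of `y = x x'` in `N` is `P`
    intro n hn hcomm_n
    have hny : n * (x * x') * n⁻¹ = x * x' := by rw [hcomm_n]; group
    have hsplit : n * (x * x') * n⁻¹ = (n * x * n⁻¹) * (n * x' * n⁻¹) := by group
    rw [hsplit] at hny
    obtain ⟨p, hp, h | h | h | h⟩ := hQ2 n hn
    · rw [h]; exact hp
    · exfalso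
      rw [h, hconj p hp a x x hx hax, hconj p hp a x' x'⁻¹ (P.inv_mem hx') hax'] at hny
      exact hx'ne (mul_left_cancel hny).symm
    · exfalso
      rw [h, hconj p hp b x x⁻¹ (P.inv_mem hx) hbx, hconj p hp b x' x' hx' hbx'] at hny
      exact hxne (mul_right_cancel hny).symm
    · exfalso
      rw [h, hconj p hp (a * b) x x⁻¹ (P.inv_mem hx) habx,
        hconj p hp (a * b) x' x'⁻¹ (P.inv_mem hx') habx'] at hny
      have h1 : (x * x')⁻¹ = x * x' := by
        rw [mul_inv_rev, hcomm _ (P.inv_mem hx') _ (P.inv_mem hx)]; exact hny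
      have h2 := hodd (x * x') (P.mul_mem hx hx') h1.symm
      exact hxix' (inv_eq_of_mul_eq_one_right h2)
  · -- `|N ∩ C(x)| = 18`
    refine h87_card_eighteen P _ (Subgroup.normalizer (P : Set G)) hP hN ?_ inf_le_left a b ?_ haP hb ?_
    · intro p hp
      refine Subgroup.mem_inf.mpr ⟨hPN hp, ?_⟩
      rw [Subgroup.mem_centralizer_iff]
      intro z hz
      rw [Set.mem_singleton_iff] at hz
      rw [hz]
      exact hcomm x hx p hp
    · refine Subgroup.mem_inf.mpr ⟨ha, ?_⟩
      rw [Subgroup.mem_centralizer_iff]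
      intro z hz
      rw [Set.mem_singleton_iff] at hz
      rw [hz]
      calc x * a = (a * x * a⁻¹) * a := by rw [hax]
        _ = a * x := by group
    · intro h
      have h1 := (Subgroup.mem_inf.mp h).2
      rw [Subgroup.mem_centralizer_iff] at h1
      have h2 := h1 x (Set.mem_singleton x)
      apply hxne
      rw [← hbx]
      calc x = x * b * b⁻¹ := by group
        _ = b * x * b⁻¹ := by rw [h2]
  · -- `|N ∩ C(x')| = 18`
    refine h87_card_eighteen P _ (Subgroup.normalizer (P : Set G)) hP hN ?_ inf_le_left b a ?_ hbP ha ?_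
    · intro p hp
      refine Subgroup.mem_inf.mpr ⟨hPN hp, ?_⟩
      rw [Subgroup.mem_centralizer_iff]
      intro z hz
      rw [Set.mem_singleton_iff] at hz
      rw [hz]
      exact hcomm x' hx' p hp
    · refine Subgroup.mem_inf.mpr ⟨hb, ?_⟩
      rw [Subgroup.mem_centralizer_iff]
      intro z hz
      rw [Set.mem_singleton_iff] at hz
      rw [hz]
      calc x' * b = (b * x' * b⁻¹) * b := by rw [hbx']
        _ = b * x' := by group
    · intro h
      have h1 := (Subgroup.mem_inf.mp h).2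
      rw [Subgroup.mem_centralizer_iff] at h1
      have h2 := h1 x' (Set.mem_singleton x')
      apply hx'ne
      rw [← hax']
      calc x' = x' * a * a⁻¹ := by group
        _ = a * x' * a⁻¹ := by rw [h2]
  · -- `a * x = x * a`
    calc a * x = (a * x * a⁻¹) * a := by group
      _ = x * a := by rw [hax]
  · calc b * x' = (b * x' * b⁻¹) * b := by group
      _ = x' * b := by rw [hbx']

end Cfsg.Agent.Helper87.O2520
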