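import Mathlib

set_option autoImplicit false

namespace Cfsg.Agent.Helper87

section General

/-- extend an automorphism of `B` to `B × H` by the identity on `H` -/
def autProdLeft (B H : Type*) [Group B] [Group H] : MulAut B →* MulAut (B × H) where
  toFun τ := MulEquiv.prodCongr τ (MulEquiv.refl H)
  map_one' := by apply MulEquiv.ext; intro x; rfl
  map_mul' τ τ' := by apply MulEquiv.ext; intro x; rfl

theorem autProdLeft_apply (B H : Type*) [Group B] [Group H] (τ : MulAut B) (x : B × H) :
    autProdLeft B H τ x = (τ x.1, x.2) := rfl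

theorem autProdLeft_injective (B H : Type*) [Group B] [Group H] :
    Function.Injective (autProdLeft B H) := by
  intro τ τ' h
  apply MulEquiv.ext
  intro b
  have := congrArg (fun f : MulAut (B × H) => (f (b, 1)).1) h
  exact this

theorem isPGroup_two_zpowers {G : Type*} [Group G] {τ : G} (h : τ ^ 2 = 1) :
    IsPGroup 2 (Subgroup.zpowers τ) := by
  rintro ⟨g, hg⟩
  obtain ⟨k, rfl⟩ := Subgroup.mem_zpowers_iff.1 hg
  refine ⟨1, Subtype.ext ?_⟩
  show (τ ^ k) ^ 2 ^ 1 = 1
  rw [pow_one, ← zpow_natCast, ← zpow_mul, mul_comm, zpow_mul, zpow_natCast, h, one_zpow]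

theorem zpowers_le_normalizer_of_commute {G : Type*} [Group G] {a b : G} (h : Commute a b) :
    Subgroup.zpowers b ≤ Subgroup.normalizer (Subgroup.zpowers a : Set G) := by
  refine (Subgroup.zpowers_le).2 (Subgroup.centralizer_le_normalizer _ ?_)
  rw [Subgroup.mem_centralizer_iff]
  intro x hx
  obtain ⟨k, rfl⟩ := Subgroup.mem_zpowers_iff.1 hx
  exact (h.zpow_left k).eq

end General

section Swap

variable (A : Type*) [CommGroup A]

/-- swap of the two factors -/
def swapAut : MulAut (A × A) := MulEquiv.prodComm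

/-- inversion on the first factor -/
def invFst : MulAut (A × A) := MulEquiv.prodCongr (MulEquiv.inv A) (MulEquiv.refl A)

/-- inversion on the second factor -/
def invSnd : MulAut (A × A) := MulEquiv.prodCongr (MulEquiv.refl A) (MulEquiv.inv A)

theorem swapAut_apply (x : A × A) : swapAut A x = (x.2, x.1) := rfl
theorem invFst_apply (x : A × A) : invFst A x = (x.1⁻¹, x.2) := rfl
theorem invSnd_apply (x : A × A) : invSnd A x = (x.1, x.2⁻¹) := rfl

theorem swapAut_sq : swapAut A ^ 2 = 1 := by
  apply MulEquiv.ext; intro x; rfl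

theorem invFst_sq : invFst A ^ 2 = 1 := by
  apply MulEquiv.ext; intro x
  rw [pow_two, MulAut.mul_apply, invFst_apply, invFst_apply]
  simp

theorem invSnd_sq : invSnd A ^ 2 = 1 := by
  apply MulEquiv.ext; intro x
  rw [pow_two, MulAut.mul_apply, invSnd_apply, invSnd_apply]
  simp

theorem invFst_invSnd_commute : Commute (invFst A) (invSnd A) := by
  apply MulEquiv.ext; intro x; rfl

theorem swap_invFst : swapAut A * invFst A = invSnd A * swapAut A := by
  apply MulEquiv.ext; intro x; rfl

theorem swap_invSnd : swapAut A * invSnd A = invFst A * swapAut A := by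
  apply MulEquiv.ext; intro x; rfl

/-- the dihedral group of order `8` of signed permutations of the two factors -/
def dihAut : Subgroup (MulAut (A × A)) :=
  (Subgroup.zpowers (invFst A) ⊔ Subgroup.zpowers (invSnd A)) ⊔ Subgroup.zpowers (swapAut A)

theorem isPGroup_dihAut : IsPGroup 2 (dihAut A) := by
  have hD : IsPGroup 2 ↥(Subgroup.zpowers (invFst A) ⊔ Subgroup.zpowers (invSnd A)) :=
    IsPGroup.to_sup_of_normal_left' (isPGroup_two_zpowers (invFst_sq A))
      (isPGroup_two_zpowers (invSnd_sq A))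
      (zpowers_le_normalizer_of_commute (invFst_invSnd_commute A))
  refine IsPGroup.to_sup_of_normal_left' hD (isPGroup_two_zpowers (swapAut_sq A)) ?_
  refine (Subgroup.zpowers_le).2 ?_
  have hinv : (swapAut A)⁻¹ = swapAut A := by
    rw [inv_eq_iff_mul_eq_one, ← pow_two, swapAut_sq]
  have hconj : ∀ h ∈ Subgroup.zpowers (invFst A) ⊔ Subgroup.zpowers (invSnd A),
      swapAut A * h * (swapAut A)⁻¹ ∈ Subgroup.zpowers (invFst A) ⊔ Subgroup.zpowers (invSnd A) := by
    intro h hh
    have hmap : (Subgroup.zpowers (invFst A) ⊔ Subgroup.zpowers (invSnd A)).map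
        (MulAut.conj (swapAut A)).toMonoidHom ≤
        Subgroup.zpowers (invFst A) ⊔ Subgroup.zpowers (invSnd A) := by
      rw [Subgroup.map_sup, MonoidHom.map_zpowers, MonoidHom.map_zpowers]
      refine sup_le ?_ ?_
      · refine le_trans ?_ le_sup_right
        refine (Subgroup.zpowers_le).2 ?_
        have : (MulAut.conj (swapAut A)).toMonoidHom (invFst A) = invSnd A := by
          show swapAut A * invFst A * (swapAut A)⁻¹ = invSnd A
          rw [swap_invFst, mul_inv_cancel_right]
        rw [this]; exact Subgroup.mem_zpowers _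
      · refine le_trans ?_ le_sup_left
        refine (Subgroup.zpowers_le).2 ?_
        have : (MulAut.conj (swapAut A)).toMonoidHom (invSnd A) = invFst A := by
          show swapAut A * invSnd A * (swapAut A)⁻¹ = invFst A
          rw [swap_invSnd, mul_inv_cancel_right]
        rw [this]; exact Subgroup.mem_zpowers _
    exact hmap ⟨h, hh, rfl⟩
  rw [Subgroup.mem_normalizer_iff]
  intro h
  refine ⟨hconj h, fun hh => ?_⟩
  have := hconj _ hh
  rw [hinv] at this
  have e : swapAut A * (swapAut A * h * swapAut A) * swapAut A = h := by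
    have h2 : swapAut A * swapAut A = 1 := by rw [← pow_two, swapAut_sq]
    calc swapAut A * (swapAut A * h * swapAut A) * swapAut A
        = (swapAut A * swapAut A) * h * (swapAut A * swapAut A) := by group
      _ = h := by rw [h2, one_mul, mul_one]
  rw [hinv] at hh
  rwa [e] at this

theorem invFst_mem_dihAut : invFst A ∈ dihAut A :=
  Subgroup.mem_sup_left (Subgroup.mem_sup_left (Subgroup.mem_zpowers _))

theorem swapAut_mem_dihAut : swapAut A ∈ dihAut A :=
  Subgroup.mem_sup_right (Subgroup.mem_zpowers _)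

theorem swap_invFst_ne {g : A} (hg : g ^ 2 ≠ 1) : swapAut A * invFst A ≠ invFst A * swapAut A := by
  intro h
  have := congrArg (fun f : MulAut (A × A) => (f (g, 1)).2) h
  simp only [MulAut.mul_apply, swapAut_apply, invFst_apply] at this
  apply hg
  rw [pow_two]
  exact (inv_eq_iff_mul_eq_one.1 this)

end Swap

section Three

variable (A : Type*) [CommGroup A]

/-- an automorphism of order `3` of `A × A` -/
def threeAut : MulAut (A × A) where
  toFun x := (x.2, x.1⁻¹ * x.2⁻¹)
  invFun x := (x.1⁻¹ * x.2⁻¹, x.1)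
  left_inv x := by
    apply Prod.ext
    · simp
    · rfl
  right_inv x := by
    apply Prod.ext
    · rfl
    · simp
  map_mul' x y := by
    apply Prod.ext
    · rfl
    · show (x.1 * y.1)⁻¹ * (x.2 * y.2)⁻¹ = x.1⁻¹ * x.2⁻¹ * (y.1⁻¹ * y.2⁻¹)
      rw [mul_inv, mul_inv, mul_mul_mul_comm]

theorem threeAut_apply (x : A × A) : threeAut A x = (x.2, x.1⁻¹ * x.2⁻¹) := rfl

theorem threeAut_cube : threeAut A ^ 3 = 1 := by
  apply MulEquiv.ext; intro x
  rw [pow_succ, pow_two, MulAut.mul_apply, MulAut.mul_apply, threeAut_apply, threeAut_apply,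
    threeAut_apply]
  apply Prod.ext
  · simp
  · simp

theorem threeAut_ne_one {g : A} (hg : g ≠ 1) : threeAut A ≠ 1 := by
  intro h
  have := congrArg (fun f : MulAut (A × A) => (f (g, 1)).1) h
  simp only [threeAut_apply, MulAut.one_apply] at this
  exact hg this.symm

end Three

section Bad

/-- a group with a direct factor `(ℤ/pⁿ)²` (`n ≥ 1`) has a `p'`-group of automorphisms that is
not abelian of exponent dividing `p - 1` -/
theorem exists_bad_subgroup {p : ℕ} [hp : Fact p.Prime] {n : ℕ} (hn : 0 < n) {H₀ : Type*}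
    [CommGroup H₀] {S : Type*} [Group S]
    (f : S ≃* (Multiplicative (ZMod (p ^ n)) × Multiplicative (ZMod (p ^ n))) × H₀) :
    ∃ T : Subgroup (MulAut S), (Nat.card T).Coprime p ∧
      ¬ (IsMulCommutative T ∧ ∀ t ∈ T, t ^ (p - 1) = 1) := by
  classical
  haveI : NeZero (p ^ n) := ⟨pow_ne_zero _ hp.out.ne_zero⟩
  obtain ⟨ρ, hρ⟩ : ∃ ρ : MulAut (Multiplicative (ZMod (p ^ n)) × Multiplicative (ZMod (p ^ n))) →*
      MulAut S, Function.Injective ρ :=
    ⟨(MulAut.congr f.symm).toMonoidHom.comp (autProdLeft _ H₀),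
      (MulAut.congr f.symm).injective.comp (autProdLeft_injective _ H₀)⟩
  have hpn : ¬ p ^ n ∣ 1 := by
    intro h
    have := Nat.le_of_dvd one_pos ((dvd_pow_self p hn.ne').trans h)
    exact absurd hp.out.one_lt (by omega)
  have hg1 : (Multiplicative.ofAdd (1 : ZMod (p ^ n))) ≠ 1 := by
    intro h
    have h1 : (1 : ZMod (p ^ n)) = 0 := h
    rw [← Nat.cast_one, ZMod.natCast_eq_zero_iff] at h1
    exact hpn h1
  rcases hp.out.eq_two_or_odd' with h2 | hodd
  · -- `p = 2`
    refine ⟨(Subgroup.zpowers (threeAut _)).map ρ, ?_, ?_⟩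
    · rw [Subgroup.card_map_of_injective hρ, Nat.card_zpowers]
      have h32 : Nat.Coprime 3 p := by rw [h2]; decide
      exact Nat.Coprime.coprime_dvd_left (orderOf_dvd_of_pow_eq_one (threeAut_cube _)) h32
    · rintro ⟨-, hexp⟩
      have h3 := hexp _ (Subgroup.mem_map_of_mem ρ (Subgroup.mem_zpowers (threeAut _)))
      have hp1 : p - 1 = 1 := by rw [h2]
      rw [hp1, pow_one, ← map_one ρ] at h3
      exact threeAut_ne_one _ hg1 (hρ h3)
  · -- `p` odd
    have hp2 : p ≠ 2 := by
      rintro rfl
      exact absurd hodd (by decide)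
    refine ⟨(dihAut _).map ρ, ?_, ?_⟩
    · rw [Subgroup.card_map_of_injective hρ]
      obtain ⟨k, hk⟩ := IsPGroup.iff_card.1 (isPGroup_dihAut
        (Multiplicative (ZMod (p ^ n))))
      rw [hk]
      exact Nat.Coprime.pow_left k ((Nat.coprime_primes Nat.prime_two hp.out).2 (Ne.symm hp2))
    · rintro ⟨hc, -⟩
      have h3 := hc.is_comm.comm ⟨_, Subgroup.mem_map_of_mem ρ (swapAut_mem_dihAut _)⟩
        ⟨_, Subgroup.mem_map_of_mem ρ (invFst_mem_dihAut _)⟩
      have h4 := congrArg Subtype.val h3
      simp only [Subgroup.coe_mul] at h4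
      rw [← map_mul, ← map_mul] at h4
      refine swap_invFst_ne _ (g := Multiplicative.ofAdd (1 : ZMod (p ^ n))) ?_ (hρ h4)
      intro h
      have h1 : (1 : ZMod (p ^ n)) + 1 = 0 := by
        rw [pow_two] at h
        exact h
      have h5 : ((2 : ℕ) : ZMod (p ^ n)) = 0 := by
        rw [← h1]; norm_num
      rw [ZMod.natCast_eq_zero_iff] at h5
      have h6 : p ∣ 2 := (dvd_pow_self p hn.ne').trans h5
      exact hp2 ((Nat.prime_dvd_prime_iff_eq hp.out Nat.prime_two).1 h6)

end Bad

end Cfsg.Agent.Helper87
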