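import Mathlib

set_option autoImplicit false

namespace Cfsg.Agent.Helper87

variable {G : Type*} [Group G]

theorem card_subgroupOf_inf (H K : Subgroup G) :
    Nat.card (H.subgroupOf K) = Nat.card ↥(H ⊓ K) := by
  rw [← Subgroup.inf_subgroupOf_right]
  exact Nat.card_congr (Subgroup.subgroupOfEquivOfLe (inf_le_right : H ⊓ K ≤ K)).toEquiv

theorem card_inf_mul_relIndex (H K : Subgroup G) :
    Nat.card ↥(H ⊓ K) * H.relIndex K = Nat.card K := by
  rw [← card_subgroupOf_inf]
  exact Subgroup.card_mul_index (H.subgroupOf K)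

theorem card_mul_relIndex_of_le {H K : Subgroup G} (h : H ≤ K) :
    Nat.card H * H.relIndex K = Nat.card K := by
  have := card_inf_mul_relIndex H K
  rwa [inf_eq_left.2 h] at this

/-- `|H| = |ker f ∩ H| · |f(H)|` -/
theorem card_eq_card_ker_inf_mul_card_map {G' : Type*} [Group G'] (f : G →* G') (H : Subgroup G) :
    Nat.card H = Nat.card ↥(f.ker ⊓ H) * Nat.card ↥(H.map f) := by
  have h1 := Subgroup.card_mul_index (f.comp H.subtype).ker
  rw [Subgroup.index_ker, MonoidHom.range_comp, Subgroup.range_subtype] at h1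
  have h2 : (f.comp H.subtype).ker = f.ker.subgroupOf H := by
    ext x
    rw [MonoidHom.mem_ker, Subgroup.mem_subgroupOf, MonoidHom.mem_ker]
    rfl
  rw [h2, card_subgroupOf_inf] at h1
  exact h1.symm

theorem index_ker_dvd {G' : Type*} [Group G'] (f : G →* G') : f.ker.index ∣ Nat.card G' := by
  rw [Subgroup.index_ker]
  exact Subgroup.card_subgroup_dvd_card _

/-- in a `p`-group `S` with a subgroup `A` of index `p`, a subgroup `M` not contained in `A` meets `A`
in a subgroup of index `p` -/
theorem card_eq_mul_card_inf {p : ℕ} [hp : Fact p.Prime] {S A M : Subgroup G} [Finite S]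
    (hS : IsPGroup p S) (hA : A ≤ S) (hcard : Nat.card S = p * Nat.card A) (hM : M ≤ S) {x : G}
    (hxM : x ∈ M) (hxA : x ∉ A) : Nat.card M = p * Nat.card ↥(M ⊓ A) := by
  haveI : Finite A := Finite.of_injective _ (Subgroup.inclusion_injective hA)
  haveI : Finite M := Finite.of_injective _ (Subgroup.inclusion_injective hM)
  have hApos : 0 < Nat.card A := Nat.card_pos
  have h1 : A.relIndex S = p := by
    have := card_mul_relIndex_of_le hA
    rw [hcard, mul_comm p] at this
    exact Nat.eq_of_mul_eq_mul_left hApos this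
  have h2 : A.relIndex M ≤ p := by
    rw [← h1]
    apply Subgroup.relIndex_le_of_le_right hM
    rw [h1]; exact hp.out.ne_zero
  have h3 : A.relIndex M ≠ 1 := by
    rw [Ne, Subgroup.relIndex_eq_one]
    exact fun hle => hxA (hle hxM)
  have hMp : IsPGroup p M := hS.to_le hM
  obtain ⟨n, hn⟩ := IsPGroup.iff_card.1 hMp
  have h4 : A.relIndex M ∣ p ^ n := by
    rw [← hn]; exact Subgroup.relIndex_dvd_card A M
  obtain ⟨k, hk, hk2⟩ := (Nat.dvd_prime_pow hp.out).1 h4
  have h5 : A.relIndex M = p := by
    rcases k with _ | _ | k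
    · exact absurd (by rw [hk2, pow_zero]) h3
    · rw [hk2]; simp
    · exfalso
      rw [hk2] at h2
      have : p ^ 1 < p ^ (k + 1 + 1) := Nat.pow_lt_pow_right hp.out.one_lt (by omega)
      rw [pow_one] at this
      omega
  have h6 := card_inf_mul_relIndex A M
  rw [h5, inf_comm] at h6
  rw [← h6, mul_comm]

end Cfsg.Agent.Helper87
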