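import Mathlib
import Cfsg.Agent.Lib.Helper87.CardTools

set_option autoImplicit false

namespace Cfsg.Agent.Helper87

section NilEndo

variable {R : Type*} [Group R] (N : R →* R)

/-- the iterated images of an endomorphism -/
def iterRange : ℕ → Subgroup R
  | 0 => ⊤
  | k + 1 => (iterRange k).map N

theorem iterRange_zero : iterRange N 0 = ⊤ := rfl

theorem iterRange_succ (k : ℕ) : iterRange N (k + 1) = (iterRange N k).map N := rfl

theorem iterRange_one : iterRange N 1 = N.range := by
  rw [iterRange_succ, iterRange_zero, MonoidHom.range_eq_map]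

theorem iterRange_succ_le (k : ℕ) : iterRange N (k + 1) ≤ iterRange N k := by
  induction k with
  | zero => rw [iterRange_zero]; exact le_top
  | succ k ih =>
    rw [iterRange_succ N (k + 1), iterRange_succ N k]
    exact Subgroup.map_mono ih

theorem iterRange_antitone {j k : ℕ} (h : j ≤ k) : iterRange N k ≤ iterRange N j := by
  induction h with
  | refl => exact le_rfl
  | step _ ih => exact (iterRange_succ_le N _).trans ih

theorem iterRange_le_range {k : ℕ} (hk : 1 ≤ k) : iterRange N k ≤ N.range := by
  rw [← iterRange_one]; exact iterRange_antitone N hk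

theorem ker_le_comap_ker : N.ker ≤ N.ker.comap N := by
  intro a ha
  rw [Subgroup.mem_comap, MonoidHom.mem_ker.1 ha]
  exact Subgroup.one_mem _

variable [Finite R]

/-- `|ker N ∩ im N| = |ker N² : ker N|` -/
theorem card_ker_inf_range_eq :
    Nat.card ↥(N.ker ⊓ N.range) = N.ker.relIndex (N.ker.comap N) := by
  have h1 := card_eq_card_ker_inf_mul_card_map N (N.ker.comap N)
  rw [inf_eq_left.2 (ker_le_comap_ker N), Subgroup.map_comap_eq, inf_comm] at h1
  have h2 := card_mul_relIndex_of_le (ker_le_comap_ker N)
  rw [h1] at h2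
  have hpos : 0 < Nat.card N.ker := Nat.card_pos
  exact (Nat.eq_of_mul_eq_mul_left hpos h2).symm

theorem card_eq_card_ker_mul_card_range : Nat.card R = Nat.card N.ker * Nat.card N.range := by
  have h1 := card_eq_card_ker_inf_mul_card_map N ⊤
  rw [inf_top_eq, ← MonoidHom.range_eq_map, Subgroup.card_top] at h1
  exact h1

/-- `|R : (ker N)(im N)| = p` when `|ker N ∩ im N| = p` -/
theorem index_ker_sup_range {p : ℕ} (h1 : Nat.card ↥(N.ker ⊓ N.range) = p) :
    (N.ker ⊔ N.range).index = p := by
  have hR := card_eq_card_ker_mul_card_range N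
  have hH := card_eq_card_ker_inf_mul_card_map N (N.ker ⊔ N.range)
  rw [inf_eq_left.2 (le_sup_left : N.ker ≤ N.ker ⊔ N.range), Subgroup.map_sup,
    (Subgroup.map_eq_bot_iff _).2 le_rfl, bot_sup_eq] at hH
  have hI := card_eq_card_ker_inf_mul_card_map N N.range
  rw [h1] at hI
  have hidx := Subgroup.card_mul_index (N.ker ⊔ N.range)
  rw [hH, hR, hI] at hidx
  have hpos1 : 0 < Nat.card N.ker := Nat.card_pos
  have hpos2 : 0 < Nat.card ↥(N.range.map N) := Nat.card_pos
  have e : Nat.card N.ker * Nat.card ↥(N.range.map N) * (N.ker ⊔ N.range).index =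
      Nat.card N.ker * Nat.card ↥(N.range.map N) * p := by
    rw [hidx]; ring
  exact Nat.eq_of_mul_eq_mul_left (Nat.mul_pos hpos1 hpos2) e

/-- a nilpotent endomorphism with `|ker N ∩ im N| = p` and `|R : ker N| = p ^ n` has `N ^ n ≠ 1` -/
theorem iterRange_ne_bot {p : ℕ} [hp : Fact p.Prime] (hnil : ∃ n, iterRange N n = ⊥)
    (h1 : Nat.card ↥(N.ker ⊓ N.range) = p) {n : ℕ} (hidx : N.ker.index = p ^ n) :
    ∀ k, 1 ≤ k → k ≤ n → Nat.card ↥(iterRange N k) = p ^ (n + 1 - k) := by
  -- the kernel on a nontrivial term has order `p`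
  have hker : ∀ k, 1 ≤ k → iterRange N k ≠ ⊥ → Nat.card ↥(N.ker ⊓ iterRange N k) = p := by
    intro k hk hne
    have hle : N.ker ⊓ iterRange N k ≤ N.ker ⊓ N.range :=
      inf_le_inf_left _ (iterRange_le_range N hk)
    have hne2 : N.ker ⊓ iterRange N k ≠ ⊥ := by
      intro hbot
      -- then `N` is injective on all later terms, which are therefore nontrivial
      have hinj : ∀ j, k ≤ j → Nat.card ↥(iterRange N j) = Nat.card ↥(iterRange N k) := by
        intro j hj
        induction hj with
        | refl => rfl
        | step hj ih =>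
          rename_i j'
          have h2 := card_eq_card_ker_inf_mul_card_map N (iterRange N j')
          have h3 : N.ker ⊓ iterRange N j' = ⊥ := by
            apply le_bot_iff.1
            rw [← hbot]
            exact inf_le_inf_left _ (iterRange_antitone N hj)
          rw [h3, Subgroup.card_bot, one_mul] at h2
          rw [iterRange_succ, ← h2, ih]
      obtain ⟨m, hm⟩ := hnil
      have h4 : iterRange N (max m k) = ⊥ :=
        le_bot_iff.1 (hm ▸ iterRange_antitone N (le_max_left m k))
      have h5 := hinj (max m k) (le_max_right m k)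
      rw [h4, Subgroup.card_bot] at h5
      exact hne (Subgroup.card_eq_one.1 h5.symm)
    have hdvd := Subgroup.card_dvd_of_le hle
    rw [h1] at hdvd
    rcases (Nat.dvd_prime hp.out).1 hdvd with h | h
    · exact absurd (Subgroup.card_eq_one.1 h) hne2
    · exact h
  intro k hk1 hkn
  induction k with
  | zero => omega
  | succ k ih =>
    rcases Nat.eq_zero_or_pos k with hk0 | hkpos
    · subst hk0
      rw [iterRange_one, ← Subgroup.index_ker, hidx]
      congr 1
    · have ih' := ih hkpos (by omega)
      have hne : iterRange N k ≠ ⊥ := by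
        intro hbot
        rw [hbot, Subgroup.card_bot] at ih'
        have : 1 < p ^ (n + 1 - k) := Nat.one_lt_pow (by omega) hp.out.one_lt
        omega
      have h2 := card_eq_card_ker_inf_mul_card_map N (iterRange N k)
      rw [hker k hkpos hne, ih'] at h2
      rw [iterRange_succ]
      have e : n + 1 - k = (n + 1 - (k + 1)) + 1 := by omega
      rw [e, pow_succ, mul_comm] at h2
      exact (Nat.eq_of_mul_eq_mul_left hp.out.pos h2).symm

/-- a nilpotent endomorphism has nontrivial kernel on every nontrivial iterated image -/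
theorem ker_inf_iterRange_ne_bot (hnil : ∃ n, iterRange N n = ⊥) (k : ℕ)
    (hne : iterRange N k ≠ ⊥) : N.ker ⊓ iterRange N k ≠ ⊥ := by
  intro hbot
  have hinj : ∀ j, k ≤ j → Nat.card ↥(iterRange N j) = Nat.card ↥(iterRange N k) := by
    intro j hj
    induction hj with
    | refl => rfl
    | step hj ih =>
      rename_i j'
      have h2 := card_eq_card_ker_inf_mul_card_map N (iterRange N j')
      have h3 : N.ker ⊓ iterRange N j' = ⊥ := by
        apply le_bot_iff.1
        rw [← hbot]
        exact inf_le_inf_left _ (iterRange_antitone N hj)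
      rw [h3, Subgroup.card_bot, one_mul] at h2
      rw [iterRange_succ, ← h2, ih]
  obtain ⟨m, hm⟩ := hnil
  have h4 : iterRange N (max m k) = ⊥ :=
    le_bot_iff.1 (hm ▸ iterRange_antitone N (le_max_left m k))
  have h5 := hinj (max m k) (le_max_right m k)
  rw [h4, Subgroup.card_bot] at h5
  exact hne (Subgroup.card_eq_one.1 h5.symm)

theorem ker_inf_range_ne_bot (hnil : ∃ n, iterRange N n = ⊥) (hne : N.range ≠ ⊥) :
    N.ker ⊓ N.range ≠ ⊥ := by
  have := ker_inf_iterRange_ne_bot N hnil 1 (by rw [iterRange_one]; exact hne)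
  rwa [iterRange_one] at this

/-- preimages under an endomorphism do not increase relative indices -/
theorem relIndex_comap_le (H K : Subgroup R) :
    (H.comap N).relIndex (K.comap N) ≤ H.relIndex K := by
  rw [Subgroup.relIndex_comap, Subgroup.map_comap_eq]
  apply Subgroup.relIndex_le_of_le_right inf_le_right
  show (H.subgroupOf K).index ≠ 0
  exact Subgroup.index_ne_zero_of_finite

end NilEndo

end Cfsg.Agent.Helper87
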