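import Mathlib
import Cfsg.Prelude.Def_FusionSystem
import Cfsg.Agent.Lib.Helper87.FusionEssential

set_option autoImplicit false

namespace Cfsg.Agent.Helper87

open Cfsg Cfsg.FusionSystem

variable {Ω : Type*} [Group Ω] {S : Subgroup Ω}

/-- `Z(S)` as a subgroup of the ambient group -/
abbrev zS (S : Subgroup Ω) : Subgroup Ω := centralizerIn S S

theorem mem_zS {z : Ω} : z ∈ zS S ↔ z ∈ S ∧ ∀ s ∈ S, s * z = z * s := by
  show z ∈ S ⊓ Subgroup.centralizer (S : Set Ω) ↔ _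
  rw [Subgroup.mem_inf, Subgroup.mem_centralizer_iff]
  rfl

theorem zS_le (S : Subgroup Ω) : zS S ≤ S := inf_le_left

/-- the derived subgroup of `S` as a subgroup of the ambient group -/
def derS (S : Subgroup Ω) : Subgroup Ω :=
  Subgroup.closure {x | ∃ s ∈ S, ∃ t ∈ S, x = s * t * s⁻¹ * t⁻¹}

theorem comm_mem_derS {s t : Ω} (hs : s ∈ S) (ht : t ∈ S) : s * t * s⁻¹ * t⁻¹ ∈ derS S :=
  Subgroup.subset_closure ⟨s, hs, t, ht, rfl⟩

theorem mem_inf_centralizer_singleton {M : Subgroup Ω} {x y : Ω} :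
    y ∈ M ⊓ Subgroup.centralizer {x} ↔ y ∈ M ∧ x * y = y * x := by
  rw [Subgroup.mem_inf, Subgroup.mem_centralizer_iff]
  constructor
  · rintro ⟨h1, h2⟩
    exact ⟨h1, h2 x rfl⟩
  · rintro ⟨h1, h2⟩
    refine ⟨h1, fun g hg => ?_⟩
    rw [Set.mem_singleton_iff] at hg
    rw [hg]; exact h2

/-- general counting lemma: no subgroup strictly between `A` and `C` when `|C| = p |A|` -/
theorem eq_of_le_of_not_mem {p : ℕ} [hp : Fact p.Prime] {A B C : Subgroup Ω} [Finite C]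
    (hAB : A ≤ B) (hBC : B ≤ C) (hcard : Nat.card C = p * Nat.card A) {x : Ω} (hxB : x ∈ B)
    (hxA : x ∉ A) : B = C := by
  haveI : Finite B := Finite.of_injective _ (Subgroup.inclusion_injective hBC)
  haveI : Finite A := Finite.of_injective _ (Subgroup.inclusion_injective hAB)
  have h1 : Nat.card A ∣ Nat.card B := Subgroup.card_dvd_of_le hAB
  have h2 : Nat.card B ∣ Nat.card C := Subgroup.card_dvd_of_le hBC
  obtain ⟨k, hk⟩ := h1
  have hApos : 0 < Nat.card A := Nat.card_pos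
  rw [hcard, hk, mul_comm p, Nat.mul_dvd_mul_iff_left hApos] at h2
  rcases (Nat.dvd_prime hp.out).1 h2 with h | h
  · exfalso
    rw [h, mul_one] at hk
    have : A = B := Subgroup.eq_of_le_of_card_ge hAB (le_of_eq hk)
    exact hxA (this ▸ hxB)
  · apply Subgroup.eq_of_le_of_card_ge hBC
    rw [hcard, hk, h, mul_comm]

/-- standing hypotheses: `|S : Z(S)| = p ^ 2` and `S' ≤ Z(S)` -/
structure SC (p : ℕ) (S : Subgroup Ω) : Prop where
  card : Nat.card S = p ^ 2 * Nat.card (zS S)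
  comm : ∀ s ∈ S, ∀ t ∈ S, s * t * s⁻¹ * t⁻¹ ∈ zS S

/-- a subgroup strictly between `Z(S)` and `S` -/
structure Mid (p : ℕ) (S R : Subgroup Ω) : Prop where
  le : zS S ≤ R
  le' : R ≤ S
  card : Nat.card R = p * Nat.card (zS S)

section

variable {p : ℕ} [hp : Fact p.Prime] [Finite S]

theorem SC.derS_le (h : SC p S) : derS S ≤ zS S := by
  unfold derS
  rw [Subgroup.closure_le]
  rintro _ ⟨s, hs, t, ht, rfl⟩
  exact h.comm s hs t ht

theorem SC.card_mid (h : SC p S) {R : Subgroup Ω} (hR : Mid p S R) :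
    Nat.card S = p * Nat.card R := by
  rw [h.card, hR.card]; ring

theorem SC.mid_of_le (h : SC p S) {R : Subgroup Ω} (h1 : zS S ≤ R) (h2 : R ≤ S)
    (hne1 : R ≠ zS S) (hne2 : R ≠ S) : Mid p S R := by
  refine ⟨h1, h2, ?_⟩
  haveI : Finite R := finite_of_le h2
  haveI : Finite (zS S) := finite_of_le (zS_le S)
  have d1 : Nat.card (zS S) ∣ Nat.card R := Subgroup.card_dvd_of_le h1
  have d2 : Nat.card R ∣ Nat.card S := Subgroup.card_dvd_of_le h2
  obtain ⟨k, hk⟩ := d1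
  have hZpos : 0 < Nat.card (zS S) := Nat.card_pos
  rw [h.card, hk, mul_comm (p ^ 2), Nat.mul_dvd_mul_iff_left hZpos] at d2
  obtain ⟨j, hj, rfl⟩ := (Nat.dvd_prime_pow hp.out).1 d2
  interval_cases j
  · exfalso
    apply hne1
    rw [pow_zero, mul_one] at hk
    exact (Subgroup.eq_of_le_of_card_ge h1 (le_of_eq hk)).symm
  · rw [hk, pow_one, mul_comm]
  · exfalso
    apply hne2
    apply Subgroup.eq_of_le_of_card_ge h2
    rw [h.card, hk, mul_comm]

theorem SC.ne_zS (h : SC p S) : zS S ≠ S := by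
  intro he
  have h1 := h.card
  rw [he] at h1
  have hpos : 0 < Nat.card S := Nat.card_pos
  have : 1 < p ^ 2 := Nat.one_lt_pow (by norm_num) hp.out.one_lt
  nlinarith

namespace Mid

variable {R : Subgroup Ω}

theorem finite (hR : Mid p S R) : Finite R := finite_of_le hR.le'

theorem ne_zS (hR : Mid p S R) : ∃ r ∈ R, r ∉ zS S := by
  by_contra hcon
  push Not at hcon
  haveI := hR.finite
  have : R = zS S := le_antisymm hcon hR.le
  have h1 := hR.card
  rw [this] at h1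
  haveI : Finite (zS S) := finite_of_le (zS_le S)
  have hpos : 0 < Nat.card (zS S) := Nat.card_pos
  have := hp.out.one_lt
  nlinarith

theorem exists_not_mem (h : SC p S) (hR : Mid p S R) : ∃ y ∈ S, y ∉ R := by
  by_contra hcon
  push Not at hcon
  have : R = S := le_antisymm hR.le' hcon
  have h1 := h.card_mid hR
  rw [this] at h1
  have hpos : 0 < Nat.card S := Nat.card_pos
  have := hp.out.one_lt
  nlinarith

/-- an element of `S` commuting with `R` and with some `y ∈ S ∖ R` is central -/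
theorem mem_zS_of_commute (h : SC p S) (hR : Mid p S R) {x y : Ω} (hx : x ∈ S)
    (hxR : ∀ r ∈ R, r * x = x * r) (hy : y ∈ S) (hyR : y ∉ R) (hxy : y * x = x * y) :
    x ∈ zS S := by
  have hB : R ≤ S ⊓ Subgroup.centralizer {x} := by
    intro r hr
    exact mem_inf_centralizer_singleton.2 ⟨hR.le' hr, (hxR r hr).symm⟩
  have hyB : y ∈ S ⊓ Subgroup.centralizer {x} :=
    mem_inf_centralizer_singleton.2 ⟨hy, hxy.symm⟩
  have heq := eq_of_le_of_not_mem hB inf_le_left (h.card_mid hR) hyB hyR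
  rw [mem_zS]
  refine ⟨hx, fun s hs => ?_⟩
  have hs' : s ∈ S ⊓ Subgroup.centralizer {x} := by rw [heq]; exact hs
  exact (mem_inf_centralizer_singleton.1 hs').2.symm

/-- `R` is abelian -/
theorem comm (hR : Mid p S R) {x y : Ω} (hx : x ∈ R) (hy : y ∈ R) : x * y = y * x := by
  haveI := hR.finite
  obtain ⟨r, hr, hrZ⟩ := hR.ne_zS
  -- `r` commutes with `R`
  have key : ∀ t ∈ R, (zS S ≤ R ⊓ Subgroup.centralizer {t}) := by
    intro t ht z hz
    exact mem_inf_centralizer_singleton.2 ⟨hR.le hz, (mem_zS.1 hz).2 t (hR.le' ht)⟩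
  have hrmem : r ∈ R ⊓ Subgroup.centralizer {r} := mem_inf_centralizer_singleton.2 ⟨hr, rfl⟩
  have h1 := eq_of_le_of_not_mem (key r hr) inf_le_left hR.card hrmem hrZ
  have hr_comm : ∀ t ∈ R, r * t = t * r := by
    intro t ht
    have ht' : t ∈ R ⊓ Subgroup.centralizer {r} := by rw [h1]; exact ht
    exact (mem_inf_centralizer_singleton.1 ht').2
  have hrmem2 : r ∈ R ⊓ Subgroup.centralizer {x} :=
    mem_inf_centralizer_singleton.2 ⟨hr, (hr_comm x hx).symm⟩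
  have h2 := eq_of_le_of_not_mem (key x hx) inf_le_left hR.card hrmem2 hrZ
  have hy' : y ∈ R ⊓ Subgroup.centralizer {x} := by rw [h2]; exact hy
  exact (mem_inf_centralizer_singleton.1 hy').2

/-- `R` is normal in `S` -/
theorem normal (h : SC p S) (hR : Mid p S R) : S ≤ Subgroup.normalizer (R : Set Ω) := by
  have key : ∀ s ∈ S, ∀ x ∈ R, s * x * s⁻¹ ∈ R := by
    intro s hs x hx
    have h1 : s * x * s⁻¹ * x⁻¹ ∈ R := hR.le (h.comm s hs x (hR.le' hx))
    have h2 : s * x * s⁻¹ = s * x * s⁻¹ * x⁻¹ * x := by group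
    rw [h2]
    exact R.mul_mem h1 hx
  intro s hs
  rw [Subgroup.mem_normalizer_iff]
  intro x
  refine ⟨key s hs x, fun hx => ?_⟩
  have := key s⁻¹ (S.inv_mem hs) _ hx
  have e : s⁻¹ * (s * x * s⁻¹) * s⁻¹⁻¹ = x := by group
  rwa [e] at this

/-- `R` is self-centralizing in `S` -/
theorem centralizerIn_le (h : SC p S) (hR : Mid p S R) : centralizerIn S R ≤ R := by
  intro c hc
  by_contra hcR
  obtain ⟨r, hr, hrZ⟩ := hR.ne_zS
  apply hrZ
  have hc2 : ∀ t ∈ R, t * c = c * t := fun t ht => (Subgroup.mem_centralizer_iff.1 hc.2) t ht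
  exact hR.mem_zS_of_commute h (hR.le' hr) (fun t ht => hR.comm ht hr) hc.1 hcR (hc2 r hr).symm

/-- two distinct intermediate subgroups meet in `Z(S)` -/
theorem mem_zS_of_mem_of_mem {R' : Subgroup Ω} (hR : Mid p S R) (hR' : Mid p S R') (hne : R ≠ R')
    {x : Ω} (hx : x ∈ R) (hx' : x ∈ R') : x ∈ zS S := by
  by_contra hxZ
  haveI := hR.finite
  haveI := hR'.finite
  have h1 : R ⊓ R' = R :=
    eq_of_le_of_not_mem (le_inf hR.le hR'.le) inf_le_left hR.card ⟨hx, hx'⟩ hxZ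
  have h2 : R ⊓ R' = R' :=
    eq_of_le_of_not_mem (le_inf hR.le hR'.le) inf_le_right hR'.card ⟨hx, hx'⟩ hxZ
  exact hne (h1.symm.trans h2)

/-- `S = R ⟨y⟩`: a subgroup containing `R` and `y ∉ R` contains `S` -/
theorem le_of_mem (h : SC p S) (hR : Mid p S R) {M : Subgroup Ω} (hRM : R ≤ M) {y : Ω}
    (hy : y ∈ S) (hyR : y ∉ R) (hyM : y ∈ M) : S ≤ M := by
  have heq := eq_of_le_of_not_mem (le_inf hRM hR.le') inf_le_right (h.card_mid hR)
    (⟨hyM, hy⟩ : y ∈ M ⊓ S) hyR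
  intro s hs
  have : s ∈ M ⊓ S := by rw [heq]; exact hs
  exact this.1

/-- `R = Z ⟨r⟩`: a subgroup containing `Z(S)` and `r ∈ R ∖ Z(S)` contains `R` -/
theorem le_of_mem' (hR : Mid p S R) {M : Subgroup Ω} (hZM : zS S ≤ M) {r : Ω}
    (hr : r ∈ R) (hrZ : r ∉ zS S) (hrM : r ∈ M) : R ≤ M := by
  haveI := hR.finite
  have heq := eq_of_le_of_not_mem (le_inf hZM hR.le) inf_le_right hR.card
    (⟨hrM, hr⟩ : r ∈ M ⊓ R) hrZ
  intro s hs
  have : s ∈ M ⊓ R := by rw [heq]; exact hs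
  exact this.1

end Mid

omit [Finite S] hp in
theorem central_conj {Lu : Subgroup Ω} (hLu : Lu ≤ zS S) {c t : Ω} (hc : c ∈ Lu) (ht : t ∈ S) :
    t * c * t⁻¹ = c := by
  have := (mem_zS.1 (hLu hc)).2 t ht
  rw [this]; group

/-- elements of `S` whose commutator with `s` lies in the central subgroup `Lu` -/
def commRight (S Lu : Subgroup Ω) (hLu : Lu ≤ zS S) (s : Ω) : Subgroup Ω where
  carrier := {t | t ∈ S ∧ s * t * s⁻¹ * t⁻¹ ∈ Lu}
  one_mem' := ⟨S.one_mem, by simp⟩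
  mul_mem' := by
    rintro t₁ t₂ ⟨h1, c1⟩ ⟨h2, c2⟩
    refine ⟨S.mul_mem h1 h2, ?_⟩
    have e : s * (t₁ * t₂) * s⁻¹ * (t₁ * t₂)⁻¹ =
        (s * t₁ * s⁻¹ * t₁⁻¹) * (t₁ * (s * t₂ * s⁻¹ * t₂⁻¹) * t₁⁻¹) := by group
    rw [e, central_conj hLu c2 h1]
    exact Lu.mul_mem c1 c2
  inv_mem' := by
    rintro t ⟨h1, c1⟩
    refine ⟨S.inv_mem h1, ?_⟩
    have e : s * t⁻¹ * s⁻¹ * t⁻¹⁻¹ = t⁻¹ * (s * t * s⁻¹ * t⁻¹)⁻¹ * t⁻¹⁻¹ := by group
    rw [e, central_conj hLu (Lu.inv_mem c1) (S.inv_mem h1)]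
    exact Lu.inv_mem c1

/-- elements of `S` all of whose commutators lie in the central subgroup `Lu` -/
def commLeft (S Lu : Subgroup Ω) (hLu : Lu ≤ zS S) : Subgroup Ω where
  carrier := {s | s ∈ S ∧ ∀ t ∈ S, s * t * s⁻¹ * t⁻¹ ∈ Lu}
  one_mem' := ⟨S.one_mem, fun t _ => by simp⟩
  mul_mem' := by
    rintro s₁ s₂ ⟨h1, c1⟩ ⟨h2, c2⟩
    refine ⟨S.mul_mem h1 h2, fun t ht => ?_⟩
    have e : s₁ * s₂ * t * (s₁ * s₂)⁻¹ * t⁻¹ =
        (s₁ * (s₂ * t * s₂⁻¹ * t⁻¹) * s₁⁻¹) * (s₁ * t * s₁⁻¹ * t⁻¹) := by group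
    rw [e, central_conj hLu (c2 t ht) h1]
    exact Lu.mul_mem (c2 t ht) (c1 t ht)
  inv_mem' := by
    rintro s ⟨h1, c1⟩
    refine ⟨S.inv_mem h1, fun t ht => ?_⟩
    have e : s⁻¹ * t * s⁻¹⁻¹ * t⁻¹ = s⁻¹ * (s * t * s⁻¹ * t⁻¹)⁻¹ * s⁻¹⁻¹ := by group
    rw [e, central_conj hLu (Lu.inv_mem (c1 t ht)) (S.inv_mem h1)]
    exact Lu.inv_mem (c1 t ht)

/-- `S' ≤ Lu` as soon as `[y, R] ⊆ Lu` for some `y ∈ S ∖ R` -/
theorem derS_le_of_forall (h : SC p S) {R : Subgroup Ω} (hR : Mid p S R) {Lu : Subgroup Ω}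
    (hLu : Lu ≤ zS S) {y : Ω} (hy : y ∈ S) (hyR : y ∉ R)
    (h1 : ∀ r ∈ R, y * r * y⁻¹ * r⁻¹ ∈ Lu) : derS S ≤ Lu := by
  have hyL : y ∈ commLeft S Lu hLu := by
    refine ⟨hy, fun t ht => ?_⟩
    have hS : S ≤ commRight S Lu hLu y := by
      apply hR.le_of_mem h (y := y) _ hy hyR
      · refine ⟨hy, ?_⟩
        have : y * y * y⁻¹ * y⁻¹ = 1 := by group
        rw [this]; exact Lu.one_mem
      · intro r hr
        exact ⟨hR.le' hr, h1 r hr⟩
    exact (hS ht).2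
  have hRL : R ≤ commLeft S Lu hLu := by
    intro r hr
    refine ⟨hR.le' hr, fun t ht => ?_⟩
    have hS : S ≤ commRight S Lu hLu r := by
      apply hR.le_of_mem h (y := y) _ hy hyR
      · refine ⟨hy, ?_⟩
        have e : r * y * r⁻¹ * y⁻¹ = (y * r * y⁻¹ * r⁻¹)⁻¹ := by group
        rw [e]
        exact Lu.inv_mem (h1 r hr)
      · intro r' hr'
        refine ⟨hR.le' hr', ?_⟩
        rw [hR.comm hr hr']
        have : r' * r * r⁻¹ * r'⁻¹ = 1 := by group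
        rw [this]; exact Lu.one_mem
    exact (hS ht).2
  have hSL : S ≤ commLeft S Lu hLu := hR.le_of_mem h hRL hy hyR hyL
  unfold derS
  rw [Subgroup.closure_le]
  rintro _ ⟨s, hs, t, ht, rfl⟩
  exact (hSL hs).2 t ht

end

end Cfsg.Agent.Helper87
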