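import Mathlib
import Cfsg.Prelude.Def_FusionSystem
import Cfsg.Agent.Lib.Helper87.SmallCenterGrp
import Cfsg.Agent.Lib.Helper87.Transv

set_option autoImplicit false

namespace Cfsg.Agent.Helper87

open Cfsg Cfsg.FusionSystem
open scoped IsMulCommutative

variable {Ω : Type*} [Group Ω] {S : Subgroup Ω} [Finite S] {p : ℕ} [hp : Fact p.Prime]

theorem Mid.isMulCommutative {R : Subgroup Ω} (hR : Mid p S R) : IsMulCommutative ↥R :=
  ⟨⟨fun a b => Subtype.ext (hR.comm a.2 b.2)⟩⟩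

section Setup

variable {R : Subgroup Ω} [IsMulCommutative ↥R]

theorem fixedSub_conjAut (h : SC p S) (hR : Mid p S R) {y : Ω} (hy : y ∈ S) (hyR : y ∉ R) :
    fixedSub (conjAut R y (hR.normal h hy)) = (zS S).subgroupOf R := by
  ext r
  rw [mem_fixedSub, Subgroup.mem_subgroupOf]
  constructor
  · intro hr
    have h1 : y * (r : Ω) * y⁻¹ = r := congrArg Subtype.val hr
    apply hR.mem_zS_of_commute h (hR.le' r.2) (fun t ht => hR.comm ht r.2) hy hyR
    calc y * (r : Ω) = (y * r * y⁻¹) * y := by group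
      _ = r * y := by rw [h1]
  · intro hz
    apply Subtype.ext
    rw [conjAut_apply]
    have := (mem_zS.1 hz).2 y hy
    rw [this]; group

theorem commHom_conjAut_val (h : SC p S) (hR : Mid p S R) {y : Ω} (hy : y ∈ S) (r : R) :
    ((commHom (conjAut R y (hR.normal h hy)) r : R) : Ω) = (r : Ω)⁻¹ * y * r * y⁻¹ := by
  rw [commHom_apply, Subgroup.coe_mul, conjAut_apply, Subgroup.coe_inv]
  group

omit [Finite S] hp [IsMulCommutative R] in
theorem card_subgroupOf_eq {G : Type*} [Group G] {A B : Subgroup G} (hAB : A ≤ B) :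
    Nat.card (A.subgroupOf B) = Nat.card A :=
  Nat.card_congr (Subgroup.subgroupOfEquivOfLe hAB).toEquiv

theorem isTransv_conjAut (h : SC p S) (hR : Mid p S R) {y : Ω} (hy : y ∈ S) (hyR : y ∉ R) :
    IsTransv p (conjAut R y (hR.normal h hy)) := by
  haveI := hR.finite
  refine ⟨?_, ?_, ?_⟩
  · intro h1
    apply hyR
    apply hR.centralizerIn_le h
    refine ⟨hy, ?_⟩
    show y ∈ Subgroup.centralizer (R : Set Ω)
    rw [Subgroup.mem_centralizer_iff]
    intro r hr
    have h2 : y * r * y⁻¹ = r := by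
      have := congrArg (fun α : MulAut R => ((α ⟨r, hr⟩ : R) : Ω)) h1
      exact this
    calc r * y = (y * r * y⁻¹) * y := by rw [h2]
      _ = y * r := by group
  · rw [fixedSub_conjAut h hR hy hyR]
    have h1 := Subgroup.card_mul_index ((zS S).subgroupOf R)
    rw [card_subgroupOf_eq hR.le, hR.card] at h1
    haveI : Finite (zS S) := finite_of_le (zS_le S)
    have hpos : 0 < Nat.card (zS S) := Nat.card_pos
    have h2 : Nat.card (zS S) * ((zS S).subgroupOf R).index = Nat.card (zS S) * p := by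
      rw [h1]; ring
    exact Nat.eq_of_mul_eq_mul_left hpos h2
  · rw [fixedSub_conjAut h hR hy hyR]
    rintro _ ⟨r, rfl⟩
    rw [Subgroup.mem_subgroupOf, commHom_conjAut_val h hR hy]
    have := h.comm (r : Ω)⁻¹ (S.inv_mem (hR.le' r.2)) y hy
    rwa [inv_inv] at this

/-- `Aut_S(R)` is generated by conjugation by `y` -/
theorem autInducedBy_eq_zpowers (h : SC p S) (hR : Mid p S R) {y : Ω} (hy : y ∈ S) (hyR : y ∉ R) :
    autInducedBy S R = Subgroup.zpowers (conjAut R y (hR.normal h hy)) := by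
  apply le_antisymm
  · -- the elements of `S` inducing a power of `u`
    let M : Subgroup Ω :=
      { carrier := {g | ∃ hg : g ∈ S, conjAut R g (hR.normal h hg) ∈
          Subgroup.zpowers (conjAut R y (hR.normal h hy))}
        one_mem' := by
          refine ⟨S.one_mem, ?_⟩
          have : conjAut R 1 (hR.normal h S.one_mem) = 1 := by
            ext x; simp [conjAut_apply]
          rw [this]; exact Subgroup.one_mem _
        mul_mem' := by
          rintro a b ⟨ha, ha'⟩ ⟨hb, hb'⟩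
          refine ⟨S.mul_mem ha hb, ?_⟩
          have : conjAut R (a * b) (hR.normal h (S.mul_mem ha hb)) =
              conjAut R a (hR.normal h ha) * conjAut R b (hR.normal h hb) := by
            ext x
            show (a * b) * (x : Ω) * (a * b)⁻¹ = a * (b * (x : Ω) * b⁻¹) * a⁻¹
            group
          rw [this]; exact Subgroup.mul_mem _ ha' hb'
        inv_mem' := by
          rintro a ⟨ha, ha'⟩
          refine ⟨S.inv_mem ha, ?_⟩
          have : conjAut R a⁻¹ (hR.normal h (S.inv_mem ha)) =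
              (conjAut R a (hR.normal h ha))⁻¹ := by
            rw [eq_inv_iff_mul_eq_one]
            ext x
            show a⁻¹ * (a * (x : Ω) * a⁻¹) * a⁻¹⁻¹ = x
            group
          rw [this]; exact Subgroup.inv_mem _ ha' }
    have hRM : R ≤ M := by
      intro r hr
      refine ⟨hR.le' hr, ?_⟩
      have : conjAut R r (hR.normal h (hR.le' hr)) = 1 := by
        ext x
        show r * (x : Ω) * r⁻¹ = x
        rw [hR.comm hr x.2]; group
      rw [this]; exact Subgroup.one_mem _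
    have hyM : y ∈ M := ⟨hy, Subgroup.mem_zpowers _⟩
    have hSM : S ≤ M := hR.le_of_mem h hRM hy hyR hyM
    intro α hα
    obtain ⟨g, hg, e⟩ := mem_autInducedBy_iff.1 hα
    obtain ⟨hg', hgz⟩ := hSM hg
    have : α = conjAut R g (hR.normal h hg') := by
      ext x
      rw [e, conjAut_apply]
    rw [this]; exact hgz
  · rw [Subgroup.zpowers_le]
    exact conjAut_mem_autInducedBy hy (hR.normal h hy)

/-- `p`-subgroups of `Aut_F(R)` have order at most `p` -/
theorem card_le_of_isPGroup_autGroup (hS : IsPGroup p S) {F : FusionSystem S}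
    (hF : F.IsSaturated p) (h : SC p S) (hR : Mid p S R) (Q : Subgroup (MulAut R))
    (hQ : Q ≤ F.autGroup R) (hQp : IsPGroup p Q) : Nat.card Q ≤ p := by
  haveI := hR.finite
  obtain ⟨y, hy, hyR⟩ := hR.exists_not_mem h
  have hfn := fullyNormalized_of_le_normalizer F hR.le' (hR.normal h)
  obtain ⟨-, P₀, hP₀⟩ := fullyAutomized_of_fullyNormalized hS hF hfn
  have hu := isTransv_conjAut h hR hy hyR
  have hc0 : Nat.card (P₀ : Subgroup (F.autGroup R)) = p := by
    rw [hP₀, card_subgroupOf_eq (autInducedBy_le_autGroup F hR.le'),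
      autInducedBy_eq_zpowers h hR hy hyR, Nat.card_zpowers, hu.orderOf_eq]
  have hQ' : IsPGroup p (Q.subgroupOf (F.autGroup R)) := hQp.comap_subtype
  obtain ⟨Q', hQ'le⟩ := hQ'.exists_le_sylow
  have hc1 : Nat.card (Q' : Subgroup (F.autGroup R)) = p := by
    rw [Sylow.card_eq_multiplicity, ← Sylow.card_eq_multiplicity P₀, hc0]
  calc Nat.card Q = Nat.card (Q.subgroupOf (F.autGroup R)) := (card_subgroupOf_eq hQ).symm
    _ ≤ Nat.card (Q' : Subgroup (F.autGroup R)) := Subgroup.card_le_of_le hQ'le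
    _ = p := hc1

/-- `[R, y] = S'` -/
theorem map_commSub_conjAut (h : SC p S) (hR : Mid p S R) {y : Ω} (hy : y ∈ S) (hyR : y ∉ R) :
    (commSub (conjAut R y (hR.normal h hy))).map R.subtype = derS S := by
  apply le_antisymm
  · rintro _ ⟨_, ⟨r, rfl⟩, rfl⟩
    show ((commHom (conjAut R y (hR.normal h hy)) r : R) : Ω) ∈ derS S
    rw [commHom_conjAut_val h hR hy]
    have := comm_mem_derS (S := S) (S.inv_mem (hR.le' r.2)) hy
    rwa [inv_inv] at this
  · have hLu : (commSub (conjAut R y (hR.normal h hy))).map R.subtype ≤ zS S := by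
      rintro _ ⟨x, hx, rfl⟩
      have h1 := (isTransv_conjAut h hR hy hyR).le hx
      rw [fixedSub_conjAut h hR hy hyR, Subgroup.mem_subgroupOf] at h1
      exact h1
    apply derS_le_of_forall h hR hLu hy hyR
    intro r hr
    refine ⟨commHom (conjAut R y (hR.normal h hy)) ⟨r, hr⟩, commHom_mem_commSub _ _, ?_⟩
    show ((commHom (conjAut R y (hR.normal h hy)) ⟨r, hr⟩ : R) : Ω) = _
    rw [commHom_conjAut_val h hR hy]
    show r⁻¹ * y * r * y⁻¹ = y * r * y⁻¹ * r⁻¹
    have h2 : y * r * y⁻¹ ∈ R := (Subgroup.mem_normalizer_iff.1 (hR.normal h hy) r).1 hr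
    have h3 := hR.comm (R.inv_mem hr) h2
    calc r⁻¹ * y * r * y⁻¹ = r⁻¹ * (y * r * y⁻¹) := by group
      _ = y * r * y⁻¹ * r⁻¹ := h3

end Setup

/-! ### active subgroups -/

/-- some `F`-automorphism of `R` moves `Z(S)` -/
def Active (F : FusionSystem S) (R : Subgroup Ω) : Prop :=
  ∃ g, Iso F R R g ∧ ∃ z ∈ zS S, g z ∉ zS S

/-- the largest `Aut_F(R)`-invariant subgroup of `Z(S)` (for `Z(S) ≤ R`) -/
def wSub (F : FusionSystem S) (R : Subgroup Ω) : Subgroup Ω where
  carrier := {w | w ∈ R ∧ ∀ g, Iso F R R g → g w ∈ zS S}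
  one_mem' := ⟨R.one_mem, fun g hg => by rw [hg.1.map_one]; exact Subgroup.one_mem _⟩
  mul_mem' := by
    rintro a b ⟨ha, ha'⟩ ⟨hb, hb'⟩
    refine ⟨R.mul_mem ha hb, fun g hg => ?_⟩
    rw [hg.1.map_mul ha hb]
    exact Subgroup.mul_mem _ (ha' g hg) (hb' g hg)
  inv_mem' := by
    rintro a ⟨ha, ha'⟩
    refine ⟨R.inv_mem ha, fun g hg => ?_⟩
    rw [hg.1.map_inv ha]
    exact Subgroup.inv_mem _ (ha' g hg)

omit [Finite S] in
theorem mem_wSub {F : FusionSystem S} {R : Subgroup Ω} {w : Ω} :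
    w ∈ wSub F R ↔ w ∈ R ∧ ∀ g, Iso F R R g → g w ∈ zS S := Iff.rfl

omit [Finite S] in
theorem wSub_le {F : FusionSystem S} {R : Subgroup Ω} : wSub F R ≤ R := fun _ hw => hw.1

omit [Finite S] in
theorem wSub_le_zS {F : FusionSystem S} {R : Subgroup Ω} (hR : R ≤ S) : wSub F R ≤ zS S :=
  fun _ hw => hw.2 _ (Iso.refl hR)

omit [Finite S] in
theorem wSub_map_mem {F : FusionSystem S} {R : Subgroup Ω} {g : Ω → Ω} (hg : Iso F R R g)
    {w : Ω} (hw : w ∈ wSub F R) : g w ∈ wSub F R := by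
  refine ⟨hg.map_mem hw.1, fun g' hg' => ?_⟩
  exact hw.2 _ (hg.comp hg')

/-- the subgroup generated by the `Aut_F(R)`-images of `S'` -/
def vSub (F : FusionSystem S) (R : Subgroup Ω) : Subgroup Ω :=
  Subgroup.closure {x | ∃ g, Iso F R R g ∧ ∃ ℓ ∈ derS S, x = g ℓ}

section TPair

variable {R : Subgroup Ω} [IsMulCommutative ↥R]

/-- a pair of transvections generating distinct Sylow subgroups of `Aut_F(R)`, the first induced
by `S` -/
structure TPair (F : FusionSystem S) (p : ℕ) (R : Subgroup Ω) [IsMulCommutative ↥R]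
    (a b : MulAut ↥R) : Prop where
  ha : IsTransv p a
  hb : IsTransv p b
  haG : a ∈ F.autGroup R
  hbG : b ∈ F.autGroup R
  hab : b ∉ Subgroup.zpowers a
  fixed : fixedSub a = (zS S).subgroupOf R
  der : (commSub a).map R.subtype = derS S
  aut : autInducedBy S R = Subgroup.zpowers a
  conj : ∃ g ∈ F.autGroup R, b = g * a * g⁻¹

theorem exists_tpair {F : FusionSystem S} (h : SC p S) (hR : Mid p S R) (hact : Active F R) :
    ∃ a b : MulAut ↥R, TPair F p R a b := by
  haveI := hR.finite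
  obtain ⟨y, hy, hyR⟩ := hR.exists_not_mem h
  obtain ⟨g, hg, z, hz, hgz⟩ := hact
  have hu := isTransv_conjAut h hR hy hyR
  have hfix := fixedSub_conjAut h hR hy hyR
  have haG : conjAut R y (hR.normal h hy) ∈ F.autGroup R :=
    autInducedBy_le_autGroup F hR.le' (conjAut_mem_autInducedBy hy (hR.normal h hy))
  have hgG : (hg.equiv : MulAut R) ∈ F.autGroup R := hg.equiv_mem_autGroup
  refine ⟨conjAut R y (hR.normal h hy),
    (hg.equiv : MulAut R) * conjAut R y (hR.normal h hy) * (hg.equiv : MulAut R)⁻¹,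
    hu, hu.conj _, haG,
    Subgroup.mul_mem _ (Subgroup.mul_mem _ hgG haG) (Subgroup.inv_mem _ hgG), ?_, hfix,
    map_commSub_conjAut h hR hy hyR, autInducedBy_eq_zpowers h hR hy hyR, _, hgG, rfl⟩
  intro hmem
  have h1 := fixedSub_le_of_mem_zpowers hmem
  rw [fixedSub_conj] at h1
  have h2 : fixedSub (conjAut R y (hR.normal h hy)) =
      (fixedSub (conjAut R y (hR.normal h hy))).map (hg.equiv : MulAut R).toMonoidHom := by
    apply Subgroup.eq_of_le_of_card_ge h1
    rw [Subgroup.card_map_of_injective (hg.equiv : MulAut R).injective]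
  have hzR : z ∈ R := hR.le hz
  have h3 : (⟨z, hzR⟩ : R) ∈ fixedSub (conjAut R y (hR.normal h hy)) := by
    rw [hfix, Subgroup.mem_subgroupOf]; exact hz
  have h4 : (hg.equiv : MulAut R) ⟨z, hzR⟩ ∈ fixedSub (conjAut R y (hR.normal h hy)) := by
    rw [h2]; exact ⟨_, h3, rfl⟩
  rw [hfix, Subgroup.mem_subgroupOf] at h4
  exact hgz h4

variable {F : FusionSystem S} {a b : MulAut ↥R}

omit [Finite S] [IsMulCommutative R] in
/-- an element of `Aut_F(R)` as an isomorphism of the system -/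
theorem iso_of_mem_autGroup (hR : R ≤ S) {α : MulAut R} (hα : α ∈ F.autGroup R) :
    Iso F R R (extAut α) :=
  iso_of_mor_extAut ((mem_autGroup_iff hR).1 hα)

theorem mem_wSub_iff (hS : IsPGroup p S) (hF : F.IsSaturated p) (h : SC p S) (hR : Mid p S R)
    (T : TPair F p R a b) (w : R) :
    (w : Ω) ∈ wSub F R ↔ w ∈ fixedSub a ⊓ fixedSub b := by
  haveI := hR.finite
  have hRp : IsPGroup p R := hS.to_le hR.le'
  have hG := card_le_of_isPGroup_autGroup hS hF h hR
  constructor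
  · intro hw
    have hwa : w ∈ fixedSub a := by
      rw [T.fixed, Subgroup.mem_subgroupOf]
      exact wSub_le_zS hR.le' hw
    refine Subgroup.mem_inf.2 ⟨hwa, ?_⟩
    obtain ⟨g, hgG, rfl⟩ := T.conj
    rw [mem_fixedSub]
    have h1 : g⁻¹ w ∈ fixedSub a := by
      rw [T.fixed, Subgroup.mem_subgroupOf]
      have := hw.2 _ (iso_of_mem_autGroup hR.le' (Subgroup.inv_mem _ hgG))
      rwa [extAut_mem _ w.2] at this
    show g (a (g⁻¹ w)) = w
    rw [mem_fixedSub.1 h1, MulAut.apply_inv_self]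
  · intro hw
    refine ⟨w.2, fun g hg => ?_⟩
    have h1 := map_mem_fixedSub_of_mem_inf hRp hG T.ha T.hb T.haG T.hbG T.hab
      hg.equiv_mem_autGroup hw
    rw [T.fixed, Subgroup.mem_subgroupOf] at h1
    exact h1

omit [Finite S] [IsMulCommutative R] in
theorem vSub_le (hR : R ≤ S) (hder : derS S ≤ R) : vSub F R ≤ R := by
  unfold vSub
  rw [Subgroup.closure_le]
  rintro _ ⟨g, hg, ℓ, hℓ, rfl⟩
  exact hg.map_mem (hder hℓ)

theorem mem_vSub_iff (hS : IsPGroup p S) (hF : F.IsSaturated p) (h : SC p S) (hR : Mid p S R)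
    (T : TPair F p R a b) (x : R) :
    (x : Ω) ∈ vSub F R ↔ x ∈ commSub a ⊔ commSub b := by
  haveI := hR.finite
  have hRp : IsPGroup p R := hS.to_le hR.le'
  have hG := card_le_of_isPGroup_autGroup hS hF h hR
  constructor
  · intro hx
    have key : ∀ x ∈ vSub F R, ∃ hx : x ∈ R, (⟨x, hx⟩ : R) ∈ commSub a ⊔ commSub b := by
      intro x hx
      unfold vSub at hx
      induction hx using Subgroup.closure_induction with
      | mem x hx =>
        obtain ⟨g, hg, ℓ, hℓ, rfl⟩ := hx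
        rw [← T.der] at hℓ
        obtain ⟨ℓ', hℓ', rfl⟩ := hℓ
        refine ⟨hg.map_mem ℓ'.2, ?_⟩
        have h1 := map_mem_sup hRp hG T.ha T.hb T.haG T.hbG T.hab hg.equiv_mem_autGroup
          (Subgroup.mem_sup_left hℓ' : ℓ' ∈ commSub a ⊔ commSub b)
        exact h1
      | one => exact ⟨R.one_mem, Subgroup.one_mem _⟩
      | mul x y _ _ hx hy =>
        obtain ⟨hx1, hx2⟩ := hx
        obtain ⟨hy1, hy2⟩ := hy
        exact ⟨R.mul_mem hx1 hy1, Subgroup.mul_mem _ hx2 hy2⟩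
      | inv x _ hx =>
        obtain ⟨hx1, hx2⟩ := hx
        exact ⟨R.inv_mem hx1, Subgroup.inv_mem _ hx2⟩
    obtain ⟨_, h2⟩ := key x hx
    exact h2
  · intro hx
    obtain ⟨ℓ, hℓ, m, hm, rfl⟩ := Subgroup.mem_sup.1 hx
    rw [Subgroup.coe_mul]
    apply Subgroup.mul_mem
    · apply Subgroup.subset_closure
      refine ⟨_, Iso.refl hR.le', ℓ, ?_, rfl⟩
      rw [← T.der]; exact ⟨ℓ, hℓ, rfl⟩
    · obtain ⟨g, hgG, rfl⟩ := T.conj
      rw [commSub_conj] at hm
      obtain ⟨ℓ', hℓ', rfl⟩ := hm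
      apply Subgroup.subset_closure
      refine ⟨_, iso_of_mem_autGroup hR.le' hgG, ℓ', ?_, ?_⟩
      · rw [← T.der]; exact ⟨ℓ', hℓ', rfl⟩
      · rw [extAut_mem _ ℓ'.2]; rfl

/-- an automorphism of `R` normalizing `Aut_S(R)` extends to `S` -/
theorem exists_ext_of_normalizes (hS : IsPGroup p S) (hF : F.IsSaturated p) (h : SC p S)
    (hR : Mid p S R) (T : TPair F p R a b) {ν : MulAut R} (hν : ν ∈ F.autGroup R)
    (hn : ν * a * ν⁻¹ ∈ Subgroup.zpowers a) :
    ∃ g, Iso F S S g ∧ ∀ x : R, g x = ν x := by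
  have hiso := iso_of_mem_autGroup hR.le' hν
  have hfn := fullyNormalized_of_le_normalizer F hR.le' (hR.normal h)
  have hrec := receptive_of_fullyNormalized hS hF hfn
  have hext : S ≤ hiso.ext := by
    intro s hs
    refine ⟨hs, hR.normal h hs, ?_⟩
    have hc : conjAut R s (hR.normal h hs) ∈ Subgroup.zpowers a := by
      rw [← T.aut]; exact conjAut_mem_autInducedBy hs _
    obtain ⟨k, hk⟩ := Subgroup.mem_zpowers_iff.1 hc
    have h1 : ν * conjAut R s (hR.normal h hs) * ν⁻¹ ∈ autInducedBy S R := by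
      rw [T.aut, ← hk]
      have e : ν * a ^ k * ν⁻¹ = (ν * a * ν⁻¹) ^ k := by
        have := map_zpow (MulAut.conj ν) a k
        simpa [MulAut.conj_apply] using this
      rw [e]; exact Subgroup.zpow_mem _ hn k
    obtain ⟨t, ht, e⟩ := mem_autInducedBy_iff.1 h1
    refine ⟨t, ht, fun x hx => ?_⟩
    have h2 := e (ν ⟨x, hx⟩)
    have hx' : s * x * s⁻¹ ∈ R := (Subgroup.mem_normalizer_iff.1 (hR.normal h hs) x).1 hx
    rw [extAut_mem ν hx, ← h2, extAut_mem ν hx']
    show _ = (((ν * conjAut R s (hR.normal h hs) * ν⁻¹) (ν ⟨x, hx⟩) : R) : Ω)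
    rw [MulAut.mul_apply, MulAut.mul_apply, MulAut.inv_apply_self]
    rfl
  obtain ⟨g, hg, eg⟩ := (isReceptive_iff.1 hrec).2 R _ hiso
  have hgS : Mor F S g := hg.restrict hext
  refine ⟨g, iso_of_card_le hgS le_rfl (fun n hn => hgS.mem hn) le_rfl, fun x => ?_⟩
  rw [eg x x.2, extAut_apply]

end TPair

/-! ### the structure of an active subgroup, stated in the ambient group -/

section Export

variable {F : FusionSystem S} {R : Subgroup Ω}

omit [Finite S] in
theorem derS_le_vSub (hR : R ≤ S) : derS S ≤ vSub F R := by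
  intro ℓ hℓ
  exact Subgroup.subset_closure ⟨_, Iso.refl hR, ℓ, hℓ, rfl⟩

theorem card_derS (h : SC p S) (hR : Mid p S R) (hact : Active F R) : Nat.card (derS S) = p := by
  haveI := hR.isMulCommutative
  obtain ⟨a, b, T⟩ := exists_tpair h hR hact
  rw [← T.der, Subgroup.card_map_of_injective R.subtype_injective, T.ha.card_commSub]

theorem vSub_inf_wSub (hS : IsPGroup p S) (hF : F.IsSaturated p) (h : SC p S) (hR : Mid p S R)
    (hact : Active F R) : vSub F R ⊓ wSub F R = ⊥ := by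
  haveI := hR.isMulCommutative
  haveI := hR.finite
  obtain ⟨a, b, T⟩ := exists_tpair h hR hact
  have hRp : IsPGroup p R := hS.to_le hR.le'
  have hG := card_le_of_isPGroup_autGroup hS hF h hR
  rw [Subgroup.eq_bot_iff_forall]
  rintro x ⟨hxv, hxw⟩
  have hxR : x ∈ R := hxw.1
  have h1 := (mem_vSub_iff hS hF h hR T ⟨x, hxR⟩).1 hxv
  have h2 := (mem_wSub_iff hS hF h hR T ⟨x, hxR⟩).1 hxw
  have h3 : (⟨x, hxR⟩ : R) ∈ (commSub a ⊔ commSub b) ⊓ (fixedSub a ⊓ fixedSub b) := ⟨h1, h2⟩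
  rw [commSub_sup_inf_fixedSub_eq_bot hRp hG T.ha T.hb T.haG T.hbG T.hab, Subgroup.mem_bot] at h3
  exact congrArg Subtype.val h3

theorem zS_decomp (hS : IsPGroup p S) (hF : F.IsSaturated p) (h : SC p S) (hR : Mid p S R)
    (hact : Active F R) {z : Ω} (hz : z ∈ zS S) :
    ∃ ℓ ∈ derS S, ∃ w ∈ wSub F R, z = ℓ * w := by
  haveI := hR.isMulCommutative
  haveI := hR.finite
  obtain ⟨a, b, T⟩ := exists_tpair h hR hact
  have hRp : IsPGroup p R := hS.to_le hR.le'
  have hG := card_le_of_isPGroup_autGroup hS hF h hR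
  have hzR : z ∈ R := hR.le hz
  have h1 : (⟨z, hzR⟩ : R) ∈ fixedSub a := by
    rw [T.fixed, Subgroup.mem_subgroupOf]; exact hz
  rw [fixedSub_eq_sup hRp hG T.ha T.hb T.haG T.hbG T.hab] at h1
  obtain ⟨ℓ, hℓ, w, hw, e⟩ := Subgroup.mem_sup.1 h1
  refine ⟨ℓ, ?_, w, (mem_wSub_iff hS hF h hR T w).2 hw, ?_⟩
  · rw [← T.der]; exact ⟨ℓ, hℓ, rfl⟩
  · have := congrArg Subtype.val e
    exact this.symm

theorem pow_eq_one_of_mem_vSub (hS : IsPGroup p S) (hF : F.IsSaturated p) (h : SC p S)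
    (hR : Mid p S R) (hact : Active F R) {x : Ω} (hx : x ∈ vSub F R) : x ^ p = 1 := by
  haveI := hR.isMulCommutative
  haveI := hR.finite
  obtain ⟨a, b, T⟩ := exists_tpair h hR hact
  have hxR : x ∈ R := vSub_le hR.le' ((h.derS_le).trans hR.le) hx
  have h1 := (mem_vSub_iff hS hF h hR T ⟨x, hxR⟩).1 hx
  have h2 := pow_prime_of_mem_sup T.ha T.hb h1
  have h3 := congrArg Subtype.val h2
  rwa [Subgroup.coe_pow] at h3

theorem mid_decomp (hS : IsPGroup p S) (hF : F.IsSaturated p) (h : SC p S) (hR : Mid p S R)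
    (hact : Active F R) {x : Ω} (hx : x ∈ R) :
    ∃ v ∈ vSub F R, ∃ w ∈ wSub F R, x = v * w := by
  haveI := hR.isMulCommutative
  haveI := hR.finite
  obtain ⟨a, b, T⟩ := exists_tpair h hR hact
  have hRp : IsPGroup p R := hS.to_le hR.le'
  have hG := card_le_of_isPGroup_autGroup hS hF h hR
  obtain ⟨ℓ, hℓ, m, hm, w, hw, e⟩ :=
    exists_decomp hRp hG T.ha T.hb T.haG T.hbG T.hab (⟨x, hx⟩ : R)
  refine ⟨ℓ * m, ?_, w, (mem_wSub_iff hS hF h hR T w).2 hw, ?_⟩
  · have : ((ℓ * m : R) : Ω) ∈ vSub F R :=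
      (mem_vSub_iff hS hF h hR T (ℓ * m)).2
        (Subgroup.mul_mem _ (Subgroup.mem_sup_left hℓ) (Subgroup.mem_sup_right hm))
    exact this
  · exact congrArg Subtype.val e

theorem vSub_map_mem (hS : IsPGroup p S) (hF : F.IsSaturated p) (h : SC p S) (hR : Mid p S R)
    (hact : Active F R) {g : Ω → Ω} (hg : Iso F R R g) {x : Ω} (hx : x ∈ vSub F R) :
    g x ∈ vSub F R := by
  haveI := hR.isMulCommutative
  haveI := hR.finite
  obtain ⟨a, b, T⟩ := exists_tpair h hR hact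
  have hRp : IsPGroup p R := hS.to_le hR.le'
  have hG := card_le_of_isPGroup_autGroup hS hF h hR
  have hxR : x ∈ R := vSub_le hR.le' ((h.derS_le).trans hR.le) hx
  have h1 := (mem_vSub_iff hS hF h hR T ⟨x, hxR⟩).1 hx
  have h2 := map_mem_sup hRp hG T.ha T.hb T.haG T.hbG T.hab hg.equiv_mem_autGroup h1
  exact (mem_vSub_iff hS hF h hR T _).2 h2

theorem exists_mem_vSub_not_mem_zS (hS : IsPGroup p S) (hF : F.IsSaturated p) (h : SC p S)
    (hR : Mid p S R) (hact : Active F R) : ∃ v ∈ vSub F R, v ∉ zS S := by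
  haveI := hR.isMulCommutative
  haveI := hR.finite
  obtain ⟨a, b, T⟩ := exists_tpair h hR hact
  have hRp : IsPGroup p R := hS.to_le hR.le'
  have hG := card_le_of_isPGroup_autGroup hS hF h hR
  obtain ⟨m, hm, hm1⟩ := exists_ne_one_of_prime_card T.hb.card_commSub
  refine ⟨m, (mem_vSub_iff hS hF h hR T m).2 (Subgroup.mem_sup_right hm), fun hmZ => ?_⟩
  have h1 : m ∈ commSub b ⊓ fixedSub a := by
    refine Subgroup.mem_inf.2 ⟨hm, ?_⟩
    rw [T.fixed, Subgroup.mem_subgroupOf]; exact hmZ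
  rw [commSub_inf_fixedSub_eq_bot hRp hG T.hb T.ha T.hbG T.haG
    (not_mem_zpowers_symm T.ha T.hb T.hab), Subgroup.mem_bot] at h1
  exact hm1 h1

theorem vSub_le_sup (hS : IsPGroup p S) (hF : F.IsSaturated p) (h : SC p S) (hR : Mid p S R)
    (hact : Active F R) {v : Ω} (hv : v ∈ vSub F R) (hvZ : v ∉ zS S) :
    vSub F R ≤ derS S ⊔ Subgroup.zpowers v := by
  haveI := hR.isMulCommutative
  haveI := hR.finite
  obtain ⟨a, b, T⟩ := exists_tpair h hR hact
  have hle := vSub_le (F := F) hR.le' ((h.derS_le).trans hR.le)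
  have hvR : v ∈ R := hle hv
  have h1 := (mem_vSub_iff hS hF h hR T ⟨v, hvR⟩).1 hv
  obtain ⟨ℓ, hℓ, m, hm, e⟩ := Subgroup.mem_sup.1 h1
  have hm1 : m ≠ 1 := by
    intro hm1
    apply hvZ
    rw [hm1, mul_one] at e
    have h2 := T.ha.le hℓ
    rw [e, T.fixed, Subgroup.mem_subgroupOf] at h2
    exact h2
  have hmz : commSub b ≤ Subgroup.zpowers m :=
    le_of_prime_card T.hb.card_commSub hm hm1 (Subgroup.mem_zpowers m)
  have hmv : m ∈ commSub a ⊔ Subgroup.zpowers (⟨v, hvR⟩ : R) := by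
    have : m = ℓ⁻¹ * ⟨v, hvR⟩ := by rw [← e]; group
    rw [this]
    exact Subgroup.mul_mem _ (Subgroup.mem_sup_left (Subgroup.inv_mem _ hℓ))
      (Subgroup.mem_sup_right (Subgroup.mem_zpowers _))
  have hV : commSub a ⊔ commSub b ≤ commSub a ⊔ Subgroup.zpowers (⟨v, hvR⟩ : R) := by
    apply sup_le le_sup_left
    refine hmz.trans ?_
    rw [Subgroup.zpowers_le]; exact hmv
  intro x hx
  have hxR : x ∈ R := hle hx
  have h3 := hV ((mem_vSub_iff hS hF h hR T ⟨x, hxR⟩).1 hx)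
  have h4 : x ∈ (commSub a ⊔ Subgroup.zpowers (⟨v, hvR⟩ : R)).map R.subtype := ⟨_, h3, rfl⟩
  rw [Subgroup.map_sup, T.der, MonoidHom.map_zpowers] at h4
  exact h4

/-- Frattini argument and extension to `S` -/
theorem exists_frattini_ext (hS : IsPGroup p S) (hF : F.IsSaturated p) (h : SC p S)
    (hR : Mid p S R) (hact : Active F R) {α : Ω → Ω} (hα : Iso F R R α) :
    ∃ n ν, Iso F R R n ∧ Iso F S S ν ∧ (∀ x ∈ R, ν x ∈ R) ∧ (∀ x ∈ R, α x = n (ν x)) ∧
      (∀ w ∈ wSub F R, n w = w) ∧ ∀ x ∈ R, x⁻¹ * n x ∈ vSub F R := by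
  haveI := hR.isMulCommutative
  haveI := hR.finite
  obtain ⟨a, b, T⟩ := exists_tpair h hR hact
  have hRp : IsPGroup p R := hS.to_le hR.le'
  have hG := card_le_of_isPGroup_autGroup hS hF h hR
  have hαG : (hα.equiv : MulAut R) ∈ F.autGroup R := hα.equiv_mem_autGroup
  obtain ⟨n, hn, hnorm⟩ := exists_frattini hRp hG T.ha T.hb T.haG T.hbG T.hab hαG
  have hnG : n ∈ F.autGroup R := by
    have hle : Subgroup.closure {c : MulAut R | c ∈ F.autGroup R ∧ IsTransv p c} ≤ F.autGroup R := by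
      rw [Subgroup.closure_le]
      rintro c ⟨hc, -⟩
      exact hc
    exact hle hn
  have hνG : n⁻¹ * (hα.equiv : MulAut R) ∈ F.autGroup R :=
    Subgroup.mul_mem _ (Subgroup.inv_mem _ hnG) hαG
  obtain ⟨ν, hν, eν⟩ := exists_ext_of_normalizes hS hF h hR T hνG hnorm
  obtain ⟨hn1, hn2⟩ := closure_transv_structure hRp hG T.ha T.hb T.haG T.hbG T.hab hn
  refine ⟨extAut n, ν, iso_of_mem_autGroup hR.le' hnG, hν, fun x hx => ?_, fun x hx => ?_,
    fun w hw => ?_, fun x hx => ?_⟩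
  · rw [eν ⟨x, hx⟩]; exact Subtype.property _
  · rw [eν ⟨x, hx⟩, extAut_apply]
    show ((hα.equiv ⟨x, hx⟩ : R) : Ω) = _
    congr 1
    show (hα.equiv : MulAut R) ⟨x, hx⟩ = n ((n⁻¹ * (hα.equiv : MulAut R)) ⟨x, hx⟩)
    rw [MulAut.mul_apply, MulAut.apply_inv_self]
  · have hwR : w ∈ R := hw.1
    rw [extAut_mem n hwR, hn1 _ ((mem_wSub_iff hS hF h hR T ⟨w, hwR⟩).1 hw)]
  · rw [extAut_mem n hx]
    exact (mem_vSub_iff hS hF h hR T ((⟨x, hx⟩ : R)⁻¹ * n ⟨x, hx⟩)).2 (hn2 ⟨x, hx⟩)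

/-- an automorphism of `S` inverting `S'` and centralizing `wSub F R` -/
theorem exists_inverting_ext (hS : IsPGroup p S) (hF : F.IsSaturated p) (h : SC p S)
    (hR : Mid p S R) (hact : Active F R) :
    ∃ η, Iso F S S η ∧ (∀ w ∈ wSub F R, η w = w) ∧ ∀ ℓ ∈ derS S, η ℓ = ℓ⁻¹ := by
  haveI := hR.isMulCommutative
  haveI := hR.finite
  obtain ⟨a, b, T⟩ := exists_tpair h hR hact
  have hRp : IsPGroup p R := hS.to_le hR.le'
  have hG := card_le_of_isPGroup_autGroup hS hF h hR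
  obtain ⟨η₀, hη₀, hW, hV, hcomm⟩ := exists_inverting hRp hG T.ha T.hb T.haG T.hbG T.hab
  have hη₀G : η₀ ∈ F.autGroup R := by
    have hle : Subgroup.closure ({a, b} : Set (MulAut R)) ≤ F.autGroup R := by
      rw [Subgroup.closure_le]
      rintro c (rfl | rfl)
      · exact T.haG
      · exact T.hbG
    exact hle hη₀
  have hnorm : η₀ * a * η₀⁻¹ ∈ Subgroup.zpowers a := by
    rw [hcomm, mul_inv_cancel_right]
    exact Subgroup.mem_zpowers a
  obtain ⟨η, hη, eη⟩ := exists_ext_of_normalizes hS hF h hR T hη₀G hnorm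
  refine ⟨η, hη, fun w hw => ?_, fun ℓ hℓ => ?_⟩
  · have hwR : w ∈ R := hw.1
    rw [eη ⟨w, hwR⟩, hW _ ((mem_wSub_iff hS hF h hR T ⟨w, hwR⟩).1 hw)]
  · rw [← T.der] at hℓ
    obtain ⟨ℓ', hℓ', rfl⟩ := hℓ
    show η (ℓ' : Ω) = _
    rw [eη ℓ', hV _ (Subgroup.mem_sup_left hℓ')]
    rfl

/-- an intermediate radical subgroup is active -/
theorem active_of_radical (hS : IsPGroup p S) (hF : F.IsSaturated p) (h : SC p S)
    (hR : Mid p S R) (hrad : F.IsRadical p R) : Active F R := by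
  haveI := hR.isMulCommutative
  haveI := hR.finite
  by_contra hna
  have hpres : ∀ g, Iso F R R g → ∀ z ∈ zS S, g z ∈ zS S := by
    intro g hg z hz
    by_contra hc
    exact hna ⟨g, hg, z, hz, hc⟩
  obtain ⟨y, hy, hyR⟩ := hR.exists_not_mem h
  have hu := isTransv_conjAut h hR hy hyR
  have hfix := fixedSub_conjAut h hR hy hyR
  have hRp : IsPGroup p R := hS.to_le hR.le'
  have hG := card_le_of_isPGroup_autGroup hS hF h hR
  have huG : conjAut R y (hR.normal h hy) ∈ F.autGroup R :=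
    autInducedBy_le_autGroup F hR.le' (conjAut_mem_autInducedBy hy (hR.normal h hy))
  obtain ⟨u, hudef⟩ : ∃ u, u = conjAut R y (hR.normal h hy) := ⟨_, rfl⟩
  rw [← hudef] at hu hfix huG
  have hnorm : ∀ g ∈ F.autGroup R, g * u * g⁻¹ ∈ Subgroup.zpowers u := by
    intro g hgG
    apply mem_zpowers_of_commSub_le hRp hG hu (hu.conj g) huG
      (Subgroup.mul_mem _ (Subgroup.mul_mem _ hgG huG) (Subgroup.inv_mem _ hgG))
    rw [fixedSub_conj]
    intro x hx
    have hxZ : x ∈ fixedSub u := hu.le hx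
    rw [hfix, Subgroup.mem_subgroupOf] at hxZ
    have h3 : g⁻¹ x ∈ fixedSub u := by
      rw [hfix, Subgroup.mem_subgroupOf]
      have := hpres _ (iso_of_mem_autGroup hR.le' (Subgroup.inv_mem _ hgG)) _ hxZ
      rwa [extAut_mem _ x.2] at this
    exact ⟨g⁻¹ x, h3, MulAut.apply_inv_self R g x⟩
  have hN : ((Subgroup.zpowers u).subgroupOf (F.autGroup R)).Normal := by
    constructor
    intro n hn g
    rw [Subgroup.mem_subgroupOf] at hn ⊢
    obtain ⟨k, hk⟩ := Subgroup.mem_zpowers_iff.1 hn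
    have e : ((g * n * g⁻¹ : F.autGroup R) : MulAut R) = ((g : MulAut R) * u * (g : MulAut R)⁻¹) ^ k := by
      have h1 := map_zpow (MulAut.conj (g : MulAut R)) u k
      have h2 : ((g * n * g⁻¹ : F.autGroup R) : MulAut R) = (g : MulAut R) * u ^ k * (g : MulAut R)⁻¹ := by
        rw [hk]; rfl
      rw [h2]
      simpa [MulAut.conj_apply] using h1
    rw [e]
    exact Subgroup.zpow_mem _ (hnorm _ g.2) k
  have hNp : IsPGroup p ((Subgroup.zpowers u).subgroupOf (F.autGroup R)) := by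
    apply IsPGroup.comap_subtype
    apply IsPGroup.of_card (n := 1)
    rw [Nat.card_zpowers, hu.orderOf_eq, pow_one]
  have hle := le_pCore hN hNp
  have hmem : u ∈ (pCore p (F.autGroup R)).map (F.autGroup R).subtype :=
    ⟨⟨u, huG⟩, hle (Subgroup.mem_subgroupOf.2 (Subgroup.mem_zpowers u)), rfl⟩
  rw [hrad.2] at hmem
  obtain ⟨r, hr⟩ := hmem
  apply hu.ne_one
  rw [← hr]
  ext x
  show ((r * x * r⁻¹ : R) : Ω) = x
  rw [mul_comm' r x, mul_inv_cancel_right]

end Export

end Cfsg.Agent.Helper87
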