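import Mathlib
import Cfsg.Prelude.Def_FusionSystem
import Cfsg.Agent.Lib.Helper87.SmallCenterBridge
import Cfsg.Agent.Lib.Helper87.NilEndo

set_option autoImplicit false

namespace Cfsg.Agent.Helper87

open Cfsg Cfsg.FusionSystem
open scoped IsMulCommutative

variable {Ω : Type*} [Group Ω] {S : Subgroup Ω} [Finite S] {p : ℕ} [hp : Fact p.Prime]

/-- a nonabelian `p`-group `S` with an abelian subgroup `A` of index `p` -/
structure AbIdx (p : ℕ) (S A : Subgroup Ω) : Prop where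
  le : A ≤ S
  comm : ∀ a ∈ A, ∀ b ∈ A, a * b = b * a
  card : Nat.card S = p * Nat.card A
  nonab : zS S ≠ S

namespace AbIdx

variable {A : Subgroup Ω}

theorem finite (h : AbIdx p S A) : Finite A := finite_of_le h.le

theorem isMulCommutative (h : AbIdx p S A) : IsMulCommutative ↥A :=
  ⟨⟨fun a b => Subtype.ext (h.comm a a.2 b b.2)⟩⟩

/-- `S = A⟨x⟩` -/
theorem le_of_mem (h : AbIdx p S A) {M : Subgroup Ω} (hAM : A ≤ M) {x : Ω} (hx : x ∈ S)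
    (hxA : x ∉ A) (hxM : x ∈ M) : S ≤ M := by
  have heq := eq_of_le_of_not_mem (le_inf hAM h.le) inf_le_right h.card
    (⟨hxM, hx⟩ : x ∈ M ⊓ S) hxA
  intro s hs
  have : s ∈ M ⊓ S := by rw [heq]; exact hs
  exact this.1

/-- an element of `S` commuting with `A` and with some `x ∈ S ∖ A` is central -/
theorem mem_zS_of_commute (h : AbIdx p S A) {a x : Ω} (ha : a ∈ S)
    (haA : ∀ r ∈ A, r * a = a * r) (hx : x ∈ S) (hxA : x ∉ A) (hxa : x * a = a * x) :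
    a ∈ zS S := by
  have hB : A ≤ S ⊓ Subgroup.centralizer {a} := by
    intro r hr
    exact mem_inf_centralizer_singleton.2 ⟨h.le hr, (haA r hr).symm⟩
  have hxB : x ∈ S ⊓ Subgroup.centralizer {a} :=
    mem_inf_centralizer_singleton.2 ⟨hx, hxa.symm⟩
  have hS := h.le_of_mem hB hx hxA hxB
  rw [mem_zS]
  refine ⟨ha, fun s hs => ?_⟩
  exact (mem_inf_centralizer_singleton.1 (hS hs)).2.symm

theorem exists_not_mem (h : AbIdx p S A) : ∃ x ∈ S, x ∉ A := by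
  by_contra hcon
  push Not at hcon
  have : A = S := le_antisymm h.le hcon
  have h1 := h.card
  rw [this] at h1
  have hpos : 0 < Nat.card S := Nat.card_pos
  have := hp.out.one_lt
  nlinarith

/-- `Z(S) ≤ A` -/
theorem zS_le (h : AbIdx p S A) : zS S ≤ A := by
  intro z hz
  by_contra hzA
  apply h.nonab
  apply le_antisymm (Helper87.zS_le S)
  have hzS := Helper87.zS_le S hz
  have hA : A ≤ zS S := by
    intro a ha
    exact h.mem_zS_of_commute (h.le ha) (fun r hr => h.comm r hr a ha) hzS hzA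
      ((mem_zS.1 hz).2 a (h.le ha)).symm
  intro s hs
  refine h.mem_zS_of_commute hs (fun r hr => ?_) hzS hzA ((mem_zS.1 hz).2 s hs).symm
  exact ((mem_zS.1 (hA hr)).2 s hs).symm

/-- `A` is normal in `S` -/
theorem normal (h : AbIdx p S A) (hS : IsPGroup p S) : S ≤ Subgroup.normalizer (A : Set Ω) := by
  obtain ⟨x, hx, hxA⟩ := h.exists_not_mem
  have hne : A ≠ S := fun he => hxA (he ▸ hx)
  obtain ⟨n, hn, hnA⟩ := exists_normalizer_not_mem hS h.le hne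
  have := h.le_of_mem (le_normalizerIn h.le) hn.1 hnA hn
  exact fun s hs => (this hs).2

end AbIdx

/-! ### commutators modulo a subgroup normalized by `S` -/

omit [Finite S] in
/-- elements of `S` whose commutator with `s` lies in `L` (normalized by `S`) -/
def commRight' (S L : Subgroup Ω) (hL : ∀ t ∈ S, ∀ c ∈ L, t * c * t⁻¹ ∈ L) (s : Ω) : Subgroup Ω where
  carrier := {t | t ∈ S ∧ s * t * s⁻¹ * t⁻¹ ∈ L}
  one_mem' := ⟨S.one_mem, by simp⟩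
  mul_mem' := by
    rintro t₁ t₂ ⟨h1, c1⟩ ⟨h2, c2⟩
    refine ⟨S.mul_mem h1 h2, ?_⟩
    have e : s * (t₁ * t₂) * s⁻¹ * (t₁ * t₂)⁻¹ =
        (s * t₁ * s⁻¹ * t₁⁻¹) * (t₁ * (s * t₂ * s⁻¹ * t₂⁻¹) * t₁⁻¹) := by group
    rw [e]
    exact L.mul_mem c1 (hL t₁ h1 _ c2)
  inv_mem' := by
    rintro t ⟨h1, c1⟩
    refine ⟨S.inv_mem h1, ?_⟩
    have e : s * t⁻¹ * s⁻¹ * t⁻¹⁻¹ = t⁻¹ * (s * t * s⁻¹ * t⁻¹)⁻¹ * t⁻¹⁻¹ := by group
    rw [e]
    exact hL t⁻¹ (S.inv_mem h1) _ (L.inv_mem c1)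

omit [Finite S] in
/-- elements of `S` all of whose commutators with `S` lie in `L` (normalized by `S`) -/
def commLeft' (S L : Subgroup Ω) (hL : ∀ t ∈ S, ∀ c ∈ L, t * c * t⁻¹ ∈ L) : Subgroup Ω where
  carrier := {s | s ∈ S ∧ ∀ t ∈ S, s * t * s⁻¹ * t⁻¹ ∈ L}
  one_mem' := ⟨S.one_mem, fun t _ => by simp⟩
  mul_mem' := by
    rintro s₁ s₂ ⟨h1, c1⟩ ⟨h2, c2⟩
    refine ⟨S.mul_mem h1 h2, fun t ht => ?_⟩
    have e : s₁ * s₂ * t * (s₁ * s₂)⁻¹ * t⁻¹ =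
        (s₁ * (s₂ * t * s₂⁻¹ * t⁻¹) * s₁⁻¹) * (s₁ * t * s₁⁻¹ * t⁻¹) := by group
    rw [e]
    exact L.mul_mem (hL s₁ h1 _ (c2 t ht)) (c1 t ht)
  inv_mem' := by
    rintro s ⟨h1, c1⟩
    refine ⟨S.inv_mem h1, fun t ht => ?_⟩
    have e : s⁻¹ * t * s⁻¹⁻¹ * t⁻¹ = s⁻¹ * (s * t * s⁻¹ * t⁻¹)⁻¹ * s⁻¹⁻¹ := by group
    rw [e]
    exact hL s⁻¹ (S.inv_mem h1) _ (L.inv_mem (c1 t ht))

namespace AbIdx

variable {A : Subgroup Ω}

/-- `[g, S] ⊆ L` as soon as `[g, A] ⊆ L` and `[g, x] ∈ L` -/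
theorem comm_mem_of_forall (h : AbIdx p S A) {L : Subgroup Ω}
    (hL : ∀ t ∈ S, ∀ c ∈ L, t * c * t⁻¹ ∈ L) {x : Ω} (hx : x ∈ S) (hxA : x ∉ A) {g : Ω}
    (hgA : ∀ a ∈ A, g * a * g⁻¹ * a⁻¹ ∈ L) (hgx : g * x * g⁻¹ * x⁻¹ ∈ L) {t : Ω} (ht : t ∈ S) :
    g * t * g⁻¹ * t⁻¹ ∈ L := by
  have hS : S ≤ commRight' S L hL g :=
    h.le_of_mem (fun a ha => ⟨h.le ha, hgA a ha⟩) hx hxA ⟨hx, hgx⟩
  exact (hS ht).2

/-- `S' ≤ L` as soon as `[x, A] ⊆ L` for some `x ∈ S ∖ A` -/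
theorem derS_le_of_forall (h : AbIdx p S A) {L : Subgroup Ω}
    (hL : ∀ t ∈ S, ∀ c ∈ L, t * c * t⁻¹ ∈ L) {x : Ω} (hx : x ∈ S) (hxA : x ∉ A)
    (h1 : ∀ a ∈ A, x * a * x⁻¹ * a⁻¹ ∈ L) : derS S ≤ L := by
  have hxL : x ∈ commLeft' S L hL := by
    refine ⟨hx, fun t ht => ?_⟩
    apply h.comm_mem_of_forall hL hx hxA h1 _ ht
    have : x * x * x⁻¹ * x⁻¹ = 1 := by group
    rw [this]; exact L.one_mem
  have hAL : A ≤ commLeft' S L hL := by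
    intro a ha
    refine ⟨h.le ha, fun t ht => ?_⟩
    apply h.comm_mem_of_forall hL hx hxA _ _ ht
    · intro b hb
      rw [h.comm a ha b hb]
      have : b * a * a⁻¹ * b⁻¹ = 1 := by group
      rw [this]; exact L.one_mem
    · have e : a * x * a⁻¹ * x⁻¹ = (x * a * x⁻¹ * a⁻¹)⁻¹ := by group
      rw [e]
      exact L.inv_mem (h1 a ha)
  have hSL : S ≤ commLeft' S L hL := h.le_of_mem hAL hx hxA hxL
  unfold derS
  rw [Subgroup.closure_le]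
  rintro _ ⟨s, hs, t, ht, rfl⟩
  exact (hSL hs).2 t ht

end AbIdx

end Cfsg.Agent.Helper87
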