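import Mathlib
import Cfsg.Prelude.Def_FusionSystem
import Cfsg.Agent.Lib.Helper87.AbIdxGrp
import Cfsg.Agent.Lib.Helper87.CardTools
import Cfsg.Agent.Lib.Helper87.FusionOmega

set_option autoImplicit false

namespace Cfsg.Agent.Helper87

open Cfsg Cfsg.FusionSystem
open scoped IsMulCommutative

variable {Ω : Type*} [Group Ω] {S : Subgroup Ω} [Finite S] {p : ℕ} [hp : Fact p.Prime]
variable {A : Subgroup Ω} [IsMulCommutative ↥A]

/-- an automorphism of a commutative group commutes with its commutator endomorphism -/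
theorem commHom_apply_comm {R : Type*} [CommGroup R] (a : MulAut R) (r : R) :
    commHom a (a r) = a (commHom a r) := by
  rw [commHom_apply, commHom_apply, map_mul, map_inv]

/-- the commutator endomorphism `r ↦ r⁻¹ x r x⁻¹` of the abelian normal subgroup `A` -/
noncomputable def nHom (A : Subgroup Ω) [IsMulCommutative ↥A] (x : Ω)
    (hn : x ∈ Subgroup.normalizer (A : Set Ω)) : ↥A →* ↥A :=
  commHom (conjAut A x hn)

omit [Finite S] in
theorem nHom_val {x : Ω} (hn : x ∈ Subgroup.normalizer (A : Set Ω)) (r : A) :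
    ((nHom A x hn r : A) : Ω) = (r : Ω)⁻¹ * x * r * x⁻¹ := by
  unfold nHom
  rw [commHom_apply, Subgroup.coe_mul, conjAut_apply, Subgroup.coe_inv]
  group

omit [Finite S] in
theorem conj_nHom {x : Ω} (hn : x ∈ Subgroup.normalizer (A : Set Ω)) (r : A) :
    x * ((nHom A x hn r : A) : Ω) * x⁻¹ = ((nHom A x hn (conjAut A x hn r) : A) : Ω) := by
  unfold nHom
  rw [commHom_apply_comm, conjAut_apply]

omit [Finite S] in
theorem conj_inv_nHom {x : Ω} (hn : x ∈ Subgroup.normalizer (A : Set Ω)) (r : A) :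
    x⁻¹ * ((nHom A x hn r : A) : Ω) * x = ((nHom A x hn ((conjAut A x hn)⁻¹ r) : A) : Ω) := by
  have h1 := conj_nHom hn ((conjAut A x hn)⁻¹ r)
  rw [MulAut.apply_inv_self] at h1
  rw [← h1]
  group

namespace AbIdx

theorem nHom_ker (h : AbIdx p S A) {x : Ω} (hx : x ∈ S) (hxA : x ∉ A)
    (hn : x ∈ Subgroup.normalizer (A : Set Ω)) :
    (nHom A x hn).ker = (zS S).subgroupOf A := by
  ext r
  unfold nHom
  rw [commHom_ker, mem_fixedSub, Subgroup.mem_subgroupOf]
  constructor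
  · intro hr
    have h1 : x * (r : Ω) * x⁻¹ = r := congrArg Subtype.val hr
    apply h.mem_zS_of_commute (h.le r.2) (fun t ht => h.comm t ht r r.2) hx hxA
    calc x * (r : Ω) = (x * r * x⁻¹) * x := by group
      _ = r * x := by rw [h1]
  · intro hz
    apply Subtype.ext
    rw [conjAut_apply, (mem_zS.1 hz).2 x hx, mul_inv_cancel_right]

omit [Finite S] hp in
theorem map_range_le_derS (h : AbIdx p S A) {x : Ω} (hx : x ∈ S)
    (hn : x ∈ Subgroup.normalizer (A : Set Ω)) :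
    (nHom A x hn).range.map A.subtype ≤ derS S := by
  rintro _ ⟨_, ⟨r, rfl⟩, rfl⟩
  show ((nHom A x hn r : A) : Ω) ∈ derS S
  rw [nHom_val]
  have := comm_mem_derS (S := S) (S.inv_mem (h.le r.2)) hx
  rwa [inv_inv] at this

theorem normalizes_map_range (h : AbIdx p S A) {x : Ω} (hx : x ∈ S) (hxA : x ∉ A)
    (hn : x ∈ Subgroup.normalizer (A : Set Ω)) :
    ∀ t ∈ S, ∀ c ∈ (nHom A x hn).range.map A.subtype, t * c * t⁻¹ ∈
      (nHom A x hn).range.map A.subtype := by
  have hA : A ≤ Subgroup.normalizer (((nHom A x hn).range.map A.subtype : Subgroup Ω) : Set Ω) := by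
    apply le_normalizer_of_forall
    rintro a ha _ ⟨c, hc, rfl⟩
    have e : a * (A.subtype c) * a⁻¹ = A.subtype c := by
      show a * (c : Ω) * a⁻¹ = c
      rw [h.comm a ha c c.2, mul_inv_cancel_right]
    rw [e]
    exact ⟨c, hc, rfl⟩
  have hxN : x ∈ Subgroup.normalizer (((nHom A x hn).range.map A.subtype : Subgroup Ω) : Set Ω) := by
    rw [Subgroup.mem_normalizer_iff]
    intro c
    constructor
    · rintro ⟨_, ⟨r, rfl⟩, rfl⟩
      show x * ((nHom A x hn r : A) : Ω) * x⁻¹ ∈ _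
      rw [conj_nHom]
      exact ⟨_, ⟨_, rfl⟩, rfl⟩
    · rintro ⟨_, ⟨r, rfl⟩, hr⟩
      have e : c = x⁻¹ * ((nHom A x hn r : A) : Ω) * x := by
        have : ((nHom A x hn r : A) : Ω) = x * c * x⁻¹ := hr
        rw [this]; group
      rw [e, conj_inv_nHom]
      exact ⟨_, ⟨_, rfl⟩, rfl⟩
  have hSN := h.le_of_mem hA hx hxA hxN
  intro t ht c hc
  exact (Subgroup.mem_normalizer_iff.1 (hSN ht) c).1 hc

theorem map_range_eq_derS (h : AbIdx p S A) {x : Ω} (hx : x ∈ S) (hxA : x ∉ A)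
    (hn : x ∈ Subgroup.normalizer (A : Set Ω)) :
    (nHom A x hn).range.map A.subtype = derS S := by
  apply le_antisymm (h.map_range_le_derS hx hn)
  apply h.derS_le_of_forall (h.normalizes_map_range hx hxA hn) hx hxA
  intro a ha
  refine ⟨nHom A x hn (⟨a, ha⟩ : A), ⟨_, rfl⟩, ?_⟩
  show ((nHom A x hn (⟨a, ha⟩ : A) : A) : Ω) = _
  rw [nHom_val]
  have h1 : x * a * x⁻¹ ∈ A := (Subgroup.mem_normalizer_iff.1 hn a).1 ha
  calc a⁻¹ * x * a * x⁻¹ = a⁻¹ * (x * a * x⁻¹) := by group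
    _ = (x * a * x⁻¹) * a⁻¹ := h.comm _ (A.inv_mem ha) _ h1

/-- commutators with an element of `A` whose `nHom`-value lies in a central subgroup `L` -/
theorem comm_mem_of_nHom_mem (h : AbIdx p S A) {x : Ω} (hx : x ∈ S) (hxA : x ∉ A)
    (hn : x ∈ Subgroup.normalizer (A : Set Ω)) {L : Subgroup Ω} (hL : L ≤ zS S) (r : A)
    (hr : ((nHom A x hn r : A) : Ω) ∈ L) {t : Ω} (ht : t ∈ S) :
    (r : Ω)⁻¹ * t * r * t⁻¹ ∈ L := by
  have hL' : ∀ t ∈ S, ∀ c ∈ L, t * c * t⁻¹ ∈ L := by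
    intro t ht c hc
    rw [central_conj hL hc ht]; exact hc
  have := h.comm_mem_of_forall hL' hx hxA (g := (r : Ω)⁻¹) ?_ ?_ ht
  · rwa [inv_inv] at this
  · intro a ha
    rw [h.comm _ (A.inv_mem r.2) a ha]
    have : a * (r : Ω)⁻¹ * (r : Ω)⁻¹⁻¹ * a⁻¹ = 1 := by group
    rw [this]; exact L.one_mem
  · rw [nHom_val] at hr
    rwa [inv_inv]

end AbIdx

/-! ### the second centre -/

/-- `Z₂(S)` as a subgroup of the ambient group -/
def z2S (S : Subgroup Ω) : Subgroup Ω := (Subgroup.upperCentralSeries ↥S 2).map S.subtype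

omit [Finite S] in
theorem mem_center_iff_mem_zS (z : S) : z ∈ Subgroup.center ↥S ↔ (z : Ω) ∈ zS S := by
  rw [Subgroup.mem_center_iff, mem_zS]
  constructor
  · intro hz
    exact ⟨z.2, fun s hs => congrArg Subtype.val (hz ⟨s, hs⟩)⟩
  · intro hz g
    exact Subtype.ext (hz.2 g g.2)

omit [Finite S] in
theorem mem_z2S {y : Ω} : y ∈ z2S S ↔ y ∈ S ∧ ∀ s ∈ S, y * s * y⁻¹ * s⁻¹ ∈ zS S := by
  unfold z2S
  constructor
  · rintro ⟨y', hy', rfl⟩
    refine ⟨y'.2, fun s hs => ?_⟩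
    have h1 : y' ∈ Subgroup.upperCentralSeries ↥S (1 + 1) := hy'
    rw [Subgroup.mem_upperCentralSeries_succ_iff] at h1
    have h2 := h1 ⟨s, hs⟩
    rw [Subgroup.upperCentralSeries_one, mem_center_iff_mem_zS] at h2
    exact h2
  · rintro ⟨hy, hc⟩
    refine ⟨⟨y, hy⟩, ?_, rfl⟩
    show (⟨y, hy⟩ : S) ∈ Subgroup.upperCentralSeries ↥S (1 + 1)
    rw [Subgroup.mem_upperCentralSeries_succ_iff]
    intro s
    rw [Subgroup.upperCentralSeries_one, mem_center_iff_mem_zS]
    exact hc s s.2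

omit [Finite S] in
theorem z2S_le (S : Subgroup Ω) : z2S S ≤ S := fun _ hy => (mem_z2S.1 hy).1

omit [Finite S] in
theorem zS_le_z2S (S : Subgroup Ω) : zS S ≤ z2S S := by
  intro z hz
  rw [mem_z2S]
  refine ⟨zS_le S hz, fun s hs => ?_⟩
  rw [← (mem_zS.1 hz).2 s hs]
  have : s * z * z⁻¹ * s⁻¹ = 1 := by group
  rw [this]; exact Subgroup.one_mem _

namespace AbIdx

theorem z2S_subgroupOf (h : AbIdx p S A) {x : Ω} (hx : x ∈ S) (hxA : x ∉ A)
    (hn : x ∈ Subgroup.normalizer (A : Set Ω)) :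
    (z2S S).subgroupOf A = (nHom A x hn).ker.comap (nHom A x hn) := by
  ext r
  rw [Subgroup.mem_subgroupOf, Subgroup.mem_comap, h.nHom_ker hx hxA hn, Subgroup.mem_subgroupOf]
  constructor
  · intro hr
    rw [nHom_val]
    have := (mem_z2S.1 ((z2S S).inv_mem hr)).2 x hx
    rwa [inv_inv] at this
  · intro hr
    have h1 : (r : Ω)⁻¹ ∈ z2S S := by
      rw [mem_z2S]
      refine ⟨S.inv_mem (h.le r.2), fun s hs => ?_⟩
      have := h.comm_mem_of_nHom_mem hx hxA hn le_rfl r hr hs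
      rwa [inv_inv]
    have := (z2S S).inv_mem h1
    rwa [inv_inv] at this

omit [Finite S] hp in
theorem iterRange_map_le (h : AbIdx p S A) {x : Ω} (hx : x ∈ S)
    (hn : x ∈ Subgroup.normalizer (A : Set Ω)) (k : ℕ) :
    (iterRange (nHom A x hn) k).map A.subtype ≤ S.lowerCentralSeries k := by
  induction k with
  | zero =>
    rintro _ ⟨r, -, rfl⟩
    exact h.le r.2
  | succ k ih =>
    rintro _ ⟨_, ⟨r, hr, rfl⟩, rfl⟩
    show ((nHom A x hn r : A) : Ω) ∈ S.lowerCentralSeries (k + 1)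
    rw [nHom_val, Subgroup.lowerCentralSeries_succ]
    have h1 : (r : Ω) ∈ S.lowerCentralSeries k := ih ⟨r, hr, rfl⟩
    have h2 := Subgroup.commutator_mem_commutator (Subgroup.inv_mem _ h1) hx
    rw [commutatorElement_def, inv_inv] at h2
    exact h2

theorem nilpotent (h : AbIdx p S A) (hS : IsPGroup p S) {x : Ω} (hx : x ∈ S)
    (hn : x ∈ Subgroup.normalizer (A : Set Ω)) : ∃ n, iterRange (nHom A x hn) n = ⊥ := by
  have hnil : Group.IsNilpotent S := hS.isNilpotent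
  obtain ⟨n, hn'⟩ := (Subgroup.isNilpotent_iff_lowerCentralSeries S).1 hnil
  refine ⟨n, ?_⟩
  have := h.iterRange_map_le hx hn n
  rw [hn', le_bot_iff] at this
  exact (Subgroup.map_eq_bot_iff_of_injective _ A.subtype_injective).1 this

theorem range_ne_bot (h : AbIdx p S A) {x : Ω} (hx : x ∈ S) (hxA : x ∉ A)
    (hn : x ∈ Subgroup.normalizer (A : Set Ω)) : (nHom A x hn).range ≠ ⊥ := by
  intro hb
  apply h.nonab
  have hker : (nHom A x hn).ker = ⊤ := by
    rw [eq_top_iff]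
    intro r _
    rw [MonoidHom.mem_ker, ← Subgroup.mem_bot, ← hb]
    exact ⟨r, rfl⟩
  rw [h.nHom_ker hx hxA hn] at hker
  have hAZ : A ≤ zS S := by
    intro a ha
    have : (⟨a, ha⟩ : A) ∈ (zS S).subgroupOf A := by rw [hker]; trivial
    exact this
  have hxZ : x ∈ zS S := by
    apply h.mem_zS_of_commute hx (fun r hr => ?_) hx hxA rfl
    exact (mem_zS.1 (hAZ hr)).2 x hx |>.symm
  exact le_antisymm (Helper87.zS_le S) (h.le_of_mem hAZ hx hxA hxZ)

end AbIdx

end Cfsg.Agent.Helper87
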