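import Mathlib
import Cfsg.Prelude.Def_FusionSystem
import Cfsg.Agent.Lib.Helper87.AbIdxHom
import Cfsg.Agent.Lib.Helper87.EssData

set_option autoImplicit false

namespace Cfsg.Agent.Helper87

open Cfsg Cfsg.FusionSystem
open scoped IsMulCommutative

/-- one-sided normalization suffices for a finite subgroup -/
theorem mem_normalizer_of_forall_of_finite {G : Type*} [Group G] {P : Subgroup G} [Finite P] {g : G}
    (h : ∀ y ∈ P, g * y * g⁻¹ ∈ P) : g ∈ Subgroup.normalizer (P : Set G) := by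
  rw [Subgroup.mem_normalizer_iff]
  intro x
  refine ⟨h x, fun hx => ?_⟩
  have hinj : Function.Injective (fun y : P => (⟨g * y * g⁻¹, h y y.2⟩ : P)) := by
    intro y y' hyy
    have h1 : g * (y : G) * g⁻¹ = g * (y' : G) * g⁻¹ := congrArg Subtype.val hyy
    apply Subtype.ext
    have h2 : g⁻¹ * (g * (y : G) * g⁻¹) * g = g⁻¹ * (g * (y' : G) * g⁻¹) * g := by rw [h1]
    have e : ∀ z : G, g⁻¹ * (g * z * g⁻¹) * g = z := fun z => by group
    rwa [e, e] at h2
  obtain ⟨y, hy⟩ := (Finite.injective_iff_surjective.1 hinj) ⟨g * x * g⁻¹, hx⟩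
  have h1 : g * (y : G) * g⁻¹ = g * x * g⁻¹ := congrArg Subtype.val hy
  have h2 : g⁻¹ * (g * (y : G) * g⁻¹) * g = g⁻¹ * (g * x * g⁻¹) * g := by rw [h1]
  have e : ∀ z : G, g⁻¹ * (g * z * g⁻¹) * g = z := fun z => by group
  rw [e, e] at h2
  rw [← h2]; exact y.2

variable {Ω : Type*} [Group Ω] {S : Subgroup Ω} [Finite S] {p : ℕ} [hp : Fact p.Prime]
variable {A : Subgroup Ω} [IsMulCommutative ↥A] {F : FusionSystem S} {P : Subgroup Ω}

namespace AbIdx

/-- an essential subgroup other than `A` is not contained in `A` -/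
theorem exists_mem_not_mem (h : AbIdx p S A) (hE : EssData F p P) (hPA : P ≠ A) :
    ∃ x ∈ P, x ∉ A := by
  by_contra hcon
  push Not at hcon
  apply hPA
  apply le_antisymm hcon
  intro a ha
  apply hE.centralizerIn_le
  refine ⟨h.le ha, ?_⟩
  show a ∈ Subgroup.centralizer (P : Set Ω)
  rw [Subgroup.mem_centralizer_iff]
  intro y hy
  exact h.comm y (hcon y hy) a ha

omit [IsMulCommutative ↥A] in
theorem zS_le_of_essData (hE : EssData F p P) : zS S ≤ P := by
  intro z hz
  apply hE.centralizerIn_le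
  refine ⟨Helper87.zS_le S hz, ?_⟩
  show z ∈ Subgroup.centralizer (P : Set Ω)
  rw [Subgroup.mem_centralizer_iff]
  intro y hy
  exact (mem_zS.1 hz).2 y (hE.le hy)

theorem derS_le (h : AbIdx p S A) (hS : IsPGroup p S) : derS S ≤ A := by
  obtain ⟨x, hx, hxA⟩ := h.exists_not_mem
  rw [← h.map_range_eq_derS hx hxA (h.normal hS hx)]
  rintro _ ⟨c, -, rfl⟩
  exact c.2

section Common

variable (h : AbIdx p S A) (hS : IsPGroup p S) (hE : EssData F p P) {x : Ω} (hxP : x ∈ P)
  (hxA : x ∉ A) (hn : x ∈ Subgroup.normalizer (A : Set Ω))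

include h hE hxP hxA

/-- for `r ∈ A` with `[r, x]` in a central subgroup `L`, `r⁻¹` normalizes `P` -/
theorem inv_mem_normalizer {L : Subgroup Ω} (hL : L ≤ zS S) (r : A)
    (hr : ((nHom A x hn r : A) : Ω) ∈ L) : (r : Ω)⁻¹ ∈ Subgroup.normalizer (P : Set Ω) := by
  haveI : Finite P := finite_of_le hE.le
  apply mem_normalizer_of_forall_of_finite
  intro y hy
  have h1 := h.comm_mem_of_nHom_mem (hE.le hxP) hxA hn hL r hr (hE.le hy)
  have e : (r : Ω)⁻¹ * y * (r : Ω)⁻¹⁻¹ = ((r : Ω)⁻¹ * y * r * y⁻¹) * y := by group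
  rw [e]
  exact P.mul_mem (zS_le_of_essData hE (hL h1)) hy

theorem conjAut_inv_mod {L : Subgroup Ω} (hL : L ≤ zS S) (r : A)
    (hr : ((nHom A x hn r : A) : Ω) ∈ L) (hN : (r : Ω)⁻¹ ∈ Subgroup.normalizer (P : Set Ω))
    (y : P) : ((y⁻¹ * conjAut P (r : Ω)⁻¹ hN y : P) : Ω) ∈ L := by
  have h1 := h.comm_mem_of_nHom_mem (hE.le hxP) hxA hn hL r hr (S.inv_mem (hE.le y.2))
  rw [Subgroup.coe_mul, conjAut_apply, Subgroup.coe_inv]
  have e : (y : Ω)⁻¹ * ((r : Ω)⁻¹ * y * (r : Ω)⁻¹⁻¹) = ((r : Ω)⁻¹ * (y : Ω)⁻¹ * r * (y : Ω)⁻¹⁻¹)⁻¹ := by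
    group
  rw [e]
  exact L.inv_mem h1

end Common

section Abelian

variable (h : AbIdx p S A) (hS : IsPGroup p S) (hE : EssData F p P) {x : Ω} (hxP : x ∈ P)
  (hxA : x ∉ A) (hn : x ∈ Subgroup.normalizer (A : Set Ω)) (hab : P ⊓ A ≤ zS S)

include h hS hE hxP hxA hab

theorem inf_eq_zS_of_abelian : P ⊓ A = zS S :=
  le_antisymm hab (le_inf (zS_le_of_essData hE) h.zS_le)

theorem card_eq_of_abelian : Nat.card P = p * Nat.card (zS S) := by
  have := card_eq_mul_card_inf hS h.le h.card hE.le hxP hxA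
  rwa [h.inf_eq_zS_of_abelian hS hE hxP hxA hab] at this

/-- in the abelian case `|Z(S) ∩ S'| ≤ p` -/
theorem card_ker_inf_range_le_of_abelian :
    Nat.card ↥((nHom A x hn).ker ⊓ (nHom A x hn).range) ≤ p := by
  classical
  haveI : Finite P := finite_of_le hE.le
  haveI : Finite A := h.finite
  have hx : x ∈ S := hE.le hxP
  have hZP : zS S ≤ P := zS_le_of_essData hE
  obtain ⟨g, hg, hgT⟩ := hE.twist
  have hT1 : ∀ t ∈ autInducedBy S P, ∀ z ∈ (zS S).subgroupOf P, t z = z := by
    intro t ht z hz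
    obtain ⟨s, hs, e⟩ := mem_autInducedBy_iff.1 ht
    apply Subtype.ext
    have hz' : (z : Ω) ∈ zS S := hz
    rw [e, (mem_zS.1 hz').2 s hs, mul_inv_cancel_right]
  have hT2 : ∀ t ∈ autInducedBy S P, ∀ y, y⁻¹ * t y ∈ (zS S).subgroupOf P := by
    intro t ht y
    obtain ⟨s, hs, e⟩ := mem_autInducedBy_iff.1 ht
    rw [Subgroup.mem_subgroupOf]
    apply hab
    refine ⟨(y⁻¹ * t y).2, ?_⟩
    apply h.derS_le hS
    rw [Subgroup.coe_mul, e, Subgroup.coe_inv]
    have := comm_mem_derS (S := S) (S.inv_mem (hE.le y.2)) hs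
    rw [inv_inv] at this
    have e2 : (y : Ω)⁻¹ * (s * y * s⁻¹) = (y : Ω)⁻¹ * s * y * s⁻¹ := by group
    rw [e2]; exact this
  obtain ⟨L₀', hL₀'⟩ : ∃ L₀' : Subgroup P, L₀' =
      (zS S).subgroupOf P ⊓ ((zS S).subgroupOf P).comap g.toMonoidHom := ⟨_, rfl⟩
  have hL₀Z : L₀'.map P.subtype ≤ zS S := by
    rintro _ ⟨c, hc, rfl⟩
    rw [hL₀'] at hc
    exact hc.1
  have hAB1 : ∀ r : A, ((nHom A x hn r : A) : Ω) ∈ L₀'.map P.subtype → (r : Ω) ∈ zS S := by
    intro r hr
    have hNr := h.inv_mem_normalizer hE hxP hxA hn hL₀Z r hr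
    have hmod := h.conjAut_inv_mod hE hxP hxA hn hL₀Z r hr hNr
    have hrS : (r : Ω)⁻¹ ∈ S := S.inv_mem (h.le r.2)
    have ht : conjAut P (r : Ω)⁻¹ hNr ∈ autInducedBy S P := conjAut_mem_autInducedBy hrS hNr
    have hI : conjAut P (r : Ω)⁻¹ hNr ∈ Inn P := by
      apply twist_trivial (Zg := (zS S).subgroupOf P) (T := autInducedBy S P)
        (AutF := F.autGroup P) (I := Inn P)
        (fun C h0 hl hT β hβ hβC => hE.mem_autInducedBy_of_chainStab hS h0 hl hT hβ hβC)
        (autInducedBy_le_autGroup F hE.le) hg hgT hT1 hT2 ht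
      intro y
      obtain ⟨c, hc, hcy⟩ := hmod y
      have hcy' : c = y⁻¹ * conjAut P (r : Ω)⁻¹ hNr y := Subtype.ext hcy
      rw [← hcy']
      rw [hL₀'] at hc
      exact hc.2
    have hrP : (r : Ω)⁻¹ ∈ P := mem_of_conjAut_mem_inn hE.cen hrS hNr hI
    apply hab
    refine ⟨?_, r.2⟩
    have := P.inv_mem hrP
    rwa [inv_inv] at this
  -- counting
  have hker := h.nHom_ker hx hxA hn
  have hdisj : ((nHom A x hn).ker ⊓ (nHom A x hn).range) ⊓ (L₀'.map P.subtype).subgroupOf A = ⊥ := by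
    rw [eq_bot_iff]
    rintro c ⟨⟨-, r, rfl⟩, hc2⟩
    rw [Subgroup.mem_bot]
    have h1 : r ∈ (nHom A x hn).ker := by
      rw [hker, Subgroup.mem_subgroupOf]
      exact hAB1 r hc2
    exact h1
  have h1 : Nat.card ↥((nHom A x hn).ker ⊓ (nHom A x hn).range) =
      ((L₀'.map P.subtype).subgroupOf A).relIndex ((nHom A x hn).ker ⊓ (nHom A x hn).range) := by
    rw [← Subgroup.inf_relIndex_left, hdisj, Subgroup.relIndex_bot_left]
  have h2 : ((L₀'.map P.subtype).subgroupOf A).relIndex ((nHom A x hn).ker ⊓ (nHom A x hn).range) ≤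
      ((L₀'.map P.subtype).subgroupOf A).relIndex (nHom A x hn).ker := by
    apply Subgroup.relIndex_le_of_le_right inf_le_left
    show (((L₀'.map P.subtype).subgroupOf A).subgroupOf (nHom A x hn).ker).index ≠ 0
    exact Subgroup.index_ne_zero_of_finite
  have h3 : ((L₀'.map P.subtype).subgroupOf A).relIndex (nHom A x hn).ker = L₀'.relIndex ((zS S).subgroupOf P) := by
    rw [hker, Subgroup.relIndex_subgroupOf h.zS_le, ← Subgroup.relIndex_subgroupOf hZP]
    congr 1
    show (L₀'.map P.subtype).comap P.subtype = L₀'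
    exact Subgroup.comap_map_eq_self_of_injective P.subtype_injective L₀'
  have h4 : L₀'.relIndex ((zS S).subgroupOf P) ≤ p := by
    rw [hL₀', Subgroup.inf_relIndex_left]
    have h5 : (((zS S).subgroupOf P).comap g.toMonoidHom).relIndex ((zS S).subgroupOf P) ≤
        (((zS S).subgroupOf P).comap g.toMonoidHom).relIndex ⊤ := by
      apply Subgroup.relIndex_le_of_le_right le_top
      rw [Subgroup.relIndex_top_right]
      exact Subgroup.index_ne_zero_of_finite
    rw [Subgroup.relIndex_top_right, Subgroup.index_comap_of_surjective _ g.surjective] at h5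
    have h6 : ((zS S).subgroupOf P).index = p := by
      have h7 := card_mul_relIndex_of_le hZP
      rw [h.card_eq_of_abelian hS hE hxP hxA hab, mul_comm p] at h7
      have hpos : 0 < Nat.card (zS S) := by
        haveI : Finite (zS S) := finite_of_le (Helper87.zS_le S)
        exact Nat.card_pos
      exact Nat.eq_of_mul_eq_mul_left hpos h7
    rw [h6] at h5
    exact h5
  omega

end Abelian

section NormA

variable (h : AbIdx p S A) (hS : IsPGroup p S) (hE : EssData F p P) {x : Ω} (hxP : x ∈ P)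
  (hxA : x ∉ A)

include h hS hE hxP hxA

/-- some element of `A` normalizes `P` without lying in it -/
theorem exists_normalizer_A : ∃ a ∈ A, a ∈ normalizerIn S P ∧ a ∉ P := by
  obtain ⟨s, hs, hsP⟩ := hE.exists_normalizer_not_mem
  by_contra hcon
  push Not at hcon
  have hle : normalizerIn S P ⊓ A ≤ P ⊓ A := fun a ha => ⟨hcon a ha.2 ha.1, ha.2⟩
  have hge : P ⊓ A ≤ normalizerIn S P ⊓ A := inf_le_inf_right _ (le_normalizerIn hE.le)
  have heq := le_antisymm hle hge
  have hNS : normalizerIn S P ≤ S := inf_le_left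
  have c1 := card_eq_mul_card_inf hS h.le h.card hNS (x := x)
    ⟨hE.le hxP, Subgroup.le_normalizer hxP⟩ hxA
  have c2 := card_eq_mul_card_inf hS h.le h.card hE.le hxP hxA
  rw [heq, ← c2] at c1
  haveI : Finite (normalizerIn S P) := finite_of_le hNS
  have : P = normalizerIn S P :=
    Subgroup.eq_of_le_of_card_ge (le_normalizerIn hE.le) (le_of_eq c1)
  apply hsP
  rw [this]; exact hs

end NormA

section Nonabelian

variable (h : AbIdx p S A) (hS : IsPGroup p S) (hE : EssData F p P) {x : Ω} (hxP : x ∈ P)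
  (hxA : x ∉ A) (hn : x ∈ Subgroup.normalizer (A : Set Ω)) (hnab : ¬ P ⊓ A ≤ zS S)

include h hS hE hxP hxA hnab

theorem center_eq_of_nonabelian : Subgroup.center ↥P = (zS S).subgroupOf P := by
  ext y
  rw [Subgroup.mem_center_iff, Subgroup.mem_subgroupOf]
  constructor
  · intro hy
    by_cases hyA : (y : Ω) ∈ A
    · apply h.mem_zS_of_commute (hE.le y.2) (fun r hr => h.comm r hr y hyA) (hE.le hxP) hxA
      exact congrArg Subtype.val (hy ⟨x, hxP⟩)
    · exfalso
      apply hnab
      intro b hb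
      apply h.mem_zS_of_commute (h.le hb.2) (fun r hr => h.comm r hr b hb.2) (hE.le y.2) hyA
      exact (congrArg Subtype.val (hy ⟨b, hb.1⟩)).symm
  · intro hz g
    apply Subtype.ext
    exact (mem_zS.1 hz).2 g (hE.le g.2)

/-- `Z₂(S) ∩ A ≤ P` in the nonabelian case -/
theorem mem_of_nHom_mem_ker (r : A) (hr : nHom A x hn r ∈ (nHom A x hn).ker) : (r : Ω) ∈ P := by
  classical
  haveI : Finite P := finite_of_le hE.le
  have hx : x ∈ S := hE.le hxP
  have hr' : ((nHom A x hn r : A) : Ω) ∈ zS S := by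
    rw [h.nHom_ker hx hxA hn, Subgroup.mem_subgroupOf] at hr
    exact hr
  have hNr := h.inv_mem_normalizer hE hxP hxA hn le_rfl r hr'
  have hmod := h.conjAut_inv_mod hE hxP hxA hn le_rfl r hr' hNr
  have hrS : (r : Ω)⁻¹ ∈ S := S.inv_mem (h.le r.2)
  have ht : conjAut P (r : Ω)⁻¹ hNr ∈ autInducedBy S P := conjAut_mem_autInducedBy hrS hNr
  have hcen := h.center_eq_of_nonabelian hS hE hxP hxA hnab
  have hfix : ∀ z ∈ Subgroup.center ↥P, conjAut P (r : Ω)⁻¹ hNr z = z := by
    intro z hz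
    rw [hcen, Subgroup.mem_subgroupOf] at hz
    apply Subtype.ext
    rw [conjAut_apply, (mem_zS.1 hz).2 _ hrS, mul_inv_cancel_right]
  have hI : conjAut P (r : Ω)⁻¹ hNr ∈ Inn P := by
    apply hE.mem_inn_of_chainStab hS (C := ![⊥, Subgroup.center ↥P, ⊤]) rfl rfl ?_
      (autInducedBy_le_autGroup F hE.le ht) ?_
    · intro α _
      refine Subgroup.mem_iInf.2 (fun i => ?_)
      fin_cases i
      · show α ∈ presSub ⊥
        apply mem_presSub_of_forall
        intro y hy
        rw [Subgroup.mem_bot] at hy ⊢; rw [hy, map_one]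
      · show α ∈ presSub (Subgroup.center ↥P)
        apply mem_presSub_of_forall
        intro y hy
        rw [Subgroup.mem_center_iff] at hy ⊢
        intro g
        have h1 := congrArg α (hy (α⁻¹ g))
        rwa [map_mul, map_mul, MulAut.apply_inv_self] at h1
      · show α ∈ presSub ⊤
        exact fun y => ⟨fun _ => Subgroup.mem_top _, fun _ => Subgroup.mem_top _⟩
    · refine Subgroup.mem_iInf.2 (fun i => ?_)
      fin_cases i
      · show conjAut P (r : Ω)⁻¹ hNr ∈ stepStab ⊥ (Subgroup.center ↥P)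
        refine mem_stepStab_of_forall (fun y hy => ?_) (fun y hy => ?_) (fun y hy => ?_)
        · rw [Subgroup.mem_bot] at hy ⊢; rw [hy, map_one]
        · rw [hfix y hy]; exact hy
        · rw [hfix y hy, inv_mul_cancel]; exact Subgroup.one_mem _
      · show conjAut P (r : Ω)⁻¹ hNr ∈ stepStab (Subgroup.center ↥P) ⊤
        refine mem_stepStab_of_forall (fun y hy => ?_) (fun y _ => Subgroup.mem_top _)
          (fun y _ => ?_)
        · rw [hfix y hy]; exact hy
        · rw [hcen, Subgroup.mem_subgroupOf]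
          exact hmod y
  have hrP : (r : Ω)⁻¹ ∈ P := mem_of_conjAut_mem_inn hE.cen hrS hNr hI
  have := P.inv_mem hrP
  rwa [inv_inv] at this

/-- `P ∩ A` is moved by some automorphism of `P` in the system -/
theorem exists_aut_moving : ∃ α ∈ F.autGroup P, ∃ b : P, (b : Ω) ∈ A ∧ ((α b : P) : Ω) ∉ A := by
  classical
  haveI : Finite P := finite_of_le hE.le
  by_contra hcon
  push Not at hcon
  obtain ⟨a, haA, haN, haP⟩ := h.exists_normalizer_A hS hE hxP hxA
  apply haP
  apply mem_of_conjAut_mem_inn hE.cen haN.1 haN.2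
  have hfix : ∀ y ∈ A.subgroupOf P, conjAut P a haN.2 y = y := by
    intro y hy
    apply Subtype.ext
    rw [conjAut_apply, h.comm a haA y hy, mul_inv_cancel_right]
  apply hE.mem_inn_of_chainStab hS (C := ![⊥, A.subgroupOf P, ⊤]) rfl rfl ?_
    (autInducedBy_le_autGroup F hE.le (conjAut_mem_autInducedBy haN.1 haN.2)) ?_
  · intro α hα
    refine Subgroup.mem_iInf.2 (fun i => ?_)
    fin_cases i
    · show α ∈ presSub ⊥
      apply mem_presSub_of_forall
      intro y hy
      rw [Subgroup.mem_bot] at hy ⊢; rw [hy, map_one]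
    · show α ∈ presSub (A.subgroupOf P)
      apply mem_presSub_of_forall
      intro y hy
      exact hcon α hα y hy
    · show α ∈ presSub ⊤
      exact fun y => ⟨fun _ => Subgroup.mem_top _, fun _ => Subgroup.mem_top _⟩
  · refine Subgroup.mem_iInf.2 (fun i => ?_)
    fin_cases i
    · show conjAut P a haN.2 ∈ stepStab ⊥ (A.subgroupOf P)
      refine mem_stepStab_of_forall (fun y hy => ?_) (fun y hy => ?_) (fun y hy => ?_)
      · rw [Subgroup.mem_bot] at hy ⊢; rw [hy, map_one]
      · rw [hfix y hy]; exact hy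
      · rw [hfix y hy, inv_mul_cancel]; exact Subgroup.one_mem _
    · show conjAut P a haN.2 ∈ stepStab (A.subgroupOf P) ⊤
      refine mem_stepStab_of_forall (fun y hy => ?_) (fun y _ => Subgroup.mem_top _)
        (fun y _ => ?_)
      · rw [hfix y hy]; exact hy
      · rw [Subgroup.mem_subgroupOf, Subgroup.coe_mul, conjAut_apply, Subgroup.coe_inv]
        have hyN := h.normal hS (S.inv_mem (hE.le y.2))
        have h1 := (Subgroup.mem_normalizer_iff.1 hyN a).1 haA
        rw [inv_inv] at h1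
        have e : (y : Ω)⁻¹ * (a * y * a⁻¹) = ((y : Ω)⁻¹ * a * y) * a⁻¹ := by group
        rw [e]
        exact A.mul_mem h1 (A.inv_mem haA)

/-- the structure of `P ∩ A` in the nonabelian case -/
theorem nonabelian_data :
    Nat.card ↥(P ⊓ A) = p * Nat.card (zS S) ∧
      ∀ b' : A, (b' : Ω) ∈ P → ((nHom A x hn b' : A) : Ω) ∈ zS S := by
  classical
  haveI : Finite P := finite_of_le hE.le
  have hx : x ∈ S := hE.le hxP
  have hZP : zS S ≤ P := zS_le_of_essData hE
  have hPp : IsPGroup p P := hS.to_le hE.le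
  obtain ⟨α, hα, b, hbA, hαb⟩ := h.exists_aut_moving hS hE hxP hxA hnab
  have hαbS : ((α b : P) : Ω) ∈ S := hE.le (α b).2
  -- the intersection of `P ∩ A` with its image is central
  have hinf : (A.subgroupOf P).map α.toMonoidHom ⊓ A.subgroupOf P ≤ (zS S).subgroupOf P := by
    rintro y ⟨⟨y', hy', rfl⟩, hyA⟩
    rw [Subgroup.mem_subgroupOf]
    have hyA' : ((α y' : P) : Ω) ∈ A := hyA
    apply h.mem_zS_of_commute (hE.le (α y').2) (fun r hr => h.comm r hr _ hyA') hαbS hαb
    have h1 : b * y' = y' * b := Subtype.ext (h.comm b hbA y' hy')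
    have h2 := congrArg (fun w : P => ((α w : P) : Ω)) h1
    simpa using h2
  -- cardinalities
  have hcardB : Nat.card ↥((A.subgroupOf P).map α.toMonoidHom) = Nat.card ↥(A.subgroupOf P) :=
    Subgroup.card_map_of_injective α.injective
  have c2 := card_eq_mul_card_inf hS h.le h.card hE.le hxP hxA
  have hcardP0 : Nat.card ↥(A.subgroupOf P) = Nat.card ↥(P ⊓ A) := by
    rw [card_subgroupOf_inf, inf_comm]
  have htop : Nat.card ↥(⊤ : Subgroup P) = p * Nat.card ↥(A.subgroupOf P) := by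
    rw [Subgroup.card_top, hcardP0, c2]
  have c3 := card_eq_mul_card_inf (S := (⊤ : Subgroup P)) (A := A.subgroupOf P)
    (M := (A.subgroupOf P).map α.toMonoidHom) (hPp.to_subgroup ⊤) le_top htop le_top
    (x := α b) ⟨b, hbA, rfl⟩ hαb
  rw [hcardB] at c3
  have hZA : (zS S).subgroupOf P ≤ A.subgroupOf P := by
    intro z hz
    rw [Subgroup.mem_subgroupOf] at hz ⊢
    exact h.zS_le hz
  have hZle : (zS S).subgroupOf P ≤ (A.subgroupOf P).map α.toMonoidHom ⊓ A.subgroupOf P := by
    by_contra hcon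
    obtain ⟨z, hz, hzn⟩ := SetLike.not_le_iff_exists.1 hcon
    have := eq_of_le_of_not_mem hinf hZA c3 hz hzn
    apply hnab
    intro w hw
    have : (⟨w, hw.1⟩ : P) ∈ (zS S).subgroupOf P := by rw [this]; exact hw.2
    exact this
  have hinfeq := le_antisymm hinf hZle
  refine ⟨?_, ?_⟩
  · rw [← hcardP0, c3, hinfeq, card_subgroupOf_eq hZP]
  · intro b' hb'P
    have hmem : (⟨((nHom A x hn b' : A) : Ω), by
        rw [nHom_val]
        exact P.mul_mem (P.mul_mem (P.mul_mem (P.inv_mem hb'P) hxP) hb'P) (P.inv_mem hxP)⟩ : P) ∈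
        (A.subgroupOf P).map α.toMonoidHom ⊓ A.subgroupOf P := by
      refine ⟨?_, ?_⟩
      · refine ⟨α⁻¹ ⟨((nHom A x hn b' : A) : Ω), _⟩, ?_, MulAut.apply_inv_self _ _ _⟩
        refine Subgroup.mem_subgroupOf.2 ?_
        apply h.derS_le hS
        have e : (⟨((nHom A x hn b' : A) : Ω), by
            rw [nHom_val]
            exact P.mul_mem (P.mul_mem (P.mul_mem (P.inv_mem hb'P) hxP) hb'P) (P.inv_mem hxP)⟩ : P) =
            (⟨b', hb'P⟩ : P)⁻¹ * ⟨x, hxP⟩ * ⟨b', hb'P⟩ * (⟨x, hxP⟩ : P)⁻¹ := by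
          apply Subtype.ext
          rw [nHom_val]
          rfl
        rw [e, map_mul, map_mul, map_mul, map_inv, map_inv]
        have := comm_mem_derS (S := S) (S.inv_mem (hE.le (α⁻¹ (⟨b', hb'P⟩ : P)).2))
          (hE.le (α⁻¹ (⟨x, hxP⟩ : P)).2)
        rw [inv_inv] at this
        exact this
      · refine Subgroup.mem_subgroupOf.2 ?_
        exact (nHom A x hn b').2
    have := hinf hmem
    rw [Subgroup.mem_subgroupOf] at this
    exact this

/-- conclusion of the nonabelian case -/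
theorem nonabelian_conclusion :
    P.subgroupOf A = (nHom A x hn).ker.comap (nHom A x hn) ∧
      Nat.card ↥((nHom A x hn).ker ⊓ (nHom A x hn).range) = p := by
  haveI : Finite A := h.finite
  have hx : x ∈ S := hE.le hxP
  obtain ⟨hcard, hmem⟩ := h.nonabelian_data hS hE hxP hxA hn hnab
  have hker := h.nHom_ker hx hxA hn
  have heq : P.subgroupOf A = (nHom A x hn).ker.comap (nHom A x hn) := by
    ext r
    rw [Subgroup.mem_subgroupOf, Subgroup.mem_comap]
    constructor
    · intro hr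
      rw [hker, Subgroup.mem_subgroupOf]
      exact hmem r hr
    · intro hr
      exact h.mem_of_nHom_mem_ker hS hE hxP hxA hn hnab r hr
  refine ⟨heq, ?_⟩
  rw [card_ker_inf_range_eq, ← heq]
  have hle : (nHom A x hn).ker ≤ P.subgroupOf A := by
    rw [heq]; exact ker_le_comap_ker _
  have h1 := card_mul_relIndex_of_le hle
  rw [card_subgroupOf_inf, hcard, hker, card_subgroupOf_eq h.zS_le, mul_comm p] at h1
  have hpos : 0 < Nat.card (zS S) := by
    haveI : Finite (zS S) := finite_of_le (Helper87.zS_le S)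
    exact Nat.card_pos
  rw [hker]
  exact Nat.eq_of_mul_eq_mul_left hpos h1

end Nonabelian

theorem eq_prime_of_dvd_pow_of_le {q n m : ℕ} (hq : q.Prime) (hd : m ∣ q ^ n) (h1 : m ≠ 1)
    (hle : m ≤ q) : m = q := by
  obtain ⟨k, -, rfl⟩ := (Nat.dvd_prime_pow hq).1 hd
  rcases k with _ | _ | k
  · exact absurd (pow_zero q) h1
  · exact pow_one q
  · exfalso
    have : q ^ 1 < q ^ (k + 1 + 1) := Nat.pow_lt_pow_right hq.one_lt (by omega)
    rw [pow_one] at this
    omega

section Main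

variable (h : AbIdx p S A) (hS : IsPGroup p S) (hE : EssData F p P) {x : Ω} (hxP : x ∈ P)
  (hxA : x ∉ A) (hn : x ∈ Subgroup.normalizer (A : Set Ω))

include h hS hE hxP hxA

/-- `|Z(S) ∩ S'| = p` -/
theorem card_ker_inf_range : Nat.card ↥((nHom A x hn).ker ⊓ (nHom A x hn).range) = p := by
  haveI : Finite A := h.finite
  have hx : x ∈ S := hE.le hxP
  by_cases hab : P ⊓ A ≤ zS S
  · have hle := h.card_ker_inf_range_le_of_abelian hS hE hxP hxA hn hab
    have hne := ker_inf_range_ne_bot _ (h.nilpotent hS hx hn) (h.range_ne_bot hx hxA hn)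
    obtain ⟨n, hn'⟩ := IsPGroup.iff_card.1 (hS.to_le h.le)
    apply eq_prime_of_dvd_pow_of_le hp.out (n := n) _ _ hle
    · rw [← hn']
      exact Subgroup.card_subgroup_dvd_card _
    · intro h1
      exact hne (Subgroup.card_eq_one.1 h1)
  · exact (h.nonabelian_conclusion hS hE hxP hxA hn hab).2

theorem subgroupOf_eq :
    P.subgroupOf A = (nHom A x hn).ker ∨
      P.subgroupOf A = (nHom A x hn).ker.comap (nHom A x hn) := by
  by_cases hab : P ⊓ A ≤ zS S
  · left
    rw [← Subgroup.inf_subgroupOf_right, h.inf_eq_zS_of_abelian hS hE hxP hxA hab,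
      h.nHom_ker (hE.le hxP) hxA hn]
  · right
    exact (h.nonabelian_conclusion hS hE hxP hxA hn hab).1

omit [IsMulCommutative ↥A] in
theorem eq_sup : (P ⊓ A) ⊔ Subgroup.zpowers x = P := by
  haveI : Finite P := finite_of_le hE.le
  have c2 := card_eq_mul_card_inf hS h.le h.card hE.le hxP hxA
  exact eq_of_le_of_not_mem le_sup_left (sup_le inf_le_left ((Subgroup.zpowers_le).2 hxP)) c2
    (Subgroup.mem_sup_right (Subgroup.mem_zpowers x)) (fun hx' => hxA hx'.2)

theorem normalizer_subgroupOf :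
    (normalizerIn S P).subgroupOf A = (P.subgroupOf A).comap (nHom A x hn) := by
  haveI : Finite P := finite_of_le hE.le
  ext r
  rw [Subgroup.mem_subgroupOf, Subgroup.mem_comap, Subgroup.mem_subgroupOf, nHom_val]
  constructor
  · intro hr
    have h1 := (Subgroup.mem_normalizer_iff.1 (Subgroup.inv_mem _ hr.2) x).1 hxP
    rw [inv_inv] at h1
    exact P.mul_mem h1 (P.inv_mem hxP)
  · intro hr
    refine ⟨h.le r.2, ?_⟩
    have hinv : (r : Ω)⁻¹ ∈ Subgroup.normalizer (P : Set Ω) := by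
      apply mem_normalizer_of_forall_of_finite
      have hle : (P ⊓ A) ⊔ Subgroup.zpowers x ≤ P.comap (MulAut.conj (r : Ω)⁻¹).toMonoidHom := by
        apply sup_le
        · intro y hy
          show (r : Ω)⁻¹ * y * (r : Ω)⁻¹⁻¹ ∈ P
          rw [h.comm _ (A.inv_mem r.2) y hy.2, mul_inv_cancel_right]
          exact hy.1
        · rw [Subgroup.zpowers_le]
          show (r : Ω)⁻¹ * x * (r : Ω)⁻¹⁻¹ ∈ P
          have e : (r : Ω)⁻¹ * x * (r : Ω)⁻¹⁻¹ = ((r : Ω)⁻¹ * x * r * x⁻¹) * x := by group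
          rw [e]
          exact P.mul_mem hr hxP
      intro y hy
      rw [← h.eq_sup hS hE hxP hxA] at hy
      exact hle hy
    have := Subgroup.inv_mem _ hinv
    rwa [inv_inv] at this

/-- `|N_S(P) : P| = p` -/
theorem card_normalizer : Nat.card (normalizerIn S P) = p * Nat.card P := by
  haveI : Finite A := h.finite
  have hn := h.normal hS (hE.le hxP)
  have hNS : normalizerIn S P ≤ S := inf_le_left
  have c1 := card_eq_mul_card_inf hS h.le h.card hNS (x := x)
    ⟨hE.le hxP, Subgroup.le_normalizer hxP⟩ hxA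
  have c2 := card_eq_mul_card_inf hS h.le h.card hE.le hxP hxA
  have hK1 := h.card_ker_inf_range hS hE hxP hxA hn
  have hnorm := h.normalizer_subgroupOf hS hE hxP hxA hn
  have hHH' : P.subgroupOf A ≤ (normalizerIn S P).subgroupOf A := by
    intro r hr
    rw [Subgroup.mem_subgroupOf] at hr ⊢
    exact le_normalizerIn hE.le hr
  have hrel : (P.subgroupOf A).relIndex ((normalizerIn S P).subgroupOf A) ≤ p := by
    rw [hnorm]
    rcases h.subgroupOf_eq hS hE hxP hxA hn with he | he
    · rw [he, ← card_ker_inf_range_eq, hK1]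
    · rw [he]
      refine (relIndex_comap_le _ _ _).trans ?_
      rw [← card_ker_inf_range_eq, hK1]
  have hne : (P.subgroupOf A).relIndex ((normalizerIn S P).subgroupOf A) ≠ 1 := by
    rw [Ne, Subgroup.relIndex_eq_one]
    intro hle
    obtain ⟨a, haA, haN, haP⟩ := h.exists_normalizer_A hS hE hxP hxA
    have h1 : (⟨a, haA⟩ : A) ∈ (normalizerIn S P).subgroupOf A := by
      rw [Subgroup.mem_subgroupOf]; exact haN
    have h2 := hle h1
    rw [Subgroup.mem_subgroupOf] at h2
    exact haP h2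
  obtain ⟨n, hn'⟩ := IsPGroup.iff_card.1 (hS.to_le h.le)
  have hdvd : (P.subgroupOf A).relIndex ((normalizerIn S P).subgroupOf A) ∣ p ^ n := by
    rw [← hn']
    exact (Subgroup.relIndex_dvd_card _ _).trans (Subgroup.card_subgroup_dvd_card _)
  have hrelp := eq_prime_of_dvd_pow_of_le hp.out hdvd hne hrel
  have h3 := card_mul_relIndex_of_le hHH'
  rw [hrelp, card_subgroupOf_inf, card_subgroupOf_inf] at h3
  rw [c1, c2, ← h3]
  ring

end Main

end AbIdx

end Cfsg.Agent.Helper87
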