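import Mathlib
import Cfsg.Prelude.Def_FusionSystem
import Cfsg.Agent.Lib.Helper87.AbIdxFusion

set_option autoImplicit false

namespace Cfsg.Agent.Helper87

open Cfsg Cfsg.FusionSystem
open scoped IsMulCommutative commutatorElement

variable {Ω : Type*} [Group Ω] {S : Subgroup Ω}

theorem derS_eq_map_commutator (S : Subgroup Ω) : derS S = (commutator ↥S).map S.subtype := by
  rw [commutator_eq_closure, MonoidHom.map_closure]
  unfold derS
  congr 1
  ext c
  constructor
  · rintro ⟨s, hs, t, ht, rfl⟩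
    exact ⟨⁅(⟨s, hs⟩ : S), ⟨t, ht⟩⁆, ⟨_, _, rfl⟩, rfl⟩
  · rintro ⟨_, ⟨a, b, rfl⟩, rfl⟩
    exact ⟨a, a.2, b, b.2, rfl⟩

/-- `Z ⊔ ⟨y⟩` is commutative -/
theorem comm_zS_sup_zpowers {y : Ω} (hy : y ∈ S) :
    ∀ b₁ ∈ zS S ⊔ Subgroup.zpowers y, ∀ b₂ ∈ zS S ⊔ Subgroup.zpowers y, b₁ * b₂ = b₂ * b₁ := by
  have hBS : zS S ⊔ Subgroup.zpowers y ≤ S :=
    sup_le (zS_le S) ((Subgroup.zpowers_le).2 hy)
  have h1 : zS S ⊔ Subgroup.zpowers y ≤ Subgroup.centralizer {y} := by
    apply sup_le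
    · intro z hz
      rw [Subgroup.mem_centralizer_iff]
      intro g hg
      rw [Set.mem_singleton_iff] at hg
      rw [hg]
      exact (mem_zS.1 hz).2 y hy
    · rw [Subgroup.zpowers_le, Subgroup.mem_centralizer_iff]
      intro g hg
      rw [Set.mem_singleton_iff] at hg
      rw [hg]
  have h2 : zS S ⊔ Subgroup.zpowers y ≤
      Subgroup.centralizer ((zS S ⊔ Subgroup.zpowers y : Subgroup Ω) : Set Ω) := by
    apply sup_le
    · intro z hz
      rw [Subgroup.mem_centralizer_iff]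
      intro g hg
      exact (mem_zS.1 hz).2 g (hBS hg)
    · rw [Subgroup.zpowers_le, Subgroup.mem_centralizer_iff]
      intro g hg
      have := Subgroup.mem_centralizer_iff.1 (h1 hg) y rfl
      exact this.symm
  intro b₁ hb₁ b₂ hb₂
  exact (Subgroup.mem_centralizer_iff.1 (h2 hb₂) b₁ hb₁)

variable [Finite S] {p : ℕ} [hp : Fact p.Prime] {A : Subgroup Ω}

/-- the hypotheses of the statements give the standing structure -/
theorem abIdx_of_hyps (hna : ¬ IsMulCommutative ↥S)
    (hA : A ≤ S ∧ IsMulCommutative ↥A ∧ (A.subgroupOf S).index = p) : AbIdx p S A := by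
  obtain ⟨hAS, hAc, hidx⟩ := hA
  refine ⟨hAS, ?_, ?_, ?_⟩
  · intro a ha b hb
    exact congrArg Subtype.val (mul_comm' (⟨a, ha⟩ : A) ⟨b, hb⟩)
  · have := Subgroup.card_mul_index (A.subgroupOf S)
    rw [hidx, card_subgroupOf_eq hAS] at this
    rw [← this, mul_comm]
  · intro heq
    apply hna
    refine ⟨⟨fun a b => Subtype.ext ?_⟩⟩
    have hb : (b : Ω) ∈ zS S := by rw [heq]; exact b.2
    exact (mem_zS.1 hb).2 a a.2

variable [IsMulCommutative ↥A] {F : FusionSystem S} {P : Subgroup Ω}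

namespace AbIdx

theorem map_ker (h : AbIdx p S A) {x : Ω} (hx : x ∈ S) (hxA : x ∉ A)
    (hn : x ∈ Subgroup.normalizer (A : Set Ω)) :
    (nHom A x hn).ker.map A.subtype = zS S := by
  rw [h.nHom_ker hx hxA hn, Subgroup.subgroupOf_map_subtype, inf_eq_left.2 h.zS_le]

theorem map_ker_inf_range (h : AbIdx p S A) {x : Ω} (hx : x ∈ S) (hxA : x ∉ A)
    (hn : x ∈ Subgroup.normalizer (A : Set Ω)) :
    ((nHom A x hn).ker ⊓ (nHom A x hn).range).map A.subtype = zS S ⊓ derS S := by
  rw [Subgroup.map_inf _ _ _ A.subtype_injective, h.map_ker hx hxA hn,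
    h.map_range_eq_derS hx hxA hn]

theorem card_zS_inf_derS (h : AbIdx p S A) {x : Ω} (hx : x ∈ S) (hxA : x ∉ A)
    (hn : x ∈ Subgroup.normalizer (A : Set Ω)) :
    Nat.card ↥(zS S ⊓ derS S) = Nat.card ↥((nHom A x hn).ker ⊓ (nHom A x hn).range) := by
  rw [← h.map_ker_inf_range hx hxA hn]
  exact Subgroup.card_map_of_injective A.subtype_injective

theorem sup_subgroupOf (h : AbIdx p S A) {x : Ω} (hx : x ∈ S) (hxA : x ∉ A)
    (hn : x ∈ Subgroup.normalizer (A : Set Ω)) :
    (zS S ⊔ derS S).subgroupOf A = (nHom A x hn).ker ⊔ (nHom A x hn).range := by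
  rw [← h.map_ker hx hxA hn, ← h.map_range_eq_derS hx hxA hn, ← Subgroup.map_sup]
  exact Subgroup.comap_map_eq_self_of_injective A.subtype_injective _

/-- `Z₂(S) ≤ A` once `|Z(S) ∩ S'| = p` and `A` is the unique abelian subgroup of index `p` -/
theorem z2S_le_of_card (h : AbIdx p S A) (hS : IsPGroup p S)
    (hK1 : Nat.card ↥(zS S ⊓ derS S) = p)
    (huniq : ∀ B : Subgroup Ω, B ≤ S → IsMulCommutative ↥B → (B.subgroupOf S).index = p → B = A) :
    z2S S ≤ A := by
  haveI : Finite A := h.finite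
  intro y hy
  by_contra hyA
  have hyS : y ∈ S := z2S_le S hy
  have hn := h.normal hS hyS
  have hK := hK1
  rw [h.card_zS_inf_derS hyS hyA hn] at hK
  have hker := h.nHom_ker hyS hyA hn
  have hrk : (nHom A y hn).range ≤ (nHom A y hn).ker := by
    rintro _ ⟨r, rfl⟩
    rw [hker, Subgroup.mem_subgroupOf, nHom_val]
    have h1 := (mem_z2S.1 hy).2 (r : Ω)⁻¹ (S.inv_mem (h.le r.2))
    rw [inv_inv] at h1
    have e : (r : Ω)⁻¹ * y * r * y⁻¹ = (y * (r : Ω)⁻¹ * y⁻¹ * r)⁻¹ := by group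
    rw [e]
    exact Subgroup.inv_mem _ h1
  rw [inf_eq_right.2 hrk] at hK
  have hcA := card_eq_card_ker_mul_card_range (nHom A y hn)
  rw [hK, hker, card_subgroupOf_eq h.zS_le] at hcA
  -- the abelian subgroup `Z ⊔ ⟨y⟩`
  have hBS : zS S ⊔ Subgroup.zpowers y ≤ S :=
    sup_le (Helper87.zS_le S) ((Subgroup.zpowers_le).2 hyS)
  have hyB : y ∈ zS S ⊔ Subgroup.zpowers y := Subgroup.mem_sup_right (Subgroup.mem_zpowers y)
  have hBc := comm_zS_sup_zpowers hyS
  have hBA : (zS S ⊔ Subgroup.zpowers y) ⊓ A = zS S := by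
    apply le_antisymm
    · intro b hb
      apply h.mem_zS_of_commute (h.le hb.2) (fun r hr => h.comm r hr b hb.2) hyS hyA
      exact hBc y hyB b hb.1
    · exact le_inf le_sup_left h.zS_le
  have cB := card_eq_mul_card_inf hS h.le h.card hBS hyB hyA
  rw [hBA] at cB
  have hidx : ((zS S ⊔ Subgroup.zpowers y).subgroupOf S).index = p := by
    have h1 := Subgroup.card_mul_index ((zS S ⊔ Subgroup.zpowers y).subgroupOf S)
    rw [card_subgroupOf_eq hBS, h.card, hcA, cB] at h1
    have hpos : 0 < p * Nat.card (zS S) := by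
      haveI : Finite (zS S) := finite_of_le (Helper87.zS_le S)
      exact Nat.mul_pos hp.out.pos Nat.card_pos
    have e : p * Nat.card ↥(zS S) * ((zS S ⊔ Subgroup.zpowers y).subgroupOf S).index =
        p * Nat.card ↥(zS S) * p := by
      rw [h1]; ring
    exact Nat.eq_of_mul_eq_mul_left hpos e
  have hBeq := huniq _ hBS ⟨⟨fun a b => Subtype.ext (hBc a a.2 b b.2)⟩⟩ hidx
  apply hyA
  rw [← hBeq]; exact hyB

/-- the full structure theorem -/
theorem final_structure (h : AbIdx p S A) (hS : IsPGroup p S) (hF : F.IsSaturated p)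
    (huniq : ∀ B : Subgroup Ω, B ≤ S → IsMulCommutative ↥B → (B.subgroupOf S).index = p → B = A)
    (hP : F.IsEssential p P) (hPA : P ≠ A) :
    z2S S ≤ A ∧ Nat.card ↥(zS S ⊓ derS S) = p ∧ ((zS S ⊔ derS S).subgroupOf A).index = p ∧
      ((zS S).subgroupOf (z2S S)).index = p ∧
      (∀ m : ℕ, ((zS S).subgroupOf S).index = p ^ m → 3 ≤ m →
        ¬ S.lowerCentralSeries (m - 2) ≤ zS S) ∧
      (∃ x ∈ S, x ∉ A ∧ (P = zS S ⊔ Subgroup.zpowers x ∨ P = z2S S ⊔ Subgroup.zpowers x)) ∧
      Nat.card (normalizerIn S P) = p * Nat.card P := by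
  haveI : Finite A := h.finite
  have hE := essData hS hF hP
  obtain ⟨x, hxP, hxA⟩ := h.exists_mem_not_mem hE hPA
  have hx : x ∈ S := hE.le hxP
  have hn := h.normal hS hx
  have hK := h.card_ker_inf_range hS hE hxP hxA hn
  have hK1 : Nat.card ↥(zS S ⊓ derS S) = p := by
    rw [h.card_zS_inf_derS hx hxA hn]; exact hK
  have hz2 := h.z2S_le_of_card hS hK1 huniq
  have hker := h.nHom_ker hx hxA hn
  refine ⟨hz2, hK1, ?_, ?_, ?_, ?_, h.card_normalizer hS hE hxP hxA⟩
  · rw [h.sup_subgroupOf hx hxA hn]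
    exact index_ker_sup_range _ hK
  · show (zS S).relIndex (z2S S) = p
    rw [← Subgroup.relIndex_subgroupOf hz2, ← hker, h.z2S_subgroupOf hx hxA hn,
      ← card_ker_inf_range_eq]
    exact hK
  · intro m hidx hm hle
    have hApos : 0 < Nat.card A := Nat.card_pos
    have hAidx : A.relIndex S = p := by
      have := card_mul_relIndex_of_le h.le
      rw [h.card, mul_comm p] at this
      exact Nat.eq_of_mul_eq_mul_left hApos this
    have h1 := Subgroup.relIndex_mul_relIndex (zS S) A S h.zS_le h.le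
    rw [hAidx] at h1
    have hidx' : (zS S).relIndex S = p ^ m := hidx
    rw [hidx'] at h1
    have hm1 : m = (m - 1) + 1 := by omega
    rw [hm1, pow_succ] at h1
    have hkidx : (nHom A x hn).ker.index = p ^ (m - 1) := by
      rw [hker]
      exact Nat.eq_of_mul_eq_mul_right hp.out.pos h1
    have hc := iterRange_ne_bot _ (h.nilpotent hS hx hn) hK hkidx (m - 1) (by omega) le_rfl
    have e : m - 1 + 1 - (m - 1) = 1 := by omega
    rw [e, pow_one] at hc
    have hI : iterRange (nHom A x hn) (m - 2) ≤ (nHom A x hn).ker := by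
      intro r hr
      rw [hker, Subgroup.mem_subgroupOf]
      apply hle
      exact h.iterRange_map_le hx hn (m - 2) ⟨r, hr, rfl⟩
    have hm2 : m - 1 = (m - 2) + 1 := by omega
    rw [hm2, iterRange_succ, (Subgroup.map_eq_bot_iff _).2 hI, Subgroup.card_bot] at hc
    exact hp.out.one_lt.ne hc
  · refine ⟨x, hx, hxA, ?_⟩
    have hsup := h.eq_sup hS hE hxP hxA
    rcases h.subgroupOf_eq hS hE hxP hxA hn with he | he
    · left
      have h2 := congrArg (Subgroup.map A.subtype) he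
      rw [Subgroup.subgroupOf_map_subtype, h.map_ker hx hxA hn] at h2
      rw [← h2]; exact hsup.symm
    · right
      rw [← h.z2S_subgroupOf hx hxA hn] at he
      have h2 := congrArg (Subgroup.map A.subtype) he
      rw [Subgroup.subgroupOf_map_subtype, Subgroup.subgroupOf_map_subtype,
        inf_eq_left.2 hz2] at h2
      rw [← h2]; exact hsup.symm

end AbIdx

end Cfsg.Agent.Helper87
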