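import Mathlib
import Cfsg.Agent.Lib.Helper11.ZJ5

set_option autoImplicit false
set_option linter.style.haveILetI false
set_option linter.unusedSectionVars false
set_option linter.unusedVariables false

/-! # An axiomatic version of Glauberman's ZJ-theorem

A family `𝒜` of abelian subgroups of a Sylow `p`-subgroup `S` of a finite group `G`, with the
invariance and replacement properties; `II 𝒜 Q` is the intersection of the members contained in `Q`.
If `G` acts `p`-stably on its normal `p`-subgroups and `C_G(O_p(G)) ≤ O_p(G)`, then `II 𝒜 S` is normal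
in `G`.  The proof is Glauberman's, as in `Cfsg.Agent.Helper11.ZJ.W_inf_normal` (helper11), with the
family of largest abelian subgroups replaced by the axiomatic family. -/

namespace Cfsg.Agent.Helper87.AxZJ

open Cfsg Cfsg.Agent.Helper11.ZJ
open scoped commutatorElement

variable {G : Type*} [Group G]

/-- the intersection of the members of the family contained in `Q` -/
def II (𝒜 : Set (Subgroup G)) (Q : Subgroup G) : Subgroup G := sInf {A | A ∈ 𝒜 ∧ A ≤ Q}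

theorem mem_II {𝒜 : Set (Subgroup G)} {Q : Subgroup G} {x : G} :
    x ∈ II 𝒜 Q ↔ ∀ A ∈ 𝒜, A ≤ Q → x ∈ A := by
  unfold II
  rw [Subgroup.mem_sInf]
  constructor
  · intro h A hA hAQ
    exact h A ⟨hA, hAQ⟩
  · rintro h A ⟨hA, hAQ⟩
    exact h A hA hAQ

theorem II_le_of_mem {𝒜 : Set (Subgroup G)} {Q A : Subgroup G} (hA : A ∈ 𝒜) (hAQ : A ≤ Q) :
    II 𝒜 Q ≤ A := fun _ hx => mem_II.1 hx A hA hAQ

theorem II_anti {𝒜 : Set (Subgroup G)} {Q Q' : Subgroup G} (h : Q ≤ Q') : II 𝒜 Q' ≤ II 𝒜 Q := by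
  intro x hx
  rw [mem_II] at hx ⊢
  intro A hA hAQ
  exact hx A hA (hAQ.trans h)

/-- the axioms on the family, relative to the subgroup `S` -/
structure Ax (𝒜 : Set (Subgroup G)) (S : Subgroup G) : Prop where
  le : ∀ A ∈ 𝒜, A ≤ S
  comm : ∀ A ∈ 𝒜, ∀ x ∈ A, ∀ y ∈ A, x * y = y * x
  ne : 𝒜.Nonempty
  inv : ∀ Q : Subgroup G, Q ≤ S → (∃ A ∈ 𝒜, A ≤ Q) → ∀ g : G,
    g ∈ Subgroup.normalizer (Q : Set G) → ∀ x ∈ II 𝒜 Q, g * x * g⁻¹ ∈ II 𝒜 Q
  rep : ∀ B : Subgroup G, B ≤ S → ⁅⁅B, B⁆, B⁆ = ⊥ → (∃ A ∈ 𝒜, ⁅B, B⁆ ≤ A ∧ ¬ B ≤ A) →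
    ∃ A ∈ 𝒜, ⁅B, B⁆ ≤ A ∧ ¬ B ≤ A ∧ B ≤ Subgroup.normalizer (A : Set G)

variable {𝒜 : Set (Subgroup G)} {S : Subgroup G}

theorem Ax.II_le (h : Ax 𝒜 S) : II 𝒜 S ≤ S := by
  obtain ⟨A, hA⟩ := h.ne
  exact (II_le_of_mem hA (h.le A hA)).trans (h.le A hA)

theorem Ax.II_comm (h : Ax 𝒜 S) {Q : Subgroup G} (hQ : ∃ A ∈ 𝒜, A ≤ Q) {x y : G}
    (hx : x ∈ II 𝒜 Q) (hy : y ∈ II 𝒜 Q) : x * y = y * x := by
  obtain ⟨A, hA, hAQ⟩ := hQ
  exact h.comm A hA x (II_le_of_mem hA hAQ hx) y (II_le_of_mem hA hAQ hy)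

theorem Ax.normalizer_le (h : Ax 𝒜 S) {Q : Subgroup G} (hQS : Q ≤ S) (hQ : ∃ A ∈ 𝒜, A ≤ Q) :
    Subgroup.normalizer (Q : Set G) ≤ Subgroup.normalizer ((II 𝒜 Q : Subgroup G) : Set G) := by
  intro g hg
  rw [Subgroup.mem_normalizer_iff]
  intro x
  constructor
  · exact h.inv Q hQS hQ g hg x
  · intro hx
    have := h.inv Q hQS hQ g⁻¹ (Subgroup.inv_mem _ hg) _ hx
    have e : g⁻¹ * (g * x * g⁻¹) * g⁻¹⁻¹ = x := by group
    rwa [e] at this

theorem Ax.le_normalizer (h : Ax 𝒜 S) : S ≤ Subgroup.normalizer ((II 𝒜 S : Subgroup G) : Set G) := by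
  obtain ⟨A, hA⟩ := h.ne
  exact Subgroup.le_normalizer.trans (h.normalizer_le le_rfl ⟨A, hA, h.le A hA⟩)

/-- Main induction: `II 𝒜 S ∩ B` is normal in `G` for every normal `p`-subgroup `B`. -/
theorem II_inf_normal [Finite G] {p : ℕ} [Fact p.Prime] (T : Sylow p G)
    (hA : Ax 𝒜 (T : Subgroup G))
    (hst : ∀ (V : Subgroup G) [V.Normal], IsPGroup p V → IsPStableOn p V) :
    ∀ n : ℕ, ∀ B : Subgroup G, B.Normal → IsPGroup p B → Nat.card B = n →
      (II 𝒜 (T : Subgroup G) ⊓ B).Normal := by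
  intro n
  induction n using Nat.strong_induction_on with
  | _ n ih =>
  intro B hBn hBp hcard
  by_contra hnot
  haveI := hBn
  have hBP : B ≤ (T : Subgroup G) := hBp.le_sylow_of_normal T
  -- `B` is the normal closure of `Z₁ = Z ∩ B`
  have hB0 : Subgroup.normalClosure ((II 𝒜 (T : Subgroup G) ⊓ B : Subgroup G) : Set G) = B := by
    by_contra hne
    have hle : Subgroup.normalClosure ((II 𝒜 (T : Subgroup G) ⊓ B : Subgroup G) : Set G) ≤ B :=
      Subgroup.normalClosure_le_normal inf_le_right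
    have hlt := card_lt_of_lt' (lt_of_le_of_ne hle hne)
    have h1 := ih _ (hcard ▸ hlt) _ Subgroup.normalClosure_normal (hBp.to_le hle) rfl
    have heq : II 𝒜 (T : Subgroup G) ⊓
        Subgroup.normalClosure ((II 𝒜 (T : Subgroup G) ⊓ B : Subgroup G) : Set G) =
        II 𝒜 (T : Subgroup G) ⊓ B :=
      le_antisymm (inf_le_inf_left _ hle) (le_inf inf_le_left Subgroup.subset_normalClosure)
    rw [heq] at h1
    exact hnot h1
  -- `B` is nontrivial
  have hBne : B ≠ ⊥ := by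
    intro h
    apply hnot
    rw [h, inf_bot_eq]
    infer_instance
  -- the derived subgroup
  have hB'lt : ⁅B, B⁆ < B :=
    lt_of_le_of_ne (Subgroup.commutator_le_right B B) (commutator_ne_self hBp hBne)
  have hYn : (II 𝒜 (T : Subgroup G) ⊓ ⁅B, B⁆).Normal :=
    ih _ (hcard ▸ card_lt_of_lt' hB'lt) _ inferInstance (hBp.to_le (le_of_lt hB'lt)) rfl
  haveI := hYn
  have h1 : ⁅II 𝒜 (T : Subgroup G) ⊓ B, B⁆ ≤ II 𝒜 (T : Subgroup G) ⊓ ⁅B, B⁆ := by
    rw [Subgroup.commutator_le]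
    intro z hz b hb
    refine ⟨?_, Subgroup.commutator_mem_commutator hz.2 hb⟩
    have hbN := hA.le_normalizer (hBP hb)
    have h1 : b * z⁻¹ * b⁻¹ ∈ II 𝒜 (T : Subgroup G) :=
      (Subgroup.mem_normalizer_iff.mp hbN z⁻¹).mp (inv_mem hz.1)
    have : ⁅z, b⁆ = z * (b * z⁻¹ * b⁻¹) := by rw [commutatorElement_def]; group
    rw [this]; exact mul_mem hz.1 h1
  have h2 := commutator_normalClosure_le h1
  rw [hB0] at h2
  have hB'W : ⁅B, B⁆ ≤ II 𝒜 (T : Subgroup G) := h2.trans inf_le_left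
  -- `B` has class at most two
  have hcl : ⁅⁅B, B⁆, B⁆ = ⊥ := by
    have hT : ∃ A ∈ 𝒜, A ≤ (T : Subgroup G) := by
      obtain ⟨A, hA'⟩ := hA.ne
      exact ⟨A, hA', hA.le A hA'⟩
    have h3 : ⁅II 𝒜 (T : Subgroup G) ⊓ B, ⁅B, B⁆⁆ ≤ (⊥ : Subgroup G) := by
      rw [Subgroup.commutator_le]
      intro z hz c hc
      rw [Subgroup.mem_bot, commutatorElement_def, hA.II_comm hT hz.1 (hB'W hc)]
      group
    have h4 := commutator_normalClosure_le (Y := (⊥ : Subgroup G)) h3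
    rw [hB0] at h4
    rw [eq_bot_iff, Subgroup.commutator_comm]
    exact h4
  -- `B` is not inside `Z`
  have hBW : ¬ B ≤ II 𝒜 (T : Subgroup G) := by
    intro h
    apply hnot
    rw [inf_eq_right.mpr h]
    exact hBn
  obtain ⟨U, hU, hnU⟩ : ∃ U ∈ 𝒜, ¬ B ≤ U := by
    by_contra hcon
    push Not at hcon
    apply hBW
    intro b hb
    rw [mem_II]
    intro A hA' _
    exact hcon A hA' hb
  obtain ⟨A, hAm, hBA, hnBA, hBNA⟩ :=
    hA.rep B hBP hcl ⟨U, hU, hB'W.trans (II_le_of_mem hU (hA.le U hU)), hnU⟩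
  -- `A` acts quadratically on `B`
  have hquad : ⁅⁅B, A⁆, A⁆ = ⊥ := by
    have h3 : ⁅B, A⁆ ≤ A := by
      rw [Subgroup.commutator_le]
      intro b hb a ha
      have h4 : b * a * b⁻¹ ∈ A := (Subgroup.mem_normalizer_iff.mp (hBNA hb) a).mp ha
      have : ⁅b, a⁆ = b * a * b⁻¹ * a⁻¹ := commutatorElement_def b a
      rw [this]
      exact A.mul_mem h4 (A.inv_mem ha)
    rw [eq_bot_iff]
    refine (Subgroup.commutator_mono h3 le_rfl).trans ?_
    rw [Subgroup.commutator_le]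
    intro x hx y hy
    have hc := hA.comm A hAm x hx y hy
    rw [Subgroup.mem_bot, commutatorElement_def, hc]
    group
  have hAL : A ≤ stabL p B := le_stabL_of_quadratic B (hst B hBp) A hquad
  have hAP1 : A ≤ (T : Subgroup G) ⊓ stabL p B := le_inf (hA.le A hAm) hAL
  have hW1 : II 𝒜 (T : Subgroup G) ≤ II 𝒜 ((T : Subgroup G) ⊓ stabL p B) :=
    II_anti inf_le_left
  have hXn : (II 𝒜 ((T : Subgroup G) ⊓ stabL p B) ⊓ B).Normal := by
    have htop := normalizer_sup_centralizer_eq_top T B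
    have hN1 : Subgroup.normalizer ((((T : Subgroup G) ⊓ stabL p B : Subgroup G)) : Set G) ≤
        Subgroup.normalizer ((II 𝒜 ((T : Subgroup G) ⊓ stabL p B) ⊓ B : Subgroup G) : Set G) := by
      intro g hg
      have hg1 := hA.normalizer_le inf_le_left ⟨A, hAm, hAP1⟩ hg
      rw [Subgroup.mem_normalizer_iff] at hg1 ⊢
      intro x
      constructor
      · rintro ⟨hx1, hx2⟩
        exact ⟨(hg1 x).1 hx1, hBn.conj_mem x hx2 g⟩
      · rintro ⟨hx1, hx2⟩
        refine ⟨(hg1 x).2 hx1, ?_⟩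
        have := hBn.conj_mem _ hx2 g⁻¹
        have e : g⁻¹ * (g * x * g⁻¹) * g⁻¹⁻¹ = x := by group
        rwa [e] at this
    have hN2 : Subgroup.centralizer (B : Set G) ≤
        Subgroup.normalizer ((II 𝒜 ((T : Subgroup G) ⊓ stabL p B) ⊓ B : Subgroup G) : Set G) := by
      intro c hc
      rw [Subgroup.mem_normalizer_iff]
      intro x
      have hcomm : ∀ b ∈ B, c * b * c⁻¹ = b := by
        intro b hb
        have := Subgroup.mem_centralizer_iff.1 hc b hb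
        rw [← this]; group
      constructor
      · rintro ⟨hx1, hx2⟩
        rw [hcomm x hx2]
        exact ⟨hx1, hx2⟩
      · rintro ⟨hx1, hx2⟩
        have hxB : x ∈ B := by
          have := hBn.conj_mem _ hx2 c⁻¹
          have e : c⁻¹ * (c * x * c⁻¹) * c⁻¹⁻¹ = x := by group
          rwa [e] at this
        rw [hcomm x hxB] at hx1
        exact ⟨hx1, hxB⟩
    have hall : Subgroup.normalizer
        ((II 𝒜 ((T : Subgroup G) ⊓ stabL p B) ⊓ B : Subgroup G) : Set G) = ⊤ := by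
      rw [eq_top_iff, ← htop]
      exact sup_le hN1 hN2
    exact Subgroup.normalizer_eq_top_iff.mp hall
  have hXlt : II 𝒜 ((T : Subgroup G) ⊓ stabL p B) ⊓ B < B := by
    refine lt_of_le_of_ne inf_le_right ?_
    intro heq
    apply hnBA
    have : B ≤ II 𝒜 ((T : Subgroup G) ⊓ stabL p B) := inf_eq_right.mp heq
    exact this.trans (II_le_of_mem hAm hAP1)
  have h5 := ih _ (hcard ▸ card_lt_of_lt' hXlt) _ hXn (hBp.to_le (le_of_lt hXlt)) rfl
  have heq : II 𝒜 (T : Subgroup G) ⊓ (II 𝒜 ((T : Subgroup G) ⊓ stabL p B) ⊓ B) =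
      II 𝒜 (T : Subgroup G) ⊓ B := by
    rw [← inf_assoc, inf_eq_left.mpr hW1]
  rw [heq] at h5
  exact hnot h5

/-- `II 𝒜 S` is normal in `G`. -/
theorem II_normal [Finite G] {p : ℕ} [Fact p.Prime] (T : Sylow p G)
    (hA : Ax 𝒜 (T : Subgroup G))
    (hc : Subgroup.centralizer (pCore p G : Set G) ≤ pCore p G)
    (hst : ∀ (V : Subgroup G) [V.Normal], IsPGroup p V → IsPStableOn p V) :
    (II 𝒜 (T : Subgroup G)).Normal := by
  haveI hQn := pCore_normal' p G
  have hQp : IsPGroup p (pCore p G) := isPGroup_pCore'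
  have hQS : pCore p G ≤ (T : Subgroup G) := pCore_le_sylow' T
  have hT : ∃ A ∈ 𝒜, A ≤ (T : Subgroup G) := by
    obtain ⟨A, hA'⟩ := hA.ne
    exact ⟨A, hA', hA.le A hA'⟩
  have hquad : ⁅⁅pCore p G, II 𝒜 (T : Subgroup G)⁆, II 𝒜 (T : Subgroup G)⁆ = ⊥ := by
    have h3 : ⁅pCore p G, II 𝒜 (T : Subgroup G)⁆ ≤ II 𝒜 (T : Subgroup G) := by
      rw [Subgroup.commutator_le]
      intro b hb a ha
      have hbN := hA.le_normalizer (hQS hb)
      have h4 : b * a * b⁻¹ ∈ II 𝒜 (T : Subgroup G) :=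
        (Subgroup.mem_normalizer_iff.mp hbN a).mp ha
      have : ⁅b, a⁆ = b * a * b⁻¹ * a⁻¹ := commutatorElement_def b a
      rw [this]
      exact Subgroup.mul_mem _ h4 (Subgroup.inv_mem _ ha)
    rw [eq_bot_iff]
    refine (Subgroup.commutator_mono h3 le_rfl).trans ?_
    rw [Subgroup.commutator_le]
    intro x hx y hy
    have hc' := hA.II_comm hT hx hy
    rw [Subgroup.mem_bot, commutatorElement_def, hc']
    group
  have hWL := le_stabL_of_quadratic (pCore p G) (hst (pCore p G) hQp) _ hquad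
  have hLp : IsPGroup p (stabL p (pCore p G)) := isPGroup_stabL (pCore p G) (hQp.to_le hc)
  have hLQ : stabL p (pCore p G) ≤ pCore p G := le_pCore' (stabL_normal p (pCore p G)) hLp
  have h5 := II_inf_normal T hA hst _ (pCore p G) hQn hQp rfl
  rw [inf_eq_left.mpr (hWL.trans hLQ)] at h5
  exact h5

end Cfsg.Agent.Helper87.AxZJ
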