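import Mathlib
import Cfsg.Agent.Lib.Helper87.AxZJ
import Cfsg.Agent.Lib.Helper11.ConfigStable2
import Cfsg.Agent.Lib.Helper11.ZJ9

set_option autoImplicit false
set_option linter.style.haveILetI false
set_option linter.unusedSectionVars false
set_option linter.unusedVariables false

/-! # An axiomatic Glauberman–Thompson criterion for groups of characteristic `p`

Let `X` be a finite group with `C_X(O_p(X)) ≤ O_p(X)`, `p` odd, `T` a Sylow `p`-subgroup and `𝒜` a
family of abelian subgroups of `T` with the invariance and replacement properties.  If the normalizer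
of `II 𝒜 T` is `T`, then `X = T`. -/

namespace Cfsg.Agent.Helper87.AxGT

open Cfsg Cfsg.Agent.Helper11.ZJ Cfsg.Agent.Helper31.GT Cfsg.Agent.Helper87.AxZJ
open scoped commutatorElement

universe u

/-! ### passing to a subgroup containing the Sylow subgroup -/

section Sub

variable {X : Type u} [Group X] (M : Subgroup X)

/-- the family inside the subgroup `M` -/
def subFam (𝒜 : Set (Subgroup X)) : Set (Subgroup ↥M) :=
  {A' | ∃ A ∈ 𝒜, A' = A.subgroupOf M}

variable {M}

theorem mem_II_sub {𝒜 : Set (Subgroup X)} {T : Subgroup X} (hT : T ≤ M)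
    (hle : ∀ A ∈ 𝒜, A ≤ T) {Q' : Subgroup ↥M} {x : ↥M} :
    x ∈ II (subFam M 𝒜) Q' ↔ (x : X) ∈ II 𝒜 (Q'.map M.subtype) := by
  rw [mem_II, mem_II]
  constructor
  · intro h A hA hAQ
    have h1 : A.subgroupOf M ≤ Q' := by
      intro y hy
      obtain ⟨z, hz, hzy⟩ := hAQ (Subgroup.mem_subgroupOf.1 hy)
      have : z = y := Subtype.ext hzy
      exact this ▸ hz
    exact Subgroup.mem_subgroupOf.1 (h _ ⟨A, hA, rfl⟩ h1)
  · rintro h A' ⟨A, hA, rfl⟩ hAQ
    apply Subgroup.mem_subgroupOf.2
    apply h A hA
    intro a ha
    have haM : a ∈ M := hT (hle A hA ha)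
    exact ⟨⟨a, haM⟩, hAQ (Subgroup.mem_subgroupOf.2 ha), rfl⟩

theorem coe_mem_normalizer_map [Finite X] {Q' : Subgroup ↥M} {g : ↥M}
    (hg : g ∈ Subgroup.normalizer (Q' : Set ↥M)) :
    (g : X) ∈ Subgroup.normalizer ((Q'.map M.subtype : Subgroup X) : Set X) := by
  haveI : Finite ((Q'.map M.subtype : Subgroup X) : Set X) :=
    Finite.of_injective (fun y : ((Q'.map M.subtype : Subgroup X) : Set X) => (y : X))
      Subtype.val_injective
  apply Subgroup.mem_normalizer_fintype
  rintro _ ⟨y, hy, rfl⟩
  exact ⟨g * y * g⁻¹, (Subgroup.mem_normalizer_iff.1 hg y).1 hy, rfl⟩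

theorem map_commutator_subtype (A B : Subgroup ↥M) :
    (⁅A, B⁆).map M.subtype = ⁅A.map M.subtype, B.map M.subtype⁆ :=
  Subgroup.map_commutator A B M.subtype

/-- the axioms pass to a subgroup containing `T` -/
theorem ax_sub [Finite X] {𝒜 : Set (Subgroup X)} {T : Subgroup X} (hA : Ax 𝒜 T) (hT : T ≤ M) :
    Ax (subFam M 𝒜) (T.subgroupOf M) := by
  have hmapT : (T.subgroupOf M).map M.subtype = T := by
    rw [Subgroup.subgroupOf_map_subtype]; exact inf_eq_left.2 hT
  refine ⟨?_, ?_, ?_, ?_, ?_⟩
  · rintro A' ⟨A, hA', rfl⟩ x hx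
    exact Subgroup.mem_subgroupOf.2 (hA.le A hA' (Subgroup.mem_subgroupOf.1 hx))
  · rintro A' ⟨A, hA', rfl⟩ x hx y hy
    apply Subtype.ext
    exact hA.comm A hA' x (Subgroup.mem_subgroupOf.1 hx) y (Subgroup.mem_subgroupOf.1 hy)
  · obtain ⟨A, hA'⟩ := hA.ne
    exact ⟨_, A, hA', rfl⟩
  · rintro Q' hQ' ⟨A', ⟨A, hA', rfl⟩, hAQ⟩ g hg x hx
    have hQS : Q'.map M.subtype ≤ T := by
      rw [← hmapT]; exact Subgroup.map_mono hQ'
    have hAQ' : A ≤ Q'.map M.subtype := by
      intro a ha
      have haM : a ∈ M := hT (hA.le A hA' ha)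
      exact ⟨⟨a, haM⟩, hAQ (Subgroup.mem_subgroupOf.2 ha), rfl⟩
    rw [mem_II_sub hT hA.le] at hx ⊢
    exact hA.inv _ hQS ⟨A, hA', hAQ'⟩ g (coe_mem_normalizer_map hg) x hx
  · rintro B' hB' hcl ⟨A', ⟨A, hA', rfl⟩, hBA, hnBA⟩
    have hBS : B'.map M.subtype ≤ T := by
      rw [← hmapT]; exact Subgroup.map_mono hB'
    have hcl' : ⁅⁅B'.map M.subtype, B'.map M.subtype⁆, B'.map M.subtype⁆ = ⊥ := by
      rw [← map_commutator_subtype, ← map_commutator_subtype, hcl, Subgroup.map_bot]
    have hBA' : ⁅B'.map M.subtype, B'.map M.subtype⁆ ≤ A := by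
      rw [← map_commutator_subtype]
      rintro _ ⟨y, hy, rfl⟩
      exact Subgroup.mem_subgroupOf.1 (hBA hy)
    have hnBA' : ¬ B'.map M.subtype ≤ A := by
      intro h
      apply hnBA
      intro b hb
      exact Subgroup.mem_subgroupOf.2 (h ⟨b, hb, rfl⟩)
    obtain ⟨A₂, hA₂, h1, h2, h3⟩ := hA.rep _ hBS hcl' ⟨A, hA', hBA', hnBA'⟩
    refine ⟨A₂.subgroupOf M, ⟨A₂, hA₂, rfl⟩, ?_, ?_, ?_⟩
    · intro y hy
      apply Subgroup.mem_subgroupOf.2
      apply h1
      rw [← map_commutator_subtype]
      exact ⟨y, hy, rfl⟩
    · intro h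
      apply h2
      rintro _ ⟨b, hb, rfl⟩
      exact Subgroup.mem_subgroupOf.1 (h hb)
    · intro b hb
      have hbN : (b : X) ∈ Subgroup.normalizer (A₂ : Set X) := h3 ⟨b, hb, rfl⟩
      rw [Subgroup.mem_normalizer_iff] at hbN ⊢
      intro y
      constructor
      · intro hy
        exact Subgroup.mem_subgroupOf.2 ((hbN y).1 (Subgroup.mem_subgroupOf.1 hy))
      · intro hy
        exact Subgroup.mem_subgroupOf.2 ((hbN y).2 (Subgroup.mem_subgroupOf.1 hy))

end Sub

/-! ### the theorem -/

theorem hnpc_of_isPGroup {Y : Type u} [Group Y] [Finite Y] {p : ℕ} [Fact p.Prime]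
    (hY : IsPGroup p Y) : HasNormalPComplement p Y := by
  rw [hnpc_iff]
  obtain ⟨k, hk⟩ := IsPGroup.iff_card.mp hY
  refine ⟨⊥, inferInstance, ?_, k, ?_⟩
  · rw [Subgroup.card_bot]; exact Nat.coprime_one_left p
  · rw [Subgroup.index_bot, hk]

theorem main {p : ℕ} [Fact p.Prime] (hp2 : p ≠ 2) :
    ∀ n : ℕ, ∀ (X : Type u) [Group X] [Finite X], Nat.card X = n →
      ∀ (T : Sylow p X) (𝒜 : Set (Subgroup X)), Ax 𝒜 (T : Subgroup X) →
      Subgroup.centralizer (pCore p X : Set X) ≤ pCore p X →
      (∀ g : X, g ∈ Subgroup.normalizer ((II 𝒜 (T : Subgroup X) : Subgroup X) : Set X) →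
        g ∈ (T : Subgroup X)) →
      (T : Subgroup X) = ⊤ := by
  intro n
  induction n using Nat.strong_induction_on with
  | _ n ih =>
  intro X _ _ hn T 𝒜 hA hc hN
  have hTmem : ∃ A ∈ 𝒜, A ≤ (T : Subgroup X) := by
    obtain ⟨A, hA'⟩ := hA.ne
    exact ⟨A, hA', hA.le A hA'⟩
  by_cases hmid : ∃ M : Subgroup X, (T : Subgroup X) < M ∧ M < ⊤
  · -- a proper overgroup of `T`
    exfalso
    obtain ⟨M, hTM, hMtop⟩ := hmid
    have hTM' : (T : Subgroup X) ≤ M := le_of_lt hTM
    have hcard : Nat.card M < n := by
      have := card_lt_of_lt' hMtop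
      rwa [Subgroup.card_top, hn] at this
    have hmapT : ((T : Subgroup X).subgroupOf M).map M.subtype = (T : Subgroup X) := by
      rw [Subgroup.subgroupOf_map_subtype]; exact inf_eq_left.2 hTM'
    have hcoe : ((T.subtype hTM' : Sylow p ↥M) : Subgroup ↥M) = (T : Subgroup X).subgroupOf M :=
      Sylow.coe_subtype T hTM'
    -- the centralizer condition
    have hcM : Subgroup.centralizer (pCore p ↥M : Set ↥M) ≤ pCore p ↥M := by
      haveI := pCore_normal' p X
      have hRT : pCore p X ≤ (T : Subgroup X) := pCore_le_sylow' T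
      have hR'n : ((pCore p X).subgroupOf M).Normal := inferInstance
      have hR'p : IsPGroup p ((pCore p X).subgroupOf M) :=
        (isPGroup_pCore' (p := p) (G := X)).comap_subtype
      have hR' : (pCore p X).subgroupOf M ≤ pCore p ↥M := le_pCore' hR'n hR'p
      intro c hc'
      apply hR'
      apply Subgroup.mem_subgroupOf.2
      apply hc
      rw [Subgroup.mem_centralizer_iff]
      intro r hr
      have hrM : r ∈ M := hTM' (hRT hr)
      have h1 := Subgroup.mem_centralizer_iff.1 hc' ⟨r, hrM⟩
        (hR' (Subgroup.mem_subgroupOf.2 hr))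
      exact congrArg Subtype.val h1
    -- the normalizer condition
    have hNM : ∀ g : ↥M, g ∈ Subgroup.normalizer
        ((II (subFam M 𝒜) ((T.subtype hTM' : Sylow p ↥M) : Subgroup ↥M) : Subgroup ↥M) : Set ↥M) →
        g ∈ ((T.subtype hTM' : Sylow p ↥M) : Subgroup ↥M) := by
      intro g hg
      rw [hcoe] at hg ⊢
      apply Subgroup.mem_subgroupOf.2
      apply hN
      haveI : Finite ((II 𝒜 (T : Subgroup X) : Subgroup X) : Set X) :=
        Finite.of_injective (fun y : ((II 𝒜 (T : Subgroup X) : Subgroup X) : Set X) => (y : X))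
          Subtype.val_injective
      apply Subgroup.mem_normalizer_fintype
      intro x hx
      have hxM : x ∈ M := hTM' (hA.II_le hx)
      have hx' : (⟨x, hxM⟩ : ↥M) ∈ II (subFam M 𝒜) ((T : Subgroup X).subgroupOf M) := by
        rw [mem_II_sub hTM' hA.le, hmapT]
        exact hx
      have h1 := (Subgroup.mem_normalizer_iff.1 hg _).1 hx'
      rw [mem_II_sub hTM' hA.le, hmapT] at h1
      exact h1
    have hAM : Ax (subFam M 𝒜) ((T.subtype hTM' : Sylow p ↥M) : Subgroup ↥M) := by
      rw [hcoe]; exact ax_sub hA hTM'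
    have htop := ih (Nat.card M) hcard ↥M rfl (T.subtype hTM') (subFam M 𝒜) hAM hcM hNM
    apply not_le_of_gt hTM
    intro m hm
    have : (⟨m, hm⟩ : ↥M) ∈ ((T.subtype hTM' : Sylow p ↥M) : Subgroup ↥M) := by
      rw [htop]; exact Subgroup.mem_top _
    rw [hcoe] at this
    exact Subgroup.mem_subgroupOf.1 this
  · by_cases hTtop : (T : Subgroup X) = ⊤
    · exact hTtop
    · -- `T` is a maximal subgroup
      have hcoat : IsCoatom (T : Subgroup X) := by
        refine ⟨hTtop, fun M hM => ?_⟩
        by_contra hne
        exact hmid ⟨M, hM, lt_top_iff_ne_top.2 hne⟩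
      by_cases hTn : (T : Subgroup X).Normal
      · -- `T` normal: its normalizer is everything
        rw [eq_top_iff]
        intro g _
        apply hN
        apply hA.normalizer_le le_rfl hTmem
        rw [Subgroup.normalizer_eq_top_iff.2 hTn]
        exact Subgroup.mem_top g
      · -- the quotient by `O_p(X)` has a normal `p`-complement
        haveI hHn : (pCore p X).Normal := pCore_normal' p X
        have hHT : pCore p X ≤ (T : Subgroup X) := pCore_le_sylow' T
        have hsurj : Function.Surjective (QuotientGroup.mk' (pCore p X)) :=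
          QuotientGroup.mk'_surjective _
        have hquot : HasNormalPComplement p (X ⧸ pCore p X) := by
          apply glauberman_thompson hp2 (T.mapSurjective hsurj)
          have hTbar : ((T.mapSurjective hsurj : Sylow p (X ⧸ pCore p X)) :
              Subgroup (X ⧸ pCore p X)) = (T : Subgroup X).map (QuotientGroup.mk' (pCore p X)) :=
            Sylow.coe_mapSurjective hsurj T
          rw [hTbar]
          have hle : (T : Subgroup X).map (QuotientGroup.mk' (pCore p X)) ≤
              Subgroup.normalizer
                ((ZJ ((T : Subgroup X).map (QuotientGroup.mk' (pCore p X))) :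
                  Subgroup (X ⧸ pCore p X)) : Set (X ⧸ pCore p X)) :=
            le_normalizer_W goodAx_comm _
          have hTN : (T : Subgroup X) ≤ (Subgroup.normalizer
                ((ZJ ((T : Subgroup X).map (QuotientGroup.mk' (pCore p X))) :
                  Subgroup (X ⧸ pCore p X)) : Set (X ⧸ pCore p X))).comap
                (QuotientGroup.mk' (pCore p X)) := by
            intro t ht
            exact hle ⟨t, ht, rfl⟩
          have hTbarp : IsPGroup p ((T : Subgroup X).map (QuotientGroup.mk' (pCore p X))) :=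
            T.isPGroup'.map _
          rcases eq_or_lt_of_le hTN with heq | hlt
          · -- the normalizer is the image of `T`
            have hNeq : Subgroup.normalizer
                ((ZJ ((T : Subgroup X).map (QuotientGroup.mk' (pCore p X))) :
                  Subgroup (X ⧸ pCore p X)) : Set (X ⧸ pCore p X)) =
                (T : Subgroup X).map (QuotientGroup.mk' (pCore p X)) := by
              have h0 := congrArg (Subgroup.map (QuotientGroup.mk' (pCore p X))) heq
              rw [Subgroup.map_comap_eq_self_of_surjective hsurj] at h0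
              exact h0.symm
            rw [hNeq]
            exact hnpc_of_isPGroup hTbarp
          · -- the normalizer is everything: impossible
            exfalso
            have htop := hcoat.2 _ hlt
            have hZn : (ZJ ((T : Subgroup X).map (QuotientGroup.mk' (pCore p X)))).Normal := by
              apply Subgroup.normalizer_eq_top_iff.1
              rw [eq_top_iff]
              intro y _
              obtain ⟨x, rfl⟩ := hsurj y
              have : x ∈ (Subgroup.normalizer
                ((ZJ ((T : Subgroup X).map (QuotientGroup.mk' (pCore p X))) :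
                  Subgroup (X ⧸ pCore p X)) : Set (X ⧸ pCore p X))).comap
                (QuotientGroup.mk' (pCore p X)) := by rw [htop]; exact Subgroup.mem_top x
              exact this
            have hZle : ZJ ((T : Subgroup X).map (QuotientGroup.mk' (pCore p X))) ≤
                (T : Subgroup X).map (QuotientGroup.mk' (pCore p X)) := W_le goodAx_comm _
            have hZp : IsPGroup p (ZJ ((T : Subgroup X).map (QuotientGroup.mk' (pCore p X)))) :=
              hTbarp.to_le hZle
            have hker : IsPGroup p (QuotientGroup.mk' (pCore p X)).ker := by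
              rw [QuotientGroup.ker_mk']; exact isPGroup_pCore'
            have h1 : IsPGroup p ↥((ZJ ((T : Subgroup X).map
                (QuotientGroup.mk' (pCore p X)))).comap (QuotientGroup.mk' (pCore p X))) :=
              IsPGroup.comap_of_ker_isPGroup hZp _ hker
            have h2 : ((ZJ ((T : Subgroup X).map
                (QuotientGroup.mk' (pCore p X)))).comap (QuotientGroup.mk' (pCore p X))).Normal :=
              hZn.comap _
            have h3 := le_pCore' h2 h1
            have hZbot : ZJ ((T : Subgroup X).map (QuotientGroup.mk' (pCore p X))) = ⊥ := by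
              rw [eq_bot_iff]
              intro y hy
              obtain ⟨x, rfl⟩ := hsurj y
              have hx : x ∈ pCore p X := h3 hy
              rw [Subgroup.mem_bot]
              exact (QuotientGroup.eq_one_iff x).2 hx
            have hTbot : (T : Subgroup X).map (QuotientGroup.mk' (pCore p X)) = ⊥ := by
              by_contra hne
              exact ZJ_ne_bot hTbarp hne hZbot
            apply hTn
            have hTH : (T : Subgroup X) = pCore p X := by
              apply le_antisymm _ hHT
              intro t ht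
              have : QuotientGroup.mk' (pCore p X) t ∈
                  (T : Subgroup X).map (QuotientGroup.mk' (pCore p X)) := ⟨t, ht, rfl⟩
              rw [hTbot, Subgroup.mem_bot] at this
              exact (QuotientGroup.eq_one_iff t).1 this
            rw [hTH]
            exact hHn
        obtain ⟨K, m, cfg⟩ := Cfsg.Agent.Helper31.GTG.exists_config hquot T hcoat
        have hst : ∀ (V : Subgroup X) [V.Normal], IsPGroup p V → IsPStableOn p V :=
          fun V _ hVp => Cfsg.Agent.Helper11.CfgSt.isPStableOn_of_config hp2 cfg V hVp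
        have hZn : (II 𝒜 (T : Subgroup X)).Normal := II_normal T hA hc hst
        rw [eq_top_iff]
        intro g _
        apply hN
        rw [Subgroup.normalizer_eq_top_iff.2 hZn]
        exact Subgroup.mem_top g

end Cfsg.Agent.Helper87.AxGT
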