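import Mathlib
import Cfsg.Agent.Lib.Helper87.AxGT
import Cfsg.Agent.Lib.Helper87.ModelExists
import Cfsg.Agent.Lib.Helper87.FusionInner
import Cfsg.Agent.Lib.Helper87.FusionNormalizerSys
import Cfsg.Agent.Lib.Helper85.NormalizerModel
import Cfsg.Agent.S5332
import Cfsg.Agent.S5096

set_option autoImplicit false
set_option linter.style.haveILetI false
set_option linter.unusedSectionVars false
set_option linter.unusedVariables false

/-! # The axiomatic Glauberman–Thompson criterion for fusion systems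

A saturated fusion system `F` over `S`, `p` odd, and a family `𝒜` of abelian subgroups of `S` with the
invariance and replacement properties: if the normalizer system of `II 𝒜 S` is inner then so is `F`.
A non-inner `F` contains a non-inner constrained subsystem over `S` (S5332, helper63); in its model the
group criterion `AxGT.main` applies. -/

namespace Cfsg.Agent.Helper87.AxFus

open Cfsg Cfsg.FusionSystem Cfsg.Agent.Helper87 Cfsg.Agent.Helper85 Cfsg.Agent.Helper87.AxZJ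
open scoped commutatorElement

universe u

theorem main {p : ℕ} [Fact p.Prime] (hp : p ≠ 2) {Ω : Type u} [Group Ω] {S : Subgroup Ω} [Finite S]
    (hS : IsPGroup p S) (F : FusionSystem S) (hF : F.IsSaturated p)
    (𝒜 : Set (Subgroup Ω)) (h𝒜 : ∀ A ∈ 𝒜, A ≤ S ∧ IsMulCommutative ↥A) (hne : 𝒜.Nonempty)
    (hinv : ∀ Q : Subgroup Ω, Q ≤ S → (∃ A ∈ 𝒜, A ≤ Q) → ∀ α ∈ F.autGroup Q, ∀ x : ↥Q,
      (x : Ω) ∈ II 𝒜 Q → (((α : MulAut ↥Q) x : ↥Q) : Ω) ∈ II 𝒜 Q)
    (hrep : ∀ B : Subgroup Ω, B ≤ S → ⁅⁅B, B⁆, B⁆ = ⊥ → (∃ A ∈ 𝒜, ⁅B, B⁆ ≤ A ∧ ¬ B ≤ A) →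
      ∃ A ∈ 𝒜, ⁅B, B⁆ ≤ A ∧ ¬ B ≤ A ∧ B ≤ Subgroup.normalizer (A : Set Ω))
    (X₀ : Subgroup Ω) (hX₀ : X₀ = II 𝒜 S)
    (hN : ∀ N : FusionSystem (normalizerIn S X₀), F.IsNormalizerSystem X₀ N →
      ∀ P : Subgroup Ω, N.Hom P = (innerFusionSystem (normalizerIn S X₀)).Hom P) :
    ∀ P : Subgroup Ω, F.Hom P = (innerFusionSystem S).Hom P := by
  subst hX₀
  by_contra hcon
  push Not at hcon
  obtain ⟨E, hEF, hEc, hEne⟩ := Cfsg.Agent.S5332.result p hS F hF hp hcon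
  obtain ⟨hEsat, R, hRn, hRc⟩ := hEc
  obtain ⟨L, _, ι, hL, -⟩ :=
    Cfsg.Agent.Helper87.ModelExists.exists_model_centralizer hS hEsat hRn hRc
  haveI : Finite L := hL.1
  obtain ⟨P₀, hP₀⟩ := hL.2.2.1
  have hreal := hL.2.1
  have hinj : Function.Injective ι := hreal.1
  have hcL := hL.2.2.2
  have hmorEF : ∀ {P : Subgroup Ω} {f : Ω → Ω}, Mor E P f → Mor F P f := by
    rintro P f ⟨φ, hφ, e⟩
    exact ⟨φ, hEF P hφ, e⟩
  -- the family in the model
  set 𝒜L : Set (Subgroup L) := {A' | ∃ A ∈ 𝒜, A' = imageAlong ι A} with h𝒜L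
  have hrange_mem : ∀ {y : L}, y ∈ (P₀ : Subgroup L) ↔ y ∈ ι.range := by
    intro y; rw [hP₀]
  have himg_le : ∀ A : Subgroup Ω, imageAlong ι A ≤ (P₀ : Subgroup L) := by
    intro A y hy
    obtain ⟨x, hxS, -, rfl⟩ := mem_img.1 hy
    exact hrange_mem.2 (au_mem_range' ι hxS)
  have hle_pre : ∀ {A : Subgroup Ω} {Q' : Subgroup L}, A ≤ S → imageAlong ι A ≤ Q' →
      A ≤ preimageAlong ι Q' := by
    intro A Q' hAS h a ha
    exact mem_pre.2 ⟨hAS ha, h (mem_img.2 ⟨a, hAS ha, ha, rfl⟩)⟩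
  have himg_pre_le : ∀ {A : Subgroup Ω} {Q' : Subgroup L}, A ≤ preimageAlong ι Q' →
      imageAlong ι A ≤ Q' := by
    intro A Q' h y hy
    obtain ⟨x, hxS, hxA, rfl⟩ := mem_img.1 hy
    exact (mem_pre.1 (h hxA)).2
  -- the intersections correspond
  have hII_fwd : ∀ {Q' : Subgroup L} {x : Ω}, x ∈ S → x ∈ II 𝒜 (preimageAlong ι Q') →
      au ι x ∈ II 𝒜L Q' := by
    intro Q' x hxS hx
    rw [mem_II]
    rintro A' ⟨A, hA, rfl⟩ hAQ
    have h1 : A ≤ preimageAlong ι Q' := hle_pre (h𝒜 A hA).1 hAQ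
    exact mem_img.2 ⟨x, hxS, mem_II.1 hx A hA h1, rfl⟩
  have hII_bwd : ∀ {Q' : Subgroup L} {y : L}, (∃ A ∈ 𝒜, A ≤ preimageAlong ι Q') →
      y ∈ II 𝒜L Q' → ∃ x, x ∈ S ∧ x ∈ II 𝒜 (preimageAlong ι Q') ∧ au ι x = y := by
    rintro Q' y ⟨A₀, hA₀, hA₀Q⟩ hy
    have h0 := mem_II.1 hy (imageAlong ι A₀) ⟨A₀, hA₀, rfl⟩ (himg_pre_le hA₀Q)
    obtain ⟨x, hxS, hxA₀, rfl⟩ := mem_img.1 h0
    refine ⟨x, hxS, ?_, rfl⟩
    rw [mem_II]
    intro A hA hAQ
    have h1 := mem_II.1 hy (imageAlong ι A) ⟨A, hA, rfl⟩ (himg_pre_le hAQ)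
    obtain ⟨a, haS, haA, hax⟩ := mem_img.1 h1
    have := au_injOn hinj haS hxS hax
    exact this ▸ haA
  have hpretop : preimageAlong ι (P₀ : Subgroup L) = S := by
    ext x
    rw [mem_pre]
    exact ⟨fun h => h.1, fun h => ⟨h, hrange_mem.2 (au_mem_range' ι h)⟩⟩
  -- conjugation maps of the model
  have hconj : ∀ (g : L) (Y' : Subgroup L), Y' ≤ (P₀ : Subgroup L) →
      g ∈ Subgroup.normalizer (Y' : Set L) →
      Mor E (preimageAlong ι Y') (fun x => au (backHom ι hinj) (g * au ι x * g⁻¹)) ∧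
      ∀ x ∈ preimageAlong ι Y',
        au ι (au (backHom ι hinj) (g * au ι x * g⁻¹)) = g * au ι x * g⁻¹ ∧
        au (backHom ι hinj) (g * au ι x * g⁻¹) ∈ preimageAlong ι Y' := by
    intro g Y' hY' hg
    have hkey : ∀ x ∈ preimageAlong ι Y', g * au ι x * g⁻¹ ∈ Y' := fun x hx =>
      (Subgroup.mem_normalizer_iff.1 hg _).1 (mem_pre.1 hx).2
    have hkey2 : ∀ x ∈ preimageAlong ι Y',
        au ι (au (backHom ι hinj) (g * au ι x * g⁻¹)) = g * au ι x * g⁻¹ := fun x hx =>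
      au_au_back ι hinj (hrange_mem.1 (hY' (hkey x hx)))
    refine ⟨?_, fun x hx => ⟨hkey2 x hx, ?_⟩⟩
    · rw [realized_mor_iff hreal]
      exact ⟨preimageAlong_le ι Y', fun x _ => au_backHom_mem ι hinj _, g, hkey2⟩
    · rw [mem_pre]
      refine ⟨au_backHom_mem ι hinj _, ?_⟩
      rw [hkey2 x hx]
      exact hkey x hx
  -- the axioms in the model
  have hAx : Ax 𝒜L (P₀ : Subgroup L) := by
    refine ⟨?_, ?_, ?_, ?_, ?_⟩
    · rintro A' ⟨A, hA, rfl⟩
      exact himg_le A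
    · rintro A' ⟨A, hA, rfl⟩ y₁ hy₁ y₂ hy₂
      obtain ⟨a₁, h₁S, h₁A, rfl⟩ := mem_img.1 hy₁
      obtain ⟨a₂, h₂S, h₂A, rfl⟩ := mem_img.1 hy₂
      have hc : a₁ * a₂ = a₂ * a₁ := by
        have := (h𝒜 A hA).2.is_comm.comm (⟨a₁, h₁A⟩ : ↥A) ⟨a₂, h₂A⟩
        exact congrArg Subtype.val this
      rw [← au_mul ι h₁S h₂S, ← au_mul ι h₂S h₁S, hc]
    · obtain ⟨A, hA⟩ := hne
      exact ⟨_, A, hA, rfl⟩
    · rintro Q' hQ' ⟨A', ⟨A, hA, rfl⟩, hAQ⟩ g hg y hy
      have hAQ' : A ≤ preimageAlong ι Q' := hle_pre (h𝒜 A hA).1 hAQ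
      obtain ⟨hmor, hprop⟩ := hconj g Q' hQ' hg
      have hQS : preimageAlong ι Q' ≤ S := preimageAlong_le ι Q'
      have hiso : Iso F (preimageAlong ι Q') (preimageAlong ι Q')
          (fun x => au (backHom ι hinj) (g * au ι x * g⁻¹)) :=
        iso_of_card_le (hmorEF hmor) hQS (fun x hx => (hprop x hx).2) le_rfl
      obtain ⟨x, hxS, hx, rfl⟩ := hII_bwd ⟨A, hA, hAQ'⟩ hy
      have hxQ : x ∈ preimageAlong ι Q' := hAQ' (mem_II.1 hx A hA hAQ')
      have h1 := hinv _ hQS ⟨A, hA, hAQ'⟩ hiso.equiv hiso.equiv_mem_autGroup ⟨x, hxQ⟩ hx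
      rw [hiso.equiv_apply] at h1
      have h2 := hII_fwd (au_backHom_mem ι hinj _) h1
      rw [(hprop x hxQ).1] at h2
      exact h2
    · rintro B' hB' hcl ⟨A', ⟨A₁, hA₁, rfl⟩, hBA, hnBA⟩
      have hB'r : B' ≤ ι.range := hP₀ ▸ hB'
      have hB₀ : (B'.comap ι).map ι = B' := Subgroup.map_comap_eq_self hB'r
      have hBS : (B'.comap ι).map S.subtype ≤ S := Subgroup.map_subtype_le _
      have hcl₀ : ⁅⁅B'.comap ι, B'.comap ι⁆, B'.comap ι⁆ = ⊥ := by
        have h1 : (⁅⁅B'.comap ι, B'.comap ι⁆, B'.comap ι⁆).map ι = ⊥ := by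
          rw [Subgroup.map_commutator, Subgroup.map_commutator, hB₀, hcl]
        exact (Subgroup.map_eq_bot_iff_of_injective _ hinj).1 h1
      have hc1 : ⁅⁅(B'.comap ι).map S.subtype, (B'.comap ι).map S.subtype⁆,
          (B'.comap ι).map S.subtype⁆ = ⊥ := by
        rw [← Subgroup.map_commutator, ← Subgroup.map_commutator, hcl₀, Subgroup.map_bot]
      have hcomm' : ⁅B', B'⁆ = (⁅B'.comap ι, B'.comap ι⁆).map ι := by
        rw [Subgroup.map_commutator, hB₀]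
      have hsub : ∀ {A : Subgroup Ω}, ⁅B', B'⁆ ≤ imageAlong ι A →
          ⁅B'.comap ι, B'.comap ι⁆ ≤ A.subgroupOf S := by
        intro A h y hy
        have h1 : ι y ∈ imageAlong ι A := h (hcomm' ▸ ⟨y, hy, rfl⟩)
        obtain ⟨a, ha, hay⟩ := h1
        have := hinj hay
        exact this ▸ ha
      have hc2 : ⁅(B'.comap ι).map S.subtype, (B'.comap ι).map S.subtype⁆ ≤ A₁ := by
        rw [← Subgroup.map_commutator]
        rintro _ ⟨y, hy, rfl⟩
        exact Subgroup.mem_subgroupOf.1 (hsub hBA hy)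
      have hc3 : ¬ (B'.comap ι).map S.subtype ≤ A₁ := by
        intro h
        apply hnBA
        rw [← hB₀]
        rintro _ ⟨y, hy, rfl⟩
        exact ⟨y, Subgroup.mem_subgroupOf.2 (h ⟨y, hy, rfl⟩), rfl⟩
      obtain ⟨A₂, hA₂, h1, h2, h3⟩ := hrep _ hBS hc1 ⟨A₁, hA₁, hc2, hc3⟩
      refine ⟨imageAlong ι A₂, ⟨A₂, hA₂, rfl⟩, ?_, ?_, ?_⟩
      · rw [hcomm']
        apply Subgroup.map_mono
        intro y hy
        apply Subgroup.mem_subgroupOf.2
        apply h1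
        rw [← Subgroup.map_commutator]
        exact ⟨y, hy, rfl⟩
      · intro h
        apply h2
        rintro _ ⟨y, hy, rfl⟩
        have h4 : ι y ∈ imageAlong ι A₂ := h (hB₀ ▸ ⟨y, hy, rfl⟩)
        obtain ⟨a, ha, hay⟩ := h4
        have := hinj hay
        exact Subgroup.mem_subgroupOf.1 (this ▸ ha)
      · intro b' hb'
        rw [← hB₀] at hb'
        obtain ⟨y, hy, rfl⟩ := hb'
        have hyN : (y : Ω) ∈ Subgroup.normalizer (A₂ : Set Ω) := h3 ⟨y, hy, rfl⟩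
        haveI : Finite ((imageAlong ι A₂ : Subgroup L) : Set L) :=
          Finite.of_injective (fun z : ((imageAlong ι A₂ : Subgroup L) : Set L) => (z : L))
            Subtype.val_injective
        apply Subgroup.mem_normalizer_fintype
        rintro _ ⟨a, ha, rfl⟩
        refine ⟨y * a * y⁻¹, ?_, by rw [map_mul, map_mul, map_inv]⟩
        apply Subgroup.mem_subgroupOf.2
        exact (Subgroup.mem_normalizer_iff.1 hyN _).1 (Subgroup.mem_subgroupOf.1 ha)
  have hmemS : ∃ A ∈ 𝒜, A ≤ S := by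
    obtain ⟨A, hA⟩ := hne
    exact ⟨A, hA, (h𝒜 A hA).1⟩
  have hX₀S : II 𝒜 S ≤ S := by
    obtain ⟨A, hA, hAS⟩ := hmemS
    exact (II_le_of_mem hA hAS).trans hAS
  -- `S` normalizes `II 𝒜 S`
  have hNS : normalizerIn S (II 𝒜 S) = S := by
    apply le_antisymm inf_le_left
    intro s hs
    refine ⟨hs, ?_⟩
    haveI : Finite ((II 𝒜 S : Subgroup Ω) : Set Ω) := by
      haveI : Finite ↥(II 𝒜 S) := finite_of_le hX₀S
      exact inferInstanceAs (Finite ↥(II 𝒜 S))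
    apply Subgroup.mem_normalizer_fintype
    intro x hx
    have hxS : x ∈ S := hX₀S hx
    have h1 : au ι x ∈ II 𝒜L (P₀ : Subgroup L) := hII_fwd hxS (by rw [hpretop]; exact hx)
    have hsN := hAx.le_normalizer (hrange_mem.2 (au_mem_range' ι hs))
    have h2 := (Subgroup.mem_normalizer_iff.1 hsN _).1 h1
    rw [← au_conj ι hs hxS] at h2
    obtain ⟨x', hx'S, hx', e⟩ := hII_bwd (by rw [hpretop]; exact hmemS) h2
    rw [hpretop] at hx'
    have := au_injOn hinj hx'S (S.mul_mem (S.mul_mem hs hxS) (S.inv_mem hs)) e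
    exact this ▸ hx'
  -- the normalizer of the intersection in the model is a `p`-group
  obtain ⟨N, hNs⟩ := Cfsg.Agent.S5096.result F (II 𝒜 S) hX₀S
  have hNinner := hN N hNs
  have hNL : ∀ g : L, g ∈ Subgroup.normalizer
      ((II 𝒜L (P₀ : Subgroup L) : Subgroup L) : Set L) → g ∈ (P₀ : Subgroup L) := by
    intro g hg
    haveI hRn' : (pCore p L).Normal := Cfsg.Agent.Helper11.ZJ.pCore_normal' p L
    have hRP : pCore p L ≤ (P₀ : Subgroup L) := Cfsg.Agent.Helper11.ZJ.pCore_le_sylow' P₀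
    have hIIP : II 𝒜L (P₀ : Subgroup L) ≤ (P₀ : Subgroup L) := hAx.II_le
    have hY' : pCore p L ⊔ II 𝒜L (P₀ : Subgroup L) ≤ (P₀ : Subgroup L) := sup_le hRP hIIP
    have hgY : g ∈ Subgroup.normalizer
        ((pCore p L ⊔ II 𝒜L (P₀ : Subgroup L) : Subgroup L) : Set L) := by
      have h1 : g ∈ Subgroup.normalizer ((pCore p L : Subgroup L) : Set L) := by
        rw [Subgroup.normalizer_eq_top_iff.2 hRn']; exact Subgroup.mem_top g
      haveI : Finite ((pCore p L ⊔ II 𝒜L (P₀ : Subgroup L) : Subgroup L) : Set L) :=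
        Finite.of_injective (fun z : ((pCore p L ⊔ II 𝒜L (P₀ : Subgroup L) : Subgroup L) : Set L) =>
          (z : L)) Subtype.val_injective
      apply Subgroup.mem_normalizer_fintype
      intro y hy
      have hmap : (pCore p L ⊔ II 𝒜L (P₀ : Subgroup L)).map (MulAut.conj g).toMonoidHom ≤
          pCore p L ⊔ II 𝒜L (P₀ : Subgroup L) := by
        rw [Subgroup.map_sup]
        apply sup_le_sup
        · rintro _ ⟨z, hz, rfl⟩
          exact (Subgroup.mem_normalizer_iff.1 h1 z).1 hz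
        · rintro _ ⟨z, hz, rfl⟩
          exact (Subgroup.mem_normalizer_iff.1 hg z).1 hz
      exact hmap ⟨y, hy, rfl⟩
    obtain ⟨hmor, hprop⟩ := hconj g _ hY' hgY
    set f : Ω → Ω := fun x => au (backHom ι hinj) (g * au ι x * g⁻¹) with hf
    have hRr_le : preimageAlong ι (pCore p L) ≤
        preimageAlong ι (pCore p L ⊔ II 𝒜L (P₀ : Subgroup L)) :=
      preimageAlong_mono ι le_sup_left
    have hX₀_le : II 𝒜 S ≤ preimageAlong ι (pCore p L ⊔ II 𝒜L (P₀ : Subgroup L)) := by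
      intro x hx
      have hxS := hX₀S hx
      refine mem_pre.2 ⟨hxS, ?_⟩
      exact (le_sup_right : II 𝒜L (P₀ : Subgroup L) ≤ _)
        (hII_fwd hxS (by rw [hpretop]; exact hx))
    have hfX : ∀ x ∈ II 𝒜 S, f x ∈ II 𝒜 S := by
      intro x hx
      have hxS := hX₀S hx
      have h1 : au ι x ∈ II 𝒜L (P₀ : Subgroup L) := hII_fwd hxS (by rw [hpretop]; exact hx)
      have h2 := (Subgroup.mem_normalizer_iff.1 hg _).1 h1
      rw [← (hprop x (hX₀_le hx)).1] at h2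
      obtain ⟨x', hx'S, hx', e⟩ := hII_bwd (by rw [hpretop]; exact hmemS) h2
      rw [hpretop] at hx'
      have := au_injOn hinj hx'S (au_backHom_mem ι hinj _) e
      rw [show f x = x' from this.symm]
      exact hx'
    have hmorF := hmorEF hmor
    have hI : Iso F (II 𝒜 S) (II 𝒜 S) f :=
      iso_of_card_le (hmorF.restrict hX₀_le) hX₀S hfX le_rfl
    have hmorN : Mor N (preimageAlong ι (pCore p L)) f := by
      rw [mor_normalizerSystem_iff hNs]
      refine ⟨hmorF.restrict hRr_le, hNS.symm ▸ preimageAlong_le ι _,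
        fun x hx => hNS.symm ▸ au_backHom_mem ι hinj _, f,
        hmorF.restrict (sup_le hRr_le hX₀_le), fun _ _ => rfl, hI.2⟩
    obtain ⟨φ, hφ, eφ⟩ := hmorN
    rw [hNinner] at hφ
    obtain ⟨-, s, hs, es⟩ := hφ
    have hsS : s ∈ S := hs.1
    -- `(ι s)⁻¹ g` centralizes `O_p(L)`
    have hcen : (au ι s)⁻¹ * g ∈ Subgroup.centralizer ((pCore p L : Subgroup L) : Set L) := by
      rw [Subgroup.mem_centralizer_iff]
      intro r' hr'
      have hr'r : r' ∈ ι.range := hrange_mem.1 (hRP hr')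
      set r : Ω := au (backHom ι hinj) r' with hr
      have hrS : r ∈ S := au_backHom_mem ι hinj _
      have hrr : au ι r = r' := au_au_back ι hinj hr'r
      have hrR : r ∈ preimageAlong ι (pCore p L) := mem_pre.2 ⟨hrS, hrr ▸ hr'⟩
      have h1 := (hprop r (hRr_le hrR)).1
      have h2 : f r = s * r * s⁻¹ := by
        have := es ⟨r, hrR⟩
        rw [eφ ⟨r, hrR⟩] at this
        exact this
      have h3 : au ι (f r) = g * r' * g⁻¹ := by rw [← hrr]; exact h1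
      rw [h2, au_conj ι hsS hrS, hrr] at h3
      calc r' * ((au ι s)⁻¹ * g) = (au ι s)⁻¹ * (au ι s * r' * (au ι s)⁻¹) * au ι s *
            ((au ι s)⁻¹ * g) := by group
        _ = (au ι s)⁻¹ * (g * r' * g⁻¹) * au ι s * ((au ι s)⁻¹ * g) := by rw [h3]
        _ = (au ι s)⁻¹ * g * r' := by group
    have h4 : (au ι s)⁻¹ * g ∈ (P₀ : Subgroup L) := hRP (hcL hcen)
    have h5 : au ι s ∈ (P₀ : Subgroup L) := hrange_mem.2 (au_mem_range' ι hsS)
    have e : g = au ι s * ((au ι s)⁻¹ * g) := by group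
    rw [e]
    exact Subgroup.mul_mem _ h5 h4
  have htop := Cfsg.Agent.Helper87.AxGT.main hp (Nat.card L) L rfl P₀ 𝒜L hAx hcL hNL
  -- the constrained subsystem is inner
  obtain ⟨P, hP⟩ := hEne
  apply hP
  apply Set.Subset.antisymm
  · intro φ hφ
    have hmor : Mor E P (extFun φ) := mor_of_mem hφ
    obtain ⟨hPS, hfS, g, hg⟩ := (realized_mor_iff hreal).1 hmor
    have hgr : g ∈ ι.range := by rw [← hP₀, htop]; exact Subgroup.mem_top g
    obtain ⟨s, rfl⟩ := hgr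
    refine ⟨hPS, (s : Ω), s.2, fun x => ?_⟩
    have h1 := hg x x.2
    rw [extFun_apply] at h1
    have hxS : (x : Ω) ∈ S := hPS x.2
    have h2 : ι s = au ι (s : Ω) := (au_mem ι s.2).symm
    rw [h2, ← au_conj ι s.2 hxS] at h1
    have h3 : φ x ∈ S := by
      have := hfS x x.2
      rwa [extFun_apply] at this
    exact au_injOn hinj h3 (S.mul_mem (S.mul_mem s.2 hxS) (S.inv_mem s.2)) h1
  · exact inner_isSubsystemOf E le_rfl P

end Cfsg.Agent.Helper87.AxFus
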