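import Mathlib
import Cfsg.Prelude.Def_FusionSystem
import Cfsg.Agent.Lib.Helper87.SmallCenterGrp
import Cfsg.Agent.Lib.Helper87.FusionOmega

set_option autoImplicit false

namespace Cfsg.Agent.Helper87

open Cfsg Cfsg.FusionSystem

variable {Ω : Type*} [Group Ω] {S : Subgroup Ω} {F : FusionSystem S}

theorem Mor.map_npow {P : Subgroup Ω} {f : Ω → Ω} (hf : Mor F P f) {x : Ω} (hx : x ∈ P) (n : ℕ) :
    f (x ^ n) = f x ^ n := by
  induction n with
  | zero => rw [pow_zero, pow_zero]; exact hf.map_one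
  | succ n ih => rw [pow_succ, pow_succ, hf.map_mul (P.pow_mem hx n) hx, ih]

theorem Mor.map_zpow' {P : Subgroup Ω} {f : Ω → Ω} (hf : Mor F P f) {x : Ω} (hx : x ∈ P) (k : ℤ) :
    f (x ^ k) = f x ^ k := by
  cases k with
  | ofNat n => simpa using hf.map_npow hx n
  | negSucc n =>
    rw [zpow_negSucc, zpow_negSucc, hf.map_inv (P.pow_mem hx _), hf.map_npow hx]

/-- function-level form of conjugacy of elements -/
theorem isConjElt_iff {x y : Ω} :
    F.IsConjElt x y ↔ ∃ f, Mor F (Subgroup.zpowers x) f ∧ f x = y := by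
  constructor
  · rintro ⟨φ, hφ, e⟩
    refine ⟨extFun φ, mor_of_mem hφ, ?_⟩
    rw [extFun_mem φ (Subgroup.mem_zpowers x)]
    exact e
  · rintro ⟨f, ⟨φ, hφ, e⟩, hf⟩
    refine ⟨φ, hφ, ?_⟩
    rw [e ⟨x, Subgroup.mem_zpowers x⟩]
    exact hf

theorem isConjElt_of_mor {P : Subgroup Ω} {f : Ω → Ω} (hf : Mor F P f) {x : Ω} (hx : x ∈ P) :
    F.IsConjElt x (f x) :=
  isConjElt_iff.2 ⟨f, hf.restrict ((Subgroup.zpowers_le).2 hx), rfl⟩

theorem IsConjElt.mem_left {x y : Ω} (h : F.IsConjElt x y) : x ∈ S := by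
  obtain ⟨f, hf, -⟩ := isConjElt_iff.1 h
  exact hf.le (Subgroup.mem_zpowers x)

theorem IsConjElt.mem_right {x y : Ω} (h : F.IsConjElt x y) : y ∈ S := by
  obtain ⟨f, hf, rfl⟩ := isConjElt_iff.1 h
  exact hf.mem (Subgroup.mem_zpowers x)

theorem IsConjElt.symm {x y : Ω} (h : F.IsConjElt x y) : F.IsConjElt y x := by
  obtain ⟨f, hf, rfl⟩ := isConjElt_iff.1 h
  obtain ⟨g, hg, e1, -⟩ := (Iso.of_mor hf).symm
  have hle : Subgroup.zpowers (f x) ≤ hf.image := by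
    rw [Subgroup.zpowers_le]
    exact ⟨x, Subgroup.mem_zpowers x, rfl⟩
  exact isConjElt_iff.2 ⟨g, hg.1.restrict hle, e1 x (Subgroup.mem_zpowers x)⟩

theorem IsConjElt.trans {x y z : Ω} (h1 : F.IsConjElt x y) (h2 : F.IsConjElt y z) :
    F.IsConjElt x z := by
  obtain ⟨f, hf, rfl⟩ := isConjElt_iff.1 h1
  obtain ⟨g, hg, rfl⟩ := isConjElt_iff.1 h2
  refine isConjElt_iff.2 ⟨fun t => g (f t), hf.comp hg ?_, rfl⟩
  intro t ht
  obtain ⟨k, rfl⟩ := Subgroup.mem_zpowers_iff.1 ht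
  rw [hf.map_zpow' (Subgroup.mem_zpowers x)]
  exact Subgroup.zpow_mem _ (Subgroup.mem_zpowers _) k

theorem le_centralizerIn_zpowers (x : Ω) :
    S ⊓ Subgroup.centralizer {x} ≤ centralizerIn S (Subgroup.zpowers x) := by
  intro s hs
  obtain ⟨hsS, hsx⟩ := mem_inf_centralizer_singleton.1 hs
  refine ⟨hsS, ?_⟩
  show s ∈ Subgroup.centralizer ((Subgroup.zpowers x : Subgroup Ω) : Set Ω)
  rw [Subgroup.mem_centralizer_iff]
  intro t ht
  obtain ⟨k, rfl⟩ := Subgroup.mem_zpowers_iff.1 ht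
  have hc : Commute x s := hsx
  exact (hc.zpow_left k).eq

variable [Finite S] {p : ℕ} [hp : Fact p.Prime]

/-- a conjugation of `x` into the centre extends to `C_S(x)` -/
theorem exists_mor_centralizer (hS : IsPGroup p S) (hF : F.IsSaturated p) {x z : Ω}
    (hz : z ∈ zS S) (hc : F.IsConjElt x z) :
    ∃ f, Mor F (S ⊓ Subgroup.centralizer {x}) f ∧ f x = z := by
  obtain ⟨f₀, hf₀, e⟩ := isConjElt_iff.1 hc
  have hQZ : hf₀.image ≤ zS S := by
    rintro _ ⟨t, ht, rfl⟩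
    obtain ⟨k, rfl⟩ := Subgroup.mem_zpowers_iff.1 ht
    rw [hf₀.map_zpow' (Subgroup.mem_zpowers x), e]
    exact Subgroup.zpow_mem _ hz k
  have hQS : hf₀.image ≤ S := hQZ.trans (zS_le S)
  have hN : S ≤ Subgroup.normalizer ((hf₀.image : Subgroup Ω) : Set Ω) := by
    apply le_normalizer_of_forall
    intro s hs q hq
    rw [central_conj hQZ hq hs]
    exact hq
  have hfn := fullyNormalized_of_le_normalizer F hQS hN
  have hrec := receptive_of_fullyNormalized hS hF hfn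
  obtain ⟨g, hg, eg⟩ := (isReceptive_iff.1 hrec).2 _ _ (Iso.of_mor hf₀)
  refine ⟨g, hg.restrict ?_, ?_⟩
  · exact (le_centralizerIn_zpowers x).trans (Iso.of_mor hf₀).centralizerIn_le_ext
  · rw [eg x (Subgroup.mem_zpowers x), e]

/-- conjugate central elements are conjugate under an automorphism of `S` in the system -/
theorem exists_aut_of_central (hS : IsPGroup p S) (hF : F.IsSaturated p) {z z' : Ω}
    (hz : z ∈ zS S) (hz' : z' ∈ zS S) (hc : F.IsConjElt z z') :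
    ∃ f, Iso F S S f ∧ f z = z' := by
  obtain ⟨f, hf, e⟩ := exists_mor_centralizer hS hF hz' hc
  have hle : S ≤ S ⊓ Subgroup.centralizer {z} := by
    intro s hs
    exact mem_inf_centralizer_singleton.2 ⟨hs, ((mem_zS.1 hz).2 s hs).symm⟩
  have hf' : Mor F S f := hf.restrict hle
  exact ⟨f, iso_of_card_le hf' le_rfl (fun n hn => hf'.mem hn) le_rfl, e⟩

/-- `s` is conjugate in the system to the square of a central element -/
def InSq (F : FusionSystem S) (s : Ω) : Prop := ∃ ζ ∈ zS S, F.IsConjElt s (ζ ^ 2)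

omit [Finite S] in
theorem InSq.of_conj {s t : Ω} (h : F.IsConjElt s t) (ht : InSq F t) : InSq F s := by
  obtain ⟨ζ, hζ, hc⟩ := ht
  exact ⟨ζ, hζ, IsConjElt.trans h hc⟩

omit [Finite S] in
/-- squares are conjugate to squares of central elements -/
theorem inSq_sq (hyp : ∀ x ∈ S, ∃ z ∈ zS S, F.IsConjElt x z) {y : Ω} (hy : y ∈ S) :
    InSq F (y ^ 2) := by
  obtain ⟨z, hz, hc⟩ := hyp y hy
  obtain ⟨f, hf, rfl⟩ := isConjElt_iff.1 hc
  refine ⟨f y, hz, ?_⟩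
  have := isConjElt_of_mor hf (Subgroup.pow_mem _ (Subgroup.mem_zpowers y) 2)
  rwa [hf.map_npow (Subgroup.mem_zpowers y)] at this

/-- a central element conjugate to a central square is a central square -/
theorem eq_sq_of_inSq (hS : IsPGroup p S) (hF : F.IsSaturated p) {z : Ω} (hz : z ∈ zS S)
    (h : InSq F z) : ∃ ζ ∈ zS S, z = ζ ^ 2 := by
  obtain ⟨ζ₀, hζ₀, hc⟩ := h
  have hsq : ζ₀ ^ 2 ∈ zS S := Subgroup.pow_mem _ hζ₀ 2
  obtain ⟨f, hf, e⟩ := exists_aut_of_central hS hF hz hsq hc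
  obtain ⟨g, hg, e1, e2⟩ := hf.symm
  have hζS : ζ₀ ∈ S := zS_le S hζ₀
  refine ⟨g ζ₀, ?_, ?_⟩
  · rw [mem_zS]
    refine ⟨hg.1.mem hζS, fun s hs => ?_⟩
    have h1 : s = g (f s) := (e1 s hs).symm
    have hfs : f s ∈ S := hf.1.mem hs
    rw [h1, ← hg.1.map_mul hfs hζS, ← hg.1.map_mul hζS hfs, (mem_zS.1 hζ₀).2 _ hfs]
  · rw [← hg.1.map_npow hζS, ← e, e1 z (zS_le S hz)]

end Cfsg.Agent.Helper87
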