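import Mathlib
import Cfsg.Agent.Lib.Helper87.ChainAut

set_option autoImplicit false

namespace Cfsg.Agent.Helper87

open Polynomial in
/-- (after helper49) an endomorphism of a finite `𝔽_p`-space with `f ^ (p - 1) = 1` has an
eigenvector -/
theorem exists_eigenvector_of_pow_pred_eq_one' {V : Type*} [AddCommGroup V] (p : ℕ)
    [hp : Fact p.Prime] [Module (ZMod p) V] [Finite V] [Nontrivial V]
    (f : Module.End (ZMod p) V) (hf1 : f ^ (p - 1) = 1) :
    ∃ (v : V) (k : ℕ), v ≠ 0 ∧ f v = k • v := by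
  classical
  have haeval : aeval f (X ^ (p - 1) - 1 : (ZMod p)[X]) = 0 := by
    simp [hf1]
  have hdvd : minpoly (ZMod p) f ∣ (X ^ (p - 1) - 1 : (ZMod p)[X]) := minpoly.dvd _ _ haeval
  have hdvd2 : (X ^ (p - 1) - 1 : (ZMod p)[X]) ∣ (X ^ p - X : (ZMod p)[X]) := by
    refine ⟨X, ?_⟩
    have h3 : (X : (ZMod p)[X]) ^ p = X ^ (p - 1) * X := by
      rw [← pow_succ, Nat.sub_add_cancel hp.out.one_le]
    rw [h3]
    ring
  have hsplit : Splits (X ^ p - X : (ZMod p)[X]) := by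
    have := FiniteField.splits_X_pow_card_sub_X (p := p) (K := ZMod p)
    rwa [ZMod.card, Algebra.algebraMap_self, Polynomial.map_id] at this
  have hne : (X ^ p - X : (ZMod p)[X]) ≠ 0 :=
    FiniteField.X_pow_card_sub_X_ne_zero (ZMod p) hp.out.one_lt
  have hsplit' : Splits (minpoly (ZMod p) f) :=
    Splits.of_dvd hsplit hne (hdvd.trans hdvd2)
  have hint : IsIntegral (ZMod p) f := Algebra.IsIntegral.isIntegral f
  have hdeg : (minpoly (ZMod p) f).degree ≠ 0 := (minpoly.degree_pos hint).ne'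
  obtain ⟨μ, hμ⟩ := hsplit'.exists_eval_eq_zero hdeg
  have hev : f.HasEigenvalue μ := Module.End.hasEigenvalue_of_isRoot hμ
  obtain ⟨v, hv⟩ := hev.exists_hasEigenvector
  refine ⟨v, μ.val, hv.2, ?_⟩
  have h1 := hv.apply_eq_smul
  have h2 : μ • v = μ.val • v := by
    conv_lhs => rw [← ZMod.natCast_zmod_val μ]
    exact Nat.cast_smul_eq_nsmul _ _ _
  rw [h2] at h1
  exact h1

/-- (after helper49) multiplicative version -/
theorem exists_eigen_of_pow_pred_eq_one' {N : Type*} [CommGroup N] [Finite N] [Nontrivial N]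
    (p : ℕ) [hp : Fact p.Prime] (hexp : ∀ n : N, n ^ p = 1) (φ : N →* N)
    (hφ : ∀ n : N, (φ^[p - 1]) n = n) :
    ∃ (n : N) (k : ℕ), n ≠ 1 ∧ φ n = n ^ k := by
  letI inst : Module (ZMod p) (Additive N) := AddCommGroup.zmodModule (n := p)
    (fun x => congrArg Additive.ofMul (hexp x.toMul))
  have hiter : ∀ (k : ℕ) (x : Additive N),
      ((MonoidHom.toAdditive φ : Additive N →+ Additive N))^[k] x
        = Additive.ofMul ((φ^[k]) x.toMul) := by
    intro k
    induction k with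
    | zero => intro x; rfl
    | succ k ih =>
      intro x
      rw [Function.iterate_succ_apply', ih, Function.iterate_succ_apply']
      rfl
  obtain ⟨v, k, hv, hk⟩ := exists_eigenvector_of_pow_pred_eq_one' (V := Additive N) p
    ((MonoidHom.toAdditive φ).toZModLinearMap p) (by
      apply LinearMap.ext
      intro x
      rw [Module.End.pow_apply]
      change ((MonoidHom.toAdditive φ : Additive N →+ Additive N))^[p - 1] x = x
      rw [hiter, hφ]
      rfl)
  refine ⟨v.toMul, k, ?_, ?_⟩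
  · intro h
    exact hv (by rw [← ofMul_toMul v, h]; rfl)
  · exact congrArg Additive.toMul hk

/-- a commuting family of endomorphisms of exponent dividing `p - 1` of a nontrivial finite
elementary abelian `p`-subgroup `W` has a common eigenvector in `W` -/
theorem exists_common_eigen {Q : Type*} [Group Q] (p : ℕ) [hp : Fact p.Prime]
    (𝓗 : Set (Q →* Q)) : ∀ (n : ℕ) (W : Subgroup Q), Finite W → Nat.card W = n → W ≠ ⊥ →
    (∀ a ∈ W, ∀ b ∈ W, a * b = b * a) → (∀ a ∈ W, a ^ p = 1) →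
    (∀ f ∈ 𝓗, ∀ w ∈ W, f w ∈ W) → (∀ f ∈ 𝓗, ∀ g ∈ 𝓗, ∀ w ∈ W, f (g w) = g (f w)) →
    (∀ f ∈ 𝓗, ∀ w ∈ W, f^[p - 1] w = w) →
    ∃ z ∈ W, z ≠ 1 ∧ ∀ f ∈ 𝓗, ∃ k : ℕ, f z = z ^ k := by
  intro n
  induction n using Nat.strong_induction_on with
  | _ n ih =>
  intro W hfin hcard hW hcomm hexp hpres hfg hpow
  by_cases hsc : ∀ f ∈ 𝓗, ∃ k : ℕ, ∀ w ∈ W, f w = w ^ k
  · obtain ⟨z, hz⟩ := (Subgroup.ne_bot_iff_exists_ne_one).1 hW
    refine ⟨z, z.2, fun h => hz (Subtype.ext h), fun f hf => ?_⟩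
    obtain ⟨k, hk⟩ := hsc f hf
    exact ⟨k, hk z z.2⟩
  · push Not at hsc
    obtain ⟨f, hf, hns⟩ := hsc
    letI : CommGroup W :=
      { (inferInstance : Group W) with
        mul_comm := fun a b => Subtype.ext (hcomm a a.2 b b.2) }
    haveI : Nontrivial W := (Subgroup.nontrivial_iff_ne_bot W).mpr hW
    let φ : W →* W :=
      { toFun := fun w => ⟨f w, hpres f hf w w.2⟩
        map_one' := Subtype.ext (map_one f)
        map_mul' := fun a b => Subtype.ext (map_mul f (a : Q) (b : Q)) }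
    have hφa : ∀ w : W, ((φ w : W) : Q) = f w := fun w => rfl
    have hiter : ∀ (j : ℕ) (w : W), (((φ^[j]) w : W) : Q) = f^[j] w := by
      intro j
      induction j with
      | zero => intro w; rfl
      | succ j ihj =>
        intro w
        rw [Function.iterate_succ_apply', hφa, ihj, Function.iterate_succ_apply']
    obtain ⟨n₀, k, hn₀, hk⟩ := exists_eigen_of_pow_pred_eq_one' p
      (fun w : W => Subtype.ext (hexp w w.2)) φ (fun w => Subtype.ext (by
        rw [hiter]; exact hpow f hf w w.2))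
    let E : Subgroup Q :=
      { carrier := {w | w ∈ W ∧ f w = w ^ k}
        one_mem' := ⟨W.one_mem, by simp⟩
        mul_mem' := by
          rintro a b ⟨ha, ha'⟩ ⟨hb, hb'⟩
          refine ⟨W.mul_mem ha hb, ?_⟩
          have hab : Commute a b := hcomm a ha b hb
          rw [hab.mul_pow, ← ha', ← hb', map_mul]
        inv_mem' := by
          rintro a ⟨ha, ha'⟩
          refine ⟨W.inv_mem ha, ?_⟩
          rw [inv_pow, ← ha', map_inv] }
    have hEmem : ∀ w, w ∈ E ↔ w ∈ W ∧ f w = w ^ k := fun w => Iff.rfl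
    have hEW : E ≤ W := fun w hw => hw.1
    have hn₀E : (n₀ : Q) ∈ E := ⟨n₀.2, by
      have := congrArg Subtype.val hk
      rwa [hφa, Subgroup.coe_pow] at this⟩
    have hEne : E ≠ ⊥ := by
      intro h
      rw [h, Subgroup.mem_bot] at hn₀E
      exact hn₀ (Subtype.ext hn₀E)
    have hEfin : Finite E := Finite.of_injective (Subgroup.inclusion hEW)
      (Subgroup.inclusion_injective hEW)
    have hlt : Nat.card E < n := by
      rw [← hcard]
      by_contra hge
      push Not at hge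
      have := Subgroup.eq_of_le_of_card_ge hEW hge
      obtain ⟨w, hwW, hw⟩ := hns k
      rw [← this] at hwW
      exact hw hwW.2
    obtain ⟨z, hzE, hz1, hz⟩ := ih (Nat.card E) hlt E hEfin rfl hEne
      (fun a ha b hb => hcomm a (hEW ha) b (hEW hb)) (fun a ha => hexp a (hEW ha))
      (fun g hg w hw => ⟨hpres g hg w hw.1, by
        rw [hfg f hf g hg w hw.1, hw.2, map_pow]⟩)
      (fun g₁ hg₁ g₂ hg₂ w hw => hfg g₁ hg₁ g₂ hg₂ w (hEW hw))
      (fun g hg w hw => hpow g hg w (hEW hw))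
    exact ⟨z, hEW hzE, hz1, hz⟩

section Step

variable {G : Type*} [Group G]

/-- one step of an invariant chain: a normal `H`-invariant proper subgroup `N` of a finite
`p`-group lies in a strictly larger one generated over `N` by one element, when `H` is an
abelian group of automorphisms of exponent dividing `p - 1` -/
theorem exists_step [Finite G] {p : ℕ} [hp : Fact p.Prime] (hG : IsPGroup p G)
    (H : Subgroup (MulAut G)) (hHc : ∀ a ∈ H, ∀ b ∈ H, a * b = b * a)
    (hHe : ∀ h ∈ H, h ^ (p - 1) = 1) (N : Subgroup G) [hNn : N.Normal]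
    (hN : ∀ h ∈ H, h ∈ presSub N) (hne : N ≠ ⊤) :
    ∃ N' : Subgroup G, N'.Normal ∧ (∀ h ∈ H, h ∈ presSub N') ∧ N < N' ∧
      ∃ x, N' = N ⊔ Subgroup.zpowers x := by
  classical
  haveI : Nontrivial (G ⧸ N) := QuotientGroup.nontrivial_iff.mpr hne
  have hQ : IsPGroup p (G ⧸ N) := hG.to_quotient N
  haveI : Nontrivial (Subgroup.center (G ⧸ N)) := hQ.center_nontrivial
  -- the subgroup of central elements of order dividing `p`
  let W : Subgroup (G ⧸ N) :=
    { carrier := {z | z ∈ Subgroup.center (G ⧸ N) ∧ z ^ p = 1}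
      one_mem' := ⟨Subgroup.one_mem _, one_pow _⟩
      mul_mem' := by
        rintro a b ⟨ha, ha'⟩ ⟨hb, hb'⟩
        refine ⟨Subgroup.mul_mem _ ha hb, ?_⟩
        have hab : Commute a b := Subgroup.mem_center_iff.1 hb a
        rw [hab.mul_pow, ha', hb', one_mul]
      inv_mem' := by
        rintro a ⟨ha, ha'⟩
        exact ⟨Subgroup.inv_mem _ ha, by rw [inv_pow, ha', inv_one]⟩ }
  have hWmem : ∀ z, z ∈ W ↔ z ∈ Subgroup.center (G ⧸ N) ∧ z ^ p = 1 := fun z => Iff.rfl
  have hWne : W ≠ ⊥ := by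
    have hZ : IsPGroup p (Subgroup.center (G ⧸ N)) := hQ.to_subgroup _
    obtain ⟨n, hn, hcard⟩ := hZ.nontrivial_iff_card.1 inferInstance
    have hdvd : p ∣ Nat.card (Subgroup.center (G ⧸ N)) := by
      rw [hcard]; exact dvd_pow_self p hn.ne'
    obtain ⟨c, hc⟩ := exists_prime_orderOf_dvd_card' p hdvd
    intro hbot
    have hcW : (c : G ⧸ N) ∈ W := by
      refine ⟨c.2, ?_⟩
      have : c ^ p = 1 := by rw [← hc]; exact pow_orderOf_eq_one c
      have h2 := congrArg Subtype.val this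
      rwa [Subgroup.coe_pow, Subgroup.coe_one] at h2
    rw [hbot, Subgroup.mem_bot] at hcW
    have hc1 : c = 1 := Subtype.ext hcW
    rw [hc1, orderOf_one] at hc
    exact hp.out.one_lt.ne hc
  let 𝓗 : Set (G ⧸ N →* G ⧸ N) := {f | ∃ h, ∃ hh : h ∈ H, f = quotMap N h (hN h hh)}
  have hsurj : ∀ f ∈ 𝓗, Function.Surjective f := by
    rintro f ⟨h, hh, rfl⟩ q
    obtain ⟨g, rfl⟩ := QuotientGroup.mk_surjective q
    exact ⟨((h⁻¹ g : G) : G ⧸ N), by rw [quotMap_mk, MulAut.apply_inv_self]⟩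
  have hpres : ∀ f ∈ 𝓗, ∀ w ∈ W, f w ∈ W := by
    intro f hf w hw
    refine ⟨?_, by rw [← map_pow, hw.2, map_one]⟩
    rw [Subgroup.mem_center_iff]
    intro q
    obtain ⟨q', rfl⟩ := hsurj f hf q
    rw [← map_mul, ← map_mul, Subgroup.mem_center_iff.1 hw.1 q']
  have hfg : ∀ f ∈ 𝓗, ∀ g ∈ 𝓗, ∀ w ∈ W, f (g w) = g (f w) := by
    rintro f ⟨h₁, hh₁, rfl⟩ g ⟨h₂, hh₂, rfl⟩ w -
    obtain ⟨x, rfl⟩ := QuotientGroup.mk_surjective w
    rw [quotMap_mk, quotMap_mk, quotMap_mk, quotMap_mk, ← MulAut.mul_apply, ← MulAut.mul_apply,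
      hHc h₁ hh₁ h₂ hh₂]
  have hpow : ∀ f ∈ 𝓗, ∀ w ∈ W, f^[p - 1] w = w := by
    rintro f ⟨h, hh, rfl⟩ w -
    obtain ⟨x, rfl⟩ := QuotientGroup.mk_surjective w
    rw [quotMap_iterate_mk, hHe h hh, MulAut.one_apply]
  obtain ⟨z, hzW, hz1, hz⟩ := exists_common_eigen p 𝓗 (Nat.card W) W inferInstance rfl hWne
    (fun a ha b _ => (Subgroup.mem_center_iff.1 ha.1 b).symm) (fun a ha => ha.2) hpres hfg hpow
  obtain ⟨x, hx⟩ := QuotientGroup.mk_surjective z
  have hzn : (Subgroup.zpowers z).Normal := by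
    constructor
    intro n hn g
    have hnc : n ∈ Subgroup.center (G ⧸ N) := (Subgroup.zpowers_le.2 hzW.1) hn
    rw [Subgroup.mem_center_iff.1 hnc g, mul_inv_cancel_right]
    exact hn
  have hmemN' : ∀ g : G, g ∈ (Subgroup.zpowers z).comap (QuotientGroup.mk' N) ↔
      (g : G ⧸ N) ∈ Subgroup.zpowers z := fun g => Iff.rfl
  have hinv1 : ∀ h ∈ H, ∀ g ∈ (Subgroup.zpowers z).comap (QuotientGroup.mk' N),
      h g ∈ (Subgroup.zpowers z).comap (QuotientGroup.mk' N) := by
    intro h hh g hg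
    rw [hmemN'] at hg ⊢
    obtain ⟨k, hk⟩ := hz _ ⟨h, hh, rfl⟩
    obtain ⟨j, hj⟩ := Subgroup.mem_zpowers_iff.1 hg
    rw [← quotMap_mk N h (hN h hh), ← hj, map_zpow, hk]
    exact Subgroup.zpow_mem _ (Subgroup.pow_mem _ (Subgroup.mem_zpowers z) _) _
  have hNle : N ≤ (Subgroup.zpowers z).comap (QuotientGroup.mk' N) := by
    intro n hn
    rw [hmemN', (QuotientGroup.eq_one_iff n).2 hn]
    exact Subgroup.one_mem _
  have hxN' : x ∈ (Subgroup.zpowers z).comap (QuotientGroup.mk' N) := by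
    rw [hmemN', hx]; exact Subgroup.mem_zpowers z
  refine ⟨(Subgroup.zpowers z).comap (QuotientGroup.mk' N), hzn.comap _, fun h hh g => ?_, ?_, x, ?_⟩
  · constructor
    · intro hg
      have := hinv1 h⁻¹ (H.inv_mem hh) _ hg
      rwa [MulAut.inv_apply_self] at this
    · exact hinv1 h hh g
  · refine lt_of_le_of_ne hNle (fun heq => ?_)
    rw [← heq] at hxN'
    exact hz1 (by rw [← hx]; exact (QuotientGroup.eq_one_iff x).2 hxN')
  · apply le_antisymm
    · intro g hg
      rw [hmemN'] at hg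
      obtain ⟨j, hj⟩ := Subgroup.mem_zpowers_iff.1 hg
      have h1 : (x ^ j)⁻¹ * g ∈ N := by
        apply QuotientGroup.eq.1
        rw [QuotientGroup.mk_zpow, hx, hj]
      have h3 : x ^ j * ((x ^ j)⁻¹ * g) ∈ N ⊔ Subgroup.zpowers x :=
        Subgroup.mul_mem _ (Subgroup.mem_sup_right (Subgroup.zpow_mem _ (Subgroup.mem_zpowers x) j))
          (Subgroup.mem_sup_left h1)
      rwa [mul_inv_cancel_left] at h3
    · exact sup_le hNle (Subgroup.zpowers_le.2 hxN')

/-- an invariant normal chain with cyclic steps from `N` to `⊤` -/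
theorem exists_chain_from [Finite G] {p : ℕ} [hp : Fact p.Prime] (hG : IsPGroup p G)
    (H : Subgroup (MulAut G)) (hHc : ∀ a ∈ H, ∀ b ∈ H, a * b = b * a)
    (hHe : ∀ h ∈ H, h ^ (p - 1) = 1) :
    ∀ (d : ℕ) (N : Subgroup G), N.Normal → (∀ h ∈ H, h ∈ presSub N) →
      Nat.card G - Nat.card N = d →
      ∃ (m : ℕ) (c : Fin (m + 1) → Subgroup G), c 0 = N ∧ c (Fin.last m) = ⊤ ∧
        (∀ i, (c i).Normal ∧ ∀ h ∈ H, h ∈ presSub (c i)) ∧
        ∀ i : Fin m, c i.castSucc ≤ c i.succ ∧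
          ∃ x, c i.succ = c i.castSucc ⊔ Subgroup.zpowers x := by
  intro d
  induction d using Nat.strong_induction_on with
  | _ d ih =>
  intro N hNn hN hd
  by_cases htop : N = ⊤
  · refine ⟨0, fun _ => ⊤, htop.symm, rfl, fun _ => ⟨inferInstance, fun h _ x => by simp⟩,
      fun i => i.elim0⟩
  · obtain ⟨N', hN'n, hN', hlt, x, hx⟩ := exists_step hG H hHc hHe N hN htop
    have hcardlt : Nat.card N < Nat.card N' := by
      by_contra hge
      push Not at hge
      exact hlt.ne (Subgroup.eq_of_le_of_card_ge hlt.le hge)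
    have hle : Nat.card N' ≤ Nat.card G := Subgroup.card_le_card_group N'
    obtain ⟨m, c', hc0, hclast, hcall, hcstep⟩ :=
      ih (Nat.card G - Nat.card N') (by omega) N' hN'n hN' rfl
    refine ⟨m + 1, Fin.cons N c', Fin.cons_zero _ _, ?_, ?_, ?_⟩
    · rw [← Fin.succ_last, Fin.cons_succ]; exact hclast
    · intro i
      refine Fin.cases ?_ (fun j => ?_) i
      · rw [Fin.cons_zero]; exact ⟨hNn, hN⟩
      · rw [Fin.cons_succ]; exact hcall j
    · intro i
      refine Fin.cases ?_ (fun j => ?_) i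
      · rw [Fin.castSucc_zero, Fin.cons_zero, Fin.cons_succ, hc0]
        exact ⟨hlt.le, x, hx⟩
      · rw [Fin.castSucc_succ, Fin.cons_succ, Fin.cons_succ]
        exact hcstep j

/-- a normal chain with cyclic steps from `⊥` to `⊤` invariant under an abelian group of
automorphisms of exponent dividing `p - 1` -/
theorem exists_invariant_chain [Finite G] {p : ℕ} [hp : Fact p.Prime] (hG : IsPGroup p G)
    (H : Subgroup (MulAut G)) (hHc : ∀ a ∈ H, ∀ b ∈ H, a * b = b * a)
    (hHe : ∀ h ∈ H, h ^ (p - 1) = 1) :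
    ∃ (m : ℕ) (c : Fin (m + 1) → Subgroup G), c 0 = ⊥ ∧ c (Fin.last m) = ⊤ ∧
      (∀ i, (c i).Normal ∧ ∀ h ∈ H, h ∈ presSub (c i)) ∧
      ∀ i : Fin m, c i.castSucc ≤ c i.succ ∧
        ∃ x, c i.succ = c i.castSucc ⊔ Subgroup.zpowers x :=
  exists_chain_from hG H hHc hHe _ ⊥ inferInstance
    (fun h _ x => by
      rw [Subgroup.mem_bot, Subgroup.mem_bot]
      exact (MulEquiv.map_eq_one_iff h)) rfl

end Step

end Cfsg.Agent.Helper87
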