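import Mathlib

set_option autoImplicit false
set_option maxRecDepth 100000

namespace Cfsg.Agent.Helper87.OutD8

open DihedralGroup

/-- evaluation of the word of `g` in the images `a` of `r 1` and `b` of `sr 0` -/
def ev (a b : DihedralGroup 4) : DihedralGroup 4 → DihedralGroup 4
  | r i => a ^ i.val
  | sr i => b * a ^ i.val

theorem hom_eq_ev (α : DihedralGroup 4 →* DihedralGroup 4) (g : DihedralGroup 4) :
    α g = ev (α (r 1)) (α (sr 0)) g := by
  rcases g with i | i
  · have : (r i : DihedralGroup 4) = (r 1) ^ i.val := by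
      rw [r_one_pow, ZMod.natCast_zmod_val]
    rw [this, map_pow]
    simp only [ev]
    congr 1
    rw [r_one_pow, ZMod.natCast_zmod_val]
  · have : (sr i : DihedralGroup 4) = sr 0 * (r 1) ^ i.val := by
      rw [r_one_pow, sr_mul_r, zero_add, ZMod.natCast_zmod_val]
    rw [this, map_mul, map_pow]
    simp only [ev]
    congr 2
    rw [r_one_pow, sr_mul_r, zero_add, ZMod.natCast_zmod_val]

theorem fin_key : ∀ a b ρ : DihedralGroup 4, a ^ 2 ≠ 1 → b * a ≠ a * b → ev a b ρ = ρ →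
    ρ * ρ = 1 → (∃ d : DihedralGroup 4, d * ρ ≠ ρ * d) →
    (a = r 1 ∧ b = sr 0) ∨ (a = ρ * r 1 * ρ⁻¹ ∧ b = ρ * sr 0 * ρ⁻¹) := by
  decide

end Cfsg.Agent.Helper87.OutD8

namespace Cfsg.Agent.Helper87.OutD8

open DihedralGroup

/-- an automorphism of `D₈` fixing a non-central involution `ρ` is trivial or conjugation by `ρ` -/
theorem d8_aut_fix (α : MulAut (DihedralGroup 4)) (ρ : DihedralGroup 4) (hρ : α ρ = ρ)
    (hρ2 : ρ * ρ = 1) (d : DihedralGroup 4) (hd : d * ρ ≠ ρ * d) :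
    (∀ g, α g = g) ∨ (∀ g, α g = ρ * g * ρ⁻¹) := by
  have hinj := (α : DihedralGroup 4 ≃* DihedralGroup 4).injective
  set α' : DihedralGroup 4 →* DihedralGroup 4 :=
    (α : DihedralGroup 4 ≃* DihedralGroup 4).toMonoidHom with hα'
  have hev : ∀ g, α g = ev (α (r 1)) (α (sr 0)) g := fun g => hom_eq_ev α' g
  have h1 : (α (r 1)) ^ 2 ≠ 1 := by
    rw [← map_pow]
    intro hc
    have : (r 1 : DihedralGroup 4) ^ 2 = 1 := hinj (hc.trans (map_one α).symm)
    revert this
    decide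
  have h2 : α (sr 0) * α (r 1) ≠ α (r 1) * α (sr 0) := by
    rw [← map_mul, ← map_mul]
    intro hc
    have := hinj hc
    revert this
    decide
  have h3 : ev (α (r 1)) (α (sr 0)) ρ = ρ := by rw [← hev, hρ]
  rcases fin_key _ _ ρ h1 h2 h3 hρ2 ⟨d, hd⟩ with ⟨ha, hb⟩ | ⟨ha, hb⟩
  · left
    intro g
    rw [hev, ha, hb]
    have := hom_eq_ev (MonoidHom.id _) g
    simpa using this.symm
  · right
    intro g
    rw [hev, ha, hb]
    have := hom_eq_ev ((MulAut.conj ρ : DihedralGroup 4 ≃* DihedralGroup 4).toMonoidHom) g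
    simpa [MulAut.conj_apply] using this.symm

end Cfsg.Agent.Helper87.OutD8
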