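import Mathlib
import Cfsg.Agent.Lib.Helper87.D8Aut

set_option autoImplicit false
set_option linter.unusedSectionVars false
set_option linter.style.haveILetI false

namespace Cfsg.Agent.Helper87.OutD8

open DihedralGroup

/-- a normal subgroup with a centralising cyclic supplement of exact order `f` -/
theorem prod_of_central {G : Type*} [Group G] (N : Subgroup G) (c : G) (f : ℕ) (hf : 1 ≤ f)
    (hc : ∀ n ∈ N, c * n = n * c) (hgen : ∀ g : G, ∃ i : ℕ, g * c ^ i ∈ N)
    (hord : ∀ j : ℕ, c ^ j ∈ N → f ∣ j) (hcf : c ^ f = 1) :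
    Nonempty (G ≃* ↥N × Multiplicative (ZMod f)) := by
  classical
  haveI : NeZero f := ⟨by omega⟩
  have hfin : IsOfFinOrder c := isOfFinOrder_iff_pow_eq_one.2 ⟨f, by omega, hcf⟩
  have hcentz : ∀ n ∈ N, ∀ z ∈ Subgroup.zpowers c, z * n = n * z := by
    intro n hn z hz
    obtain ⟨k, rfl⟩ := Subgroup.mem_zpowers_iff.mp hz
    have : Commute c n := hc n hn
    exact (this.zpow_left k).eq
  let F : ↥N × ↥(Subgroup.zpowers c) →* G :=
    MonoidHom.mk' (fun p => (p.1 : G) * (p.2 : G)) (by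
      intro a b
      show ((a.1 : G) * b.1) * ((a.2 : G) * b.2) = (a.1 : G) * a.2 * ((b.1 : G) * b.2)
      have h := hcentz b.1 b.1.2 a.2 a.2.2
      calc ((a.1 : G) * b.1) * ((a.2 : G) * b.2)
          = (a.1 : G) * ((b.1 : G) * a.2) * b.2 := by group
        _ = (a.1 : G) * ((a.2 : G) * b.1) * b.2 := by rw [h]
        _ = (a.1 : G) * a.2 * ((b.1 : G) * b.2) := by group)
  have hF : ∀ p, F p = (p.1 : G) * (p.2 : G) := fun _ => rfl
  have hcN : ∀ j : ℕ, c ^ j ∈ N → c ^ j = 1 := by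
    intro j hj
    obtain ⟨k, rfl⟩ := hord j hj
    rw [pow_mul, hcf, one_pow]
  have hinj : Function.Injective F := by
    rw [injective_iff_map_eq_one]
    rintro ⟨⟨a, ha⟩, ⟨b, hb⟩⟩ hab
    rw [hF] at hab
    simp only at hab
    obtain ⟨j, rfl⟩ := (hfin.mem_powers_iff_mem_zpowers.mpr hb)
    change a * c ^ j = 1 at hab
    have h1 : c ^ j ∈ N := by
      have : c ^ j = a⁻¹ := eq_inv_of_mul_eq_one_right hab
      rw [this]
      exact N.inv_mem ha
    have h2 := hcN j h1
    have h3 : a = 1 := by rwa [h2, mul_one] at hab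
    apply Prod.ext
    · exact Subtype.ext h3
    · exact Subtype.ext h2
  have hsurj : Function.Surjective F := by
    intro g
    obtain ⟨i, hi⟩ := hgen g
    refine ⟨(⟨g * c ^ i, hi⟩, ⟨(c ^ i)⁻¹, inv_mem (pow_mem (Subgroup.mem_zpowers c) i)⟩), ?_⟩
    rw [hF]
    simp
  have hcord : orderOf c = f := by
    apply Nat.dvd_antisymm (orderOf_dvd_of_pow_eq_one hcf)
    apply hord
    rw [pow_orderOf_eq_one]
    exact one_mem _
  have eZ : Nonempty (Multiplicative (ZMod f) ≃* ↥(Subgroup.zpowers c)) := by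
    have hcard : Nat.card (Subgroup.zpowers c) = f := by rw [Nat.card_zpowers, hcord]
    rw [← hcard]
    exact ⟨zmodCyclicMulEquiv (inferInstance : IsCyclic (Subgroup.zpowers c))⟩
  obtain ⟨eZ⟩ := eZ
  exact ⟨(MulEquiv.ofBijective F ⟨hinj, hsurj⟩).symm.trans
    (MulEquiv.prodCongr (MulEquiv.refl _) eZ.symm)⟩

/-- `G ≅ D₈ × C_f` : a normal `D₈`, a cyclic supplement `⟨u⟩` of exact order `f` meeting it
trivially, where `u` commutes with a non-central involution `ρ` of the `D₈` -/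
theorem d8_prod_cyclic {G : Type*} [Group G] (N : Subgroup G) [hNn : N.Normal]
    (eN : ↥N ≃* DihedralGroup 4) (u : G) (f : ℕ) (hf : 1 ≤ f)
    (hgen : ∀ g : G, ∃ i : ℕ, g * u ^ i ∈ N) (hord : ∀ j : ℕ, u ^ j ∈ N → f ∣ j)
    (huf : u ^ f = 1) (ρ d : G) (hρ : ρ ∈ N) (hd : d ∈ N) (hρρ : ρ * ρ = 1)
    (huρ : u * ρ = ρ * u) (hdρ : d * ρ ≠ ρ * d) :
    Nonempty (G ≃* DihedralGroup 4 × Multiplicative (ZMod f)) := by
  classical
  have hρinv : ρ⁻¹ = ρ := inv_eq_of_mul_eq_one_right hρρ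
  set β : MulAut N := MulAut.conjNormal u with hβ
  have hβapp : ∀ (n : G) (hn : n ∈ N), ((β ⟨n, hn⟩ : N) : G) = u * n * u⁻¹ :=
    fun n hn => MulAut.conjNormal_apply u ⟨n, hn⟩
  set α : MulAut (DihedralGroup 4) := MulAut.congr eN β with hα
  have hαapp : ∀ g, α g = eN (β (eN.symm g)) := fun g => rfl
  have hfix : α (eN ⟨ρ, hρ⟩) = eN ⟨ρ, hρ⟩ := by
    rw [hαapp, MulEquiv.symm_apply_apply]
    congr 1
    apply Subtype.ext
    rw [hβapp, huρ, mul_inv_cancel_right]
  have hne : eN ⟨d, hd⟩ * eN ⟨ρ, hρ⟩ ≠ eN ⟨ρ, hρ⟩ * eN ⟨d, hd⟩ := by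
    rw [← map_mul, ← map_mul]
    intro h
    apply hdρ
    exact congrArg Subtype.val (eN.injective h)
  have hsq : eN ⟨ρ, hρ⟩ * eN ⟨ρ, hρ⟩ = 1 := by
    rw [← map_mul]
    have : (⟨ρ, hρ⟩ : N) * ⟨ρ, hρ⟩ = 1 := Subtype.ext hρρ
    rw [this, map_one]
  -- translate back
  have hback : ∀ (n : G) (hn : n ∈ N), u * n * u⁻¹ = ((eN.symm (α (eN ⟨n, hn⟩)) : N) : G) := by
    intro n hn
    rw [hαapp, MulEquiv.symm_apply_apply, MulEquiv.symm_apply_apply, hβapp]
  have key : (∀ n ∈ N, u * n = n * u) ∨ (∀ n ∈ N, u * n * u⁻¹ = ρ * n * ρ⁻¹) := by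
    rcases d8_aut_fix α _ hfix hsq _ hne with h | h
    · left
      intro n hn
      have h1 := hback n hn
      rw [h, MulEquiv.symm_apply_apply] at h1
      calc u * n = (u * n * u⁻¹) * u := by group
        _ = n * u := by rw [h1]
    · right
      intro n hn
      have h1 := hback n hn
      rw [h, ← map_inv, ← map_mul, ← map_mul, MulEquiv.symm_apply_apply] at h1
      rw [h1]
      rfl
  -- the central generator
  obtain ⟨c, hcN, hcc, hcu, hcf⟩ : ∃ c : G, (∀ n ∈ N, c * n = n * c) ∧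
      (∀ j : ℕ, c ^ j ∈ N ↔ u ^ j ∈ N) ∧ (∀ g : G, ∀ i : ℕ, g * u ^ i ∈ N → g * c ^ i ∈ N) ∧
      c ^ f = 1 := by
    rcases key with h | h
    · exact ⟨u, h, fun j => Iff.rfl, fun g i hi => hi, huf⟩
    · have hcomm : Commute u ρ := huρ
      have hpow : ∀ j : ℕ, (u * ρ) ^ j = u ^ j * ρ ^ j := fun j => hcomm.mul_pow j
      have hρj : ∀ j : ℕ, ρ ^ j ∈ N := fun j => pow_mem hρ j
      have heven : Even f := by
        by_contra hodd
        rw [Nat.not_even_iff_odd] at hodd
        obtain ⟨k, hk⟩ := hodd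
        -- conjugation by `u ^ f = 1` is trivial, but equals conjugation by `ρ ^ f = ρ`
        have hiter : ∀ (j : ℕ) (n : G), n ∈ N → u ^ j * n * (u ^ j)⁻¹ = ρ ^ j * n * (ρ ^ j)⁻¹ := by
          intro j
          induction j with
          | zero => intro n _; simp
          | succ j ih =>
            intro n hn
            have h1 : u ^ (j + 1) * n * (u ^ (j + 1))⁻¹ =
                u * (u ^ j * n * (u ^ j)⁻¹) * u⁻¹ := by
              rw [pow_succ']; group
            have hmem : ρ ^ j * n * (ρ ^ j)⁻¹ ∈ N := hNn.conj_mem n hn _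
            rw [h1, ih n hn, h _ hmem, pow_succ']
            group
        have h2 := hiter f d hd
        rw [huf] at h2
        have hρf : ρ ^ f = ρ := by
          rw [hk, pow_succ, pow_mul, pow_two, hρρ, one_pow, one_mul]
        rw [hρf] at h2
        apply hdρ
        have h3 : d = ρ * d * ρ⁻¹ := by simpa using h2
        calc d * ρ = (ρ * d * ρ⁻¹) * ρ := by rw [← h3]
          _ = ρ * d := by group
      have hρf : ρ ^ f = 1 := by
        obtain ⟨k, hk⟩ := heven
        rw [hk, ← two_mul, pow_mul, pow_two, hρρ, one_pow]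
      refine ⟨u * ρ, ?_, ?_, ?_, ?_⟩
      · intro n hn
        have h1 := h n hn
        have h2 : u * n = ρ * n * ρ⁻¹ * u := by rw [← h1]; group
        calc u * ρ * n = ρ * (u * n) := by rw [← mul_assoc, huρ]
          _ = ρ * (ρ * n * ρ⁻¹ * u) := by rw [h2]
          _ = (ρ * ρ) * n * (ρ⁻¹ * u) := by group
          _ = n * (ρ * u) := by rw [hρρ, one_mul, hρinv]
          _ = n * (u * ρ) := by rw [huρ]
      · intro j
        rw [hpow]
        constructor
        · intro hj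
          have := mul_mem hj (inv_mem (hρj j))
          rwa [mul_inv_cancel_right] at this
        · intro hj
          exact mul_mem hj (hρj j)
      · intro g i hi
        rw [hpow, ← mul_assoc]
        exact mul_mem hi (hρj i)
      · rw [hpow, huf, hρf, one_mul]
  obtain ⟨e⟩ := prod_of_central N c f hf hcN (fun g => by
    obtain ⟨i, hi⟩ := hgen g
    exact ⟨i, hcu g i hi⟩) (fun j hj => hord j ((hcc j).1 hj)) hcf
  exact ⟨e.trans (MulEquiv.prodCongr eN (MulEquiv.refl _))⟩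

end Cfsg.Agent.Helper87.OutD8
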