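import Mathlib
import Cfsg.Agent.Lib.Helper87.D8Prod

set_option autoImplicit false
set_option linter.unusedSectionVars false
set_option linter.style.haveILetI false

namespace Cfsg.Agent.Helper87.OutD8

open DihedralGroup

section quot

variable {A : Type*} [Group A] (I P : Subgroup A) [I.Normal]

/-- image of `P` in `A ⧸ I` -/
theorem mem_map_mk_iff (hIP : I ≤ P) (a : A) :
    QuotientGroup.mk' I a ∈ P.map (QuotientGroup.mk' I) ↔ a ∈ P := by
  constructor
  · rintro ⟨p, hp, hpa⟩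
    have h1 : QuotientGroup.mk' I (p⁻¹ * a) = 1 := by
      rw [map_mul, map_inv, hpa, inv_mul_cancel]
    have h2 : p⁻¹ * a ∈ P := hIP ((QuotientGroup.eq_one_iff _).1 h1)
    have h3 := P.mul_mem hp h2
    rwa [mul_inv_cancel_left] at h3
  · intro ha
    exact ⟨a, ha, rfl⟩

/-- `P.map π ≃* M` from a surjection `φ : P → M` with kernel `I ∩ P` -/
noncomputable def mapEquiv {M : Type*} [Group M] (φ : ↥P →* M) (hφ : Function.Surjective φ)
    (hker : φ.ker = I.subgroupOf P) : ↥(P.map (QuotientGroup.mk' I)) ≃* M := by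
  let θ : ↥P →* A ⧸ I := (QuotientGroup.mk' I).comp P.subtype
  have hθker : θ.ker = φ.ker := by
    rw [hker]
    ext p
    rw [MonoidHom.mem_ker, Subgroup.mem_subgroupOf]
    exact QuotientGroup.eq_one_iff _
  have hrange : θ.range = P.map (QuotientGroup.mk' I) := by
    rw [MonoidHom.range_eq_map, ← Subgroup.map_map, ← MonoidHom.range_eq_map, Subgroup.range_subtype]
  exact (MulEquiv.subgroupCongr hrange).symm.trans
    ((QuotientGroup.quotientKerEquivRange θ).symm.trans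
      ((QuotientGroup.quotientMulEquivOfEq hθker).trans
        (QuotientGroup.quotientKerEquivOfSurjective φ hφ)))

end quot

/-- `A/I ≅ D₈ × C_f` for ANY `f`: `P/I ≅ D₈` (via `φ`), `A = P⟨x⟩` with `x` of exact order `f`
modulo `P` and `x ^ f ∈ I`; `x` commutes modulo `I` with some `r ∈ P` which is an involution
modulo `I` and is not central in `P` modulo `I`. -/
theorem out_dihedral_gen {A : Type*} [Group A] (I P : Subgroup A) [I.Normal] [hPn : P.Normal]
    (hIP : I ≤ P) (φ : ↥P →* DihedralGroup 4) (hφ : Function.Surjective φ)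
    (hker : φ.ker = I.subgroupOf P) (x : A) (f : ℕ) (hf : 1 ≤ f)
    (hgen : ∀ β : A, ∃ i : ℕ, β * x ^ i ∈ P)
    (hord : ∀ j : ℕ, x ^ j ∈ P → f ∣ j) (hxf : x ^ f ∈ I)
    (r d : A) (hr : r ∈ P) (hd : d ∈ P) (hrr : r * r ∈ I)
    (hxr : x * r * x⁻¹ * r⁻¹ ∈ I) (hdr : d * r * d⁻¹ * r⁻¹ ∉ I) :
    Nonempty (A ⧸ I ≃* DihedralGroup 4 × Multiplicative (ZMod f)) := by
  classical
  set π : A →* A ⧸ I := QuotientGroup.mk' I with hπ
  have hπ1 : ∀ a : A, π a = 1 ↔ a ∈ I := fun a => QuotientGroup.eq_one_iff a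
  set N : Subgroup (A ⧸ I) := P.map π with hN
  have hmemN : ∀ a : A, π a ∈ N ↔ a ∈ P := mem_map_mk_iff I P hIP
  haveI hNn : N.Normal := Subgroup.Normal.map hPn π (QuotientGroup.mk'_surjective I)
  have eN : ↥N ≃* DihedralGroup 4 := mapEquiv I P φ hφ hker
  have hcomm_iff : ∀ a b : A, π a * π b = π b * π a ↔ a * b * a⁻¹ * b⁻¹ ∈ I := by
    intro a b
    rw [← hπ1, map_mul, map_mul, map_mul, map_inv, map_inv]
    constructor
    · intro h
      rw [h]; group
    · intro h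
      have : π a * π b = (π a * π b * (π a)⁻¹ * (π b)⁻¹) * (π b * π a) := by group
      rw [this, h, one_mul]
  refine d8_prod_cyclic N eN (π x) f hf ?_ ?_ ?_ (π r) (π d) ((hmemN r).2 hr) ((hmemN d).2 hd)
    ?_ ?_ ?_
  · intro g
    obtain ⟨b, rfl⟩ := QuotientGroup.mk'_surjective I g
    obtain ⟨i, hi⟩ := hgen b
    refine ⟨i, ?_⟩
    have : (QuotientGroup.mk' I) b * π x ^ i = π (b * x ^ i) := by
      rw [map_mul, map_pow]
    rw [this, hmemN]
    exact hi
  · intro j hj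
    rw [← map_pow, hmemN] at hj
    exact hord j hj
  · rw [← map_pow, hπ1]
    exact hxf
  · rw [← map_mul, hπ1]
    exact hrr
  · rw [hcomm_iff]
    exact hxr
  · rw [Ne, hcomm_iff]
    exact hdr

/-- `A/I ≅ C₂ × C₂ × C_f`: `P/I ≅ C₂ × C₂` (via `φ`), `x` centralises `P` modulo `I`. -/
theorem out_klein_split {A : Type*} [Group A] (I P : Subgroup A) [I.Normal] [hPn : P.Normal]
    (hIP : I ≤ P) (φ : ↥P →* Multiplicative (ZMod 2 × ZMod 2)) (hφ : Function.Surjective φ)
    (hker : φ.ker = I.subgroupOf P) (x : A) (f : ℕ) (hf : 1 ≤ f)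
    (hgen : ∀ β : A, ∃ i : ℕ, β * x ^ i ∈ P)
    (hord : ∀ j : ℕ, x ^ j ∈ P → f ∣ j) (hxf : x ^ f ∈ I)
    (hcomm : ∀ β ∈ P, x * β * x⁻¹ * β⁻¹ ∈ I) :
    Nonempty (A ⧸ I ≃* Multiplicative (ZMod 2 × ZMod 2 × ZMod f)) := by
  classical
  set π : A →* A ⧸ I := QuotientGroup.mk' I with hπ
  have hπ1 : ∀ a : A, π a = 1 ↔ a ∈ I := fun a => QuotientGroup.eq_one_iff a
  set N : Subgroup (A ⧸ I) := P.map π with hN
  have hmemN : ∀ a : A, π a ∈ N ↔ a ∈ P := mem_map_mk_iff I P hIP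
  have eN : ↥N ≃* Multiplicative (ZMod 2 × ZMod 2) := mapEquiv I P φ hφ hker
  have hcomm_iff : ∀ a b : A, π a * π b = π b * π a ↔ a * b * a⁻¹ * b⁻¹ ∈ I := by
    intro a b
    rw [← hπ1, map_mul, map_mul, map_mul, map_inv, map_inv]
    constructor
    · intro h
      rw [h]; group
    · intro h
      have : π a * π b = (π a * π b * (π a)⁻¹ * (π b)⁻¹) * (π b * π a) := by group
      rw [this, h, one_mul]
  obtain ⟨e⟩ := prod_of_central N (π x) f hf (by
      rintro _ ⟨b, hb, rfl⟩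
      rw [hcomm_iff]
      exact hcomm b hb) (by
      intro g
      obtain ⟨b, rfl⟩ := QuotientGroup.mk'_surjective I g
      obtain ⟨i, hi⟩ := hgen b
      refine ⟨i, ?_⟩
      have : (QuotientGroup.mk' I) b * π x ^ i = π (b * x ^ i) := by
        rw [map_mul, map_pow]
      rw [this, hmemN]
      exact hi) (by
      intro j hj
      rw [← map_pow, hmemN] at hj
      exact hord j hj) (by
      rw [← map_pow, hπ1]
      exact hxf)
  refine ⟨e.trans ((MulEquiv.prodCongr eN (MulEquiv.refl _)).trans ?_)⟩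
  exact (MulEquiv.prodMultiplicative (ZMod 2 × ZMod 2) (ZMod f)).symm.trans
    (AddEquiv.toMultiplicative (AddEquiv.prodAssoc : (ZMod 2 × ZMod 2) × ZMod f ≃+ ZMod 2 × ZMod 2 × ZMod f))

end Cfsg.Agent.Helper87.OutD8
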