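import Mathlib
import Cfsg.Prelude.Def_FusionSystem
import Cfsg.Agent.Lib.Helper87.EssData
import Cfsg.Agent.Lib.Helper48.SPE
import Cfsg.Agent.Lib.Helper87.SmallCenterGrp

set_option autoImplicit false

namespace Cfsg.Agent.Helper87

open Cfsg Cfsg.FusionSystem

variable {Ω : Type*} [Group Ω] {S : Subgroup Ω} [Finite S] {p : ℕ} [hp : Fact p.Prime]

/-- the control subgroup provided by the strongly `p`-embedded subgroup of `Out_F(P)` -/
theorem ess_control (hS : IsPGroup p S) {F : FusionSystem S} (hF : F.IsSaturated p) {P : Subgroup Ω}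
    (hP : F.IsEssential p P) :
    ∃ M : Subgroup (MulAut P), ¬ F.autGroup P ≤ M ∧
      ∀ t ∈ autInducedBy S P, t ∉ Inn P → ∀ β ∈ F.autGroup P,
        β * t * β⁻¹ ∈ autInducedBy S P → β ∈ M := by
  obtain ⟨hcen, hfn, hn, M₀, hM₀⟩ := hP
  have := hn
  have hPS := hcen.1
  have : Finite P := finite_of_le hPS
  have : Finite (MulAut P) :=
    Finite.of_injective (fun e : MulAut P => (e : P → P)) DFunLike.coe_injective
  have hfa := fullyAutomized_of_fullyNormalized hS hF hfn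
  obtain ⟨-, PA, hPA⟩ := hfa
  obtain ⟨M, hMtop, -, hMkey⟩ :=
    Cfsg.Agent.Helper88.exists_subgroup_of_spe_quotient _ M₀ hM₀ PA
  refine ⟨M.map (F.autGroup P).subtype, ?_, ?_⟩
  · intro hle
    apply hMtop
    rw [eq_top_iff]
    intro a _
    obtain ⟨b, hb, e⟩ := hle a.2
    have : b = a := Subtype.ext e
    rw [← this]; exact hb
  · intro t ht htI β hβ hβt
    have htA : t ∈ F.autGroup P := autInducedBy_le_autGroup F hPS ht
    refine ⟨⟨β, hβ⟩, ?_, rfl⟩
    apply hMkey ⟨t, htA⟩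
    · rw [hPA, Subgroup.mem_subgroupOf]; exact ht
    · rw [Subgroup.mem_subgroupOf]; exact htI
    · rw [hPA, Subgroup.mem_subgroupOf]; exact hβt

/-- abstract commuting argument: commuting outer elements of two Sylow subgroups -/
theorem mem_of_commute_conj {X : Type*} [Group X] [Finite X] {A T I M : Subgroup X}
    (hsyl : ∃ R : Sylow p A, (R : Subgroup A) = T.subgroupOf A)
    (hM : ∀ t ∈ T, t ∉ I → ∀ β ∈ A, β * t * β⁻¹ ∈ T → β ∈ M)
    {g t s : X} (hg : g ∈ A) (htA : t ∈ A) (ht : t ∈ T) (htI : t ∉ I) (hsA : s ∈ A) (hs : s ∈ T)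
    (hsI : s ∉ I) (hc : t * (g * s * g⁻¹) = (g * s * g⁻¹) * t) : g ∈ M := by
  obtain ⟨R, hR⟩ := hsyl
  have hgsA : g * s * g⁻¹ ∈ A := A.mul_mem (A.mul_mem hg hsA) (A.inv_mem hg)
  set t' : A := ⟨t, htA⟩ with ht'
  set u' : A := ⟨g * s * g⁻¹, hgsA⟩ with hu'
  set g' : A := ⟨g, hg⟩ with hg'
  set s' : A := ⟨s, hsA⟩ with hs'
  have hcomm : t' * u' = u' * t' := Subtype.ext hc
  have htR : t' ∈ (R : Subgroup A) := by rw [hR, Subgroup.mem_subgroupOf]; exact ht
  have hsR : s' ∈ (R : Subgroup A) := by rw [hR, Subgroup.mem_subgroupOf]; exact hs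
  have hu'eq : u' = g' * s' * g'⁻¹ := Subtype.ext rfl
  have h1 : IsPGroup p (Subgroup.zpowers t') :=
    R.isPGroup'.to_le ((Subgroup.zpowers_le).2 htR)
  have h2 : IsPGroup p (Subgroup.zpowers u') := by
    have hle : Subgroup.zpowers u' ≤ ((g' • R : Sylow p A) : Subgroup A) := by
      rw [Subgroup.zpowers_le, Cfsg.Agent.Helper48.mem_sylow_smul_iff, hu'eq]
      have : g'⁻¹ * (g' * s' * g'⁻¹) * g' = s' := by group
      rw [this]; exact hsR
    exact (g' • R).isPGroup'.to_le hle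
  have h3 : Subgroup.zpowers t' ≤ Subgroup.normalizer (Subgroup.zpowers u' : Set A) := by
    rw [Subgroup.zpowers_le]
    rw [Subgroup.mem_normalizer_iff]
    intro h
    constructor
    · intro hh
      obtain ⟨k, rfl⟩ := Subgroup.mem_zpowers_iff.1 hh
      have : t' * u' ^ k * t'⁻¹ = u' ^ k := by
        have : Commute t' (u' ^ k) := (Commute.zpow_right hcomm k)
        rw [this.eq, mul_inv_cancel_right]
      rw [this]; exact hh
    · intro hh
      obtain ⟨k, hk⟩ := Subgroup.mem_zpowers_iff.1 hh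
      have : Commute t' (u' ^ k) := (Commute.zpow_right hcomm k)
      have e2 : h = t'⁻¹ * u' ^ k * t' := by rw [hk]; group
      have e3 : t'⁻¹ * u' ^ k * t' = u' ^ k := by
        rw [mul_assoc, ← this.eq, inv_mul_cancel_left]
      rw [e2, e3]; exact Subgroup.zpow_mem_zpowers u' k
  have hK := IsPGroup.to_sup_of_normal_right' h1 h2 h3
  obtain ⟨R', hR'⟩ := hK.exists_le_sylow
  obtain ⟨h, hh⟩ := MulAction.exists_smul_eq A R R'
  have ht1 : t' ∈ ((h • R : Sylow p A) : Subgroup A) := by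
    rw [hh]; exact hR' (le_sup_left (a := Subgroup.zpowers t') (Subgroup.mem_zpowers t'))
  have hu1 : u' ∈ ((h • R : Sylow p A) : Subgroup A) := by
    rw [hh]; exact hR' (le_sup_right (b := Subgroup.zpowers u') (Subgroup.mem_zpowers u'))
  rw [Cfsg.Agent.Helper48.mem_sylow_smul_iff, hR, Subgroup.mem_subgroupOf] at ht1 hu1
  have e1 : (h⁻¹ : X) ∈ M := by
    apply hM t ht htI _ (A.inv_mem h.2)
    have : ((h⁻¹ * t' * h : A) : X) = (h : X)⁻¹ * t * ((h : X)⁻¹)⁻¹ := by
      simp [ht']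
    rw [← this]; exact ht1
  have e2 : (h : X)⁻¹ * g ∈ M := by
    apply hM s hs hsI _ (A.mul_mem (A.inv_mem h.2) hg)
    have : ((h⁻¹ * u' * h : A) : X) = ((h : X)⁻¹ * g) * s * ((h : X)⁻¹ * g)⁻¹ := by
      simp [hu']
      group
    rw [← this]; exact hu1
  have : g = ((h : X)⁻¹)⁻¹ * ((h : X)⁻¹ * g) := by group
  rw [this]
  exact M.mul_mem (M.inv_mem e1) e2

/-- two automorphisms acting trivially modulo a central subgroup `Z` commute after twisting by `g`,
as soon as the first fixes `g(Z)` and the second fixes `g⁻¹(Z)` -/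
theorem conj_commute_of_central {P : Type*} [Group P] {Z : Subgroup P}
    (hZ : Z ≤ Subgroup.center P) {t s g : MulAut P}
    (ht : ∀ e, e⁻¹ * t e ∈ Z) (hs : ∀ e, e⁻¹ * s e ∈ Z)
    (htg : ∀ z ∈ Z, t (g z) = g z) (hsg : ∀ z ∈ Z, s (g⁻¹ z) = g⁻¹ z) :
    t * (g * s * g⁻¹) = (g * s * g⁻¹) * t := by
  ext e
  simp only [MulAut.mul_apply]
  -- notation
  set a := g⁻¹ e with ha
  have hga : g a = e := by rw [ha]; simp
  set k := a⁻¹ * s a with hk
  have hkZ : k ∈ Z := hs a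
  have hsa : s a = a * k := by rw [hk]; group
  set m := e⁻¹ * t e with hm
  have hmZ : m ∈ Z := ht e
  have hte : t e = e * m := by rw [hm]; group
  have hmc : ∀ y : P, m * y = y * m := fun y => (Subgroup.mem_center_iff.1 (hZ hmZ) y).symm
  -- left side
  have hL : t (g (s a)) = e * m * g k := by
    rw [hsa, map_mul, map_mul, hga, htg k hkZ, hte]
  -- right side
  have hR : g (s (g⁻¹ (t e))) = e * g k * m := by
    rw [hte, map_mul, map_mul, ← ha, hsg m hmZ, hsa, map_mul, map_mul, hga]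
    have : g (g⁻¹ m) = m := by simp
    rw [this]
  rw [hL, hR, mul_assoc, hmc, ← mul_assoc]

omit [Finite ↥S] in
/-- an element of `S` normalizing a centric subgroup `E` and inducing an inner automorphism
lies in `E` -/
theorem mem_of_conjAut_mem_inn' {F : FusionSystem S} {E : Subgroup Ω} (hcen : F.IsCentric E)
    {x : Ω} (hxS : x ∈ S) (hxn : x ∈ Subgroup.normalizer (E : Set Ω))
    (h : conjAut E x hxn ∈ Inn E) : x ∈ E := by
  obtain ⟨e, he⟩ := h
  have hc : centralizerIn S E ≤ E := hcen.2 E (isConj_refl hcen.1)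
  have : (e : Ω)⁻¹ * x ∈ centralizerIn S E := by
    refine ⟨S.mul_mem (S.inv_mem (hcen.1 e.2)) hxS, ?_⟩
    show (e : Ω)⁻¹ * x ∈ Subgroup.centralizer (E : Set Ω)
    rw [Subgroup.mem_centralizer_iff]
    intro z hz
    have h1 := congrArg (fun a : MulAut E => ((a ⟨z, hz⟩ : E) : Ω)) he
    simp only [MulAut.conj_apply, conjAut_apply, Subgroup.coe_mul, Subgroup.coe_inv] at h1
    -- h1 : e * z * e⁻¹ = x * z * x⁻¹
    have : z = (e : Ω)⁻¹ * (x * z * x⁻¹) * e := by rw [← h1]; group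
    calc z * ((e : Ω)⁻¹ * x) = (e : Ω)⁻¹ * (x * z * x⁻¹) * e * ((e : Ω)⁻¹ * x) := by rw [← this]
      _ = (e : Ω)⁻¹ * x * z := by group
  have h2 := hc this
  have : x = (e : Ω) * ((e : Ω)⁻¹ * x) := by group
  rw [this]; exact E.mul_mem e.2 h2

/-- core lemma: an essential subgroup `E` cannot be normalized by a subgroup `N ≥ E` of `S`
acting on `E` by "transvections" with a common central centre `Z0`, if for every `α ∈ Aut_F(E)`
some element of `N` outside `E` centralizes `α(Z0)` -/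
theorem essential_transv_false (hS : IsPGroup p S) {F : FusionSystem S} (hF : F.IsSaturated p)
    {E N Z0 : Subgroup Ω} (hE : F.IsEssential p E)
    (hNS : N ≤ S) (hNE : N ≤ Subgroup.normalizer (E : Set Ω)) (hEN : E ≤ N)
    (hZ0c : ∀ n ∈ N, ∀ z ∈ Z0, n * z = z * n)
    (hcomm : ∀ n ∈ N, ∀ e ∈ E, e⁻¹ * (n * e * n⁻¹) ∈ Z0)
    (hex : ∀ α ∈ F.autGroup E, ∃ x ∈ N, x ∉ E ∧
      ∀ z : E, (z : Ω) ∈ Z0 → x * ((α z : E) : Ω) = ((α z : E) : Ω) * x) : False := by
  have hES : E ≤ S := hE.1.1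
  have : Finite E := finite_of_le hES
  have : Finite (MulAut E) :=
    Finite.of_injective (fun e : MulAut E => (e : E → E)) DFunLike.coe_injective
  obtain ⟨M, hM1, hM2⟩ := ess_control hS hF hE
  obtain ⟨g, hg, hgM⟩ : ∃ g ∈ F.autGroup E, g ∉ M := by
    by_contra hcon
    push Not at hcon
    exact hM1 hcon
  obtain ⟨x, hxN, hxE, hxc⟩ := hex g hg
  obtain ⟨y, hyN, hyE, hyc⟩ := hex g⁻¹ ((F.autGroup E).inv_mem hg)
  have ht : conjAut E x (hNE hxN) ∈ autInducedBy S E := conjAut_mem_autInducedBy (hNS hxN) _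
  have hs : conjAut E y (hNE hyN) ∈ autInducedBy S E := conjAut_mem_autInducedBy (hNS hyN) _
  have htI : conjAut E x (hNE hxN) ∉ Inn E := fun h =>
    hxE (mem_of_conjAut_mem_inn' hE.1 (hNS hxN) _ h)
  have hsI : conjAut E y (hNE hyN) ∉ Inn E := fun h =>
    hyE (mem_of_conjAut_mem_inn' hE.1 (hNS hyN) _ h)
  obtain ⟨-, R, hR⟩ := fullyAutomized_of_fullyNormalized hS hF hE.2.1
  have hZ : Z0.subgroupOf E ≤ Subgroup.center E := by
    intro z hz
    rw [Subgroup.mem_center_iff]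
    intro e
    apply Subtype.ext
    rw [Subgroup.coe_mul, Subgroup.coe_mul]
    exact hZ0c e (hEN e.2) z (Subgroup.mem_subgroupOf.1 hz)
  have hc := conj_commute_of_central hZ (t := conjAut E x (hNE hxN)) (s := conjAut E y (hNE hyN))
    (g := g)
    (fun e => by
      rw [Subgroup.mem_subgroupOf, Subgroup.coe_mul, Subgroup.coe_inv, conjAut_apply]
      exact hcomm x hxN e e.2)
    (fun e => by
      rw [Subgroup.mem_subgroupOf, Subgroup.coe_mul, Subgroup.coe_inv, conjAut_apply]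
      exact hcomm y hyN e e.2)
    (fun z hz => by
      apply Subtype.ext
      rw [conjAut_apply, hxc z (Subgroup.mem_subgroupOf.1 hz), mul_inv_cancel_right])
    (fun z hz => by
      apply Subtype.ext
      rw [conjAut_apply, hyc z (Subgroup.mem_subgroupOf.1 hz), mul_inv_cancel_right])
  exact hgM (mem_of_commute_conj ⟨R, hR⟩ hM2 hg (autInducedBy_le_autGroup F hES ht) ht htI
    (autInducedBy_le_autGroup F hES hs) hs hsI hc)

/-- the commutator map `n ↦ [n, z']` into a central subgroup of order `p` has kernel of index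
dividing `p` -/
theorem card_dvd_mul_card_centralizer {N Z0 : Subgroup Ω} [Finite N] (hZ0N : Z0 ≤ N)
    (hZ0c : ∀ n ∈ N, ∀ z ∈ Z0, n * z = z * n) (hZ0 : Nat.card Z0 = p) {z' : Ω}
    (hz' : ∀ n ∈ N, n * z' * n⁻¹ * z'⁻¹ ∈ Z0) :
    Nat.card N ∣ p * Nat.card (N ⊓ Subgroup.centralizer {z'} : Subgroup Ω) := by
  let φ : N →* Z0 :=
    { toFun := fun n => ⟨(n : Ω) * z' * (n : Ω)⁻¹ * z'⁻¹, hz' n n.2⟩
      map_one' := by apply Subtype.ext; simp
      map_mul' := fun n m => by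
        apply Subtype.ext
        simp only [Subgroup.coe_mul]
        have h1 := hZ0c n n.2 _ (hz' m m.2)
        have h2 := hZ0c _ (hZ0N (hz' n n.2)) _ (hz' m m.2)
        calc (n : Ω) * m * z' * ((n : Ω) * m)⁻¹ * z'⁻¹
            = (n : Ω) * ((m : Ω) * z' * (m : Ω)⁻¹ * z'⁻¹) * z' * (n : Ω)⁻¹ * z'⁻¹ := by group
          _ = ((m : Ω) * z' * (m : Ω)⁻¹ * z'⁻¹) * (n : Ω) * z' * (n : Ω)⁻¹ * z'⁻¹ := by rw [h1]
          _ = ((m : Ω) * z' * (m : Ω)⁻¹ * z'⁻¹) * ((n : Ω) * z' * (n : Ω)⁻¹ * z'⁻¹) := by group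
          _ = ((n : Ω) * z' * (n : Ω)⁻¹ * z'⁻¹) * ((m : Ω) * z' * (m : Ω)⁻¹ * z'⁻¹) := h2.symm }
  have hker : φ.ker = (N ⊓ Subgroup.centralizer {z'} : Subgroup Ω).subgroupOf N := by
    ext n
    rw [MonoidHom.mem_ker, Subgroup.mem_subgroupOf, mem_inf_centralizer_singleton]
    constructor
    · intro h
      have h1 : (n : Ω) * z' * (n : Ω)⁻¹ * z'⁻¹ = 1 := congrArg Subtype.val h
      refine ⟨n.2, ?_⟩
      have : (n : Ω) * z' = ((n : Ω) * z' * (n : Ω)⁻¹ * z'⁻¹) * z' * n := by group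
      rw [this, h1, one_mul]
    · rintro ⟨-, h⟩
      apply Subtype.ext
      show (n : Ω) * z' * (n : Ω)⁻¹ * z'⁻¹ = 1
      rw [← h]; group
  have h1 : Nat.card N = Nat.card φ.ker * Nat.card φ.range := by
    rw [← Subgroup.index_ker, mul_comm, Subgroup.index_mul_card]
  have h2 : Nat.card φ.range ∣ p := by
    rw [← hZ0]; exact Subgroup.card_subgroup_dvd_card _
  have h3 : Nat.card ((N ⊓ Subgroup.centralizer {z'} : Subgroup Ω).subgroupOf N) =
      Nat.card (N ⊓ Subgroup.centralizer {z'} : Subgroup Ω) :=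
    Nat.card_congr (Subgroup.subgroupOfEquivOfLe inf_le_left).toEquiv
  rw [h1, hker, h3, mul_comm]
  exact Nat.mul_dvd_mul_right h2 _

/-- either some element of `N` outside `E` centralizes `z'`, or `E` has index `p` in `N` -/
theorem exists_centralizing_or_card {N E Z0 : Subgroup Ω} [Finite N] (hEN : E ≤ N) (hne : E ≠ N)
    (hZ0N : Z0 ≤ N) (hZ0c : ∀ n ∈ N, ∀ z ∈ Z0, n * z = z * n) (hZ0 : Nat.card Z0 = p) {z' : Ω}
    (hz' : ∀ n ∈ N, n * z' * n⁻¹ * z'⁻¹ ∈ Z0) :
    (∃ x ∈ N, x ∉ E ∧ x * z' = z' * x) ∨ Nat.card N = p * Nat.card E := by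
  by_cases hex : ∃ x ∈ N, x ∉ E ∧ x * z' = z' * x
  · exact Or.inl hex
  right
  push Not at hex
  have hle : (N ⊓ Subgroup.centralizer {z'} : Subgroup Ω) ≤ E := by
    intro x hx
    rw [mem_inf_centralizer_singleton] at hx
    by_contra hxE
    exact hex x hx.1 hxE hx.2.symm
  have hd := card_dvd_mul_card_centralizer hZ0N hZ0c hZ0 hz'
  have : Finite E := Finite.of_injective _ (Subgroup.inclusion_injective hEN)
  have : Finite (N ⊓ Subgroup.centralizer {z'} : Subgroup Ω) :=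
    Finite.of_injective _ (Subgroup.inclusion_injective hle)
  obtain ⟨j, hj⟩ := Subgroup.card_dvd_of_le hle
  obtain ⟨k, hk⟩ := Subgroup.card_dvd_of_le hEN
  have hCpos : 0 < Nat.card (N ⊓ Subgroup.centralizer {z'} : Subgroup Ω) := Nat.card_pos
  rw [hk, hj, mul_assoc, mul_comm p, Nat.mul_dvd_mul_iff_left hCpos] at hd
  have hkp : k ∣ p := (Dvd.intro_left j rfl).trans hd
  rcases (Nat.dvd_prime hp.out).1 hkp with h | h
  · exfalso
    rw [h, mul_one] at hk
    exact hne (Subgroup.eq_of_le_of_card_ge hEN (le_of_eq hk))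
  · rw [hk, h, mul_comm]

end Cfsg.Agent.Helper87
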