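import Mathlib

set_option autoImplicit false

/-!
# Isomorphism of two central-type extensions from a common cover

Two finite groups `P₁`, `P₂` are isomorphic as soon as there is a subgroup `D ≤ P₁ × P₂` projecting
onto both factors whose "kernels" `Z₁`, `Z₂` are identified by a bijective hom `ζ` compatible with
the squaring maps.
-/

namespace Cfsg.Agent.Helper87.ExtIso

variable {P₁ P₂ : Type*} [Group P₁] [Group P₂]

theorem ext_iso [Finite P₁] [Finite P₂]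
    (Z₁ : Subgroup P₁) (Z₂ : Subgroup P₂) (D : Subgroup (P₁ × P₂))
    (hs1 : ∀ p, ∃ p', (p, p') ∈ D) (hs2 : ∀ p', ∃ p, (p, p') ∈ D)
    (hk1 : ∀ p, (p, (1 : P₂)) ∈ D ↔ p ∈ Z₁) (hk2 : ∀ p', ((1 : P₁), p') ∈ D ↔ p' ∈ Z₂)
    (ζ : Z₁ →* P₂) (hζinj : Function.Injective ζ) (hζrange : ∀ b, b ∈ Z₂ ↔ ∃ a, ζ a = b)
    (hsq : ∀ p p', (p, p') ∈ D → ∃ h : p * p ∈ Z₁, ζ ⟨p * p, h⟩ = p' * p') :
    Nonempty (P₁ ≃* P₂) := by
  classical
  -- the graph of ζ
  let Dl : Subgroup (P₁ × P₂) := (Z₁.subtype.prod ζ).range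
  have hmemΔ : ∀ g : P₁ × P₂, g ∈ Dl ↔ ∃ z : Z₁, (z : P₁) = g.1 ∧ ζ z = g.2 := by
    intro g
    constructor
    · rintro ⟨z, rfl⟩
      exact ⟨z, rfl, rfl⟩
    · rintro ⟨z, h1, h2⟩
      exact ⟨z, Prod.ext h1 h2⟩
  have hΔD : Dl ≤ D := by
    intro g hg
    obtain ⟨z, h1, h2⟩ := (hmemΔ g).mp hg
    have e : g = ((z : P₁), 1) * (1, ζ z) := by
      ext
      · simp [h1]
      · simp [h2]
    rw [e]
    exact D.mul_mem ((hk1 _).mpr z.2) ((hk2 _).mpr ((hζrange _).mpr ⟨z, rfl⟩))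
  have hsqΔ : ∀ g ∈ D, g * g ∈ Dl := by
    intro g hg
    obtain ⟨h, e⟩ := hsq g.1 g.2 hg
    exact (hmemΔ _).mpr ⟨⟨g.1 * g.1, h⟩, rfl, e⟩
  let good : Subgroup (P₁ × P₂) → Prop := fun C =>
    Dl ≤ C ∧ C ≤ D ∧ ∀ g ∈ C, g.1 ∈ Z₁ → g.2 ∈ Z₂ → g ∈ Dl
  have hgoodΔ : good Dl := ⟨le_rfl, hΔD, fun g hg _ _ => hg⟩
  obtain ⟨C, -, ⟨hΔC, hCD, hCW⟩, hCmax⟩ := Finite.exists_le_maximal (p := good) hgoodΔ
  -- every subgroup between `Dl` and `D` is normalised by `D`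
  have hnorm : ∀ c ∈ C, ∀ h ∈ D, h * c * h⁻¹ ∈ C := by
    intro c hc h hh
    have e : h * c * h⁻¹ = (h * c) * (h * c) * c⁻¹ * (h * h)⁻¹ := by group
    rw [e]
    exact C.mul_mem (C.mul_mem (hΔC (hsqΔ _ (D.mul_mem hh (hCD hc)))) (C.inv_mem hc))
      (C.inv_mem (hΔC (hsqΔ _ hh)))
  -- `D = C * (Z₁ × Z₂)`
  have hcover : ∀ g ∈ D, ∃ c ∈ C, (c⁻¹ * g).1 ∈ Z₁ ∧ (c⁻¹ * g).2 ∈ Z₂ := by
    intro g hg
    by_contra hcon
    push Not at hcon
    have hgg : g * g ∈ C := hΔC (hsqΔ g hg)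
    let C' : Subgroup (P₁ × P₂) :=
      { carrier := {x | x ∈ C ∨ x * g⁻¹ ∈ C}
        one_mem' := Or.inl C.one_mem
        mul_mem' := by
          rintro x y (hx | hx) (hy | hy)
          · exact Or.inl (C.mul_mem hx hy)
          · right
            rw [mul_assoc]
            exact C.mul_mem hx hy
          · right
            have e : x * y * g⁻¹ = (x * g⁻¹) * (g * y * g⁻¹) := by group
            rw [e]
            exact C.mul_mem hx (hnorm y hy g hg)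
          · left
            have e : x * y = (x * g⁻¹) * (g * (y * g⁻¹) * g⁻¹) * (g * g) := by group
            rw [e]
            exact C.mul_mem (C.mul_mem hx (hnorm _ hy g hg)) hgg
        inv_mem' := by
          rintro x (hx | hx)
          · exact Or.inl (C.inv_mem hx)
          · right
            have e : x⁻¹ * g⁻¹ = (g⁻¹ * (x * g⁻¹)⁻¹ * g⁻¹⁻¹) * (g * g)⁻¹ := by group
            rw [e]
            exact C.mul_mem (hnorm _ (C.inv_mem hx) g⁻¹ (D.inv_mem hg)) (C.inv_mem hgg) }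
    have hmemC' : ∀ x, x ∈ C' ↔ (x ∈ C ∨ x * g⁻¹ ∈ C) := fun x => Iff.rfl
    have hle : C ≤ C' := fun x hx => Or.inl hx
    have hgood' : good C' := by
      refine ⟨hΔC.trans hle, ?_, ?_⟩
      · rintro x (hx | hx)
        · exact hCD hx
        · have e : x = (x * g⁻¹) * g := by group
          rw [e]
          exact D.mul_mem (hCD hx) hg
      · rintro x (hx | hx) h1 h2
        · exact hCW x hx h1 h2
        · exfalso
          have e : (x * g⁻¹)⁻¹⁻¹ * g = x := by group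
          refine hcon (x * g⁻¹)⁻¹ (C.inv_mem hx) ?_ ?_
          · rw [e]; exact h1
          · rw [e]; exact h2
    have hgC' : g ∈ C' := Or.inr (by rw [mul_inv_cancel]; exact C.one_mem)
    have hgC : g ∈ C := hCmax hgood' hle hgC'
    refine hcon g hgC ?_ ?_
    · rw [inv_mul_cancel]; exact Z₁.one_mem
    · rw [inv_mul_cancel]; exact Z₂.one_mem
  -- the projections restricted to `C` are bijective
  have hinj1 : ∀ c ∈ C, c.1 = 1 → c = 1 := by
    intro c hc h1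
    have hcD := hCD hc
    have hc' : c = (1, c.2) := Prod.ext h1 rfl
    have h2 : c.2 ∈ Z₂ := (hk2 _).mp (by rw [hc'] at hcD; exact hcD)
    have hcΔ := hCW c hc (by rw [h1]; exact Z₁.one_mem) h2
    obtain ⟨z, hz1, hz2⟩ := (hmemΔ c).mp hcΔ
    have hz : z = 1 := Subtype.ext (hz1.trans h1)
    refine Prod.ext h1 ?_
    rw [← hz2, hz, map_one]; rfl
  have hinj2 : ∀ c ∈ C, c.2 = 1 → c = 1 := by
    intro c hc h2
    have hcD := hCD hc
    have hc' : c = (c.1, 1) := Prod.ext rfl h2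
    have h1 : c.1 ∈ Z₁ := (hk1 _).mp (by rw [hc'] at hcD; exact hcD)
    have hcΔ := hCW c hc h1 (by rw [h2]; exact Z₂.one_mem)
    obtain ⟨z, hz1, hz2⟩ := (hmemΔ c).mp hcΔ
    have hz : z = 1 := hζinj (by rw [hz2, h2, map_one])
    refine Prod.ext ?_ h2
    rw [← hz1, hz]; rfl
  have hsurj1 : ∀ p : P₁, ∃ c ∈ C, c.1 = p := by
    intro p
    obtain ⟨p', hp⟩ := hs1 p
    obtain ⟨c, hc, hw1, -⟩ := hcover _ hp
    let z : Z₁ := ⟨_, hw1⟩
    refine ⟨c * ((z : P₁), ζ z), C.mul_mem hc (hΔC ((hmemΔ _).mpr ⟨z, rfl, rfl⟩)), ?_⟩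
    simp [z]
  have hsurj2 : ∀ p' : P₂, ∃ c ∈ C, c.2 = p' := by
    intro p'
    obtain ⟨p, hp⟩ := hs2 p'
    obtain ⟨c, hc, -, hw2⟩ := hcover _ hp
    obtain ⟨a, ha⟩ := (hζrange _).mp hw2
    refine ⟨c * ((a : P₁), ζ a), C.mul_mem hc (hΔC ((hmemΔ _).mpr ⟨a, rfl, rfl⟩)), ?_⟩
    simp [ha]
  let f1 : C →* P₁ := (MonoidHom.fst P₁ P₂).comp C.subtype
  let f2 : C →* P₂ := (MonoidHom.snd P₁ P₂).comp C.subtype
  have hf1 : Function.Bijective f1 := by
    constructor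
    · rw [injective_iff_map_eq_one]
      intro c hc
      exact Subtype.ext (hinj1 c.1 c.2 hc)
    · intro p
      obtain ⟨c, hc, h⟩ := hsurj1 p
      exact ⟨⟨c, hc⟩, h⟩
  have hf2 : Function.Bijective f2 := by
    constructor
    · rw [injective_iff_map_eq_one]
      intro c hc
      exact Subtype.ext (hinj2 c.1 c.2 hc)
    · intro p
      obtain ⟨c, hc, h⟩ := hsurj2 p
      exact ⟨⟨c, hc⟩, h⟩
  exact ⟨(MulEquiv.ofBijective f1 hf1).symm.trans (MulEquiv.ofBijective f2 hf2)⟩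

end Cfsg.Agent.Helper87.ExtIso
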