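import Mathlib
import Cfsg.Agent.Lib.Helper87.ChainAut
import Cfsg.Agent.Lib.Helper87.ChainBuild
import Cfsg.Agent.Lib.Helper87.FusionNormalCrit
import Cfsg.Agent.Lib.Helper87.FusionNormal
import Cfsg.Agent.Lib.Helper87.FusionAlperin

set_option autoImplicit false

open Cfsg Cfsg.FusionSystem

namespace Cfsg.Agent.Helper87

variable {Ω : Type*} [Group Ω] {S : Subgroup Ω}

section Transfer

/-- `g = x ^ k * n` for some `n ∈ L` -/
def PowRel (L : Subgroup Ω) (x : Ω) (g : Ω) (k : ℤ) : Prop := ∃ n ∈ L, g = x ^ k * n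

theorem PowRel.mul {L : Subgroup Ω} {x : Ω} (hx : x ∈ Subgroup.normalizer (L : Set Ω))
    {g g' : Ω} {k k' : ℤ} (h : PowRel L x g k) (h' : PowRel L x g' k') :
    PowRel L x (g * g') (k + k') := by
  obtain ⟨n, hn, rfl⟩ := h
  obtain ⟨n', hn', rfl⟩ := h'
  have hxk : (x ^ k')⁻¹ ∈ Subgroup.normalizer (L : Set Ω) :=
    Subgroup.inv_mem _ (Subgroup.zpow_mem _ hx k')
  have h1 : (x ^ k')⁻¹ * n * (x ^ k')⁻¹⁻¹ ∈ L := (Subgroup.mem_normalizer_iff.1 hxk n).1 hn
  refine ⟨(x ^ k')⁻¹ * n * (x ^ k')⁻¹⁻¹ * n', L.mul_mem h1 hn', ?_⟩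
  rw [zpow_add]
  group

theorem PowRel.inv {L : Subgroup Ω} {x : Ω} (hx : x ∈ Subgroup.normalizer (L : Set Ω))
    {g : Ω} {k : ℤ} (h : PowRel L x g k) : PowRel L x g⁻¹ (-k) := by
  obtain ⟨n, hn, rfl⟩ := h
  have hxk : x ^ k ∈ Subgroup.normalizer (L : Set Ω) := Subgroup.zpow_mem _ hx k
  have h1 : x ^ k * n⁻¹ * (x ^ k)⁻¹ ∈ L :=
    (Subgroup.mem_normalizer_iff.1 hxk n⁻¹).1 (L.inv_mem hn)
  refine ⟨x ^ k * n⁻¹ * (x ^ k)⁻¹, h1, ?_⟩
  rw [zpow_neg]
  group

theorem PowRel.zpow {L : Subgroup Ω} {x : Ω} (hx : x ∈ Subgroup.normalizer (L : Set Ω))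
    {y : Ω} {d : ℤ} (h : PowRel L x y d) (j : ℤ) : PowRel L x (y ^ j) (j * d) := by
  induction j using Int.induction_on with
  | zero => exact ⟨1, L.one_mem, by simp⟩
  | succ i ih =>
    have := ih.mul hx h
    rwa [← zpow_add_one, ← add_one_mul] at this
  | pred i ih =>
    have := ih.mul hx (h.inv hx)
    rwa [← zpow_sub_one, ← sub_eq_add_neg, ← sub_one_mul] at this

/-- a cyclic step `L ≤ L ⊔ ⟨x⟩` (with `x` normalizing `L`) restricts to a cyclic step in any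
subgroup `R` -/
theorem cyclicStep_subgroupOf {L : Subgroup Ω} {x : Ω}
    (hx : x ∈ Subgroup.normalizer (L : Set Ω)) (R : Subgroup Ω) :
    CyclicStep (L.subgroupOf R) ((L ⊔ Subgroup.zpowers x).subgroupOf R) := by
  let E : AddSubgroup ℤ :=
    { carrier := {k | ∃ g ∈ R, PowRel L x g k}
      zero_mem' := ⟨1, R.one_mem, 1, L.one_mem, by simp⟩
      add_mem' := by
        rintro k k' ⟨g, hg, h⟩ ⟨g', hg', h'⟩
        exact ⟨g * g', R.mul_mem hg hg', h.mul hx h'⟩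
      neg_mem' := by
        rintro k ⟨g, hg, h⟩
        exact ⟨g⁻¹, R.inv_mem hg, h.inv hx⟩ }
  have hEmem : ∀ k, k ∈ E ↔ ∃ g ∈ R, PowRel L x g k := fun k => Iff.rfl
  obtain ⟨d, hd⟩ := Int.subgroup_cyclic E
  have hdE : d ∈ E := by rw [hd]; exact AddSubgroup.subset_closure rfl
  obtain ⟨y, hyR, hyd⟩ := (hEmem d).1 hdE
  have hyU : y ∈ L ⊔ Subgroup.zpowers x := by
    obtain ⟨n, hn, rfl⟩ := hyd
    exact Subgroup.mul_mem _ (Subgroup.mem_sup_right (Subgroup.zpow_mem _ (Subgroup.mem_zpowers x) d))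
      (Subgroup.mem_sup_left hn)
  refine ⟨⟨y, hyR⟩, Subgroup.mem_subgroupOf.2 hyU, fun r hr => ?_⟩
  rw [Subgroup.mem_subgroupOf] at hr
  have hr' : (r : Ω) ∈ ((Subgroup.zpowers x ⊔ L : Subgroup Ω) : Set Ω) := by
    rw [sup_comm]; exact hr
  rw [Subgroup.coe_mul_of_left_le_normalizer_right _ _ (Subgroup.zpowers_le.2 hx)] at hr'
  obtain ⟨a, ha, b, hb, hab⟩ := hr'
  obtain ⟨k, rfl⟩ := Subgroup.mem_zpowers_iff.1 ha
  have hrk : PowRel L x (r : Ω) k := ⟨b, hb, hab.symm⟩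
  have hkE : k ∈ E := ⟨r, r.2, hrk⟩
  rw [hd] at hkE
  obtain ⟨j, hj⟩ := AddSubgroup.mem_closure_singleton.1 hkE
  refine ⟨j, ?_⟩
  rw [Subgroup.mem_subgroupOf]
  have h1 := ((hyd.zpow hx j).inv hx).mul hx hrk
  rw [smul_eq_mul] at hj
  rw [hj, neg_add_cancel] at h1
  obtain ⟨n, hn, e⟩ := h1
  rw [zpow_zero, one_mul] at e
  have : (((⟨y, hyR⟩ : R) ^ j)⁻¹ * r : R).1 = (y ^ j)⁻¹ * (r : Ω) := by
    simp
  rw [this, e]
  exact hn

end Transfer

section Super

variable {p : ℕ}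

/-- the supersolubility condition of a fusion system -/
def IsSuperChain (F : FusionSystem S) {m : ℕ} (c : Fin (m + 1) → Subgroup Ω) : Prop :=
  c 0 = ⊥ ∧ c (Fin.last m) = S ∧ (∀ i : Fin (m + 1), F.StronglyClosed (c i)) ∧
    ∀ i : Fin m, c i.castSucc ≤ c i.succ ∧
      ∃ x ∈ S, c i.succ = c i.castSucc ⊔ Subgroup.zpowers x

/-- restricting a supersoluble chain to a subgroup `R ≤ S` -/
theorem IsSuperChain.subgroupOf {F : FusionSystem S} {m : ℕ} {c : Fin (m + 1) → Subgroup Ω}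
    (hc : IsSuperChain F c) {R : Subgroup Ω} (hR : R ≤ S) :
    (c 0).subgroupOf R = ⊥ ∧ (c (Fin.last m)).subgroupOf R = ⊤ ∧
      (∀ i, ((c i).subgroupOf R).Normal) ∧
      ∀ i : Fin m, CyclicStep ((c i.castSucc).subgroupOf R) ((c i.succ).subgroupOf R) := by
  obtain ⟨h0, hlast, hsc, hstep⟩ := hc
  refine ⟨by rw [h0, Subgroup.bot_subgroupOf], by rw [hlast]; exact Subgroup.subgroupOf_eq_top.2 hR,
    fun i => ⟨fun n hn g => ?_⟩, fun i => ?_⟩
  · rw [Subgroup.mem_subgroupOf] at hn ⊢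
    exact StronglyClosed.conj_mem (hsc i) (hR g.2) hn
  · obtain ⟨x, hxS, hx⟩ := (hstep i).2
    rw [hx]
    exact cyclicStep_subgroupOf (StronglyClosed.le_normalizer (hsc i.castSucc) hxS) R

/-- a supersoluble saturated fusion system has `S` normal -/
theorem isNormal_of_superChain [Fact p.Prime] [Finite S] (hS : IsPGroup p S)
    {F : FusionSystem S} (hF : F.IsSaturated p) {m : ℕ} {c : Fin (m + 1) → Subgroup Ω}
    (hc : IsSuperChain F c) : F.IsNormal S := by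
  apply isNormal_top_of_centric_radical_eq hS hF
  intro R hfn hcen hrad
  have hRS : R ≤ S := hfn.1
  have : Finite R := finite_of_le hRS
  have hRp : IsPGroup p R := hS.to_le hRS
  obtain ⟨h0, hlast, hnorm, hcyc⟩ := hc.subgroupOf hRS
  apply eq_top_of_normal_sylow hS (fullyAutomized_of_fullyNormalized hS hF hfn) hcen hrad
  have hA : F.autGroup R ≤ chainPres (fun i => (c i).subgroupOf R) := by
    have h1 : ∀ α ∈ F.autGroup R, ∀ i, ∀ x : R, x ∈ (c i).subgroupOf R →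
        α x ∈ (c i).subgroupOf R := by
      intro α hα i x hx
      rw [Subgroup.mem_subgroupOf] at hx ⊢
      have hm := ((mem_autGroup_iff hRS).1 hα).restrict (inf_le_right : c i ⊓ R ≤ R)
      have := (stronglyClosed_iff.1 (hc.2.2.1 i)).2 (c i ⊓ R) _ inf_le_left hm x ⟨hx, x.2⟩
      rwa [extAut_apply] at this
    intro α hα
    refine Subgroup.mem_iInf.2 (fun i x => ⟨fun hx => ?_, h1 α hα i x⟩)
    have := h1 α⁻¹ ((F.autGroup R).inv_mem hα) i _ hx
    rwa [MulAut.inv_apply_self] at this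
  exact ⟨default, sylow_normal_of_chain hRp h0 hlast hnorm hcyc (F.autGroup R) hA default⟩

/-- the restriction to `P ≤ S` of an automorphism of `S`, as a map into `Ω` -/
def resHom {P : Subgroup Ω} (hP : P ≤ S) (γ : MulAut S) : P →* Ω :=
  (S.subtype.comp γ.toMonoidHom).comp (Subgroup.inclusion hP)

theorem resHom_apply {P : Subgroup Ω} (hP : P ≤ S) (γ : MulAut S) (x : P) :
    resHom hP γ x = ((γ ⟨x, hP x.2⟩ : S) : Ω) := rfl

/-- the fusion system over `S` of all restrictions of a group `Γ` of automorphisms of `S`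
containing the inner ones -/
def autSys (Γ : Subgroup (MulAut S)) (hΓ : ∀ g : S, MulAut.conj g ∈ Γ) : FusionSystem S where
  Hom P := {φ | ∃ hP : P ≤ S, ∃ γ ∈ Γ, ∀ x : P, φ x = ((γ ⟨x, hP x.2⟩ : S) : Ω)}
  le_of_mem := by
    rintro P φ ⟨hP, γ, hγ, e⟩
    exact ⟨hP, fun x => by rw [e]; exact (γ _).2⟩
  injective_of_mem := by
    rintro P φ ⟨hP, γ, hγ, e⟩ x y hxy
    rw [e, e] at hxy
    have := γ.injective (Subtype.ext hxy)
    exact Subtype.ext (Subtype.mk.inj this)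
  conj_mem := by
    intro P g hP hg
    exact ⟨hP, MulAut.conj ⟨g, hg⟩, hΓ _, fun x => by simp [conjHom, MulAut.conj_apply]⟩
  comp_mem := by
    rintro P Q φ ψ ⟨hP, γ₁, hγ₁, e₁⟩ ⟨hQ, γ₂, hγ₂, e₂⟩ h
    refine ⟨hP, γ₂ * γ₁, Γ.mul_mem hγ₂ hγ₁, fun x => ?_⟩
    show ψ ⟨φ x, h x⟩ = _
    rw [e₂, MulAut.mul_apply]
    congr 2
    exact Subtype.ext (e₁ x)
  inv_mem := by
    rintro P φ ⟨hP, γ, hγ, e⟩
    have hr : φ.range ≤ S := by
      rintro _ ⟨x, rfl⟩; rw [e]; exact (γ _).2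
    refine ⟨resHom hr γ⁻¹, ⟨hr, γ⁻¹, Γ.inv_mem hγ, fun y => rfl⟩, fun x => ?_⟩
    rw [resHom_apply]
    have : (⟨φ x, hr ⟨x, rfl⟩⟩ : S) = γ ⟨x, hP x.2⟩ := Subtype.ext (e x)
    rw [this, MulAut.inv_apply_self]

theorem mem_autSys_hom {Γ : Subgroup (MulAut S)} {hΓ : ∀ g : S, MulAut.conj g ∈ Γ}
    {P : Subgroup Ω} {φ : P →* Ω} :
    φ ∈ (autSys Γ hΓ).Hom P ↔
      ∃ hP : P ≤ S, ∃ γ ∈ Γ, ∀ x : P, φ x = ((γ ⟨x, hP x.2⟩ : S) : Ω) := Iff.rfl

/-- if some power prime to `p` maps `Γ` into the inner automorphisms then `autSys Γ` is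
saturated -/
theorem autSys_saturated [Fact p.Prime] [Finite S] (hS : IsPGroup p S)
    (Γ : Subgroup (MulAut S)) (hΓ : ∀ g : S, MulAut.conj g ∈ Γ) (k : ℕ) (hk : k.Coprime p)
    (hpow : ∀ γ ∈ Γ, ∃ s : S, γ ^ k = MulAut.conj s) : (autSys Γ hΓ).IsSaturated p := by
  intro P hP
  refine ⟨P, isConj_refl hP, ⟨hP, ?_⟩, ⟨hP, ?_⟩⟩
  · -- fully automized
    have hpowA : ∀ α : (autSys Γ hΓ).autGroup P,
        α ^ k ∈ (autInducedBy S P).subgroupOf ((autSys Γ hΓ).autGroup P) := by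
      intro α
      obtain ⟨φ, ⟨hP', γ, hγ, e⟩, e'⟩ := (mem_autGroup_iff hP).1 α.2
      have e2 : ∀ x : P, (((α : MulAut P) x : P) : Ω) = ((γ ⟨x, hP x.2⟩ : S) : Ω) := by
        intro x
        rw [← e, e' x, extAut_apply]
      have e3 : ∀ j : ℕ, ∀ x : P,
          ((((α : MulAut P) ^ j) x : P) : Ω) = (((γ ^ j) ⟨x, hP x.2⟩ : S) : Ω) := by
        intro j
        induction j with
        | zero => intro x; rfl
        | succ j ih =>
          intro x
          rw [pow_succ', pow_succ', MulAut.mul_apply, MulAut.mul_apply, e2]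
          congr 2
          exact Subtype.ext (ih x)
      obtain ⟨s, hs⟩ := hpow γ hγ
      rw [Subgroup.mem_subgroupOf, Subgroup.coe_pow, mem_autInducedBy_iff]
      refine ⟨s, s.2, fun x => ?_⟩
      rw [e3, hs]
      simp [MulAut.conj_apply]
    have hTp : IsPGroup p ((autInducedBy S P).subgroupOf ((autSys Γ hΓ).autGroup P)) :=
      (isPGroup_autInducedBy hS P).comap_subtype
    refine ⟨⟨(autInducedBy S P).subgroupOf ((autSys Γ hΓ).autGroup P), hTp, ?_⟩, rfl⟩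
    intro Q hQ hTQ
    refine le_antisymm (fun α hαQ => ?_) hTQ
    obtain ⟨j, hj⟩ := hQ ⟨α, hαQ⟩
    have hj' : α ^ p ^ j = 1 := by
      have := congrArg Subtype.val hj
      rwa [Subgroup.coe_pow, Subgroup.coe_one] at this
    have hcop : k.Coprime (orderOf α) :=
      Nat.Coprime.coprime_dvd_right (orderOf_dvd_of_pow_eq_one hj') (hk.pow_right j)
    obtain ⟨t, ht⟩ := exists_pow_eq_self_of_coprime hcop
    rw [← ht]
    exact Subgroup.pow_mem _ (hpowA α) t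
  · -- receptive
    rintro P' φ ⟨hP', γ, hγ, e⟩ -
    have hE : extender S P' φ ≤ S := (Subgroup.closure_le _).2 (fun g hg => hg.1)
    exact ⟨resHom hE γ, ⟨hE, γ, hγ, fun x => rfl⟩, fun x hxP hxN => by rw [e]; rfl⟩

theorem inn_range_normal (G : Type*) [Group G] :
    ((MulAut.conj : G →* MulAut G).range).Normal := by
  constructor
  rintro _ ⟨s, rfl⟩ γ
  refine ⟨γ s, ?_⟩
  apply MulEquiv.ext
  intro x
  simp [MulAut.conj_apply]

/-- if every saturated fusion system over `S` is supersoluble then every `p'`-group of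
automorphisms of `S` is abelian of exponent dividing `p - 1` -/
theorem comm_exp_of_super [Fact p.Prime] [Finite S] (hS : IsPGroup p S)
    (hsup : ∀ F : FusionSystem S, F.IsSaturated p →
      ∃ (m : ℕ) (c : Fin (m + 1) → Subgroup Ω), IsSuperChain F c)
    (H : Subgroup (MulAut S)) (hcop : (Nat.card H).Coprime p) :
    IsMulCommutative H ∧ ∀ h ∈ H, h ^ (p - 1) = 1 := by
  haveI hinn : ((MulAut.conj : S →* MulAut S).range).Normal := inn_range_normal S
  have hΓ : ∀ g : S, MulAut.conj g ∈ (MulAut.conj : S →* MulAut S).range ⊔ H :=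
    fun g => Subgroup.mem_sup_left ⟨g, rfl⟩
  have hpow : ∀ γ ∈ (MulAut.conj : S →* MulAut S).range ⊔ H,
      ∃ s : S, γ ^ Nat.card H = MulAut.conj s := by
    intro γ hγ
    have h1 : γ ∈ ((H ⊔ (MulAut.conj : S →* MulAut S).range : Subgroup (MulAut S)) :
        Set (MulAut S)) := by
      rw [sup_comm]; exact hγ
    rw [Subgroup.mul_normal] at h1
    obtain ⟨h, hh, ι, hι, rfl⟩ := h1
    have h2 : ((h * ι : MulAut S) : MulAut S ⧸ (MulAut.conj : S →* MulAut S).range) =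
        (h : MulAut S ⧸ (MulAut.conj : S →* MulAut S).range) := by
      rw [QuotientGroup.mk_mul, (QuotientGroup.eq_one_iff ι).2 hι, mul_one]
    have h3 : h ^ Nat.card H = 1 := by
      have h4 : (⟨h, hh⟩ : H) ^ Nat.card H = 1 := pow_card_eq_one'
      have h5 := congrArg Subtype.val h4
      rwa [Subgroup.coe_pow, Subgroup.coe_one] at h5
    have h6 : (((h * ι) ^ Nat.card H : MulAut S) :
        MulAut S ⧸ (MulAut.conj : S →* MulAut S).range) = 1 := by
      rw [QuotientGroup.mk_pow, h2, ← QuotientGroup.mk_pow, h3, QuotientGroup.mk_one]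
    obtain ⟨s, hs⟩ := (QuotientGroup.eq_one_iff _).1 h6
    exact ⟨s, hs.symm⟩
  have hF := autSys_saturated hS _ hΓ (Nat.card H) hcop hpow
  obtain ⟨m, c, hc⟩ := hsup _ hF
  obtain ⟨h0, hlast, hnorm, hcyc⟩ := hc.subgroupOf (le_refl S)
  have hH : H ≤ chainPres (fun i => (c i).subgroupOf S) := by
    have h1 : ∀ h ∈ H, ∀ i, ∀ x : S, x ∈ (c i).subgroupOf S → h x ∈ (c i).subgroupOf S := by
      intro h hh i x hx
      rw [Subgroup.mem_subgroupOf] at hx ⊢
      have hci : c i ≤ S := (hc.2.2.1 i).1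
      have hφ : resHom hci h ∈ (autSys _ hΓ).Hom (c i) :=
        ⟨hci, h, Subgroup.mem_sup_right hh, fun _ => rfl⟩
      exact (hc.2.2.1 i).2 (c i) le_rfl _ hφ ⟨x, hx⟩
    intro h hh
    refine Subgroup.mem_iInf.2 (fun i x => ⟨fun hx => ?_, h1 h hh i x⟩)
    have := h1 h⁻¹ (H.inv_mem hh) i _ hx
    rwa [MulAut.inv_apply_self] at this
  exact comm_exp_of_chain hS h0 hlast hnorm hcyc H hH hcop

/-- a saturated fusion system with `S` normal is supersoluble if all `p'`-groups of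
automorphisms of `S` are abelian of exponent dividing `p - 1` -/
theorem exists_superChain_of_normal [Fact p.Prime] [Finite S] (hS : IsPGroup p S)
    {F : FusionSystem S} (hF : F.IsSaturated p) (hn : F.IsNormal S)
    (hH : ∀ H : Subgroup (MulAut S), (Nat.card H).Coprime p →
      IsMulCommutative H ∧ ∀ h ∈ H, h ^ (p - 1) = 1) :
    ∃ (m : ℕ) (c : Fin (m + 1) → Subgroup Ω), IsSuperChain F c := by
  obtain ⟨-, P₀, hP₀⟩ := fullyAutomized_of_fullyNormalized hS hF (fullyNormalized_self F)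
  -- `Aut_S(S)` is normal in `Aut_F(S)`
  haveI hP₀n : (P₀ : Subgroup (F.autGroup S)).Normal := by
    rw [hP₀]
    constructor
    intro a ha g
    rw [Subgroup.mem_subgroupOf, mem_autInducedBy_iff] at ha ⊢
    obtain ⟨s, hs, e⟩ := ha
    refine ⟨((g : MulAut S) ⟨s, hs⟩ : S), ((g : MulAut S) ⟨s, hs⟩ : S).2, fun x => ?_⟩
    have h1 : (a : MulAut S) ((g : MulAut S)⁻¹ x) = ⟨s, hs⟩ * (g : MulAut S)⁻¹ x * ⟨s, hs⟩⁻¹ :=
      Subtype.ext (e _)
    show (((g : MulAut S) ((a : MulAut S) ((g : MulAut S)⁻¹ x)) : S) : Ω) = _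
    rw [h1, map_mul, map_mul, MulAut.apply_inv_self, map_inv]
    rfl
  obtain ⟨H₀, hcompl⟩ := Subgroup.exists_right_complement'_of_coprime
    (Sylow.card_coprime_index P₀)
  have hcardH : (Nat.card (H₀.map (F.autGroup S).subtype)).Coprime p := by
    rw [Subgroup.card_map_of_injective (Subgroup.subtype_injective _),
      ← hcompl.symm.index_eq_card]
    exact ((Nat.Prime.coprime_iff_not_dvd Fact.out).2 P₀.not_dvd_index).symm
  obtain ⟨hHc, hHe⟩ := hH _ hcardH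
  obtain ⟨m, N, hN0, hNlast, hNall, hNstep⟩ := exists_invariant_chain hS
    (H₀.map (F.autGroup S).subtype)
    (fun a ha b hb => congrArg Subtype.val (hHc.is_comm.comm ⟨a, ha⟩ ⟨b, hb⟩)) hHe
  -- every element of `Aut_F(S)` preserves the chain
  have hpres : ∀ α ∈ F.autGroup S, ∀ i, ∀ x ∈ N i, α x ∈ N i := by
    intro α hα i x hx
    obtain ⟨⟨n₀, h₀⟩, e⟩ := hcompl.2 ⟨α, hα⟩
    have e' : α = (n₀ : MulAut S) * (h₀ : MulAut S) := by
      have := congrArg Subtype.val e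
      simpa using this.symm
    have h1 : (h₀ : MulAut S) x ∈ N i :=
      ((hNall i).2 _ ⟨h₀, h₀.2, rfl⟩ x).2 hx
    have h2 : (n₀ : F.autGroup S) ∈ (autInducedBy S S).subgroupOf (F.autGroup S) := by
      rw [← hP₀]; exact n₀.2
    rw [Subgroup.mem_subgroupOf, mem_autInducedBy_iff] at h2
    obtain ⟨s, hs, es⟩ := h2
    have h3 : (n₀ : MulAut S) ((h₀ : MulAut S) x) =
        ⟨s, hs⟩ * (h₀ : MulAut S) x * ⟨s, hs⟩⁻¹ := Subtype.ext (es _)
    rw [e', MulAut.mul_apply, h3]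
    exact (hNall i).1.conj_mem _ h1 _
  refine ⟨m, fun i => (N i).map S.subtype, ?_, ?_, fun i => ⟨Subgroup.map_subtype_le _, ?_⟩,
    fun i => ⟨Subgroup.map_mono (hNstep i).1, ?_⟩⟩
  · show (N 0).map S.subtype = ⊥
    rw [hN0, Subgroup.map_bot]
  · show (N (Fin.last m)).map S.subtype = S
    rw [hNlast, ← MonoidHom.range_eq_map, Subgroup.range_subtype]
  · -- strongly closed
    intro R hR φ hφ x
    obtain ⟨g, hg, eg⟩ := isNormal_top_iff.1 hn R _ (mor_of_mem hφ)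
    have hiso : Iso F S S g := iso_of_card_le hg le_rfl (fun n hn => hg.mem hn) le_rfl
    obtain ⟨x', hx', ex⟩ := hR x.2
    have h1 := hpres _ hiso.equiv_mem_autGroup i x' hx'
    refine ⟨_, h1, ?_⟩
    have h2 := eg x x.2
    rw [extFun_apply] at h2
    rw [← h2, ← ex]
    rfl
  · obtain ⟨x, hx⟩ := (hNstep i).2
    refine ⟨x, x.2, ?_⟩
    show (N i.succ).map S.subtype = (N i.castSucc).map S.subtype ⊔ Subgroup.zpowers (x : Ω)
    rw [hx, Subgroup.map_sup, MonoidHom.map_zpowers]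
    rfl

end Super

end Cfsg.Agent.Helper87
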