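import Mathlib
import Cfsg.Agent.Lib.Helper87.FusionSuper
import Cfsg.Agent.Lib.Helper87.AbChain
import Cfsg.Agent.Lib.Helper87.AbAut

set_option autoImplicit false

open Cfsg Cfsg.FusionSystem

namespace Cfsg.Agent.Helper87

variable {Ω : Type*} [Group Ω] {S : Subgroup Ω} {p : ℕ}

/-- over an abelian `p`-group every saturated fusion system has `S` normal -/
theorem isNormal_top_of_comm [Fact p.Prime] [Finite S] (hS : IsPGroup p S)
    (hab : IsMulCommutative S) {F : FusionSystem S} (hF : F.IsSaturated p) : F.IsNormal S := by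
  apply isNormal_top_of_centric_radical_eq hS hF
  intro R hfn hcen _
  apply le_antisymm hfn.1
  intro s hs
  refine hcen.2 R (isConj_refl hfn.1) ⟨hs, ?_⟩
  show s ∈ Subgroup.centralizer (R : Set Ω)
  rw [Subgroup.mem_centralizer_iff]
  intro r hr
  exact congrArg Subtype.val (hab.is_comm.comm ⟨r, hfn.1 hr⟩ ⟨s, hs⟩)

/-- with `S` normal in `F`, a chain of characteristic subgroups of `S` with cyclic steps is a
supersoluble chain -/
theorem superChain_of_char_chain [Finite S] {F : FusionSystem S} (hn : F.IsNormal S) {m : ℕ}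
    (N : Fin (m + 1) → Subgroup S) (hN0 : N 0 = ⊥) (hNlast : N (Fin.last m) = ⊤)
    (hNchar : ∀ i, IsChar (N i))
    (hNstep : ∀ i : Fin m, N i.castSucc ≤ N i.succ ∧
      ∃ x, N i.succ = N i.castSucc ⊔ Subgroup.zpowers x) :
    IsSuperChain F (fun i => (N i).map S.subtype) := by
  refine ⟨?_, ?_, fun i => ⟨Subgroup.map_subtype_le _, ?_⟩,
    fun i => ⟨Subgroup.map_mono (hNstep i).1, ?_⟩⟩
  · show (N 0).map S.subtype = ⊥
    rw [hN0, Subgroup.map_bot]
  · show (N (Fin.last m)).map S.subtype = S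
    rw [hNlast, ← MonoidHom.range_eq_map, Subgroup.range_subtype]
  · intro R hR φ hφ x
    obtain ⟨g, hg, eg⟩ := isNormal_top_iff.1 hn R _ (mor_of_mem hφ)
    have hiso : Iso F S S g := iso_of_card_le hg le_rfl (fun n hn => hg.mem hn) le_rfl
    obtain ⟨x', hx', ex⟩ := hR x.2
    have h1 := (hNchar i).apply_mem hiso.equiv hx'
    refine ⟨_, h1, ?_⟩
    have h2 := eg x x.2
    rw [extFun_apply] at h2
    rw [← h2, ← ex]
    rfl
  · obtain ⟨x, hx⟩ := (hNstep i).2
    refine ⟨x, x.2, ?_⟩
    show (N i.succ).map S.subtype = (N i.castSucc).map S.subtype ⊔ Subgroup.zpowers (x : Ω)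
    rw [hx, Subgroup.map_sup, MonoidHom.map_zpowers]
    rfl

/-- supersolubility of all saturated fusion systems over an abelian `p`-group -/
theorem super_iff_distinct_of_comm [Fact p.Prime] [Finite S] (hS : IsPGroup p S)
    (hab : IsMulCommutative S) :
    (∀ F : FusionSystem S, F.IsSaturated p →
      ∃ (m : ℕ) (c : Fin (m + 1) → Subgroup Ω), IsSuperChain F c) ↔
    ¬ ∃ (n : ℕ) (H : Type) (_ : CommGroup H), 0 < n ∧
      Nonempty (S ≃* (Multiplicative (ZMod (p ^ n)) × Multiplicative (ZMod (p ^ n))) × H) := by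
  constructor
  · rintro hsup ⟨n, H, hH, hn, ⟨f⟩⟩
    obtain ⟨T, hT, hbad⟩ := exists_bad_subgroup hn f
    exact hbad (comm_exp_of_super hS hsup T hT)
  · intro hdist F hF
    letI : CommGroup S :=
      { (inferInstance : Group S) with mul_comm := hab.is_comm.comm }
    obtain ⟨m, N, hN0, hNlast, hNchar, hNstep⟩ := exists_char_chain_of_distinct hS hdist
    exact ⟨m, _, superChain_of_char_chain (isNormal_top_of_comm hS hab hF) N hN0 hNlast hNchar
      hNstep⟩

end Cfsg.Agent.Helper87
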