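import Mathlib
import Cfsg.Prelude.Def_FusionSystem
import Cfsg.Agent.Lib.Helper87.SmallCenterBridge
import Cfsg.Agent.Lib.Helper87.FusionNormalCrit
import Cfsg.Agent.Lib.Helper87.FusionCore
import Cfsg.Agent.Lib.Helper87.FusionFactor

set_option autoImplicit false

namespace Cfsg.Agent.Helper87

open Cfsg Cfsg.FusionSystem

variable {Ω : Type*} [Group Ω] {S : Subgroup Ω} [Finite S] {p : ℕ} [hp : Fact p.Prime]
  {F : FusionSystem S}

theorem mid_of_centric (h : SC p S) {R : Subgroup Ω} (hcen : F.IsCentric R) (hne : R ≠ S) :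
    Mid p S R := by
  have hRS := hcen.1
  have hZR : zS S ≤ R := by
    intro z hz
    apply hcen.2 R (isConj_refl hRS)
    exact ⟨hz.1, Subgroup.centralizer_le hRS hz.2⟩
  apply h.mid_of_le hZR hRS _ hne
  intro he
  apply h.ne_zS
  apply le_antisymm (zS_le S)
  intro s hs
  rw [← he]
  apply hcen.2 R (isConj_refl hRS)
  refine ⟨hs, ?_⟩
  rw [he]
  show s ∈ Subgroup.centralizer ((zS S : Subgroup Ω) : Set Ω)
  rw [Subgroup.mem_centralizer_iff]
  intro z hz
  exact ((mem_zS.1 hz).2 s hs).symm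

/-- a subgroup of `Z(S)` invariant under the automorphism groups of `S` and of the active
intermediate subgroups is normal in the system -/
theorem isNormal_of_invariant (hS : IsPGroup p S) (hF : F.IsSaturated p) (h : SC p S)
    {Q : Subgroup Ω} (hQ : Q ≤ zS S)
    (h1 : ∀ R, Mid p S R → Active F R → ∀ g, Iso F R R g → ∀ q ∈ Q, g q ∈ Q)
    (h2 : ∀ g, Iso F S S g → ∀ q ∈ Q, g q ∈ Q) : F.IsNormal Q := by
  have hstr : F.StronglyClosed Q := by
    rw [stronglyClosed_iff]
    refine ⟨hQ.trans (zS_le S), fun P f hP hf x hx => ?_⟩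
    have key := alperin hS hF (fun P f => ∀ x ∈ P, x ∈ Q → f x ∈ Q)
      ⟨fun hC hff x hx hxQ => by rw [← hff x hx]; exact hC x hx hxQ,
       fun _ hC hQP x hx hxQ => hC x (hQP hx) hxQ,
       fun _ _ hPQ hC1 hC2 x hx hxQ => hC2 _ (hPQ x hx) (hC1 x hx hxQ)⟩
      (by
        intro R hfn hcen hrad α hα x hx hxQ
        by_cases hRS : R = S
        · subst hRS
          exact h2 _ (iso_of_mem_autGroup le_rfl hα) x hxQ
        · have hmid := mid_of_centric h hcen hRS
          exact h1 R hmid (active_of_radical hS hF h hmid hrad) _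
            (iso_of_mem_autGroup hcen.1 hα) x hxQ) P f hf
    exact key x hx (hP hx)
  apply isNormal_of_stronglyClosed_of_le hS hF hstr
  intro R hfn hcen hrad
  by_cases hRS : R = S
  · rw [hRS]; exact hQ.trans (zS_le S)
  · exact hQ.trans (mid_of_centric h hcen hRS).le

theorem eq_bot_of_invariant (hS : IsPGroup p S) (hF : F.IsSaturated p) (h : SC p S)
    (hcore : F.core = ⊥) {Q : Subgroup Ω} (hQ : Q ≤ zS S)
    (h1 : ∀ R, Mid p S R → Active F R → ∀ g, Iso F R R g → ∀ q ∈ Q, g q ∈ Q)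
    (h2 : ∀ g, Iso F S S g → ∀ q ∈ Q, g q ∈ Q) : Q = ⊥ := by
  have := le_core (isNormal_of_invariant hS hF h hQ h1 h2)
  rw [hcore] at this
  exact le_bot_iff.1 this

/-- there is an active intermediate subgroup -/
theorem exists_active (hS : IsPGroup p S) (hF : F.IsSaturated p) (h : SC p S)
    (hcore : F.core = ⊥) : ∃ R, Mid p S R ∧ Active F R := by
  by_contra hcon
  push Not at hcon
  have hn : F.IsNormal S := by
    apply isNormal_top_of_centric_radical_eq hS hF
    intro R hfn hcen hrad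
    by_contra hRS
    have hmid := mid_of_centric h hcen hRS
    exact hcon R hmid (active_of_radical hS hF h hmid hrad)
  have := le_core hn
  rw [hcore] at this
  have hS1 : S = ⊥ := le_bot_iff.1 this
  apply h.ne_zS
  apply le_antisymm (zS_le S)
  rw [hS1]; exact bot_le

/-! ### transport under automorphisms of `S` -/

omit [Finite S] hp in
theorem zS_map_mem {β : Ω → Ω} (hβ : Iso F S S β) {z : Ω} (hz : z ∈ zS S) : β z ∈ zS S := by
  rw [mem_zS]
  refine ⟨hβ.map_mem hz.1, fun s hs => ?_⟩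
  obtain ⟨s', hs', rfl⟩ := hβ.surj hs
  rw [← hβ.1.map_mul hs' hz.1, ← hβ.1.map_mul hz.1 hs', (mem_zS.1 hz).2 s' hs']

/-- data of an automorphism of `S` carrying `R` onto `R'`, with its inverse -/
structure Carry (F : FusionSystem S) (β β' : Ω → Ω) (R R' : Subgroup Ω) : Prop where
  iso : Iso F S S β
  iso' : Iso F S S β'
  left : ∀ x ∈ S, β' (β x) = x
  right : ∀ x ∈ S, β (β' x) = x
  map : Iso F R R' β
  map' : Iso F R' R β'

omit [Finite S] hp in
theorem Carry.symm' {β β' : Ω → Ω} {R R' : Subgroup Ω} (c : Carry F β β' R R') :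
    Carry F β' β R' R :=
  ⟨c.iso', c.iso, c.right, c.left, c.map', c.map⟩

omit [Finite S] hp in
theorem carry_of_inverse {β β' : Ω → Ω} (hβ : Iso F S S β) (hβ' : Iso F S S β')
    (e1 : ∀ x ∈ S, β' (β x) = x) (e2 : ∀ x ∈ S, β (β' x) = x) {R : Subgroup Ω} (hR : R ≤ S) :
    ∃ R', Carry F β β' R R' := by
  have hm := hβ.restrict hR
  refine ⟨_, hβ, hβ', e1, e2, hm, ?_⟩
  obtain ⟨g, hg, e3, e4⟩ := hm.symm
  refine hg.congr (fun y hy => ?_)
  obtain ⟨x, hx, rfl⟩ := hm.surj hy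
  rw [e3 x hx, e1 x (hR hx)]

omit [Finite S] hp in
theorem exists_carry {β : Ω → Ω} (hβ : Iso F S S β) {R : Subgroup Ω} (hR : R ≤ S) :
    ∃ β' R', Carry F β β' R R' := by
  obtain ⟨β', hβ', e1, e2⟩ := hβ.symm
  obtain ⟨R', c⟩ := carry_of_inverse hβ hβ' e1 e2 hR
  exact ⟨β', R', c⟩

omit [Finite S] hp in
/-- every intermediate subgroup is the image of one under a given automorphism of `S` -/
theorem exists_carry_onto {β : Ω → Ω} (hβ : Iso F S S β) {R : Subgroup Ω} (hR : R ≤ S) :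
    ∃ β' R₀, Carry F β β' R₀ R := by
  obtain ⟨β', hβ', e1, e2⟩ := hβ.symm
  obtain ⟨R₀, c⟩ := carry_of_inverse hβ' hβ e2 e1 hR
  exact ⟨β', R₀, c.symm'⟩

omit [Finite S] hp in
theorem Carry.symm {β β' : Ω → Ω} {R R' : Subgroup Ω} (c : Carry F β β' R R') :
    Carry F β' β R' R :=
  ⟨c.iso', c.iso, c.right, c.left, c.map', c.map⟩

theorem Carry.mid {β β' : Ω → Ω} {R R' : Subgroup Ω} (c : Carry F β β' R R') (hR : Mid p S R) :
    Mid p S R' := by
  refine ⟨fun z hz => ?_, c.map.le_right, ?_⟩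
  · have h1 := zS_map_mem c.iso' hz
    have h2 := c.map.map_mem (hR.le h1)
    rwa [c.right z hz.1] at h2
  · rw [← c.map.card_eq]; exact hR.card

omit [Finite S] hp in
theorem Carry.active {β β' : Ω → Ω} {R R' : Subgroup Ω} (c : Carry F β β' R R')
    (hZR : zS S ≤ R) (hact : Active F R) : Active F R' := by
  obtain ⟨g, hg, z, hz, hgz⟩ := hact
  refine ⟨_, (c.map'.comp hg).comp c.map, β z, zS_map_mem c.iso hz, fun hcon => ?_⟩
  apply hgz
  have h1 : β (g (β' (β z))) ∈ zS S := hcon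
  rw [c.left z hz.1] at h1
  have h2 := zS_map_mem c.iso' h1
  rwa [c.left _ (hg.le_right (hg.map_mem (hZR hz)))] at h2

omit [Finite S] hp in
theorem Carry.wSub_mem {β β' : Ω → Ω} {R R' : Subgroup Ω} (c : Carry F β β' R R')
    {w : Ω} (hw : w ∈ wSub F R) : β w ∈ wSub F R' := by
  refine ⟨c.map.map_mem hw.1, fun g' hg' => ?_⟩
  have h1 := hw.2 _ ((c.map.comp hg').comp c.map')
  have h2 := zS_map_mem c.iso h1
  have h3 : β (β' (g' (β w))) = g' (β w) :=
    c.right _ (hg'.le_right (hg'.map_mem (c.map.map_mem hw.1)))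
  rwa [h3] at h2

/-- the intersection of the subgroups `wSub F R` over the active intermediate subgroups -/
def kSub (F : FusionSystem S) (p : ℕ) : Subgroup Ω where
  carrier := {q | q ∈ zS S ∧ ∀ R, Mid p S R → Active F R → q ∈ wSub F R}
  one_mem' := ⟨Subgroup.one_mem _, fun _ _ _ => Subgroup.one_mem _⟩
  mul_mem' := by
    rintro a b ⟨ha, ha'⟩ ⟨hb, hb'⟩
    exact ⟨Subgroup.mul_mem _ ha hb, fun R hR hact =>
      Subgroup.mul_mem _ (ha' R hR hact) (hb' R hR hact)⟩
  inv_mem' := by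
    rintro a ⟨ha, ha'⟩
    exact ⟨Subgroup.inv_mem _ ha, fun R hR hact => Subgroup.inv_mem _ (ha' R hR hact)⟩

theorem kSub_map_mem {β : Ω → Ω} (hβ : Iso F S S β) {q : Ω} (hq : q ∈ kSub F p) :
    β q ∈ kSub F p := by
  refine ⟨zS_map_mem hβ hq.1, fun R hR hact => ?_⟩
  obtain ⟨β', R₀, c⟩ := exists_carry_onto hβ hR.le'
  have hR₀ : Mid p S R₀ := c.symm'.mid hR
  have hact₀ : Active F R₀ := c.symm'.active hR.le hact
  exact c.wSub_mem (hq.2 R₀ hR₀ hact₀)

theorem kSub_eq_bot (hS : IsPGroup p S) (hF : F.IsSaturated p) (h : SC p S)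
    (hcore : F.core = ⊥) : kSub F p = ⊥ := by
  have hle : kSub F p ≤ zS S := fun q hq => hq.1
  apply eq_bot_of_invariant hS hF h hcore hle
  · intro R hR hact g hg q hq
    obtain ⟨n, ν, hn, hν, hνR, e, hnW, -⟩ := exists_frattini_ext hS hF h hR hact hg
    have hqR : q ∈ R := hR.le hq.1
    have hνq : ν q ∈ kSub F p := kSub_map_mem hν hq
    rw [e q hqR, hnW _ (hνq.2 R hR hact)]
    exact hνq
  · intro β hβ q hq
    exact kSub_map_mem hβ hq

end Cfsg.Agent.Helper87
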