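import Mathlib
import Cfsg.Prelude.Def_FusionSystem
import Cfsg.Agent.Lib.Helper87.SmallCenterMain
import Cfsg.Agent.Lib.Helper24.ClassTwo

set_option autoImplicit false

namespace Cfsg.Agent.Helper87

open Cfsg Cfsg.FusionSystem

variable {Ω : Type*} [Group Ω] {S : Subgroup Ω} [Finite S] {p : ℕ} [hp : Fact p.Prime]
  {F : FusionSystem S}

/-- automorphisms of `S` fixing `Z(S)` pointwise -/
def fixZ (S : Subgroup Ω) : Subgroup (MulAut S) where
  carrier := {γ | ∀ z : S, (z : Ω) ∈ zS S → γ z = z}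
  one_mem' := fun _ _ => rfl
  mul_mem' := by
    intro a b ha hb z hz
    rw [MulAut.mul_apply, hb z hz, ha z hz]
  inv_mem' := by
    intro a ha z hz
    have := ha z hz
    rw [← this, MulAut.inv_apply_self, this]

omit [Finite S] hp in
theorem mem_fixZ {γ : MulAut S} : γ ∈ fixZ S ↔ ∀ z : S, (z : Ω) ∈ zS S → γ z = z := Iff.rfl

omit [Finite S] hp in
theorem autInducedBy_self_le_fixZ : autInducedBy S S ≤ fixZ S := by
  intro α hα z hz
  obtain ⟨g, hg, e⟩ := mem_autInducedBy_iff.1 hα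
  apply Subtype.ext
  rw [e]
  have := (mem_zS.1 hz).2 g hg
  rw [this]; group

/-- `Aut_S(S)` is normal in `Aut_F(S)` -/
theorem autInducedBy_self_normal (F : FusionSystem S) :
    ((autInducedBy S S).subgroupOf (F.autGroup S)).Normal := by
  constructor
  intro n hn g
  rw [Subgroup.mem_subgroupOf] at hn ⊢
  obtain ⟨k, hk, e⟩ := mem_autInducedBy_iff.1 hn
  rw [mem_autInducedBy_iff]
  refine ⟨((g : MulAut S) ⟨k, hk⟩ : S), Subtype.property _, fun x => ?_⟩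
  show ((g : MulAut S) ((n : MulAut S) ((g : MulAut S)⁻¹ x)) : Ω) = _
  have h1 : (n : MulAut S) ((g : MulAut S)⁻¹ x) =
      ⟨k, hk⟩ * ((g : MulAut S)⁻¹ x) * ⟨k, hk⟩⁻¹ := by
    apply Subtype.ext
    rw [e]; rfl
  rw [h1, map_mul, map_mul, map_inv, MulAut.apply_inv_self]
  rfl

/-- an `F`-automorphism of `S` whose `p`-th power centralizes `Z(S)` centralizes `Z(S)` -/
theorem mem_fixZ_of_pow (hS : IsPGroup p S) (hF : F.IsSaturated p) {γ : MulAut S}
    (hγ : γ ∈ F.autGroup S) (hpow : γ ^ p ∈ fixZ S) : γ ∈ fixZ S := by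
  obtain ⟨-, P₀, hP₀⟩ := fullyAutomized_of_fullyNormalized hS hF (fullyNormalized_self F)
  haveI hN : ((P₀ : Subgroup (F.autGroup S))).Normal := by
    rw [hP₀]; exact autInducedBy_self_normal F
  have h1 := Subgroup.pow_index_mem (P₀ : Subgroup (F.autGroup S)) ⟨γ, hγ⟩
  have h2 : ¬ p ∣ (P₀ : Subgroup (F.autGroup S)).index := Sylow.not_dvd_index P₀
  obtain ⟨m, hm⟩ : ∃ m, m = (P₀ : Subgroup (F.autGroup S)).index := ⟨_, rfl⟩
  rw [← hm] at h1 h2
  rw [hP₀, Subgroup.mem_subgroupOf, Subgroup.coe_pow] at h1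
  have h3 : γ ^ m ∈ fixZ S := autInducedBy_self_le_fixZ h1
  have hcop : Nat.Coprime m p := (Nat.Coprime.symm ((Nat.Prime.coprime_iff_not_dvd hp.out).2 h2))
  have hb := Nat.gcd_eq_gcd_ab m p
  rw [hcop.gcd_eq_one] at hb
  have e : γ = (γ ^ m) ^ (Nat.gcdA m p) * (γ ^ p) ^ (Nat.gcdB m p) := by
    rw [← zpow_natCast γ m, ← zpow_natCast γ p, ← zpow_mul, ← zpow_mul, ← zpow_add, ← hb]
    simp
  rw [e]
  exact Subgroup.mul_mem _ (Subgroup.zpow_mem _ h3 _) (Subgroup.zpow_mem _ hpow _)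

omit [Finite S] hp in
/-- an automorphism of `S` stabilizing `1 ≤ L ≤ Z(S)`, with `L` of exponent `p`, has `p`-th power
centralizing `Z(S)` -/
theorem pow_mem_fixZ_of_chain {L : Subgroup Ω} {γ : MulAut S}
    (hL : ∀ ℓ : S, (ℓ : Ω) ∈ L → γ ℓ = ℓ)
    (hZ : ∀ z : S, (z : Ω) ∈ zS S → ((z⁻¹ * γ z : S) : Ω) ∈ L)
    (hexp : ∀ ℓ ∈ L, ℓ ^ p = 1) : γ ^ p ∈ fixZ S := by
  intro z hz
  have key : ∀ k : ℕ, (γ ^ k) z = z * (z⁻¹ * γ z) ^ k := by
    intro k
    induction k with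
    | zero => simp
    | succ k ih =>
      rw [pow_succ', MulAut.mul_apply, ih, map_mul, map_pow, hL _ (hZ z hz), pow_succ',
        ← mul_assoc z, mul_inv_cancel_left]
  rw [key p]
  have h2 : (z⁻¹ * γ z) ^ p = 1 := by
    apply Subtype.ext
    rw [Subgroup.coe_pow]
    exact hexp _ (hZ z hz)
  rw [h2, mul_one]

section Inverting

variable {R : Subgroup Ω} {η : Ω → Ω}

omit [Finite S] hp in
theorem central_mul_comm {z x : Ω} (hz : z ∈ zS S) (hx : x ∈ S) : z * x = x * z :=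
  ((mem_zS.1 hz).2 x hx).symm

/-- the action on `Z(S)` of an automorphism inverting `S'` and centralizing `wSub F R` -/
theorem inverting_apply (hS : IsPGroup p S) (hF : F.IsSaturated p) (h : SC p S)
    (hR : Mid p S R) (hact : Active F R) (hη : Iso F S S η) (hηW : ∀ w ∈ wSub F R, η w = w)
    (hηL : ∀ ℓ ∈ derS S, η ℓ = ℓ⁻¹) {z : Ω} (hz : z ∈ zS S) :
    ∃ a ∈ derS S, η z = z * a := by
  obtain ⟨ℓ, hℓ, w, hw, rfl⟩ := zS_decomp hS hF h hR hact hz
  have hℓS : ℓ ∈ S := zS_le S (h.derS_le hℓ)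
  have hwS : w ∈ S := zS_le S (wSub_le_zS hR.le' hw)
  refine ⟨ℓ⁻¹ * ℓ⁻¹, Subgroup.mul_mem _ (Subgroup.inv_mem _ hℓ) (Subgroup.inv_mem _ hℓ), ?_⟩
  rw [hη.1.map_mul hℓS hwS, hηL ℓ hℓ, hηW w hw]
  have hc : w * ℓ⁻¹ = ℓ⁻¹ * w :=
    central_mul_comm (wSub_le_zS hR.le' hw) (S.inv_mem hℓS)
  calc ℓ⁻¹ * w = ℓ * (ℓ⁻¹ * (ℓ⁻¹ * w)) := by group
    _ = ℓ * (ℓ⁻¹ * (w * ℓ⁻¹)) := by rw [hc]
    _ = ℓ * (w * ℓ⁻¹ * ℓ⁻¹) := by rw [← mul_assoc ℓ⁻¹ w, ← hc, mul_assoc w]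
    _ = ℓ * w * (ℓ⁻¹ * ℓ⁻¹) := by group

end Inverting

/-- two inverting automorphisms agree on `Z(S)` -/
theorem inverting_unique (hS : IsPGroup p S) (hF : F.IsSaturated p) (h : SC p S)
    {R R' : Subgroup Ω} (hR : Mid p S R) (hact : Active F R) (hR' : Mid p S R')
    (hact' : Active F R') {η η' : Ω → Ω} (hη : Iso F S S η)
    (hηW : ∀ w ∈ wSub F R, η w = w) (hηL : ∀ ℓ ∈ derS S, η ℓ = ℓ⁻¹) (hη' : Iso F S S η')
    (hηW' : ∀ w ∈ wSub F R', η' w = w) (hηL' : ∀ ℓ ∈ derS S, η' ℓ = ℓ⁻¹) {z : Ω}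
    (hz : z ∈ zS S) : η z = η' z := by
  have hLS : derS S ≤ S := (h.derS_le).trans (zS_le S)
  have hcardL := card_derS h hR hact
  have hexp : ∀ ℓ ∈ derS S, ℓ ^ p = 1 := by
    intro ℓ hℓ
    have h1 : (⟨ℓ, hℓ⟩ : derS S) ^ Nat.card (derS S) = 1 := pow_card_eq_one'
    rw [hcardL] at h1
    have h2 := congrArg Subtype.val h1
    rwa [Subgroup.coe_pow] at h2
  -- the composite `η' ∘ η` centralizes `Z(S)`
  have hγ : (hη'.equiv : MulAut S) * (hη.equiv : MulAut S) ∈ fixZ S := by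
    apply mem_fixZ_of_pow hS hF
      (Subgroup.mul_mem _ hη'.equiv_mem_autGroup hη.equiv_mem_autGroup)
    apply pow_mem_fixZ_of_chain (L := derS S) _ _ hexp
    · intro ℓ hℓ
      apply Subtype.ext
      show η' (η ℓ) = ℓ
      rw [hηL _ hℓ, hηL' _ (Subgroup.inv_mem _ hℓ), inv_inv]
    · intro z hz
      show (z : Ω)⁻¹ * η' (η z) ∈ derS S
      obtain ⟨a, ha, ea⟩ := inverting_apply hS hF h hR hact hη hηW hηL hz
      obtain ⟨a', ha', ea'⟩ := inverting_apply hS hF h hR' hact' hη' hηW' hηL' hz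
      rw [ea, hη'.1.map_mul z.2 (hLS ha), ea', hηL' a ha]
      have : (z : Ω)⁻¹ * ((z : Ω) * a' * a⁻¹) = a' * a⁻¹ := by group
      rw [this]
      exact Subgroup.mul_mem _ ha' (Subgroup.inv_mem _ ha)
  have hzS : z ∈ S := zS_le S hz
  have h1 : η' (η z) = z := by
    have := hγ ⟨z, hzS⟩ hz
    exact congrArg Subtype.val this
  -- `η'` is an involution on `Z(S)`
  have h2 : η' (η' z) = z := by
    obtain ⟨a', ha', ea'⟩ := inverting_apply hS hF h hR' hact' hη' hηW' hηL' hz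
    rw [ea', hη'.1.map_mul hzS (hLS ha'), ea', hηL' a' ha']
    group
  exact hη'.1.inj (hη.map_mem hzS) (hη'.map_mem hzS) (h1.trans h2.symm)

/-- for odd `p`, the fixed points on `Z(S)` of an inverting automorphism -/
theorem mem_wSub_of_fixed (hS : IsPGroup p S) (hF : F.IsSaturated p) (h : SC p S) (hp2 : p ≠ 2)
    {R : Subgroup Ω} (hR : Mid p S R) (hact : Active F R) {η : Ω → Ω} (hη : Iso F S S η)
    (hηW : ∀ w ∈ wSub F R, η w = w) (hηL : ∀ ℓ ∈ derS S, η ℓ = ℓ⁻¹) {z : Ω}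
    (hz : z ∈ zS S) (hfix : η z = z) : z ∈ wSub F R := by
  obtain ⟨ℓ, hℓ, w, hw, rfl⟩ := zS_decomp hS hF h hR hact hz
  have hℓS : ℓ ∈ S := zS_le S (h.derS_le hℓ)
  have hwS : w ∈ S := zS_le S (wSub_le_zS hR.le' hw)
  rw [hη.1.map_mul hℓS hwS, hηL ℓ hℓ, hηW w hw] at hfix
  have h1 : ℓ⁻¹ = ℓ := mul_right_cancel hfix
  have h2 : ℓ ^ 2 = 1 := by
    rw [sq]
    nth_rewrite 1 [← h1]
    exact inv_mul_cancel ℓ
  have hcardL := card_derS h hR hact
  have h3 : ℓ ^ p = 1 := by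
    have h4 : (⟨ℓ, hℓ⟩ : derS S) ^ Nat.card (derS S) = 1 := pow_card_eq_one'
    rw [hcardL] at h4
    have h5 := congrArg Subtype.val h4
    rwa [Subgroup.coe_pow] at h5
  have h6 : orderOf ℓ ∣ Nat.gcd 2 p := Nat.dvd_gcd (orderOf_dvd_of_pow_eq_one h2)
    (orderOf_dvd_of_pow_eq_one h3)
  have h7 : Nat.gcd 2 p = 1 := by
    have : Nat.Coprime 2 p := (Nat.coprime_primes Nat.prime_two hp.out).2 (Ne.symm hp2)
    exact this
  rw [h7, Nat.dvd_one, orderOf_eq_one_iff] at h6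
  rw [h6, one_mul]
  exact hw

theorem wSub_eq_bot_of_odd (hS : IsPGroup p S) (hF : F.IsSaturated p) (h : SC p S)
    (hcore : F.core = ⊥) (hp2 : p ≠ 2) {R : Subgroup Ω} (hR : Mid p S R) (hact : Active F R) :
    wSub F R = ⊥ := by
  obtain ⟨η, hη, hηW, hηL⟩ := exists_inverting_ext hS hF h hR hact
  have hle : wSub F R ≤ kSub F p := by
    intro w hw
    have hwZ : w ∈ zS S := wSub_le_zS hR.le' hw
    refine ⟨hwZ, fun R' hR' hact' => ?_⟩
    obtain ⟨η', hη', hηW', hηL'⟩ := exists_inverting_ext hS hF h hR' hact'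
    have h1 := inverting_unique hS hF h hR hact hR' hact' hη hηW hηL hη' hηW' hηL' hwZ
    rw [hηW w hw] at h1
    exact mem_wSub_of_fixed hS hF h hp2 hR' hact' hη' hηW' hηL' hwZ h1.symm
  rw [kSub_eq_bot hS hF h hcore] at hle
  exact le_bot_iff.1 hle

/-- `Z(S) = S'` when `wSub F R` is trivial -/
theorem zS_eq_derS (hS : IsPGroup p S) (hF : F.IsSaturated p) (h : SC p S) {R : Subgroup Ω}
    (hR : Mid p S R) (hact : Active F R) (hW : wSub F R = ⊥) : zS S = derS S := by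
  apply le_antisymm _ h.derS_le
  intro z hz
  obtain ⟨ℓ, hℓ, w, hw, rfl⟩ := zS_decomp hS hF h hR hact hz
  rw [hW, Subgroup.mem_bot] at hw
  rw [hw, mul_one]
  exact hℓ

omit [Finite S] hp in
theorem Mor.map_pow' {P : Subgroup Ω} {f : Ω → Ω} (hf : Mor F P f) {x : Ω} (hx : x ∈ P) (n : ℕ) :
    f (x ^ n) = f x ^ n := by
  induction n with
  | zero => rw [pow_zero, pow_zero]; exact hf.map_one
  | succ n ih => rw [pow_succ, pow_succ, hf.map_mul (P.pow_mem hx n) hx, ih]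

/-- for odd `p` and `|Z(S)| = p`, the elements of order dividing `p` form a subgroup -/
def omegaS (h : SC p S) (hp2 : p ≠ 2) (hexp : ∀ ℓ ∈ derS S, ℓ ^ p = 1) : Subgroup Ω where
  carrier := {x | x ∈ S ∧ x ^ p = 1}
  one_mem' := ⟨S.one_mem, one_pow p⟩
  mul_mem' := by
    rintro a b ⟨ha, ha'⟩ ⟨hb, hb'⟩
    refine ⟨S.mul_mem ha hb, ?_⟩
    have hc : b * a * b⁻¹ * a⁻¹ ∈ zS S := h.comm b hb a ha
    have h1 : Commute (b * a * b⁻¹ * a⁻¹) a := central_mul_comm hc ha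
    have h2 : Commute (b * a * b⁻¹ * a⁻¹) b := central_mul_comm hc hb
    rw [Cfsg.Agent.Helper24.mul_pow_of_commutator_commute a b h1 h2 p, ha', hb', one_mul, one_mul]
    have hodd : p ∣ p.choose 2 := by
      have hpp := hp.out
      have h2lt : 2 < p := lt_of_le_of_ne hpp.two_le (Ne.symm hp2)
      exact hpp.dvd_choose_self (by norm_num) h2lt
    obtain ⟨k, hk⟩ := hodd
    rw [hk, pow_mul, hexp _ (comm_mem_derS hb ha), one_pow]
  inv_mem' := by
    rintro a ⟨ha, ha'⟩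
    exact ⟨S.inv_mem ha, by rw [inv_pow, ha', inv_one]⟩

theorem pow_eq_one_of_odd (hS : IsPGroup p S) (hF : F.IsSaturated p) (h : SC p S)
    (hcore : F.core = ⊥) (hp2 : p ≠ 2) : ∀ s ∈ S, s ^ p = 1 := by
  obtain ⟨R, hR, hact⟩ := exists_active hS hF h hcore
  have hcardL := card_derS h hR hact
  have hexp : ∀ ℓ ∈ derS S, ℓ ^ p = 1 := by
    intro ℓ hℓ
    have h1 : (⟨ℓ, hℓ⟩ : derS S) ^ Nat.card (derS S) = 1 := pow_card_eq_one'
    rw [hcardL] at h1
    have h2 := congrArg Subtype.val h1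
    rwa [Subgroup.coe_pow] at h2
  by_contra hcon
  push Not at hcon
  obtain ⟨s, hs, hsp⟩ := hcon
  have hES : omegaS h hp2 hexp ≤ S := fun x hx => hx.1
  have hsE : s ∉ omegaS h hp2 hexp := fun hx => hsp hx.2
  -- every active intermediate subgroup lies in `omegaS`, hence equals it
  have hle : ∀ R', Mid p S R' → Active F R' → R' ≤ omegaS h hp2 hexp := by
    intro R' hR' hact' x hx
    obtain ⟨v, hv, w, hw, rfl⟩ := mid_decomp hS hF h hR' hact' hx
    rw [wSub_eq_bot_of_odd hS hF h hcore hp2 hR' hact', Subgroup.mem_bot] at hw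
    rw [hw, mul_one] at hx ⊢
    exact ⟨hR'.le' hx, pow_eq_one_of_mem_vSub hS hF h hR' hact' hv⟩
  have heq : ∀ R', Mid p S R' → Active F R' → omegaS h hp2 hexp ≤ R' := by
    intro R' hR' hact' x hx
    by_contra hxR
    have := eq_of_le_of_not_mem (hle R' hR' hact') hES (h.card_mid hR') hx hxR
    apply hsE
    rw [this]
    exact hs
  have hn : F.IsNormal (omegaS h hp2 hexp) := by
    apply isNormal_of_stronglyClosed_of_le hS hF
    · rw [stronglyClosed_iff]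
      refine ⟨hES, fun P f hP hf x hx => ?_⟩
      refine ⟨hf.mem hx, ?_⟩
      rw [← Mor.map_pow' hf hx, (hP hx).2, hf.map_one]
    · intro R' hfn hcen hrad
      by_cases hRS : R' = S
      · rw [hRS]; exact hES
      · have hmid := mid_of_centric h hcen hRS
        exact heq R' hmid (active_of_radical hS hF h hmid hrad)
  have h1 := le_core hn
  rw [hcore] at h1
  obtain ⟨r, hr, hrZ⟩ := hR.ne_zS
  have h2 := h1 (hle R hR hact hr)
  rw [Subgroup.mem_bot] at h2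
  apply hrZ
  rw [h2]
  exact Subgroup.one_mem _

/-- the odd case: `|Z(S)| = p`, `|S| = p ^ 3` and `S` has exponent `p` -/
theorem odd_case (hS : IsPGroup p S) (hF : F.IsSaturated p) (h : SC p S)
    (hcore : F.core = ⊥) (hp2 : p ≠ 2) :
    Nat.card (zS S) = p ∧ Nat.card S = p ^ 3 ∧ ∀ s ∈ S, s ^ p = 1 := by
  obtain ⟨R, hR, hact⟩ := exists_active hS hF h hcore
  have hW := wSub_eq_bot_of_odd hS hF h hcore hp2 hR hact
  have hZ : Nat.card (zS S) = p := by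
    rw [zS_eq_derS hS hF h hR hact hW]
    exact card_derS h hR hact
  refine ⟨hZ, ?_, pow_eq_one_of_odd hS hF h hcore hp2⟩
  rw [h.card, hZ]; ring

end Cfsg.Agent.Helper87
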