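import Mathlib
import Cfsg.Prelude.Def_FusionSystem
import Cfsg.Agent.Lib.Helper87.SmallCenterOdd
import Cfsg.Agent.S1349

set_option autoImplicit false

namespace Cfsg.Agent.Helper87

open Cfsg Cfsg.FusionSystem

variable {Ω : Type*} [Group Ω] {S : Subgroup Ω} [Finite S] {p : ℕ} [hp : Fact p.Prime]
  {F : FusionSystem S}

/-- there are at least two active intermediate subgroups -/
theorem exists_two_active (hS : IsPGroup p S) (hF : F.IsSaturated p) (h : SC p S)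
    (hcore : F.core = ⊥) :
    ∃ R₁ R₂, Mid p S R₁ ∧ Active F R₁ ∧ Mid p S R₂ ∧ Active F R₂ ∧ R₁ ≠ R₂ := by
  obtain ⟨R₁, hR₁, hact₁⟩ := exists_active hS hF h hcore
  by_contra hcon
  have huniq : ∀ R, Mid p S R → Active F R → R = R₁ := by
    intro R hR hact
    by_contra hne
    exact hcon ⟨R₁, R, hR₁, hact₁, hR, hact, fun e => hne e.symm⟩
  have hn : F.IsNormal R₁ := by
    apply isNormal_of_stronglyClosed_of_le hS hF
    · rw [stronglyClosed_iff]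
      refine ⟨hR₁.le', fun P f hP hf x hx => ?_⟩
      have key := alperin hS hF (fun P f => ∀ x ∈ P, x ∈ R₁ → f x ∈ R₁)
        ⟨fun hC hff x hx hxQ => by rw [← hff x hx]; exact hC x hx hxQ,
         fun _ hC hQP x hx hxQ => hC x (hQP hx) hxQ,
         fun _ _ hPQ hC1 hC2 x hx hxQ => hC2 _ (hPQ x hx) (hC1 x hx hxQ)⟩
        (by
          intro R hfn hcen hrad α hα x hx hxR
          by_cases hRS : R = S
          · subst hRS
            have hiso := iso_of_mem_autGroup le_rfl hα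
            obtain ⟨β', R', c⟩ := exists_carry hiso hR₁.le'
            have hR' := huniq R' (c.mid hR₁) (c.active hR₁.le hact₁)
            have := c.map.map_mem hxR
            rwa [hR'] at this
          · have hmid := mid_of_centric h hcen hRS
            have hRR := huniq R hmid (active_of_radical hS hF h hmid hrad)
            subst hRR
            exact (iso_of_mem_autGroup hcen.1 hα).map_mem hx) P f hf
      exact key x hx (hP hx)
    · intro R hfn hcen hrad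
      by_cases hRS : R = S
      · rw [hRS]; exact hR₁.le'
      · have hmid := mid_of_centric h hcen hRS
        rw [huniq R hmid (active_of_radical hS hF h hmid hrad)]
  have h1 := le_core hn
  rw [hcore] at h1
  obtain ⟨r, hr, hrZ⟩ := hR₁.ne_zS
  have h2 := h1 hr
  rw [Subgroup.mem_bot] at h2
  apply hrZ
  rw [h2]
  exact Subgroup.one_mem _

/-! ### the case `p = 2` -/

/-- two elements of `S` outside a subgroup of index `2` have their product in it -/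
theorem mul_mem_of_not_mem (h : SC 2 S) {R : Subgroup Ω} (hR : Mid 2 S R) {x y : Ω}
    (hx : x ∈ S) (hxR : x ∉ R) (hy : y ∈ S) (hyR : y ∉ R) : x * y ∈ R := by
  have hidx : (R.subgroupOf S).index = 2 := by
    have h1 := Subgroup.card_mul_index (R.subgroupOf S)
    rw [card_subgroupOf_eq hR.le', h.card_mid hR] at h1
    haveI := hR.finite
    have hpos : 0 < Nat.card R := Nat.card_pos
    have h2 : Nat.card R * (R.subgroupOf S).index = Nat.card R * 2 := by rw [h1]; ring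
    exact Nat.eq_of_mul_eq_mul_left hpos h2
  have h3 := Subgroup.mul_mem_iff_of_index_two hidx (a := (⟨x, hx⟩ : S)) (b := ⟨y, hy⟩)
  rw [Subgroup.mem_subgroupOf, Subgroup.mem_subgroupOf, Subgroup.mem_subgroupOf] at h3
  exact h3.2 ⟨fun hc => absurd hc hxR, fun hc => absurd hc hyR⟩

omit [Finite S] in
theorem eq_one_or_eq_of_card_two {H : Subgroup Ω} (hH : Nat.card H = 2) {c : Ω} (hc : c ∈ H)
    (hc1 : c ≠ 1) {ℓ : Ω} (hℓ : ℓ ∈ H) : ℓ = 1 ∨ ℓ = c := by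
  obtain ⟨x, y, hxy, huniv⟩ := Nat.card_eq_two_iff.1 hH
  have mem : ∀ t : H, t = x ∨ t = y := by
    intro t
    have : t ∈ ({x, y} : Set H) := by rw [huniv]; exact Set.mem_univ t
    exact this
  have hc1' : (⟨c, hc⟩ : H) ≠ 1 := fun e => hc1 (congrArg Subtype.val e)
  by_contra hcon
  push Not at hcon
  have hℓ1 : (⟨ℓ, hℓ⟩ : H) ≠ 1 := fun e => hcon.1 (congrArg Subtype.val e)
  have hℓc : (⟨ℓ, hℓ⟩ : H) ≠ ⟨c, hc⟩ := fun e => hcon.2 (congrArg Subtype.val e)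
  rcases mem 1 with e1 | e1 <;> rcases mem ⟨c, hc⟩ with e2 | e2 <;>
    rcases mem ⟨ℓ, hℓ⟩ with e3 | e3
  all_goals first
    | exact hc1' (e2.trans e1.symm)
    | exact hℓ1 (e3.trans e1.symm)
    | exact hℓc (e3.trans e2.symm)

/-- the data for the case `p = 2` -/
structure TwoData (F : FusionSystem S) (R₁ R₂ : Subgroup Ω) (v₁ v₂ : Ω) : Prop where
  hR₁ : Mid 2 S R₁
  hact₁ : Active F R₁
  hR₂ : Mid 2 S R₂
  hact₂ : Active F R₂
  hne : R₁ ≠ R₂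
  hv₁ : v₁ ∈ vSub F R₁
  hv₁Z : v₁ ∉ zS S
  hv₂ : v₂ ∈ vSub F R₂
  hv₂Z : v₂ ∉ zS S

theorem exists_twoData (hS : IsPGroup 2 S) (hF : F.IsSaturated 2) (h : SC 2 S)
    (hcore : F.core = ⊥) : ∃ R₁ R₂ v₁ v₂, TwoData F R₁ R₂ v₁ v₂ := by
  obtain ⟨R₁, R₂, hR₁, hact₁, hR₂, hact₂, hne⟩ := exists_two_active hS hF h hcore
  obtain ⟨v₁, hv₁, hv₁Z⟩ := exists_mem_vSub_not_mem_zS hS hF h hR₁ hact₁
  obtain ⟨v₂, hv₂, hv₂Z⟩ := exists_mem_vSub_not_mem_zS hS hF h hR₂ hact₂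
  exact ⟨R₁, R₂, v₁, v₂, hR₁, hact₁, hR₂, hact₂, hne, hv₁, hv₁Z, hv₂, hv₂Z⟩

namespace TwoData

variable {R₁ R₂ : Subgroup Ω} {v₁ v₂ : Ω}

theorem symm (T : TwoData F R₁ R₂ v₁ v₂) : TwoData F R₂ R₁ v₂ v₁ :=
  ⟨T.hR₂, T.hact₂, T.hR₁, T.hact₁, T.hne.symm, T.hv₂, T.hv₂Z, T.hv₁, T.hv₁Z⟩

theorem v₁_mem (T : TwoData F R₁ R₂ v₁ v₂) (h : SC 2 S) : v₁ ∈ R₁ :=
  vSub_le T.hR₁.le' ((h.derS_le).trans T.hR₁.le) T.hv₁

theorem v₁_not_mem (T : TwoData F R₁ R₂ v₁ v₂) (h : SC 2 S) : v₁ ∉ R₂ :=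
  fun hc => T.hv₁Z (T.hR₁.mem_zS_of_mem_of_mem T.hR₂ T.hne (T.v₁_mem h) hc)

theorem v₁_sq (T : TwoData F R₁ R₂ v₁ v₂) (hS : IsPGroup 2 S) (hF : F.IsSaturated 2)
    (h : SC 2 S) : v₁ ^ 2 = 1 :=
  pow_eq_one_of_mem_vSub hS hF h T.hR₁ T.hact₁ T.hv₁

theorem v₁_inv (T : TwoData F R₁ R₂ v₁ v₂) (hS : IsPGroup 2 S) (hF : F.IsSaturated 2)
    (h : SC 2 S) : v₁⁻¹ = v₁ := by
  have := T.v₁_sq hS hF h
  rw [sq] at this
  exact inv_eq_of_mul_eq_one_left this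

/-- the commutator of `v₁` and `v₂` -/
theorem comm_ne_one (T : TwoData F R₁ R₂ v₁ v₂) (h : SC 2 S) :
    v₁ * v₂ * v₁⁻¹ * v₂⁻¹ ≠ 1 := by
  intro hc
  apply T.hv₁Z
  have hv₁R := T.v₁_mem h
  have hv₂R := T.symm.v₁_mem h
  apply T.hR₁.mem_zS_of_commute h (T.hR₁.le' hv₁R) (fun r hr => T.hR₁.comm hr hv₁R)
    (T.hR₂.le' hv₂R) (T.symm.v₁_not_mem h)
  have : v₁ * v₂ = v₁ * v₂ * v₁⁻¹ * v₂⁻¹ * (v₂ * v₁) := by group
  rw [this, hc, one_mul]

theorem derS_cases (T : TwoData F R₁ R₂ v₁ v₂) (h : SC 2 S) {ℓ : Ω} (hℓ : ℓ ∈ derS S) :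
    ℓ = 1 ∨ ℓ = v₁ * v₂ * v₁⁻¹ * v₂⁻¹ :=
  eq_one_or_eq_of_card_two (card_derS h T.hR₁ T.hact₁)
    (comm_mem_derS (T.hR₁.le' (T.v₁_mem h)) (T.hR₂.le' (T.symm.v₁_mem h))) (T.comm_ne_one h) hℓ

/-- there are exactly two active intermediate subgroups -/
theorem only_two (T : TwoData F R₁ R₂ v₁ v₂) (hS : IsPGroup 2 S) (hF : F.IsSaturated 2)
    (h : SC 2 S) {R : Subgroup Ω} (hR : Mid 2 S R) (hact : Active F R) : R = R₁ ∨ R = R₂ := by
  by_contra hcon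
  push Not at hcon
  obtain ⟨x, hx, hxZ⟩ := exists_mem_vSub_not_mem_zS hS hF h hR hact
  have hxR : x ∈ R := vSub_le hR.le' ((h.derS_le).trans hR.le) hx
  have hx2 : x ^ 2 = 1 := pow_eq_one_of_mem_vSub hS hF h hR hact hx
  have hx1 : x ∉ R₁ := fun hc => hxZ (hR.mem_zS_of_mem_of_mem T.hR₁ hcon.1 hxR hc)
  have hx2' : x ∉ R₂ := fun hc => hxZ (hR.mem_zS_of_mem_of_mem T.hR₂ hcon.2 hxR hc)
  have hv₂ := T.symm.v₁_mem h
  have hv₂' := T.symm.v₁_not_mem h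
  have hv₂sq : v₂ * v₂ = 1 := by
    have := T.symm.v₁_sq hS hF h
    rwa [sq] at this
  have hr : x * v₂ ∈ R₁ := mul_mem_of_not_mem h T.hR₁ (hR.le' hxR) hx1 (T.hR₂.le' hv₂) hv₂'
  obtain ⟨r, hrdef⟩ : ∃ r, r = x * v₂ := ⟨_, rfl⟩
  rw [← hrdef] at hr
  have hxr : x = r * v₂ := by
    rw [hrdef, mul_assoc, hv₂sq, mul_one]
  have hrZ : r ∉ zS S := by
    intro hc
    apply hx2'
    rw [hxr]
    exact R₂.mul_mem (T.hR₂.le hc) hv₂
  have hk : v₂ * r * v₂⁻¹ * r⁻¹ ∈ derS S := comm_mem_derS (T.hR₂.le' hv₂) (T.hR₁.le' hr)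
  have hk1 : v₂ * r * v₂⁻¹ * r⁻¹ ≠ 1 := by
    intro hc
    apply hrZ
    apply T.hR₁.mem_zS_of_commute h (T.hR₁.le' hr) (fun t ht => T.hR₁.comm ht hr)
      (T.hR₂.le' hv₂) hv₂'
    have : v₂ * r = v₂ * r * v₂⁻¹ * r⁻¹ * (r * v₂) := by group
    rw [this, hc, one_mul]
  obtain ⟨k, hkdef⟩ : ∃ k, k = v₂ * r * v₂⁻¹ * r⁻¹ := ⟨_, rfl⟩
  rw [← hkdef] at hk hk1
  have hxx : x * x = 1 := by rwa [sq] at hx2
  have e1 : x * x = r * k * r * (v₂ * v₂) := by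
    rw [hxr, hkdef]; group
  rw [e1, hv₂sq, mul_one] at hxx
  have hkZ : k ∈ zS S := h.derS_le hk
  have e2 : r * k = k * r := (central_mul_comm hkZ (T.hR₁.le' hr)).symm
  rw [e2] at hxx
  obtain ⟨v, hv, w, hw, hvw⟩ := mid_decomp hS hF h T.hR₁ T.hact₁ hr
  have hvR : v ∈ R₁ := vSub_le T.hR₁.le' ((h.derS_le).trans T.hR₁.le) hv
  have hwR : w ∈ R₁ := wSub_le hw
  have hvv : v * v = 1 := by
    have := pow_eq_one_of_mem_vSub hS hF h T.hR₁ T.hact₁ hv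
    rwa [sq] at this
  have e3 : r * r = w * w := by
    rw [hvw]
    calc v * w * (v * w) = v * (w * v) * w := by group
      _ = v * (v * w) * w := by rw [T.hR₁.comm hwR hvR]
      _ = (v * v) * (w * w) := by group
      _ = w * w := by rw [hvv, one_mul]
  have e4 : k * (w * w) = 1 := by
    rw [← e3, ← mul_assoc]; exact hxx
  have hkw : k ∈ wSub F R₁ := by
    have : k = (w * w)⁻¹ := eq_inv_of_mul_eq_one_left e4
    rw [this]
    exact Subgroup.inv_mem _ (Subgroup.mul_mem _ hw hw)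
  have hkv : k ∈ vSub F R₁ := derS_le_vSub T.hR₁.le' hk
  have : k ∈ vSub F R₁ ⊓ wSub F R₁ := ⟨hkv, hkw⟩
  rw [vSub_inf_wSub hS hF h T.hR₁ T.hact₁, Subgroup.mem_bot] at this
  exact hk1 this

/-! #### the dihedral subgroup -/

theorem derS_le_closure (T : TwoData F R₁ R₂ v₁ v₂) (h : SC 2 S) :
    derS S ≤ Subgroup.closure {v₁, v₂} := by
  have h1 : v₁ ∈ Subgroup.closure ({v₁, v₂} : Set Ω) :=
    Subgroup.subset_closure (Set.mem_insert _ _)
  have h2 : v₂ ∈ Subgroup.closure ({v₁, v₂} : Set Ω) :=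
    Subgroup.subset_closure (Set.mem_insert_of_mem _ rfl)
  intro ℓ hℓ
  rcases T.derS_cases h hℓ with rfl | rfl
  · exact Subgroup.one_mem _
  · exact Subgroup.mul_mem _ (Subgroup.mul_mem _ (Subgroup.mul_mem _ h1 h2)
      (Subgroup.inv_mem _ h1)) (Subgroup.inv_mem _ h2)

theorem vSub_le_closure (T : TwoData F R₁ R₂ v₁ v₂) (hS : IsPGroup 2 S) (hF : F.IsSaturated 2)
    (h : SC 2 S) : vSub F R₁ ≤ Subgroup.closure {v₁, v₂} := by
  refine (vSub_le_sup hS hF h T.hR₁ T.hact₁ T.hv₁ T.hv₁Z).trans ?_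
  apply sup_le (T.derS_le_closure h)
  rw [Subgroup.zpowers_le]
  exact Subgroup.subset_closure (Set.mem_insert _ _)

theorem closure_comm : Subgroup.closure ({v₁, v₂} : Set Ω) = Subgroup.closure {v₂, v₁} := by
  rw [Set.pair_comm]

theorem closure_le_S (T : TwoData F R₁ R₂ v₁ v₂) (h : SC 2 S) :
    Subgroup.closure {v₁, v₂} ≤ S := by
  rw [Subgroup.closure_le]
  rintro x (rfl | rfl)
  · exact T.hR₁.le' (T.v₁_mem h)
  · exact T.hR₂.le' (T.symm.v₁_mem h)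

/-- the dihedral subgroup is normalized by `S` -/
theorem conj_mem_closure (T : TwoData F R₁ R₂ v₁ v₂) (h : SC 2 S) {y d : Ω} (hy : y ∈ S)
    (hd : d ∈ Subgroup.closure {v₁, v₂}) : y⁻¹ * d * y ∈ Subgroup.closure {v₁, v₂} := by
  have hdS := T.closure_le_S h hd
  have e : y⁻¹ * d * y = d * (d⁻¹ * y⁻¹ * d⁻¹⁻¹ * y⁻¹⁻¹) := by group
  rw [e]
  exact Subgroup.mul_mem _ hd
    (T.derS_le_closure h (comm_mem_derS (S.inv_mem hdS) (S.inv_mem hy)))

/-- an automorphism of `S` fixing `R₁` and `R₂` centralizes `Z(S)` -/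
theorem fix_zS (T : TwoData F R₁ R₂ v₁ v₂) (hS : IsPGroup 2 S) (hF : F.IsSaturated 2)
    (h : SC 2 S) (hcore : F.core = ⊥) {β : Ω → Ω} (hβ : Iso F S S β) (hβ₁ : Iso F R₁ R₁ β)
    (hβ₂ : Iso F R₂ R₂ β) {z : Ω} (hz : z ∈ zS S) : β z = z := by
  have hv₁S := T.hR₁.le' (T.v₁_mem h)
  have hv₂S := T.hR₂.le' (T.symm.v₁_mem h)
  -- `β` fixes `S'` pointwise
  have hL : ∀ ℓ ∈ derS S, β ℓ = ℓ := by
    intro ℓ hℓ
    rcases T.derS_cases h hℓ with rfl | rfl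
    · exact hβ.1.map_one
    · have hc : β (v₁ * v₂ * v₁⁻¹ * v₂⁻¹) ∈ derS S := by
        rw [hβ.1.map_mul (S.mul_mem (S.mul_mem hv₁S hv₂S) (S.inv_mem hv₁S)) (S.inv_mem hv₂S),
          hβ.1.map_mul (S.mul_mem hv₁S hv₂S) (S.inv_mem hv₁S), hβ.1.map_mul hv₁S hv₂S,
          hβ.1.map_inv hv₁S, hβ.1.map_inv hv₂S]
        exact comm_mem_derS (hβ.map_mem hv₁S) (hβ.map_mem hv₂S)
      rcases T.derS_cases h hc with h1 | h1
      · exfalso
        apply T.comm_ne_one h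
        apply hβ.1.inj (zS_le S (h.derS_le hℓ)) S.one_mem
        rw [h1, hβ.1.map_one]
      · exact h1
  have key : ∀ R, Mid 2 S R → Active F R → Iso F R R β → z⁻¹ * β z ∈ wSub F R := by
    intro R hR hact hβR
    obtain ⟨ℓ, hℓ, w, hw, rfl⟩ := zS_decomp hS hF h hR hact hz
    have hℓS : ℓ ∈ S := zS_le S (h.derS_le hℓ)
    have hwS : w ∈ S := zS_le S (wSub_le_zS hR.le' hw)
    rw [hβ.1.map_mul hℓS hwS, hL ℓ hℓ]
    have e : (ℓ * w)⁻¹ * (ℓ * β w) = w⁻¹ * β w := by group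
    rw [e]
    exact Subgroup.mul_mem _ (Subgroup.inv_mem _ hw) (wSub_map_mem hβR hw)
  have hq : z⁻¹ * β z ∈ kSub F 2 := by
    refine ⟨Subgroup.mul_mem _ (Subgroup.inv_mem _ hz) (zS_map_mem hβ hz), fun R hR hact => ?_⟩
    rcases T.only_two hS hF h hR hact with rfl | rfl
    · exact key _ hR hact hβ₁
    · exact key _ hR hact hβ₂
  rw [kSub_eq_bot hS hF h hcore, Subgroup.mem_bot] at hq
  exact (inv_mul_eq_one.1 hq).symm

/-- an automorphism of `S` fixing `R₁` and `R₂` moves elements by the dihedral subgroup -/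
theorem focal_of_fix (T : TwoData F R₁ R₂ v₁ v₂) (hS : IsPGroup 2 S) (hF : F.IsSaturated 2)
    (h : SC 2 S) (hcore : F.core = ⊥) {β : Ω → Ω} (hβ : Iso F S S β) (hβ₁ : Iso F R₁ R₁ β)
    (hβ₂ : Iso F R₂ R₂ β) {x : Ω} (hx : x ∈ S) : x⁻¹ * β x ∈ Subgroup.closure {v₁, v₂} := by
  let M : Subgroup Ω :=
    { carrier := {x | x ∈ S ∧ x⁻¹ * β x ∈ Subgroup.closure {v₁, v₂}}
      one_mem' := ⟨S.one_mem, by rw [hβ.1.map_one]; simp⟩
      mul_mem' := by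
        rintro a b ⟨ha, ha'⟩ ⟨hb, hb'⟩
        refine ⟨S.mul_mem ha hb, ?_⟩
        rw [hβ.1.map_mul ha hb]
        have e : (a * b)⁻¹ * (β a * β b) = b⁻¹ * (a⁻¹ * β a) * b * (b⁻¹ * β b) := by group
        rw [e]
        exact Subgroup.mul_mem _ (T.conj_mem_closure h hb ha') hb'
      inv_mem' := by
        rintro a ⟨ha, ha'⟩
        refine ⟨S.inv_mem ha, ?_⟩
        rw [hβ.1.map_inv ha]
        have e : a⁻¹⁻¹ * (β a)⁻¹ = a⁻¹⁻¹ * (a⁻¹ * β a)⁻¹ * a⁻¹ := by group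
        rw [e]
        have := T.conj_mem_closure h (S.inv_mem ha) (Subgroup.inv_mem _ ha')
        exact this }
  have hZM : zS S ≤ M := by
    intro z hz
    refine ⟨zS_le S hz, ?_⟩
    rw [T.fix_zS hS hF h hcore hβ hβ₁ hβ₂ hz, inv_mul_cancel]
    exact Subgroup.one_mem _
  have hv₁M : v₁ ∈ M := by
    refine ⟨T.hR₁.le' (T.v₁_mem h), ?_⟩
    exact T.vSub_le_closure hS hF h (Subgroup.mul_mem _ (Subgroup.inv_mem _ T.hv₁)
      (vSub_map_mem hS hF h T.hR₁ T.hact₁ hβ₁ T.hv₁))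
  have hv₂M : v₂ ∈ M := by
    refine ⟨T.hR₂.le' (T.symm.v₁_mem h), ?_⟩
    have := T.symm.vSub_le_closure hS hF h (Subgroup.mul_mem _ (Subgroup.inv_mem _ T.hv₂)
      (vSub_map_mem hS hF h T.hR₂ T.hact₂ hβ₂ T.hv₂))
    rwa [closure_comm] at this
  have hR₁M : R₁ ≤ M := T.hR₁.le_of_mem' hZM (T.v₁_mem h) T.hv₁Z hv₁M
  have hSM : S ≤ M :=
    T.hR₁.le_of_mem h hR₁M (T.hR₂.le' (T.symm.v₁_mem h)) (T.symm.v₁_not_mem h) hv₂M
  exact (hSM hx).2

/-- the square of an automorphism of `S` fixes `R₁` and `R₂` -/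
theorem iso_comp_self (T : TwoData F R₁ R₂ v₁ v₂) (hS : IsPGroup 2 S) (hF : F.IsSaturated 2)
    (h : SC 2 S) {β : Ω → Ω} (hβ : Iso F S S β) :
    Iso F R₁ R₁ (fun x => β (β x)) ∧ Iso F R₂ R₂ (fun x => β (β x)) := by
  obtain ⟨β', R₁', c₁⟩ := exists_carry hβ T.hR₁.le'
  obtain ⟨R₂', c₂⟩ := carry_of_inverse hβ c₁.iso' c₁.left c₁.right T.hR₂.le'
  have hne : R₁' ≠ R₂' := by
    intro he
    apply T.hne
    haveI := T.hR₂.finite
    apply Subgroup.eq_of_le_of_card_ge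
    · intro x hx
      have h1 := c₁.map.map_mem hx
      rw [he] at h1
      have h2 := c₂.map'.map_mem h1
      rwa [c₁.left x (T.hR₁.le' hx)] at h2
    · rw [T.hR₁.card, T.hR₂.card]
  rcases T.only_two hS hF h (c₁.mid T.hR₁) (c₁.active T.hR₁.le T.hact₁) with e1 | e1 <;>
    rcases T.only_two hS hF h (c₂.mid T.hR₂) (c₂.active T.hR₂.le T.hact₂) with e2 | e2
  · exact absurd (e1.trans e2.symm) hne
  · have m1 := c₁.map
    have m2 := c₂.map
    rw [e1] at m1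
    rw [e2] at m2
    exact ⟨m1.comp m1, m2.comp m2⟩
  · have m1 := c₁.map
    have m2 := c₂.map
    rw [e1] at m1
    rw [e2] at m2
    exact ⟨m1.comp m2, m2.comp m1⟩
  · exact absurd (e1.trans e2.symm) hne

end TwoData

/-- some power of an `F`-automorphism of `S`, with exponent prime to `p`, is inner -/
theorem exists_pow_mem_autInducedBy (hS : IsPGroup p S) (hF : F.IsSaturated p) {γ : MulAut S}
    (hγ : γ ∈ F.autGroup S) : ∃ m : ℕ, ¬ p ∣ m ∧ γ ^ m ∈ autInducedBy S S := by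
  obtain ⟨-, P₀, hP₀⟩ := fullyAutomized_of_fullyNormalized hS hF (fullyNormalized_self F)
  haveI hN : ((P₀ : Subgroup (F.autGroup S))).Normal := by
    rw [hP₀]; exact autInducedBy_self_normal F
  have h1 := Subgroup.pow_index_mem (P₀ : Subgroup (F.autGroup S)) ⟨γ, hγ⟩
  have h2 : ¬ p ∣ (P₀ : Subgroup (F.autGroup S)).index := Sylow.not_dvd_index P₀
  obtain ⟨m, hm⟩ : ∃ m, m = (P₀ : Subgroup (F.autGroup S)).index := ⟨_, rfl⟩
  rw [← hm] at h1 h2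
  refine ⟨m, h2, ?_⟩
  rw [hP₀, Subgroup.mem_subgroupOf, Subgroup.coe_pow] at h1
  exact h1

namespace TwoData

variable {R₁ R₂ : Subgroup Ω} {v₁ v₂ : Ω}

/-- every automorphism of `S` moves elements by the dihedral subgroup -/
theorem focal_aut (T : TwoData F R₁ R₂ v₁ v₂) (hS : IsPGroup 2 S) (hF : F.IsSaturated 2)
    (h : SC 2 S) (hcore : F.core = ⊥) {β : Ω → Ω} (hβ : Iso F S S β) {x : Ω} (hx : x ∈ S) :
    x⁻¹ * β x ∈ Subgroup.closure {v₁, v₂} := by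
  let A₀ : Subgroup (MulAut S) :=
    { carrier := {δ | ∀ x : S, (x : Ω)⁻¹ * (δ x : Ω) ∈ Subgroup.closure {v₁, v₂}}
      one_mem' := fun x => by
        show (x : Ω)⁻¹ * (x : Ω) ∈ _
        rw [inv_mul_cancel]; exact Subgroup.one_mem _
      mul_mem' := by
        intro a b ha hb x
        show (x : Ω)⁻¹ * ((a (b x) : S) : Ω) ∈ _
        have e : (x : Ω)⁻¹ * ((a (b x) : S) : Ω) =
            ((x : Ω)⁻¹ * (b x : Ω)) * (((b x : S) : Ω)⁻¹ * ((a (b x) : S) : Ω)) := by group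
        rw [e]
        exact Subgroup.mul_mem _ (hb x) (ha (b x))
      inv_mem' := by
        intro a ha x
        have h1 := ha (a⁻¹ x)
        rw [MulAut.apply_inv_self] at h1
        have h2 := Subgroup.inv_mem _ h1
        rwa [mul_inv_rev, inv_inv] at h2 }
  have hInn : autInducedBy S S ≤ A₀ := by
    intro α hα x
    obtain ⟨g, hg, e⟩ := mem_autInducedBy_iff.1 hα
    rw [e]
    have h1 := comm_mem_derS (S.inv_mem x.2) hg
    rw [inv_inv] at h1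
    have e2 : (x : Ω)⁻¹ * (g * (x : Ω) * g⁻¹) = (x : Ω)⁻¹ * g * (x : Ω) * g⁻¹ := by group
    rw [e2]
    exact T.derS_le_closure h h1
  have hsq : (hβ.equiv : MulAut S) * (hβ.equiv : MulAut S) ∈ A₀ := by
    intro x
    obtain ⟨i1, i2⟩ := T.iso_comp_self hS hF h hβ
    exact T.focal_of_fix hS hF h hcore (hβ.comp hβ) i1 i2 x.2
  obtain ⟨m, hm2, hm⟩ := exists_pow_mem_autInducedBy hS hF hβ.equiv_mem_autGroup
  have hmodd : m % 2 = 1 := by
    rcases Nat.mod_two_eq_zero_or_one m with h0 | h1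
    · exact absurd (Nat.dvd_of_mod_eq_zero h0) hm2
    · exact h1
  have hmem : (hβ.equiv : MulAut S) ∈ A₀ := by
    have e : (hβ.equiv : MulAut S) =
        (((hβ.equiv : MulAut S) * (hβ.equiv : MulAut S)) ^ (m / 2))⁻¹ *
          (hβ.equiv : MulAut S) ^ m := by
      rw [eq_inv_mul_iff_mul_eq, ← sq, ← pow_mul, ← pow_succ]
      congr 1
      omega
    rw [e]
    exact Subgroup.mul_mem _ (Subgroup.inv_mem _ (Subgroup.pow_mem _ hsq _)) (hInn hm)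
  exact hmem ⟨x, hx⟩

/-- the focal subgroup lies in the dihedral subgroup -/
theorem focal_le (T : TwoData F R₁ R₂ v₁ v₂) (hS : IsPGroup 2 S) (hF : F.IsSaturated 2)
    (h : SC 2 S) (hcore : F.core = ⊥) :
    ∀ (P : Subgroup Ω) (f : Ω → Ω), Mor F P f → ∀ x ∈ P,
      x⁻¹ * f x ∈ Subgroup.closure {v₁, v₂} := by
  apply alperin hS hF (fun P f => ∀ x ∈ P, x⁻¹ * f x ∈ Subgroup.closure {v₁, v₂})
    ⟨fun hC hff x hx => by rw [← hff x hx]; exact hC x hx,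
     fun _ hC hQP x hx => hC x (hQP hx),
     fun {P Q f g} _ _ hPQ hC1 hC2 x hx => by
      have e : x⁻¹ * g (f x) = (x⁻¹ * f x) * ((f x)⁻¹ * g (f x)) := by group
      rw [e]
      exact Subgroup.mul_mem _ (hC1 x hx) (hC2 _ (hPQ x hx))⟩
  intro R hfn hcen hrad α hα x hx
  by_cases hRS : R = S
  · subst hRS
    exact T.focal_aut hS hF h hcore (iso_of_mem_autGroup le_rfl hα) hx
  · have hmid := mid_of_centric h hcen hRS
    have hact := active_of_radical hS hF h hmid hrad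
    obtain ⟨n, ν, hn, hν, hνR, e, -, hnV⟩ :=
      exists_frattini_ext hS hF h hmid hact (iso_of_mem_autGroup hcen.1 hα)
    rw [e x hx]
    have e2 : x⁻¹ * n (ν x) = (x⁻¹ * ν x) * ((ν x)⁻¹ * n (ν x)) := by group
    rw [e2]
    apply Subgroup.mul_mem _ (T.focal_aut hS hF h hcore hν (hcen.1 hx))
    have h3 := hnV _ (hνR x hx)
    rcases T.only_two hS hF h hmid hact with rfl | rfl
    · exact T.vSub_le_closure hS hF h h3
    · have := T.symm.vSub_le_closure hS hF h h3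
      rwa [closure_comm] at this

end TwoData

/-- the case `p = 2`: `S` is dihedral of order `8` -/
theorem two_case (hS : IsPGroup 2 S) (hF : F.IsSaturated 2) (h : SC 2 S) (hcore : F.core = ⊥)
    (hhyp : F.hyperfocalSubgroup 2 = S) : Nonempty (↥S ≃* DihedralGroup 4) := by
  obtain ⟨R₁, R₂, v₁, v₂, T⟩ := exists_twoData hS hF h hcore
  have hfoc := T.focal_le hS hF h hcore
  have hhypD : F.hyperfocalSubgroup 2 ≤ Subgroup.closure {v₁, v₂} := by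
    apply hyperfocal_le
    intro P hP α hα _ x
    have := hfoc P (extAut α) ((mem_autGroup_iff hP).1 hα) x x.2
    rwa [extAut_apply] at this
  have hSD : S ≤ Subgroup.closure {v₁, v₂} := le_trans (le_of_eq hhyp.symm) hhypD
  have hv₁S : v₁ ∈ S := T.hR₁.le' (T.v₁_mem h)
  have hv₂S : v₂ ∈ S := T.hR₂.le' (T.symm.v₁_mem h)
  have hv₁sq : v₁ * v₁ = 1 := by
    have := T.v₁_sq hS hF h
    rwa [sq] at this
  have hv₂sq : v₂ * v₂ = 1 := by
    have := T.symm.v₁_sq hS hF h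
    rwa [sq] at this
  have hv₁inv : v₁⁻¹ = v₁ := T.v₁_inv hS hF h
  have hv₂inv : v₂⁻¹ = v₂ := T.symm.v₁_inv hS hF h
  have hc1 := T.comm_ne_one h
  rw [hv₁inv, hv₂inv] at hc1
  have hcL : v₁ * v₂ * v₁ * v₂ ∈ derS S := by
    have := comm_mem_derS hv₁S hv₂S
    rwa [hv₁inv, hv₂inv] at this
  have hc2 : (v₁ * v₂ * v₁ * v₂) * (v₁ * v₂ * v₁ * v₂) = 1 := by
    have hcard := card_derS h T.hR₁ T.hact₁
    have h1 : (⟨_, hcL⟩ : derS S) ^ Nat.card (derS S) = 1 := pow_card_eq_one'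
    rw [hcard, sq] at h1
    exact congrArg Subtype.val h1
  have hb : (⟨v₁, hv₁S⟩ : S) ^ 2 = 1 := by
    apply Subtype.ext
    rw [Subgroup.coe_pow, sq]
    exact hv₁sq
  have hl2 : (⟨v₁ * v₂, S.mul_mem hv₁S hv₂S⟩ : S) ^ 2 ≠ 1 := by
    intro hcon
    apply hc1
    have h3 : (v₁ * v₂) ^ 2 = 1 := by
      have := congrArg Subtype.val hcon
      rwa [Subgroup.coe_pow] at this
    rw [sq] at h3
    rw [← h3]
    group
  have hinv : (⟨v₁, hv₁S⟩ : S) * ⟨v₁ * v₂, S.mul_mem hv₁S hv₂S⟩ * (⟨v₁, hv₁S⟩ : S)⁻¹ =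
      (⟨v₁ * v₂, S.mul_mem hv₁S hv₂S⟩ : S)⁻¹ := by
    apply Subtype.ext
    show v₁ * (v₁ * v₂) * v₁⁻¹ = (v₁ * v₂)⁻¹
    rw [mul_inv_rev, hv₁inv, hv₂inv, ← mul_assoc, hv₁sq, one_mul]
  have horder : orderOf (⟨v₁ * v₂, S.mul_mem hv₁S hv₂S⟩ : S) = 4 := by
    have h1 : ¬ (⟨v₁ * v₂, S.mul_mem hv₁S hv₂S⟩ : S) ^ 2 ^ 1 = 1 := by
      rw [pow_one]; exact hl2
    have h2 : (⟨v₁ * v₂, S.mul_mem hv₁S hv₂S⟩ : S) ^ 2 ^ (1 + 1) = 1 := by
      apply Subtype.ext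
      rw [Subgroup.coe_pow]
      show (v₁ * v₂) ^ 4 = 1
      have e : (v₁ * v₂) ^ 4 = (v₁ * v₂ * v₁ * v₂) * (v₁ * v₂ * v₁ * v₂) := by
        rw [pow_succ, pow_succ, pow_succ, pow_one]; group
      rw [e, hc2]
    have := orderOf_eq_prime_pow h1 h2
    rw [this]
    norm_num
  have htop : Subgroup.zpowers (⟨v₁, hv₁S⟩ : S) ⊔
      Subgroup.zpowers (⟨v₁ * v₂, S.mul_mem hv₁S hv₂S⟩ : S) = ⊤ := by
    rw [eq_top_iff]
    intro s _
    have hle : Subgroup.closure ({v₁, v₂} : Set Ω) ≤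
        (Subgroup.zpowers (⟨v₁, hv₁S⟩ : S) ⊔
          Subgroup.zpowers (⟨v₁ * v₂, S.mul_mem hv₁S hv₂S⟩ : S)).map S.subtype := by
      rw [Subgroup.closure_le]
      rintro x (rfl | rfl)
      · exact ⟨⟨x, hv₁S⟩, Subgroup.mem_sup_left (Subgroup.mem_zpowers _), rfl⟩
      · refine ⟨(⟨v₁, hv₁S⟩ : S)⁻¹ * ⟨v₁ * x, S.mul_mem hv₁S hv₂S⟩,
          Subgroup.mul_mem _ (Subgroup.inv_mem _ (Subgroup.mem_sup_left (Subgroup.mem_zpowers _)))
            (Subgroup.mem_sup_right (Subgroup.mem_zpowers _)), ?_⟩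
        show v₁⁻¹ * (v₁ * x) = x
        group
    obtain ⟨t, ht, e⟩ := hle (hSD s.2)
    have : t = s := Subtype.ext e
    rw [← this]; exact ht
  obtain ⟨e⟩ := Cfsg.Agent.S1349.dihedral_of_inverts hb hl2 hinv
  rw [horder] at e
  exact ⟨(Subgroup.topEquiv.symm.trans (MulEquiv.subgroupCongr htop.symm)).trans e⟩

end Cfsg.Agent.Helper87
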