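import Mathlib
import Cfsg.Prelude.Def_FusionSystem
import Cfsg.Agent.Lib.Helper87.SmallCenterTwo
import Cfsg.Agent.Lib.Helper87.FusionSuperAb

set_option autoImplicit false

namespace Cfsg.Agent.Helper87

open Cfsg Cfsg.FusionSystem

variable {Ω : Type*} [Group Ω] {S : Subgroup Ω} [Finite S] {p : ℕ} [hp : Fact p.Prime]

omit [Finite S] hp in
theorem map_center_eq_zS : (Subgroup.center ↥S).map S.subtype = zS S := by
  ext z
  rw [mem_zS]
  constructor
  · rintro ⟨z', hz', rfl⟩
    refine ⟨z'.2, fun s hs => ?_⟩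
    have := Subgroup.mem_center_iff.1 hz' ⟨s, hs⟩
    exact congrArg Subtype.val this
  · rintro ⟨hzS, hz⟩
    have hc : (⟨z, hzS⟩ : S) ∈ Subgroup.center ↥S := by
      rw [Subgroup.mem_center_iff]
      intro s
      exact Subtype.ext (hz s s.2)
    exact ⟨⟨z, hzS⟩, hc, rfl⟩

/-- the standing hypotheses from the bound on the index of the centre -/
theorem sc_of_center_index (hS : IsPGroup p S) (hnc : ¬ IsMulCommutative S)
    (hZ : (Subgroup.center ↥S).index ≤ p ^ 2) : SC p S := by
  obtain ⟨n, hn⟩ := IsPGroup.iff_card.1 hS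
  have hdvd : (Subgroup.center ↥S).index ∣ p ^ n := by
    rw [← hn]; exact Subgroup.index_dvd_card _
  obtain ⟨k, hk, hidx⟩ := (Nat.dvd_prime_pow hp.out).1 hdvd
  have hk2 : k ≤ 2 := by
    by_contra hcon
    push Not at hcon
    have : p ^ 2 < p ^ k := Nat.pow_lt_pow_right hp.out.one_lt hcon
    rw [hidx] at hZ
    omega
  have hidx2 : (Subgroup.center ↥S).index = p ^ 2 := by
    interval_cases k
    · exfalso
      apply hnc
      rw [pow_zero, Subgroup.index_eq_one] at hidx
      refine ⟨⟨fun a b => ?_⟩⟩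
      have : b ∈ Subgroup.center ↥S := by rw [hidx]; exact Subgroup.mem_top _
      exact Subgroup.mem_center_iff.1 this a
    · exfalso
      apply hnc
      rw [pow_one, Subgroup.index_eq_card] at hidx
      haveI : IsCyclic (↥S ⧸ Subgroup.center ↥S) := isCyclic_of_prime_card hidx
      apply MonoidHom.isMulCommutative_of_isCyclic_of_ker_le_center
        (QuotientGroup.mk' (Subgroup.center ↥S))
      rw [QuotientGroup.ker_mk']
    · exact hidx
  constructor
  · have h1 := Subgroup.card_mul_index (Subgroup.center ↥S)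
    rw [hidx2] at h1
    rw [← map_center_eq_zS, Subgroup.card_map_of_injective S.subtype_injective, ← h1]
    ring
  · intro s hs t ht
    have hq : Nat.card (↥S ⧸ Subgroup.center ↥S) = p ^ 2 := by
      rw [← Subgroup.index_eq_card]; exact hidx2
    have hcomm := IsPGroup.isMulCommutative_of_card_eq_prime_sq hq
    have h1 : ((⟨s, hs⟩ * ⟨t, ht⟩ * (⟨s, hs⟩ : S)⁻¹ * (⟨t, ht⟩ : S)⁻¹ : S) :
        ↥S ⧸ Subgroup.center ↥S) = 1 := by
      rw [QuotientGroup.mk_mul, QuotientGroup.mk_mul, QuotientGroup.mk_mul, QuotientGroup.mk_inv,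
        QuotientGroup.mk_inv]
      have := hcomm.is_comm.comm ((⟨s, hs⟩ : S) : ↥S ⧸ Subgroup.center ↥S)
        ((⟨t, ht⟩ : S) : ↥S ⧸ Subgroup.center ↥S)
      rw [this]
      group
    rw [QuotientGroup.eq_one_iff] at h1
    rw [← map_center_eq_zS]
    exact ⟨_, h1, rfl⟩

end Cfsg.Agent.Helper87
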