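import Mathlib
import Cfsg.Prelude.Def_FusionSystem
import Cfsg.Prelude.Def_Transfer
import Cfsg.Agent.Lib.Helper87.EssControl
import Cfsg.Agent.Lib.Helper87.FusionOmega
import Cfsg.Agent.Lib.Helper87.SmallCenterFinal
import Cfsg.Agent.Lib.Helper87.AbIdxHom

set_option autoImplicit false

namespace Cfsg.Agent.Helper87

open Cfsg Cfsg.FusionSystem
open scoped commutatorElement

variable {Ω : Type*} [Group Ω] {S : Subgroup Ω} {p : ℕ} [hp : Fact p.Prime]

/-- what we use of an extraspecial subgroup `Q` of the ambient group -/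
structure ESData (p : ℕ) (Q : Subgroup Ω) : Prop where
  comm : ∀ a ∈ Q, ∀ b ∈ Q, a * b * a⁻¹ * b⁻¹ ∈ zS Q
  card : Nat.card (zS Q) = p

omit hp in
theorem esData_of_isExtraspecial {Q : Subgroup Ω} (hQ : Cfsg.IsExtraspecial p ↥Q) : ESData p Q := by
  obtain ⟨⟨-, -, hcomm⟩, hcard⟩ := hQ
  constructor
  · intro a ha b hb
    have h1 : ⁅(⟨a, ha⟩ : Q), ⟨b, hb⟩⁆ ∈ commutator ↥Q := by
      rw [commutator_def]
      exact Subgroup.commutator_mem_commutator (Subgroup.mem_top _) (Subgroup.mem_top _)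
    rw [hcomm, mem_center_iff_mem_zS] at h1
    exact h1
  · rw [← map_center_eq_zS, ← hcard]
    exact Nat.card_congr (Subgroup.equivMapOfInjective _ _ Q.subtype_injective).symm.toEquiv

theorem exists_zpow_eq_of_prime_card {K : Subgroup Ω} (hK : Nat.card K = p) {d y : Ω}
    (hd : d ∈ K) (hd1 : d ≠ 1) (hy : y ∈ K) : ∃ k : ℤ, d ^ k = y := by
  have h1 : Subgroup.zpowers (⟨d, hd⟩ : K) = ⊤ :=
    zpowers_eq_top_of_prime_card hK (fun h => hd1 (congrArg Subtype.val h))
  have h2 : (⟨y, hy⟩ : K) ∈ Subgroup.zpowers (⟨d, hd⟩ : K) := by rw [h1]; exact Subgroup.mem_top _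
  obtain ⟨k, hk⟩ := Subgroup.mem_zpowers_iff.1 h2
  refine ⟨k, ?_⟩
  have := congrArg Subtype.val hk
  simpa using this

variable [Finite S]

/-- an essential subgroup contained in an extraspecial subgroup `Q` of order at least `p ^ 5`
is `Q` itself -/
theorem essential_eq_of_le_extraspecial (hS : IsPGroup p S) {F : FusionSystem S}
    (hF : F.IsSaturated p) {Q E : Subgroup Ω} (hQS : Q ≤ S) (hQ : ESData p Q)
    (hcard : p ^ 5 ≤ Nat.card Q) (hEQ : E ≤ Q) (hE : F.IsEssential p E) : E = Q := by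
  by_contra hne
  have : Finite Q := finite_of_le hQS
  have hES := hE.1.1
  have : Finite E := finite_of_le hES
  have hcen : centralizerIn S E ≤ E := hE.1.2 E (isConj_refl hES)
  have hZ0c : ∀ n ∈ Q, ∀ z ∈ zS Q, n * z = z * n := fun n hn z hz => (mem_zS.1 hz).2 n hn
  have hZ0E : zS Q ≤ E := by
    intro z hz
    apply hcen
    refine ⟨hQS (zS_le Q hz), ?_⟩
    show z ∈ Subgroup.centralizer (E : Set Ω)
    rw [Subgroup.mem_centralizer_iff]
    intro e he
    exact hZ0c e (hEQ he) z hz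
  have hcomm : ∀ n ∈ Q, ∀ e ∈ E, e⁻¹ * (n * e * n⁻¹) ∈ zS Q := by
    intro n hn e he
    have := hQ.comm e⁻¹ (Q.inv_mem (hEQ he)) n hn
    have e1 : e⁻¹ * (n * e * n⁻¹) = e⁻¹ * n * e⁻¹⁻¹ * n⁻¹ := by group
    rw [e1]; exact this
  have hNE : Q ≤ Subgroup.normalizer (E : Set Ω) := by
    apply le_normalizer_of_forall
    intro g hg x hx
    have := hcomm g hg x hx
    have e1 : g * x * g⁻¹ = x * (x⁻¹ * (g * x * g⁻¹)) := by group
    rw [e1]; exact E.mul_mem hx (hZ0E this)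
  apply essential_transv_false hS hF hE hQS hNE hEQ hZ0c hcomm
  intro α hα
  obtain ⟨x0, hx0Q, hx0E⟩ : ∃ x ∈ Q, x ∉ E := by
    by_contra hcon
    push Not at hcon
    exact hne (le_antisymm hEQ hcon)
  by_cases hab : ∀ a ∈ E, ∀ b ∈ E, a * b = b * a
  · -- `E` abelian
    obtain ⟨z0, hz0, hz01⟩ : ∃ z ∈ zS Q, z ≠ 1 := by
      by_contra hcon
      push Not at hcon
      have : zS Q = ⊥ := (Subgroup.eq_bot_iff_forall _).2 hcon
      have h1 := hQ.card
      rw [this, Subgroup.card_bot] at h1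
      exact hp.out.one_lt.ne h1
    set z0' : E := ⟨z0, hZ0E hz0⟩ with hz0'
    have hz'E : ((α z0' : E) : Ω) ∈ E := (α z0').2
    have hred : ∀ x : Ω, x * ((α z0' : E) : Ω) = ((α z0' : E) : Ω) * x → ∀ z : E, (z : Ω) ∈ zS Q →
        x * ((α z : E) : Ω) = ((α z : E) : Ω) * x := by
      intro x hx z hz
      obtain ⟨k, hk⟩ := exists_zpow_eq_of_prime_card hQ.card hz0 hz01 hz
      have : z = z0' ^ k := Subtype.ext (by rw [Subgroup.coe_zpow]; exact hk.symm)
      rw [this, map_zpow, Subgroup.coe_zpow]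
      exact (Commute.zpow_right hx k).eq
    have hz'comm : ∀ n ∈ Q, n * ((α z0' : E) : Ω) * n⁻¹ * ((α z0' : E) : Ω)⁻¹ ∈ zS Q :=
      fun n hn => hQ.comm n hn _ (hEQ hz'E)
    rcases exists_centralizing_or_card hEQ hne (zS_le Q) hZ0c hQ.card hz'comm with
      ⟨x, hxQ, hxE, hxz⟩ | hcardQ
    · exact ⟨x, hxQ, hxE, hred x hxz⟩
    · exfalso
      have h1 := card_dvd_mul_card_centralizer (N := E) (Z0 := zS Q) hZ0E
        (fun n hn z hz => hZ0c n (hEQ hn) z hz) hQ.card (z' := x0)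
        (fun n hn => hQ.comm n (hEQ hn) x0 hx0Q)
      have h2 : (E ⊓ Subgroup.centralizer {x0} : Subgroup Ω) ≤ zS Q := by
        intro c hc
        rw [mem_inf_centralizer_singleton] at hc
        have hB : E ≤ Q ⊓ Subgroup.centralizer {c} := fun r hr =>
          mem_inf_centralizer_singleton.2 ⟨hEQ hr, hab c hc.1 r hr⟩
        have hxB : x0 ∈ Q ⊓ Subgroup.centralizer {c} :=
          mem_inf_centralizer_singleton.2 ⟨hx0Q, hc.2.symm⟩
        have hBQ := eq_of_le_of_not_mem hB inf_le_left hcardQ hxB hx0E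
        rw [mem_zS]
        refine ⟨hEQ hc.1, fun s hs => ?_⟩
        have : s ∈ Q ⊓ Subgroup.centralizer {c} := by rw [hBQ]; exact hs
        exact ((mem_inf_centralizer_singleton.1 this).2).symm
      have h3 : Nat.card (E ⊓ Subgroup.centralizer {x0} : Subgroup Ω) ∣ p := by
        have : Finite (zS Q) := Finite.of_injective _ (Subgroup.inclusion_injective (zS_le Q))
        have := Subgroup.card_dvd_of_le h2
        rwa [hQ.card] at this
      have h4 : Nat.card E ∣ p * p := h1.trans (Nat.mul_dvd_mul_left p h3)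
      have h5 : Nat.card Q ∣ p ^ 3 := by
        rw [hcardQ]
        have : p ^ 3 = p * (p * p) := by ring
        rw [this]
        exact Nat.mul_dvd_mul_left p h4
      have h6 : Nat.card Q ≤ p ^ 3 := Nat.le_of_dvd (pow_pos hp.out.pos 3) h5
      have h7 : p ^ 3 < p ^ 5 := Nat.pow_lt_pow_right hp.out.one_lt (by norm_num)
      omega
  · -- `E` nonabelian: every `α` preserves `Z(Q) = E'`
    push Not at hab
    obtain ⟨a, ha, b, hb, hab⟩ := hab
    refine ⟨x0, hx0Q, hx0E, fun z hz => ?_⟩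
    have hc1 : a * b * a⁻¹ * b⁻¹ ≠ 1 := by
      intro h
      apply hab
      have : a * b = (a * b * a⁻¹ * b⁻¹) * b * a := by group
      rw [this, h, one_mul]
    have hcZ : a * b * a⁻¹ * b⁻¹ ∈ zS Q := hQ.comm a (hEQ ha) b (hEQ hb)
    obtain ⟨k, hk⟩ := exists_zpow_eq_of_prime_card hQ.card hcZ hc1 hz
    set a' : E := ⟨a, ha⟩ with ha'
    set b' : E := ⟨b, hb⟩ with hb'
    have hz' : z = (a' * b' * a'⁻¹ * b'⁻¹) ^ k := by
      apply Subtype.ext
      rw [Subgroup.coe_zpow]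
      exact hk.symm
    have hαc : ((α (a' * b' * a'⁻¹ * b'⁻¹) : E) : Ω) ∈ zS Q := by
      rw [map_mul, map_mul, map_mul, map_inv, map_inv]
      exact hQ.comm _ (hEQ (α a').2) _ (hEQ (α b').2)
    have hαz : ((α z : E) : Ω) ∈ zS Q := by
      rw [hz', map_zpow, Subgroup.coe_zpow]
      exact Subgroup.zpow_mem _ hαc k
    exact (mem_zS.1 hαz).2 x0 hx0Q

end Cfsg.Agent.Helper87
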