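import Mathlib
import Cfsg.Prelude.Def_FusionSystem
import Cfsg.Prelude.Def_Transfer
import Cfsg.Agent.Lib.Helper87.ExtraspecialIdx
import Cfsg.Agent.Lib.Helper87.SmallCenterOdd
import Cfsg.Agent.Lib.Helper87.FusionCore
import Cfsg.Agent.Lib.Helper84.FusNormal
import Cfsg.Agent.Lib.Helper63.PGroup

set_option autoImplicit false

namespace Cfsg.Agent.Helper87

open Cfsg Cfsg.FusionSystem

variable {Ω : Type*} [Group Ω] {S : Subgroup Ω} {p : ℕ} [hp : Fact p.Prime] [Finite S]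

/-- an essential subgroup `E` of a subgroup `N` of `S` of class two with `N' ≤ Z0`, `Z0` central of
order `p`: `E` is abelian of index `p` in `N` -/
theorem essential_abelian_index_of_class_two (hS : IsPGroup p S) {F : FusionSystem S}
    (hF : F.IsSaturated p) {E N Z0 : Subgroup Ω} (hE : F.IsEssential p E) (hNS : N ≤ S)
    (hEN : E ≤ N) (hne : E ≠ N) (hZ0N : Z0 ≤ N) (hZ0E : Z0 ≤ E)
    (hZ0c : ∀ n ∈ N, ∀ z ∈ Z0, n * z = z * n) (hZ0 : Nat.card Z0 = p)
    (hcommN : ∀ a ∈ N, ∀ b ∈ N, a * b * a⁻¹ * b⁻¹ ∈ Z0) :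
    (∀ a ∈ E, ∀ b ∈ E, a * b = b * a) ∧ Nat.card N = p * Nat.card E := by
  by_contra hcon
  have : Finite N := finite_of_le hNS
  have hES := hE.1.1
  have : Finite E := finite_of_le hES
  have hcomm : ∀ n ∈ N, ∀ e ∈ E, e⁻¹ * (n * e * n⁻¹) ∈ Z0 := by
    intro n hn e he
    have := hcommN e⁻¹ (N.inv_mem (hEN he)) n hn
    have e1 : e⁻¹ * (n * e * n⁻¹) = e⁻¹ * n * e⁻¹⁻¹ * n⁻¹ := by group
    rw [e1]; exact this
  have hNE : N ≤ Subgroup.normalizer (E : Set Ω) := by
    apply le_normalizer_of_forall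
    intro g hg x hx
    have := hcomm g hg x hx
    have e1 : g * x * g⁻¹ = x * (x⁻¹ * (g * x * g⁻¹)) := by group
    rw [e1]; exact E.mul_mem hx (hZ0E this)
  apply essential_transv_false hS hF hE hNS hNE hEN hZ0c hcomm
  intro α hα
  obtain ⟨x0, hx0N, hx0E⟩ : ∃ x ∈ N, x ∉ E := by
    by_contra hcon'
    push Not at hcon'
    exact hne (le_antisymm hEN hcon')
  by_cases hab : ∀ a ∈ E, ∀ b ∈ E, a * b = b * a
  · obtain ⟨z0, hz0, hz01⟩ : ∃ z ∈ Z0, z ≠ 1 := by
      by_contra hcon'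
      push Not at hcon'
      have : Z0 = ⊥ := (Subgroup.eq_bot_iff_forall _).2 hcon'
      rw [this, Subgroup.card_bot] at hZ0
      exact hp.out.one_lt.ne hZ0
    set z0' : E := ⟨z0, hZ0E hz0⟩ with hz0'
    have hz'E : ((α z0' : E) : Ω) ∈ E := (α z0').2
    have hred : ∀ x : Ω, x * ((α z0' : E) : Ω) = ((α z0' : E) : Ω) * x → ∀ z : E, (z : Ω) ∈ Z0 →
        x * ((α z : E) : Ω) = ((α z : E) : Ω) * x := by
      intro x hx z hz
      obtain ⟨k, hk⟩ := exists_zpow_eq_of_prime_card hZ0 hz0 hz01 hz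
      have : z = z0' ^ k := Subtype.ext (by rw [Subgroup.coe_zpow]; exact hk.symm)
      rw [this, map_zpow, Subgroup.coe_zpow]
      exact (Commute.zpow_right hx k).eq
    have hz'comm : ∀ n ∈ N, n * ((α z0' : E) : Ω) * n⁻¹ * ((α z0' : E) : Ω)⁻¹ ∈ Z0 :=
      fun n hn => hcommN n hn _ (hEN hz'E)
    rcases exists_centralizing_or_card hEN hne hZ0N hZ0c hZ0 hz'comm with
      ⟨x, hxN, hxE, hxz⟩ | hcardN
    · exact ⟨x, hxN, hxE, hred x hxz⟩
    · exact absurd ⟨hab, hcardN⟩ hcon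
  · push Not at hab
    obtain ⟨a, ha, b, hb, hab⟩ := hab
    refine ⟨x0, hx0N, hx0E, fun z hz => ?_⟩
    have hc1 : a * b * a⁻¹ * b⁻¹ ≠ 1 := by
      intro h
      apply hab
      have : a * b = (a * b * a⁻¹ * b⁻¹) * b * a := by group
      rw [this, h, one_mul]
    have hcZ : a * b * a⁻¹ * b⁻¹ ∈ Z0 := hcommN a (hEN ha) b (hEN hb)
    obtain ⟨k, hk⟩ := exists_zpow_eq_of_prime_card hZ0 hcZ hc1 hz
    set a' : E := ⟨a, ha⟩ with ha'
    set b' : E := ⟨b, hb⟩ with hb'
    have hz' : z = (a' * b' * a'⁻¹ * b'⁻¹) ^ k := by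
      apply Subtype.ext
      rw [Subgroup.coe_zpow]
      exact hk.symm
    have hαc : ((α (a' * b' * a'⁻¹ * b'⁻¹) : E) : Ω) ∈ Z0 := by
      rw [map_mul, map_mul, map_mul, map_inv, map_inv]
      exact hcommN _ (hEN (α a').2) _ (hEN (α b').2)
    have hαz : ((α z : E) : Ω) ∈ Z0 := by
      rw [hz', map_zpow, Subgroup.coe_zpow]
      exact Subgroup.zpow_mem _ hαc k
    exact hZ0c x0 hx0N _ hαz

/-- if `Q` has index `p` in `S` and some central element of `S` lies outside `Q`,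
then `S = Q Z(S)` -/
theorem exists_mul_of_central_not_mem {Q : Subgroup Ω} (hQS : Q ≤ S)
    (hcard : Nat.card S = p * Nat.card Q) {w : Ω} (hw : w ∈ zS S) (hwQ : w ∉ Q) :
    ∀ s ∈ S, ∃ q ∈ Q, ∃ z ∈ zS S, s = q * z := by
  let B : Subgroup Ω :=
    { carrier := {s | ∃ q ∈ Q, ∃ z ∈ zS S, s = q * z}
      one_mem' := ⟨1, Q.one_mem, 1, (zS S).one_mem, by simp⟩
      mul_mem' := by
        rintro _ _ ⟨q1, hq1, z1, hz1, rfl⟩ ⟨q2, hq2, z2, hz2, rfl⟩
        refine ⟨q1 * q2, Q.mul_mem hq1 hq2, z1 * z2, (zS S).mul_mem hz1 hz2, ?_⟩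
        have h1 := (mem_zS.1 hz1).2 q2 (hQS hq2)
        calc q1 * z1 * (q2 * z2) = q1 * (z1 * q2) * z2 := by group
          _ = q1 * (q2 * z1) * z2 := by rw [h1]
          _ = q1 * q2 * (z1 * z2) := by group
      inv_mem' := by
        rintro _ ⟨q, hq, z, hz, rfl⟩
        refine ⟨q⁻¹, Q.inv_mem hq, z⁻¹, (zS S).inv_mem hz, ?_⟩
        have h1 := (mem_zS.1 ((zS S).inv_mem hz)).2 q⁻¹ (hQS (Q.inv_mem hq))
        rw [mul_inv_rev, h1] }
  have hQB : Q ≤ B := fun q hq => ⟨q, hq, 1, (zS S).one_mem, by simp⟩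
  have hBS : B ≤ S := by
    rintro _ ⟨q, hq, z, hz, rfl⟩
    exact S.mul_mem (hQS hq) (zS_le S hz)
  have hwB : w ∈ B := ⟨1, Q.one_mem, w, hw, by simp⟩
  have hBeq : B = S := eq_of_le_of_not_mem hQB hBS hcard hwB hwQ
  intro s hs
  have : s ∈ B := by rw [hBeq]; exact hs
  exact this

omit [Finite ↥S] in
/-- conjugation by `q z` with `z` central equals conjugation by `q` -/
theorem conj_mul_central {q z x : Ω} (hz : z ∈ zS S) (hx : x ∈ S) :
    (q * z) * x * (q * z)⁻¹ = q * x * q⁻¹ := by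
  have h1 := (mem_zS.1 hz).2 x hx
  calc (q * z) * x * (q * z)⁻¹ = q * (z * x) * z⁻¹ * q⁻¹ := by group
    _ = q * (x * z) * z⁻¹ * q⁻¹ := by rw [h1]
    _ = q * x * q⁻¹ := by group

/-- **S5178**: for odd `p`, if `Q ≤ S` of index `p` satisfies `Q' ≤ Z(Q)`, `|Z(Q)| = p`, and
`O_p(F) = 1`, then `Z(S) = Z(Q)` -/
theorem zS_eq_of_extraspecial_index (hS : IsPGroup p S) (hp2 : p ≠ 2) {F : FusionSystem S}
    (hF : F.IsSaturated p) (hO : F.core = ⊥) {Q : Subgroup Ω} (hQS : Q ≤ S) (hQ : ESData p Q)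
    (hcard : Nat.card S = p * Nat.card Q)
    (hQn : ∀ s ∈ S, ∀ q ∈ Q, s * q * s⁻¹ ∈ Q) : zS S = zS Q := by
  have hZQS : zS Q ≤ S := (zS_le Q).trans hQS
  -- `Z(Q)` is normal in `S`, hence central
  have hZn : ∀ s ∈ S, ∀ z ∈ zS Q, s * z * s⁻¹ ∈ zS Q := by
    intro s hs z hz
    rw [mem_zS] at hz ⊢
    refine ⟨hQn s hs z hz.1, fun q hq => ?_⟩
    have h1 := hz.2 (s⁻¹ * q * s) (by
      have := hQn s⁻¹ (S.inv_mem hs) q hq
      rwa [inv_inv] at this)
    calc q * (s * z * s⁻¹) = s * ((s⁻¹ * q * s) * z) * s⁻¹ := by group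
      _ = s * (z * (s⁻¹ * q * s)) * s⁻¹ := by rw [h1]
      _ = s * z * s⁻¹ * q := by group
  have hZc : ∀ s ∈ S, ∀ z ∈ zS Q, s * z = z * s := by
    have : ((zS Q).subgroupOf S).Normal := by
      constructor
      intro z hz s
      rw [Subgroup.mem_subgroupOf] at hz ⊢
      simp only [Subgroup.coe_mul, Subgroup.coe_inv]
      exact hZn s s.2 z hz
    have hc : Nat.card ((zS Q).subgroupOf S) = p := by
      rw [← hQ.card]
      exact Nat.card_congr (Subgroup.subgroupOfEquivOfLe hZQS).toEquiv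
    have hle := Cfsg.Agent.Helper63.normal_card_prime_le_center hS ((zS Q).subgroupOf S) hc
    intro s hs z hz
    have h1 : (⟨z, hZQS hz⟩ : S) ∈ Subgroup.center S := hle (Subgroup.mem_subgroupOf.2 hz)
    exact congrArg Subtype.val (Subgroup.mem_center_iff.1 h1 ⟨s, hs⟩)
  have hZle : zS Q ≤ zS S := fun z hz => mem_zS.2 ⟨hZQS hz, fun s hs => hZc s hs z hz⟩
  by_contra hne
  -- a central element outside `Q`
  obtain ⟨w, hw, hwQ⟩ : ∃ w ∈ zS S, w ∉ Q := by
    by_contra hcon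
    push Not at hcon
    apply hne
    apply le_antisymm _ hZle
    intro z hz
    exact mem_zS.2 ⟨hcon z hz, fun q hq => (mem_zS.1 hz).2 q (hQS hq)⟩
  have hdec := exists_mul_of_central_not_mem hQS hcard hw hwQ
  -- `S' ≤ Z(Q)`
  have hcommS : ∀ a ∈ S, ∀ b ∈ S, a * b * a⁻¹ * b⁻¹ ∈ zS Q := by
    intro a ha b hb
    obtain ⟨q1, hq1, z1, hz1, rfl⟩ := hdec a ha
    obtain ⟨q2, hq2, z2, hz2, rfl⟩ := hdec b hb
    have e1 : (q1 * z1) * (q2 * z2) * (q1 * z1)⁻¹ = q1 * (q2 * z2) * q1⁻¹ :=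
      conj_mul_central hz1 (S.mul_mem (hQS hq2) (zS_le S hz2))
    have e2 : (q2 * z2) * q1⁻¹ * (q2 * z2)⁻¹ = q2 * q1⁻¹ * q2⁻¹ :=
      conj_mul_central hz2 (S.inv_mem (hQS hq1))
    have e3 : (q1 * z1) * (q2 * z2) * (q1 * z1)⁻¹ * (q2 * z2)⁻¹ =
        q1 * ((q2 * z2) * q1⁻¹ * (q2 * z2)⁻¹) := by
      rw [e1]; group
    rw [e3, e2]
    have := hQ.comm q1 hq1 q2 hq2
    have e4 : q1 * (q2 * q1⁻¹ * q2⁻¹) = q1 * q2 * q1⁻¹ * q2⁻¹ := by group
    rw [e4]; exact this
  -- an essential subgroup exists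
  by_cases hess : ∃ E, F.IsEssential p E
  · obtain ⟨E, hE⟩ := hess
    have hES := hE.1.1
    have : Finite E := finite_of_le hES
    have hcen : centralizerIn S E ≤ E := hE.1.2 E (isConj_refl hES)
    have hZSE : zS S ≤ E := by
      intro z hz
      apply hcen
      refine ⟨zS_le S hz, ?_⟩
      show z ∈ Subgroup.centralizer (E : Set Ω)
      rw [Subgroup.mem_centralizer_iff]
      intro e he
      exact (mem_zS.1 hz).2 e (hES he)
    obtain ⟨x0, hx0N, hx0E⟩ := (essData hS hF hE).exists_normalizer_not_mem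
    have hx0S : x0 ∈ S := hx0N.1
    have hneE : E ≠ S := fun h => hx0E (h ▸ hx0S)
    obtain ⟨hab, hcardE⟩ := essential_abelian_index_of_class_two hS hF hE le_rfl hES hneE hZQS
      (hZle.trans hZSE) hZc hQ.card hcommS
    -- `|E| = p |Z(S)|`
    have h1 := card_dvd_mul_card_centralizer (N := E) (Z0 := zS Q) (hZle.trans hZSE)
      (fun n hn z hz => hZc n (hES hn) z hz) hQ.card (z' := x0)
      (fun n hn => hcommS n (hES hn) x0 hx0S)
    have h2 : (E ⊓ Subgroup.centralizer {x0} : Subgroup Ω) = zS S := by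
      apply le_antisymm
      · intro c hc
        rw [mem_inf_centralizer_singleton] at hc
        have hB : E ≤ S ⊓ Subgroup.centralizer {c} := fun r hr =>
          mem_inf_centralizer_singleton.2 ⟨hES hr, hab c hc.1 r hr⟩
        have hxB : x0 ∈ S ⊓ Subgroup.centralizer {c} :=
          mem_inf_centralizer_singleton.2 ⟨hx0S, hc.2.symm⟩
        have hBS := eq_of_le_of_not_mem hB inf_le_left hcardE hxB hx0E
        rw [mem_zS]
        refine ⟨hES hc.1, fun s hs => ?_⟩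
        have : s ∈ S ⊓ Subgroup.centralizer {c} := by rw [hBS]; exact hs
        exact ((mem_inf_centralizer_singleton.1 this).2).symm
      · intro z hz
        rw [mem_inf_centralizer_singleton]
        exact ⟨hZSE hz, (mem_zS.1 hz).2 x0 hx0S⟩
    rw [h2] at h1
    have : Finite (zS S) := finite_of_le (zS_le S)
    obtain ⟨j, hj⟩ := Subgroup.card_dvd_of_le hZSE
    have hZpos : 0 < Nat.card (zS S) := Nat.card_pos
    rw [hj, mul_comm p, Nat.mul_dvd_mul_iff_left hZpos] at h1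
    have hjp : j = p := by
      rcases (Nat.dvd_prime hp.out).1 h1 with h | h
      · exfalso
        rw [h, mul_one] at hj
        have hEZ : zS S = E := Subgroup.eq_of_le_of_card_ge hZSE (le_of_eq hj)
        apply hx0E
        apply hcen
        refine ⟨hx0S, ?_⟩
        show x0 ∈ Subgroup.centralizer (E : Set Ω)
        rw [Subgroup.mem_centralizer_iff]
        intro e he
        rw [← hEZ] at he
        exact ((mem_zS.1 he).2 x0 hx0S).symm
      · exact h
    have hsc : SC p S := by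
      constructor
      · rw [hcardE, hj, hjp]; ring
      · intro s hs t ht
        exact hZle (hcommS s hs t ht)
    obtain ⟨hcz, -, -⟩ := odd_case hS hF hsc hO hp2
    apply hne
    symm
    have : Finite (zS S) := finite_of_le (zS_le S)
    exact Subgroup.eq_of_le_of_card_ge hZle (by rw [hcz, hQ.card])
  · -- no essential subgroup: `S` is normal in `F`
    push Not at hess
    have hn : F.IsNormal S := by
      apply Cfsg.Agent.Helper84.normal_of_alperin_invariant F hS hF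
      rintro P (rfl | hP)
      · refine ⟨le_rfl, fun α _ => ?_⟩
        have : P.subgroupOf P = ⊤ := Subgroup.subgroupOf_self P
        rw [this, Subgroup.map_top_of_surjective _ α.surjective]
      · exact absurd hP (hess P)
    have hle := le_core hn
    rw [hO] at hle
    have hwS : w ∈ S := zS_le S hw
    have : w = 1 := (Subgroup.mem_bot).1 (hle hwS)
    exact hwQ (this ▸ Q.one_mem)

end Cfsg.Agent.Helper87
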