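import Mathlib
import Cfsg.Agent.Lib.Helper87.TrfMain
import Cfsg.Agent.S5197

set_option autoImplicit false
set_option linter.style.haveILetI false
set_option linter.unusedSectionVars false
set_option linter.unusedVariables false

/-! # The focal subgroup is proper when `Aut_F(S)` is a `p`-group

If a positive characteristic functor `W` satisfies the local focal condition (so that it controls
transfer in every saturated fusion system), then every saturated fusion system `F` over a nontrivial
`p`-group `S` with `Aut_F(S)` a `p`-group has a proper focal subgroup (Glauberman, for fusion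
systems). -/

namespace Cfsg.Agent.Helper87.FocalPAut

open Cfsg Cfsg.FusionSystem Cfsg.Agent.Helper87 Cfsg.Agent.Helper85
  Cfsg.Agent.Helper87.GlaubFunctor Cfsg.Agent.Helper87.FactorPre Cfsg.Agent.Helper87.GlaubNormal
  Cfsg.Agent.Helper87.CenFunctor Cfsg.Agent.Helper87.TrfFunctor Cfsg.Agent.Helper87.CenStep

universe u

open scoped commutatorElement

variable {p : ℕ} [Fact p.Prime]

/-- the focal subgroup lies in `S` -/
theorem focal_le_self {Ω : Type u} [Group Ω] {S : Subgroup Ω} (F : FusionSystem S) :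
    F.focalSubgroup ≤ S := by
  rw [focal_le_iff]
  intro P f hf x hx
  exact S.mul_mem (S.inv_mem (hf.le hx)) (hf.mem hx)

/-- the derived subgroup of a nontrivial finite `p`-group is proper -/
theorem commutator_lt_of_isPGroup {Ω : Type u} [Group Ω] {S : Subgroup Ω} [Finite S]
    (hS : IsPGroup p S) (hne : S ≠ ⊥) : ⁅S, S⁆ < S := by
  haveI : Nontrivial S := (Subgroup.nontrivial_iff_ne_bot S).2 hne
  haveI : Group.IsNilpotent S := hS.isNilpotent
  have h := Group.IsSolvable.commutator_lt_top_of_nontrivial S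
  have e : ⁅S, S⁆ = (commutator S).map S.subtype := by
    rw [commutator_def, Subgroup.map_commutator, ← MonoidHom.range_eq_map, Subgroup.range_subtype]
  rw [e]
  have e2 : S = (⊤ : Subgroup S).map S.subtype := by
    rw [← MonoidHom.range_eq_map, Subgroup.range_subtype]
  conv_rhs => rw [e2]
  exact (Subgroup.map_lt_map_iff_of_injective S.subtype_injective).2 h

/-- base case: `S` normal in `F` and `Aut_F(S)` a `p`-group -/
theorem focal_lt_of_top_normal {Ω : Type u} [Group Ω] {S : Subgroup Ω} [Finite S]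
    (hS : IsPGroup p S) {F : FusionSystem S} (hF : F.IsSaturated p) (hne : S ≠ ⊥)
    (hn : F.IsNormal S) (haut : IsPGroup p (F.autGroup S)) : F.focalSubgroup < S := by
  have hNS : normalizerIn S S = S :=
    le_antisymm inf_le_left (le_inf le_rfl Subgroup.le_normalizer)
  have hfn : F.IsFullyNormalized S := fn_of_normalizerIn_eq le_rfl hNS
  obtain ⟨-, R, hR⟩ := fullyAutomized_of_fullyNormalized hS hF hfn
  have htop : (⊤ : Subgroup (F.autGroup S)) = R := R.is_maximal' (haut.to_subgroup ⊤) le_top
  apply lt_of_le_of_lt _ (commutator_lt_of_isPGroup hS hne)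
  rw [focal_le_iff]
  intro P f hf x hx
  obtain ⟨g, hg, e1, e2⟩ := (isNormal_iff.1 hn).2 P f hf
  have hPS : P ⊔ S = S := sup_eq_right.2 hf.le
  rw [hPS] at hg
  have hiso : Iso F S S g := ⟨hg, e2⟩
  have hmem : (⟨hiso.equiv, hiso.equiv_mem_autGroup⟩ : F.autGroup S) ∈
      (R : Subgroup (F.autGroup S)) := by
    rw [← htop]; trivial
  rw [hR, Subgroup.mem_subgroupOf] at hmem
  obtain ⟨t, ht, e⟩ := mem_autInducedBy_iff.1 hmem
  have hxS : x ∈ S := hf.le hx
  have h1 := e ⟨x, hxS⟩
  rw [hiso.equiv_apply] at h1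
  have h2 : g x = f x := e1 x hx
  rw [← h2]
  show x⁻¹ * g x ∈ ⁅S, S⁆
  have h3 : g x = t * x * t⁻¹ := h1
  rw [h3]
  have e3 : x⁻¹ * (t * x * t⁻¹) = ⁅x⁻¹, t⁆ := by
    rw [commutatorElement_def]; group
  rw [e3]
  exact Subgroup.commutator_mem_commutator (S.inv_mem hxS) ht

section Factor

variable {Ω : Type u} [Group Ω] {S : Subgroup Ω} [Finite S] {Ω' : Type u} [Group Ω']
  {S' : Subgroup Ω'} {F : FusionSystem S} {E : FusionSystem S'} {Q : Subgroup Ω} {θ : S →* Ω'}

/-- the focal subgroup of the factor system contains the image of the focal subgroup -/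
theorem focal_lt_of_factor (hS : IsPGroup p S) (hF : F.IsSaturated p) (hQ : F.StronglyClosed Q)
    (hE : F.IsFactorSystem Q θ E) (hfoc : E.focalSubgroup < S') : F.focalSubgroup < S := by
  have hsurj := factor_surjectiveMorphism hS hF hQ hE
  have hrange : θ.range = S' := hE.2.2.1
  have hle : F.focalSubgroup ≤ preimageAlong θ E.focalSubgroup := by
    rw [focal_le_iff]
    intro P f hf x hx
    obtain ⟨f', hf', e⟩ := descend hsurj.1 hf
    have hxS : x ∈ S := hf.le hx
    apply mem_pre.2 ⟨S.mul_mem (S.inv_mem hxS) (hf.mem hx), ?_⟩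
    rw [au_mul θ (S.inv_mem hxS) (hf.mem hx), au_inv θ hxS, ← e x hx]
    exact mem_focal hf' (mem_img.2 ⟨x, hxS, hx, rfl⟩)
  refine lt_of_le_of_ne (focal_le_self F) (fun heq => ?_)
  apply not_le_of_gt hfoc
  intro y hy
  obtain ⟨s, hs, rfl⟩ := exists_au_eq hrange hy
  have h1 : s ∈ preimageAlong θ E.focalSubgroup := hle (by rw [heq]; exact hs)
  exact (mem_pre.1 h1).2

/-- the automizer of the Sylow group of the factor system is a `p`-group if that of `F` is -/
theorem factor_autGroup_isPGroup (hS : IsPGroup p S) (hF : F.IsSaturated p)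
    (hQ : F.StronglyClosed Q) (hE : F.IsFactorSystem Q θ E)
    (haut : IsPGroup p (F.autGroup S)) : IsPGroup p (E.autGroup S') := by
  have hsurj := factor_surjectiveMorphism hS hF hQ hE
  have hrange : θ.range = S' := hE.2.2.1
  have hker : kerOf θ = Q := kerOf_eq_of_factor hE
  obtain ⟨ρ, hρ⟩ := exists_autHom hS hsurj.1 (le_refl S)
  have hsur := autHom_surjective hsurj le_rfl (hker.symm ▸ hE.1) ρ hρ
  have h1 : IsPGroup p (E.autGroup (imageAlong θ S)) := haut.of_surjective ρ hsur
  have himg : imageAlong θ S = S' := by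
    ext y
    rw [mem_img]
    constructor
    · rintro ⟨x, hx, -, rfl⟩
      rw [← hrange, au_mem θ hx]
      exact ⟨⟨x, hx⟩, rfl⟩
    · intro hy
      obtain ⟨s, hs, rfl⟩ := exists_au_eq hrange hy
      exact ⟨s, hs, hs, rfl⟩
  rwa [himg] at h1

end Factor

/-- the automizer of `S` in the normalizer system of a subgroup normalized by `S` -/
theorem normalizerSystem_autGroup_isPGroup {Ω : Type u} [Group Ω] {S : Subgroup Ω}
    {F : FusionSystem S} {X : Subgroup Ω} (hNS : normalizerIn S X = S)
    {N : FusionSystem (normalizerIn S X)} (hN : F.IsNormalizerSystem X N)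
    (haut : IsPGroup p (F.autGroup S)) : IsPGroup p (N.autGroup (normalizerIn S X)) := by
  have h1 : IsPGroup p (F.autGroup (normalizerIn S X)) := by
    rw [hNS]; exact haut
  apply h1.to_le
  intro α hα
  rw [mem_autGroup_iff le_rfl] at hα
  have hle : normalizerIn S X ≤ S := inf_le_left
  exact (mem_autGroup_iff hle).2 ((mor_normalizerSystem_iff hN).1 hα).1

/-- a system with a nontrivial normal subgroup, given the claim for smaller groups -/
theorem focal_lt_of_normal {Ω : Type u} [Group Ω] {S : Subgroup Ω} [Finite S]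
    (hS : IsPGroup p S) {F : FusionSystem S} (hF : F.IsSaturated p) (hne : S ≠ ⊥)
    {X : Subgroup Ω} (hX : F.IsNormal X) (hXne : X ≠ ⊥)
    (haut : IsPGroup p (F.autGroup S))
    (IH : ∀ (Ω' : Type u) [Group Ω'] (S' : Subgroup Ω') [Finite S'] (E : FusionSystem S'),
      Nat.card S' < Nat.card S → IsPGroup p S' → E.IsSaturated p → S' ≠ ⊥ →
      IsPGroup p (E.autGroup S') → E.focalSubgroup < S') : F.focalSubgroup < S := by
  have hXS : X ≤ S := hX.1
  by_cases hSX : S ≤ X
  · have hXeq : X = S := le_antisymm hXS hSX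
    rw [hXeq] at hX
    exact focal_lt_of_top_normal hS hF hne hX haut
  · have hXs : F.StronglyClosed X := stronglyClosed_of_isNormal hX
    have hSn : S ≤ Subgroup.normalizer ((X : Subgroup Ω) : Set Ω) :=
      stronglyClosed_le_normalizer hXs
    haveI : (X.subgroupOf S).Normal := Subgroup.normal_subgroupOf_of_le_normalizer hSn
    obtain ⟨E, hE⟩ := Cfsg.Agent.S5132.result p hS F X hXs
    have hrange : (QuotientGroup.mk' (X.subgroupOf S)).range = ⊤ := hE.2.2.1
    have hker : kerOf (QuotientGroup.mk' (X.subgroupOf S)) = X := kerOf_eq_of_factor hE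
    haveI : Finite ↥(⊤ : Subgroup (↥S ⧸ X.subgroupOf S)) :=
      Cfsg.Agent.Helper85.factor_finite hE
    haveI : Finite X := finite_of_le hXS
    have hS' : IsPGroup p ↥(⊤ : Subgroup (↥S ⧸ X.subgroupOf S)) := factor_isPGroup hS hE
    have hEsat := factor_saturated hS hF hXs hE
    have hpretop : preimageAlong (QuotientGroup.mk' (X.subgroupOf S)) ⊤ = S := by
      ext x
      rw [mem_pre]
      exact ⟨fun h => h.1, fun h => ⟨h, Subgroup.mem_top _⟩⟩
    have hcardS' : Nat.card ↥(⊤ : Subgroup (↥S ⧸ X.subgroupOf S)) < Nat.card S := by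
      have h1 := card_pre hrange (A' := (⊤ : Subgroup (↥S ⧸ X.subgroupOf S))) le_rfl
      rw [hpretop, hker] at h1
      have h2 : 1 < Nat.card X := (Subgroup.one_lt_card_iff_ne_bot X).2 hXne
      have h3 : 0 < Nat.card ↥(⊤ : Subgroup (↥S ⧸ X.subgroupOf S)) := Nat.card_pos
      rw [h1]
      nlinarith
    have htopne : (⊤ : Subgroup (↥S ⧸ X.subgroupOf S)) ≠ ⊥ := by
      intro h
      apply hSX
      intro s hs
      have h1 : (QuotientGroup.mk' (X.subgroupOf S)) ⟨s, hs⟩ ∈
          (⊤ : Subgroup (↥S ⧸ X.subgroupOf S)) := Subgroup.mem_top _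
      rw [h, Subgroup.mem_bot] at h1
      exact (hE.2.1 ⟨s, hs⟩).1 h1
    have hautE := factor_autGroup_isPGroup hS hF hXs hE haut
    have hfocE := IH _ ⊤ E hcardS' hS' hEsat htopne hautE
    exact focal_lt_of_factor hS hF hXs hE hfocE

/-- **Proper focal subgroup.** -/
theorem main {W : ∀ (Q : Type u) [Group Q], Subgroup Q}
    (hW : IsPos p W)
    (hT : ∀ (G : Type u) [Group G] [Finite G] (P : Sylow p G),
      Subgroup.centralizer ((Cfsg.pCore p G : Subgroup G) : Set G) ≤ Cfsg.pCore p G →
      Cfsg.pCore p G ⊓ commutator G = Cfsg.pCore p G ⊓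
        (commutator ↥(Subgroup.normalizer
          (((W ↥(P : Subgroup G)).map (P : Subgroup G).subtype : Subgroup G) : Set G))).map
          (Subgroup.normalizer
            (((W ↥(P : Subgroup G)).map (P : Subgroup G).subtype : Subgroup G) : Set G)).subtype) :
    ∀ n : ℕ, ∀ (Ω : Type u) [Group Ω] (S : Subgroup Ω) [Finite S] (F : FusionSystem S),
      Nat.card S = n → IsPGroup p S → F.IsSaturated p → S ≠ ⊥ →
      IsPGroup p (F.autGroup S) → F.focalSubgroup < S := by
  intro n
  induction n using Nat.strong_induction_on with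
  | _ n ih =>
    intro Ω _ S _ F hn hS hF hne haut
    have hXS : WW W S ≤ S := WW_le W S
    have hXne : WW W S ≠ ⊥ := pos_ne_bot hW hS hne
    have hNS : normalizerIn S (WW W S) = S := pos_normalizerIn_top hW hS
    have hXfn : F.IsFullyNormalized (WW W S) := fn_of_normalizerIn_eq hXS hNS
    obtain ⟨N, hN⟩ := Cfsg.Agent.S5096.result F _ hXS
    have hfoc : N.focalSubgroup = F.focalSubgroup :=
      Cfsg.Agent.S5197.focal_eq hW hT hS F hF N hN
    haveI : Finite ↥(normalizerIn S (WW W S)) :=
      finite_of_le (inf_le_left : normalizerIn S (WW W S) ≤ S)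
    have hNsat := Cfsg.Agent.Helper84.normalizerSystem_saturated F hS hF hXfn N hN
    have hXn : N.IsNormal (WW W S) := normalizerSystem_isNormal hXS hN
    have hautN := normalizerSystem_autGroup_isPGroup hNS hN haut
    have hlt : N.focalSubgroup < normalizerIn S (WW W S) := by
      have hSN : IsPGroup p ↥(normalizerIn S (WW W S)) :=
        hS.to_le (inf_le_left : normalizerIn S (WW W S) ≤ S)
      have hneN : normalizerIn S (WW W S) ≠ ⊥ := by rw [hNS]; exact hne
      apply focal_lt_of_normal hSN hNsat hneN hXn hXne hautN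
      intro Ω' _ S' _ E hcard hS' hE hne' haut'
      apply ih (Nat.card S') _ Ω' S' E rfl hS' hE hne' haut'
      rw [← hn, ← hNS]
      exact hcard
    rw [hfoc, hNS] at hlt
    exact hlt

end Cfsg.Agent.Helper87.FocalPAut
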