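import Mathlib
import Cfsg.Prelude.Def_FusionSystem
import Cfsg.Agent.Lib.Helper87.FusionFactor
import Cfsg.Agent.Lib.Helper87.FusionOmega
import Cfsg.Agent.Lib.Helper87.SmallExpAbs

set_option autoImplicit false

namespace Cfsg.Agent.Helper87

open Cfsg Cfsg.FusionSystem

variable {Ω : Type*} [Group Ω] {S : Subgroup Ω}

/-- for a fully normalized subgroup `R` of a saturated system there are an `Aut_F(R)`-invariant subgroup `D`
of small exponent inside `R ∩ hyp(F)` and an abelian `N_S(R)`-invariant subgroup `Λ ≤ D` such that every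
automorphism of `R` in the system fixing `Λ` pointwise is induced by an element of `S` -/
theorem exists_detecting_abelian {p : ℕ} [Fact p.Prime] [Finite S] (hS : IsPGroup p S)
    {F : FusionSystem S} (hF : F.IsSaturated p) {R : Subgroup Ω} (hRfn : F.IsFullyNormalized R) :
    ∃ D Λ : Subgroup Ω, Λ ≤ D ∧ D ≤ R ∧ D ≤ F.hyperfocalSubgroup p ∧
      (∀ x ∈ D, x ^ omegaExp p = 1) ∧
      (∀ α ∈ F.autGroup R, ∀ x ∈ D, extAut α x ∈ D) ∧
      (∀ x ∈ Λ, ∀ y ∈ Λ, x * y = y * x) ∧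
      (∀ g ∈ normalizerIn S R, ∀ x ∈ Λ, g * x * g⁻¹ ∈ Λ) ∧
      (∀ β ∈ F.autGroup R, (∀ x ∈ Λ, extAut β x = x) → β ∈ autInducedBy S R) := by
  classical
  have hRS : R ≤ S := hRfn.1
  have hfinR : Finite R := finite_of_le hRS
  have hRp : IsPGroup p R := hS.to_le hRS
  obtain ⟨D', hD'Y, hD'exp, hD'inv, hD'det⟩ := exists_detecting hRp (F.autGroup R)
  let D : Subgroup Ω := D'.map R.subtype
  have hDR : D ≤ R := by
    rintro _ ⟨x, -, rfl⟩
    exact x.2
  have hDmem : ∀ {x : Ω} (hx : x ∈ R), x ∈ D ↔ (⟨x, hx⟩ : R) ∈ D' := by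
    intro x hx
    constructor
    · rintro ⟨y, hy, hyx⟩
      have : y = ⟨x, hx⟩ := Subtype.ext hyx
      rwa [← this]
    · intro h
      exact ⟨⟨x, hx⟩, h, rfl⟩
  have hDhyp : D ≤ F.hyperfocalSubgroup p := by
    have h1 : (Subgroup.closure (coprimeCommSet (F.autGroup R) p)).map R.subtype ≤
        F.hyperfocalSubgroup p := by
      rw [MonoidHom.map_closure, Subgroup.closure_le]
      rintro _ ⟨y, ⟨β, hβ, hc, x, rfl⟩, rfl⟩
      have := mem_hyperfocal hRS hβ hc x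
      simpa using this
    exact (Subgroup.map_mono hD'Y).trans h1
  have hDexp : ∀ x ∈ D, x ^ omegaExp p = 1 := by
    rintro _ ⟨x, hx, rfl⟩
    have := hD'exp x hx
    have h2 := congrArg Subtype.val this
    simpa using h2
  have hDinv : ∀ α ∈ F.autGroup R, ∀ x ∈ D, extAut α x ∈ D := by
    rintro α hα _ ⟨x, hx, rfl⟩
    show extAut α (x : Ω) ∈ D
    rw [extAut_apply]
    exact ⟨α x, hD'inv α hα x hx, rfl⟩
  -- the normalizer
  have hN₁S : normalizerIn S R ≤ S := inf_le_left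
  have hfinN₁ : Finite (normalizerIn S R) := finite_of_le hN₁S
  have hN₁p : IsPGroup p (normalizerIn S R) := hS.to_le hN₁S
  have hRN₁ : R ≤ normalizerIn S R := fun x hx => ⟨hRS hx, Subgroup.le_normalizer hx⟩
  have hconjmem : ∀ g ∈ normalizerIn S R, ∀ x ∈ D, g * x * g⁻¹ ∈ D := by
    intro g hg x hx
    have h1 : conjAut R g hg.2 ∈ F.autGroup R :=
      autInducedBy_le_autGroup F hRS (conjAut_mem_autInducedBy hg.1 hg.2)
    have h2 := hDinv _ h1 x hx
    rw [extAut_mem _ (hDR hx)] at h2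
    exact h2
  obtain ⟨Λ, hΛD, hΛcomm, hΛnorm, hΛcent⟩ :=
    exists_max_abelian_invariant (normalizerIn S R) hN₁p D (hDR.trans hRN₁) hconjmem
  refine ⟨D, Λ, hΛD, hDR, hDhyp, hDexp, hDinv, hΛcomm, hΛnorm, ?_⟩
  -- the subgroup of `Aut_F(R)` fixing `Λ` pointwise
  have hΛR : Λ ≤ R := hΛD.trans hDR
  let CΛ : Subgroup (F.autGroup R) :=
    { carrier := {β | ∀ x ∈ Λ, extAut (β : MulAut R) x = x}
      one_mem' := fun x hx => extAut_one (hΛR hx)
      mul_mem' := by
        intro a b ha hb x hx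
        show extAut ((a : MulAut R) * (b : MulAut R)) x = x
        rw [extAut_mul _ _ (hΛR hx), hb x hx, ha x hx]
      inv_mem' := by
        intro a ha x hx
        show extAut (a : MulAut R)⁻¹ x = x
        have := extAut_inv_left (a : MulAut R) (hΛR hx)
        rw [ha x hx] at this
        exact this }
  have hfinA : Finite (F.autGroup R) := inferInstance
  have hCΛp : IsPGroup p CΛ := by
    apply isPGroup_of_coprime_trivial
    intro c hc
    have hord : orderOf ((c : F.autGroup R) : MulAut R) = orderOf c := by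
      rw [Subgroup.orderOf_coe, Subgroup.orderOf_coe]
    have hc' : (orderOf ((c : F.autGroup R) : MulAut R)).Coprime p := by rw [hord]; exact hc
    have key : ((c : F.autGroup R) : MulAut R) = 1 := by
      apply hD'det (Λ.comap R.subtype) ?_ ?_ _ (c : F.autGroup R).2 hc'
      · intro x hx
        have hx' : (x : Ω) ∈ Λ := hx
        have hfix := c.2 (x : Ω) hx'
        rw [extAut_apply] at hfix
        exact Subtype.ext hfix
      · intro x hx
        have hx' : (x : Ω) ∈ Λ := hx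
        exact (hDmem x.2).1 (hΛD hx')
      · rintro x ⟨hxD, hxc⟩
        show (x : Ω) ∈ Λ
        apply hΛcent
        refine ⟨⟨x, hxD, rfl⟩, ?_⟩
        show (x : Ω) ∈ Subgroup.centralizer (Λ : Set Ω)
        rw [Subgroup.mem_centralizer_iff]
        intro y hy
        have hxc' := Subgroup.mem_centralizer_iff.1 hxc ⟨y, hΛR hy⟩ hy
        exact congrArg Subtype.val hxc'
    apply Subtype.ext
    apply Subtype.ext
    exact key
  intro β hβ hfix
  obtain ⟨-, P₀, hP₀⟩ := fullyAutomized_of_fullyNormalized hS hF hRfn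
  have hnorm : (P₀ : Subgroup (F.autGroup R)) ≤ Subgroup.normalizer (CΛ : Set (F.autGroup R)) := by
    apply le_normalizer_of_forall
    intro σ hσ c hc x hx
    rw [hP₀, Subgroup.mem_subgroupOf] at hσ
    obtain ⟨g, hgS, hgN, eg⟩ := mem_autInducedBy_iff'.1 hσ
    show extAut ((σ : MulAut R) * (c : MulAut R) * (σ : MulAut R)⁻¹) x = x
    have hxR : x ∈ R := hΛR hx
    have h1 : extAut (σ : MulAut R)⁻¹ x ∈ Λ := by
      -- `σ⁻¹ x = g⁻¹ x g`
      have hg' : g⁻¹ ∈ normalizerIn S R := (normalizerIn S R).inv_mem ⟨hgS, hgN⟩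
      have h2 := hΛnorm g⁻¹ hg' x hx
      have h3 : extAut (σ : MulAut R) (g⁻¹ * x * g⁻¹⁻¹) = x := by
        rw [extAut_mem _ (hΛR h2), eg]
        show g * (g⁻¹ * x * g⁻¹⁻¹) * g⁻¹ = x
        group
      have h4 : extAut (σ : MulAut R)⁻¹ x = g⁻¹ * x * g⁻¹⁻¹ := by
        have h5 := extAut_inv_left (σ : MulAut R) (hΛR h2)
        rw [h3] at h5
        exact h5
      rw [h4]; exact h2
    rw [extAut_mul _ _ hxR, extAut_mul _ _ (extAut_mem_self _ hxR), hc _ h1,
      extAut_inv_right _ hxR]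
  have hle := le_sylow_of_le_normalizer P₀ hCΛp hnorm
  have hmem : (⟨β, hβ⟩ : F.autGroup R) ∈ CΛ := hfix
  have := hle hmem
  rw [hP₀, Subgroup.mem_subgroupOf] at this
  exact this

theorem conj_mem_centralizerIn {Q : Subgroup Ω} {n c : Ω} (hn : n ∈ normalizerIn S Q)
    (hc : c ∈ centralizerIn S Q) : n * c * n⁻¹ ∈ centralizerIn S Q := by
  refine ⟨S.mul_mem (S.mul_mem hn.1 hc.1) (S.inv_mem hn.1), ?_⟩
  show n * c * n⁻¹ ∈ Subgroup.centralizer (Q : Set Ω)
  rw [Subgroup.mem_centralizer_iff]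
  intro y hy
  have hy' : n⁻¹ * y * n⁻¹⁻¹ ∈ Q :=
    (Subgroup.mem_normalizer_iff.1 (Subgroup.inv_mem _ hn.2) y).1 hy
  have hcy := Subgroup.mem_centralizer_iff.1 hc.2 _ hy'
  calc y * (n * c * n⁻¹) = n * ((n⁻¹ * y * n⁻¹⁻¹) * c) * n⁻¹ := by group
    _ = n * (c * (n⁻¹ * y * n⁻¹⁻¹)) * n⁻¹ := by rw [hcy]
    _ = n * c * n⁻¹ * y := by group

/-- if `P` normalizes `C` and `C ≰ P` (inside a finite `p`-group) then some element of `C` outside `P`
normalizes `P` -/
theorem exists_normalizing_of_not_le {p : ℕ} [Fact p.Prime] [Finite S] (hS : IsPGroup p S)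
    {P C : Subgroup Ω} (hPS : P ≤ S) (hCS : C ≤ S) (hPC : P ≤ Subgroup.normalizer (C : Set Ω))
    (hC : ¬ C ≤ P) : ∃ c ∈ C, c ∉ P ∧ c ∈ Subgroup.normalizer (P : Set Ω) := by
  have hTS : P ⊔ C ≤ S := sup_le hPS hCS
  have : Finite (P ⊔ C : Subgroup Ω) := finite_of_le hTS
  have hT : IsPGroup p (P ⊔ C : Subgroup Ω) := hS.to_le hTS
  have hne : P ≠ P ⊔ C := by
    intro h
    apply hC
    calc C ≤ P ⊔ C := le_sup_right
      _ = P := h.symm
  obtain ⟨n, hn, hnP⟩ := exists_normalizer_not_mem (S := P ⊔ C) hT le_sup_left hne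
  have hnT : n ∈ ((P ⊔ C : Subgroup Ω) : Set Ω) := hn.1
  rw [Subgroup.coe_mul_of_left_le_normalizer_right P C hPC] at hnT
  obtain ⟨r, hr, c, hc, rfl⟩ := Set.mem_mul.1 hnT
  refine ⟨c, hc, ?_, ?_⟩
  · intro hcP; exact hnP (P.mul_mem hr hcP)
  · have : c = r⁻¹ * (r * c) := by group
    rw [this]
    exact Subgroup.mul_mem _ (Subgroup.inv_mem _ (Subgroup.le_normalizer hr)) hn.2

/-- the key step of the small exponent abelian control theorem: the automorphisms in `F` of a fully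
normalized centric subgroup `R` belong to `E` once all maps of `F` on larger subgroups do -/
theorem aut_mem_of_control {p : ℕ} [Fact p.Prime] [Finite S] (hS : IsPGroup p S)
    {E F : FusionSystem S} (hE : E.IsSaturated p) (hF : F.IsSaturated p)
    (hEF : ∀ (P : Subgroup Ω) (f : Ω → Ω), Mor E P f → Mor F P f)
    (hctrl : ∀ A B : Subgroup Ω, A ≤ F.hyperfocalSubgroup p → B ≤ F.hyperfocalSubgroup p →
      (∀ x ∈ A, ∀ y ∈ A, x * y = y * x) → (∀ x ∈ B, ∀ y ∈ B, x * y = y * x) →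
      (∀ a ∈ A, a ^ omegaExp p = 1) → (∀ b ∈ B, b ^ omegaExp p = 1) →
      ∀ f : Ω → Ω, Mor F A f → (∀ x ∈ A, f x ∈ B) → Mor E A f)
    {R : Subgroup Ω} (hRfn : F.IsFullyNormalized R) (hRc : F.IsCentric R)
    (IH : ∀ (P' : Subgroup Ω) (f' : Ω → Ω), Mor F P' f' → Nat.card R < Nat.card P' → Mor E P' f')
    {α : MulAut R} (hα : α ∈ F.autGroup R) : Mor E R (extAut α) := by
  classical
  have hRS : R ≤ S := hRfn.1
  have hRN₁ : R ≤ normalizerIn S R := le_normalizerIn hRS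
  have hisoEF : ∀ {P Q : Subgroup Ω} {f : Ω → Ω}, Iso E P Q f → Iso F P Q f :=
    fun h => ⟨hEF _ _ h.1, h.2⟩
  obtain ⟨D, Λ, hΛD, hDR, hDhyp, hDexp, hDinv, hΛcomm, hΛnorm, hΛdet⟩ :=
    exists_detecting_abelian hS hF hRfn
  have hΛR : Λ ≤ R := hΛD.trans hDR
  have hΛS : Λ ≤ S := hΛR.trans hRS
  have haF : Mor F R (extAut α) := (mem_autGroup_iff hRS).1 hα
  have haiso : Iso F R R (extAut α) := iso_of_mor_extAut haF
  have hbF : Mor F R (extAut α⁻¹) := (mem_autGroup_iff hRS).1 ((F.autGroup R).inv_mem hα)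
  have hbiso : Iso F R R (extAut α⁻¹) := iso_of_mor_extAut hbF
  have haΛ : Mor F Λ (extAut α) := haF.restrict hΛR
  -- the image `Λ'` of `Λ`
  have hΛ'D : haΛ.image ≤ D := by
    rintro _ ⟨x, hx, rfl⟩
    exact hDinv α hα x (hΛD hx)
  have hΛ'R : haΛ.image ≤ R := hΛ'D.trans hDR
  have hΛ'comm : ∀ x ∈ haΛ.image, ∀ y ∈ haΛ.image, x * y = y * x := by
    rintro _ ⟨x, hx, rfl⟩ _ ⟨y, hy, rfl⟩
    rw [← haΛ.map_mul hx hy, ← haΛ.map_mul hy hx, hΛcomm x hx y hy]
  have haE : Mor E Λ (extAut α) :=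
    hctrl Λ haΛ.image (hΛD.trans hDhyp) (hΛ'D.trans hDhyp) hΛcomm hΛ'comm
      (fun x hx => hDexp x (hΛD hx)) (fun x hx => hDexp x (hΛ'D hx)) _ haΛ
      (fun x hx => ⟨x, hx, rfl⟩)
  have haEiso : Iso E Λ haΛ.image (extAut α) := ⟨haE, fun y => Iff.rfl⟩
  have hbEiso : Iso E haΛ.image Λ (extAut α⁻¹) := by
    obtain ⟨b', hb'iso, hb'1, -⟩ := haEiso.symm
    refine hb'iso.congr ?_
    rintro _ ⟨x, hx, rfl⟩
    rw [hb'1 x hx, extAut_inv_left α (hΛR hx)]
  -- a fully `E`-normalized conjugate of `Λ`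
  obtain ⟨Λs, hΛsconj, hΛsfn⟩ := exists_fullyNormalized_conj E hΛS
  obtain ⟨χ, hχN, hχiso⟩ := exists_map_normalizer_to_fullyNormalized hS hE hΛsfn hΛsconj
  have hN₁Λ : normalizerIn S R ≤ normalizerIn S Λ :=
    fun g hg => ⟨hg.1, le_normalizer_of_forall (K := normalizerIn S R) hΛnorm hg⟩
  have hχR : Mor E R χ := hχN.restrict (hRN₁.trans hN₁Λ)
  have hfiso : Iso E haΛ.image Λs (fun y => χ (extAut α⁻¹ y)) := hbEiso.comp hχiso
  obtain ⟨-, hrec⟩ := isReceptive_iff.1 (receptive_of_fullyNormalized hS hE hΛsfn)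
  obtain ⟨ε, hεM, hεf⟩ := hrec _ _ hfiso
  have hRext : R ≤ hfiso.ext := by
    intro g hg
    have hbg : extAut α⁻¹ g ∈ R := extAut_mem_self _ hg
    refine ⟨hRS hg, ?_, χ (extAut α⁻¹ g), hχR.mem hbg, ?_⟩
    · refine le_normalizer_of_forall (K := R) ?_ hg
      rintro g hg _ ⟨x, hx, rfl⟩
      have hbg : extAut α⁻¹ g ∈ R := extAut_mem_self _ hg
      refine ⟨extAut α⁻¹ g * x * (extAut α⁻¹ g)⁻¹, hΛnorm _ (hRN₁ hbg) x hx, ?_⟩
      rw [haF.map_conj hbg (hΛR hx), extAut_inv_right α hg]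
    · intro y hy
      show χ (extAut α⁻¹ (g * y * g⁻¹)) = _
      rw [hbF.map_conj hg (hΛ'R hy), hχR.map_conj hbg (extAut_mem_self _ (hΛ'R hy))]
  have hεR : Mor E R ε := hεM.restrict hRext
  -- `ζ = ε ∘ a`
  have hζF : Mor F R (fun x => ε (extAut α x)) :=
    haF.comp (hEF _ _ hεR) (fun x hx => haiso.map_mem hx)
  have hζΛ : ∀ x ∈ Λ, ε (extAut α x) = χ x := by
    intro x hx
    rw [hεf _ ⟨x, hx, rfl⟩]
    show χ (extAut α⁻¹ (extAut α x)) = χ x
    rw [extAut_inv_left α (hΛR hx)]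
  have hζiso : Iso F R hζF.image (fun x => ε (extAut α x)) := Iso.of_mor hζF
  have hRssS : hζF.image ≤ S := hζF.image_le
  -- the main claim
  have hζE : Mor E R (fun x => ε (extAut α x)) := by
    have hcent : ∀ g ∈ R, (χ g)⁻¹ * ε (extAut α g) ∈ centralizerIn S Λs := by
      intro g hg
      refine ⟨S.mul_mem (S.inv_mem (hχR.mem hg)) (hζF.mem hg), ?_⟩
      show (χ g)⁻¹ * ε (extAut α g) ∈ Subgroup.centralizer (Λs : Set Ω)
      rw [Subgroup.mem_centralizer_iff]
      intro y hy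
      obtain ⟨x, hx, rfl⟩ := hχiso.surj hy
      have hgx : g * x * g⁻¹ ∈ Λ := hΛnorm g (hRN₁ hg) x hx
      have h1 : χ (g * x * g⁻¹) = χ g * χ x * (χ g)⁻¹ := hχR.map_conj hg (hΛR hx)
      have h2 : ε (extAut α (g * x * g⁻¹)) =
          ε (extAut α g) * ε (extAut α x) * (ε (extAut α g))⁻¹ := hζF.map_conj hg (hΛR hx)
      rw [hζΛ _ hgx, hζΛ x hx, h1] at h2
      calc χ x * ((χ g)⁻¹ * ε (extAut α g))
          = (χ g)⁻¹ * (χ g * χ x * (χ g)⁻¹) * ε (extAut α g) := by group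
        _ = (χ g)⁻¹ * (ε (extAut α g) * χ x * (ε (extAut α g))⁻¹) * ε (extAut α g) := by rw [h2]
        _ = (χ g)⁻¹ * ε (extAut α g) * χ x := by group
    by_cases hcase : ∀ g ∈ R, χ g ∈ hζF.image
    · -- case (a): `χ(R) = ζ(R)`
      have hχiso' : Iso E R hζF.image χ :=
        iso_of_card_le hχR hRssS hcase (le_of_eq hζiso.card_eq.symm)
      obtain ⟨χ', hχ'iso, hχ'1, hχ'2⟩ := hχiso'.symm
      have hηiso : Iso F R R (fun x => χ' (ε (extAut α x))) := hζiso.comp (hisoEF hχ'iso)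
      have hηfix : ∀ x ∈ Λ, extAut (hηiso.equiv : MulAut R) x = x := by
        intro x hx
        rw [extAut_equiv hηiso (hΛR hx)]
        show χ' (ε (extAut α x)) = x
        rw [hζΛ x hx, hχ'1 x (hΛR hx)]
      have hηS := hΛdet _ hηiso.equiv_mem_autGroup hηfix
      obtain ⟨s, hs, es⟩ := mem_autInducedBy_iff.1 hηS
      have hηE : Mor E R (fun x => χ' (ε (extAut α x))) := by
        refine (Mor.conj hRS hs).congr (fun x hx => ?_)
        have := es ⟨x, hx⟩
        rw [← this]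
        rfl
      refine (hηE.comp hχR (fun x hx => hηiso.map_mem hx)).congr (fun x hx => ?_)
      show χ (χ' (ε (extAut α x))) = ε (extAut α x)
      exact hχ'2 _ (hζiso.map_mem hx)
    · -- case (b)
      push Not at hcase
      obtain ⟨g, hg, hgnot⟩ := hcase
      have hCnot : ¬ centralizerIn S Λs ≤ hζF.image := by
        intro hle
        apply hgnot
        have h1 := hle (hcent g hg)
        have h2 : χ g = ε (extAut α g) * ((χ g)⁻¹ * ε (extAut α g))⁻¹ := by group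
        rw [h2]
        exact hζF.image.mul_mem (hζiso.map_mem hg) (hζF.image.inv_mem h1)
      have hRssN : hζF.image ≤ normalizerIn S Λs := by
        intro r hr
        refine ⟨hRssS hr, le_normalizer_of_forall (K := hζF.image) ?_ hr⟩
        rintro _ ⟨g, hg, rfl⟩ y hy
        obtain ⟨x, hx, rfl⟩ := hχiso.surj hy
        have hgx : g * x * g⁻¹ ∈ Λ := hΛnorm g (hRN₁ hg) x hx
        have h2 : ε (extAut α (g * x * g⁻¹)) =
            ε (extAut α g) * ε (extAut α x) * (ε (extAut α g))⁻¹ := hζF.map_conj hg (hΛR hx)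
        rw [hζΛ _ hgx, hζΛ x hx] at h2
        show ε (extAut α g) * χ x * (ε (extAut α g))⁻¹ ∈ Λs
        rw [← h2]
        exact hχiso.map_mem hgx
      have hRssC : hζF.image ≤ Subgroup.normalizer ((centralizerIn S Λs : Subgroup Ω) : Set Ω) :=
        le_normalizer_of_forall (fun r hr c hc => conj_mem_centralizerIn (hRssN hr) hc)
      obtain ⟨c, hcC, hcnot, hcN⟩ :=
        exists_normalizing_of_not_le hS hRssS inf_le_left hRssC hCnot
      have hcN' : c ∈ normalizerIn S hζF.image := ⟨hcC.1, hcN⟩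
      -- `ξ : N_S(ζ(R)) → N_S(R)`
      have hconj : F.IsConj hζF.image R := isConj_symm (isConj_iff.2 ⟨_, hζiso⟩)
      obtain ⟨ξ, hξN, hξiso⟩ := exists_map_normalizer_to_fullyNormalized hS hF hRfn hconj
      have hcard1 : Nat.card R < Nat.card (normalizerIn S hζF.image) := by
        rw [hζiso.card_eq]
        exact card_lt_of_not_mem (le_normalizerIn hRssS) inf_le_left hcN' hcnot
      have hξE : Mor E (normalizerIn S hζF.image) ξ := IH _ _ hξN hcard1
      have hτiso : Iso F R R (fun x => ξ (ε (extAut α x))) := hζiso.comp hξiso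
      have hk : ξ c ∈ normalizerIn S R := map_normalizerIn hξN hξiso hcN'
      have hknot : ξ c ∉ R := by
        intro hkR
        obtain ⟨r, hr, hrc⟩ := hξiso.surj hkR
        have := hξN.inj (le_normalizerIn hRssS hr) hcN' hrc
        exact hcnot (this ▸ hr)
      have hkτ : ∀ x ∈ Λ, ξ c * ξ (ε (extAut α x)) * (ξ c)⁻¹ = ξ (ε (extAut α x)) := by
        intro x hx
        have hζx : ε (extAut α x) ∈ hζF.image := hζiso.map_mem (hΛR hx)
        rw [← hξN.map_conj hcN' (le_normalizerIn hRssS hζx)]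
        congr 1
        rw [hζΛ x hx]
        have hcx := Subgroup.mem_centralizer_iff.1 hcC.2 (χ x) (hχiso.map_mem hx)
        -- hcx : χ x * c = c * χ x
        calc c * χ x * c⁻¹ = (c * χ x) * c⁻¹ := rfl
          _ = (χ x * c) * c⁻¹ := by rw [hcx]
          _ = χ x := by group
      -- the automorphism `τ̂⁻¹ κ τ̂` fixes `Λ` pointwise
      obtain ⟨τh, hτh⟩ : ∃ τh : MulAut R, τh = hτiso.equiv := ⟨_, rfl⟩
      obtain ⟨κ, hκ⟩ : ∃ κ : MulAut R, κ = conjAut R (ξ c) hk.2 := ⟨_, rfl⟩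
      have hτhx : ∀ x ∈ R, extAut τh x = ξ (ε (extAut α x)) := by
        intro x hx; rw [hτh]; exact extAut_equiv hτiso hx
      have hκx : ∀ y ∈ R, extAut κ y = ξ c * y * (ξ c)⁻¹ := by
        intro y hy; rw [hκ, extAut_mem _ hy, conjAut_apply]
      have hκA : κ ∈ F.autGroup R := by
        rw [hκ]
        exact autInducedBy_le_autGroup F hRS (conjAut_mem_autInducedBy hk.1 hk.2)
      have hτA : τh ∈ F.autGroup R := by rw [hτh]; exact hτiso.equiv_mem_autGroup
      have hρA : τh⁻¹ * κ * τh ∈ F.autGroup R :=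
        (F.autGroup R).mul_mem ((F.autGroup R).mul_mem ((F.autGroup R).inv_mem hτA) hκA) hτA
      have hρfix : ∀ x ∈ Λ, extAut (τh⁻¹ * κ * τh) x = x := by
        intro x hx
        have hxR : x ∈ R := hΛR hx
        have hτxR : ξ (ε (extAut α x)) ∈ R := hτiso.map_mem hxR
        rw [extAut_mul (τh⁻¹ * κ) τh hxR, hτhx x hxR, extAut_mul τh⁻¹ κ hτxR, hκx _ hτxR, hkτ x hx,
          ← hτhx x hxR, extAut_inv_left _ hxR]
      have hρS := hΛdet _ hρA hρfix
      obtain ⟨g₀, hg₀S, hg₀N, eg₀⟩ := mem_autInducedBy_iff'.1 hρS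
      have hconjτ : ∀ x ∈ R, ξ (ε (extAut α (g₀ * x * g₀⁻¹))) =
          ξ c * ξ (ε (extAut α x)) * (ξ c)⁻¹ := by
        intro x hx
        have hgx : g₀ * x * g₀⁻¹ ∈ R := (Subgroup.mem_normalizer_iff.1 hg₀N x).1 hx
        have h1 := eg₀ ⟨x, hx⟩
        have h2 : τh * (τh⁻¹ * κ * τh) = κ * τh := by group
        have hl : extAut (τh * (τh⁻¹ * κ * τh)) x = ξ (ε (extAut α (g₀ * x * g₀⁻¹))) := by
          rw [extAut_mul τh _ hx, extAut_mem (τh⁻¹ * κ * τh) hx, h1, hτhx _ hgx]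
        have hr : extAut (κ * τh) x = ξ c * ξ (ε (extAut α x)) * (ξ c)⁻¹ := by
          rw [extAut_mul κ τh hx, hτhx x hx, hκx _ (hτiso.map_mem hx)]
        rw [← hl, ← hr, h2]
      have hg₀ext : g₀ ∈ hτiso.ext := ⟨hg₀S, hg₀N, ξ c, hk.1, hconjτ⟩
      have hg₀not : g₀ ∉ R := by
        intro hg₀R
        apply hknot
        have hτg₀ : ξ (ε (extAut α g₀)) ∈ R := hτiso.map_mem hg₀R
        have hz : (ξ (ε (extAut α g₀)))⁻¹ * ξ c ∈ centralizerIn S R := by
          refine ⟨S.mul_mem (S.inv_mem (hRS hτg₀)) hk.1, ?_⟩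
          show (ξ (ε (extAut α g₀)))⁻¹ * ξ c ∈ Subgroup.centralizer (R : Set Ω)
          rw [Subgroup.mem_centralizer_iff]
          intro y hy
          obtain ⟨x, hx, rfl⟩ := hτiso.surj hy
          have h1 := hconjτ x hx
          have h2 : ξ (ε (extAut α (g₀ * x * g₀⁻¹))) = ξ (ε (extAut α g₀)) * ξ (ε (extAut α x)) *
              (ξ (ε (extAut α g₀)))⁻¹ := hτiso.1.map_conj hg₀R hx
          rw [h2] at h1
          calc ξ (ε (extAut α x)) * ((ξ (ε (extAut α g₀)))⁻¹ * ξ c)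
              = (ξ (ε (extAut α g₀)))⁻¹ * (ξ (ε (extAut α g₀)) * ξ (ε (extAut α x)) *
                  (ξ (ε (extAut α g₀)))⁻¹) * ξ c := by group
            _ = (ξ (ε (extAut α g₀)))⁻¹ * (ξ c * ξ (ε (extAut α x)) * (ξ c)⁻¹) * ξ c := by rw [h1]
            _ = (ξ (ε (extAut α g₀)))⁻¹ * ξ c * ξ (ε (extAut α x)) := by group
        have hzR := hRc.2 R (isConj_refl hRS) hz
        have h3 : ξ c = ξ (ε (extAut α g₀)) * ((ξ (ε (extAut α g₀)))⁻¹ * ξ c) := by group
        rw [h3]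
        exact R.mul_mem hτg₀ hzR
      obtain ⟨-, hrecR⟩ := isReceptive_iff.1 (receptive_of_fullyNormalized hS hF hRfn)
      obtain ⟨τ', hτ'M, hτ'e⟩ := hrecR _ _ hτiso
      have hcard2 : Nat.card R < Nat.card hτiso.ext :=
        card_lt_of_not_mem hτiso.le_ext (fun g hg => hg.1) hg₀ext hg₀not
      have hτ'E : Mor E hτiso.ext τ' := IH _ _ hτ'M hcard2
      have hτE : Mor E R (fun x => ξ (ε (extAut α x))) :=
        (hτ'E.restrict hτiso.le_ext).congr hτ'e
      have hξEiso : Iso E hζF.image R ξ := ⟨hξE.restrict (le_normalizerIn hRssS), hξiso.2⟩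
      obtain ⟨ξ', hξ'iso, hξ'1, -⟩ := hξEiso.symm
      refine (hτE.comp hξ'iso.1 (fun x hx => hτiso.map_mem hx)).congr (fun x hx => ?_)
      show ξ' (ξ (ε (extAut α x))) = ε (extAut α x)
      exact hξ'1 _ (hζiso.map_mem hx)
  obtain ⟨ε', hε'iso, hε'1, -⟩ := (Iso.of_mor hεR).symm
  refine (hζE.comp hε'iso.1 (fun x hx => ⟨extAut α x, haiso.map_mem hx, rfl⟩)).congr
    (fun x hx => ?_)
  show ε' (ε (extAut α x)) = extAut α x
  exact hε'1 _ (haiso.map_mem hx)

/-- **Small exponent abelian subgroups of the hyperfocal subgroup control fusion**: a saturated subsystem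
`E` of a saturated system `F` having the same maps as `F` between abelian subgroups of the hyperfocal
subgroup of exponent dividing `p` (`p` odd) or `4` (`p = 2`) is all of `F`. -/
theorem eq_of_control {p : ℕ} [Fact p.Prime] [Finite S] (hS : IsPGroup p S)
    {E F : FusionSystem S} (hE : E.IsSaturated p) (hF : F.IsSaturated p) (hEF : E.IsSubsystemOf F)
    (hctrl : ∀ A B : Subgroup Ω, A ≤ F.hyperfocalSubgroup p → B ≤ F.hyperfocalSubgroup p →
      (∀ x ∈ A, ∀ y ∈ A, x * y = y * x) → (∀ x ∈ B, ∀ y ∈ B, x * y = y * x) →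
      (∀ a ∈ A, a ^ omegaExp p = 1) → (∀ b ∈ B, b ^ omegaExp p = 1) →
      E.homSet A B = F.homSet A B) : ∀ P : Subgroup Ω, E.Hom P = F.Hom P := by
  have hEF' : ∀ (P : Subgroup Ω) (f : Ω → Ω), Mor E P f → Mor F P f := by
    rintro P f ⟨φ, hφ, e⟩
    exact ⟨φ, hEF P hφ, e⟩
  have hctrl' : ∀ A B : Subgroup Ω, A ≤ F.hyperfocalSubgroup p → B ≤ F.hyperfocalSubgroup p →
      (∀ x ∈ A, ∀ y ∈ A, x * y = y * x) → (∀ x ∈ B, ∀ y ∈ B, x * y = y * x) →
      (∀ a ∈ A, a ^ omegaExp p = 1) → (∀ b ∈ B, b ^ omegaExp p = 1) →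
      ∀ f : Ω → Ω, Mor F A f → (∀ x ∈ A, f x ∈ B) → Mor E A f := by
    intro A B hA hB hAc hBc hAe hBe f hf hfB
    obtain ⟨φ, hφ, e⟩ := hf
    have h1 : φ ∈ F.homSet A B := ⟨hφ, fun x => by rw [e]; exact hfB x x.2⟩
    rw [← hctrl A B hA hB hAc hBc hAe hBe] at h1
    exact ⟨φ, h1.1, e⟩
  have main : ∀ (P : Subgroup Ω) (f : Ω → Ω), Mor F P f → Mor E P f := by
    apply alperin_strong hS hF (fun P f => Mor E P f)
    · exact
        { congr := fun h hfg => h.congr hfg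
          restrict := fun _ h hQP => h.restrict hQP
          comp := fun _ _ hPQ h1 h2 => h1.comp h2 hPQ }
    · intro R hRfn hRc _ IH α hα
      exact aut_mem_of_control hS hE hF hEF' hctrl' hRfn hRc IH hα
  intro P
  apply Set.Subset.antisymm (hEF P)
  intro φ hφ
  exact mem_hom_iff_mor.2 (main P _ (mor_of_mem hφ))

end Cfsg.Agent.Helper87
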