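import Mathlib
import Cfsg.Agent.Lib.Helper30.GS4K
import Cfsg.Agent.Lib.Helper30.GS4S3
import Cfsg.Agent.Lib.Helper8.GS4V
import Cfsg.Agent.Lib.Helper41.GS4P4
import Cfsg.Agent.Lib.Helper87.D8Prod

set_option autoImplicit false
set_option linter.unusedSectionVars false
set_option linter.style.haveILetI false

namespace Cfsg.Agent.Helper87.OutD8

open Cfsg.Agent.Helper30.GS4 Cfsg.Agent.Helper8.GS4 Cfsg.Agent.Helper41.GS4

theorem d8_comm_sq : ∀ a b : DihedralGroup 4,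
    (a * b * a⁻¹ * b⁻¹) * (a * b * a⁻¹ * b⁻¹) = 1 := by decide

/-- `G ≅ S₄ × C_f` -/
theorem s4_prod_cyclic {G : Type*} [Group G] [Finite G] (f : ℕ) (hf : 1 ≤ f)
    (hG : Nat.card G = 24 * f) (H N : Subgroup G) (hHidx : H.index = 3) (hNH : N ≤ H)
    (eN : ↥N ≃* DihedralGroup 4) (c : G) (hcz : ∀ g : G, c * g = g * c) (hcH : c ∈ H)
    (hcf : c ^ f = 1) (hord : ∀ j : ℕ, c ^ j ∈ N → f ∣ j)
    (hHgen : ∀ h ∈ H, ∃ i : ℕ, h * c ^ i ∈ N)
    (r d t : G) (hr : r ∈ N) (hd : d ∈ N) (hrr : r * r = 1) (ht3 : t ^ 3 = 1)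
    (hrt : r * t * r = t⁻¹) (htH : t ∉ H) (hrK : ∃ g : G, g * r * g⁻¹ ∉ H)
    (htz : t * (d * r * d⁻¹ * r⁻¹) ≠ (d * r * d⁻¹ * r⁻¹) * t) :
    Nonempty (G ≃* Equiv.Perm (Fin 4) × Multiplicative (ZMod f)) := by
  classical
  have hN8 : Nat.card N = 8 := by
    rw [Nat.card_congr eN.toEquiv, DihedralGroup.nat_card]
  obtain ⟨K, hKn, hKH, hKidx, hKcard, hcK, hrK', hKab, hKcomm, hKdec⟩ :=
    core_facts f hf hG H N hHidx hNH hN8 c hcz hcH hcf hHgen r hr hrK
  haveI := hKn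
  set z : G := d * r * d⁻¹ * r⁻¹ with hz
  have hzK : z ∈ K := hKcomm d hd r hr
  have hz2 : z * z = 1 := by
    have h1 := d8_comm_sq (eN ⟨d, hd⟩) (eN ⟨r, hr⟩)
    rw [← map_inv, ← map_inv, ← map_mul, ← map_mul, ← map_mul, ← map_mul] at h1
    have h2 := eN.injective (h1.trans (map_one eN).symm)
    exact congrArg Subtype.val h2
  have htK : t ∉ K := fun h => htH (hKH h)
  obtain ⟨hconj, U, htU, hrU, hUcard, hUK, hUform, hUKgen⟩ :=
    s3_sub K hKidx r t hrr ht3 hrt htK hrK'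
  have hcord : ∀ j : ℕ, c ^ j = 1 → f ∣ j := by
    intro j hj
    apply hord
    rw [hj]
    exact one_mem _
  obtain ⟨V, hVn, hVK, hVcard, hVc, hVfree, hKV⟩ :=
    exists_complement f hf K hKcard hKab c hcK hcz hcf hcord hKdec t ht3 hconj z hzK hz2 htz
  haveI := hVn
  obtain ⟨eS⟩ := perm4_of_semidirect V U hVcard hUcard t r htU hrU hrr ht3 hrt
    (fun u hu huV => hUK u hu (hVK huV)) hUform hVfree
  have hcpow_inv : ∀ j : ℕ, c ^ j * c ^ (j * (f - 1)) = 1 := by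
    intro j
    rw [← pow_add]
    have : j + j * (f - 1) = f * j := by
      obtain ⟨k, rfl⟩ : ∃ k, f = k + 1 := ⟨f - 1, by omega⟩
      simp only [Nat.add_sub_cancel]
      ring
    rw [this, pow_mul, hcf, one_pow]
  obtain ⟨e⟩ := prod_of_central (V ⊔ U) c f hf (fun n _ => hcz n) (by
      intro g
      obtain ⟨u, hu, k, hk, rfl⟩ := hUKgen g
      obtain ⟨v, hv, j, rfl⟩ := hKV k hk
      refine ⟨j * (f - 1), ?_⟩
      have : u * (v * c ^ j) * c ^ (j * (f - 1)) = u * v := by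
        rw [mul_assoc, mul_assoc, hcpow_inv, mul_one]
      rw [this]
      exact mul_mem (Subgroup.mem_sup_right hu) (Subgroup.mem_sup_left hv)) (by
      intro j hj
      apply hcord
      have hj' : c ^ j ∈ ((V ⊔ U : Subgroup G) : Set G) := hj
      rw [Subgroup.normal_mul] at hj'
      obtain ⟨v, hv, u, hu, hvu0⟩ := hj'
      have hvu : v * u = c ^ j := hvu0
      have hu1 : u = 1 := by
        apply hUK u hu
        have : u = v⁻¹ * c ^ j := by rw [← hvu]; group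
        rw [this]
        exact mul_mem (inv_mem (hVK hv)) (pow_mem hcK j)
      rw [hu1, mul_one] at hvu
      have hvu' : v = c ^ j := hvu
      rw [← hvu']
      exact hVc v hv j hvu') hcf
  exact ⟨e.trans (MulEquiv.prodCongr eS (MulEquiv.refl _))⟩

end Cfsg.Agent.Helper87.OutD8
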