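import Mathlib
import Cfsg.Agent.Lib.Helper87.GS4Asm
import Cfsg.Agent.Lib.Helper87.D8Out

/-!
# `A ⧸ I ≅ S₄ × C_f` from data in `A` (S2608, the case `m = 4`)
-/

set_option autoImplicit false
set_option linter.unusedSectionVars false
set_option linter.style.haveILetI false

namespace Cfsg.Agent.Helper87.OutD8

/-- two non-commuting elements of `D₈` generate it (explicit words) -/
theorem d8_words : ∀ a b g : DihedralGroup 4, a * b ≠ b * a →
    ∃ i j : Fin 4, ∃ k l : Fin 2,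
      g = a ^ (i : ℕ) * b ^ (j : ℕ) * a ^ (k : ℕ) * b ^ (l : ℕ) := by decide

/-- an element commuting with two non-commuting elements of a copy of `D₈` centralises it -/
theorem d8_centralizer {G : Type*} [Group G] (N : Subgroup G) (eN : ↥N ≃* DihedralGroup 4)
    (c r d : G) (hr : r ∈ N) (hd : d ∈ N) (hrd : r * d ≠ d * r)
    (hcr : c * r = r * c) (hcd : c * d = d * c) : ∀ n ∈ N, c * n = n * c := by
  intro n hn
  have hab : eN ⟨r, hr⟩ * eN ⟨d, hd⟩ ≠ eN ⟨d, hd⟩ * eN ⟨r, hr⟩ := by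
    intro h
    rw [← map_mul, ← map_mul] at h
    have := congrArg Subtype.val (eN.injective h)
    exact hrd this
  have hcomm : ∀ g : G, g ∈ Subgroup.centralizer ({c} : Set G) ↔ c * g = g * c := by
    intro g
    rw [Subgroup.mem_centralizer_iff]
    constructor
    · intro h
      exact h c (Set.mem_singleton c)
    · intro h y hy
      rw [Set.mem_singleton_iff.1 hy]
      exact h
  rw [← hcomm]
  have hrZ : r ∈ Subgroup.centralizer ({c} : Set G) := (hcomm r).2 hcr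
  have hdZ : d ∈ Subgroup.centralizer ({c} : Set G) := (hcomm d).2 hcd
  obtain ⟨i, j, k, l, h⟩ := d8_words (eN ⟨r, hr⟩) (eN ⟨d, hd⟩) (eN ⟨n, hn⟩) hab
  rw [← map_pow, ← map_pow, ← map_pow, ← map_pow, ← map_mul, ← map_mul, ← map_mul] at h
  have h1 := congrArg Subtype.val (eN.injective h)
  have h2 : n = r ^ (i : ℕ) * d ^ (j : ℕ) * r ^ (k : ℕ) * d ^ (l : ℕ) := h1
  rw [h2]
  exact mul_mem (mul_mem (mul_mem (pow_mem hrZ _) (pow_mem hdZ _)) (pow_mem hrZ _))
    (pow_mem hdZ _)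

set_option maxHeartbeats 1600000 in
/-- `A ⧸ I ≅ S₄ × C_f`: `P/I ≅ D₈` (via `φ`), `[Γ : P] = f` with `Γ = P⟨x⟩`, `[A : Γ] = 3`,
`A = Γ ∪ τΓ ∪ rτΓ`; `x` commutes modulo `I` with `r, d ∈ P` and with `τ`; `t = τ r` has order
three modulo `I`, is inverted by `r`, and does not commute with `[d, r]` modulo `I`. -/
theorem out_s4_gen {A : Type*} [Group A] [Finite A] (I P Γ : Subgroup A) [I.Normal]
    (hIP : I ≤ P) (hPΓ : P ≤ Γ) (φ : ↥P →* DihedralGroup 4) (hφ : Function.Surjective φ)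
    (hker : φ.ker = I.subgroupOf P) (hΓ3 : Γ.index = 3) (f : ℕ) (hf : 1 ≤ f)
    (hrel : P.relIndex Γ = f) (x : A) (hxΓ : x ∈ Γ)
    (hgen : ∀ β ∈ Γ, ∃ i : ℕ, β * x ^ i ∈ P) (hord : ∀ j : ℕ, x ^ j ∈ P → f ∣ j)
    (hxf : x ^ f ∈ I) (r d τ : A) (hr : r ∈ P) (hd : d ∈ P) (hrr : r * r ∈ I)
    (hcos : ∀ α : A, α ∈ Γ ∨ τ⁻¹ * α ∈ Γ ∨ (r * τ)⁻¹ * α ∈ Γ)
    (hxr : x * r * x⁻¹ * r⁻¹ ∈ I) (hxd : x * d * x⁻¹ * d⁻¹ ∈ I) (hxτ : x * τ * x⁻¹ * τ⁻¹ ∈ I)
    (ht3 : (τ * r) * (τ * r) * (τ * r) ∈ I) (hrt : r * (τ * r) * r * (τ * r) ∈ I)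
    (hτΓ : τ ∉ Γ) (hrK : τ⁻¹ * r * τ ∉ Γ)
    (htz : (τ * r) * (d * r * d⁻¹ * r⁻¹) * (τ * r)⁻¹ * (d * r * d⁻¹ * r⁻¹)⁻¹ ∉ I) :
    Nonempty (A ⧸ I ≃* Equiv.Perm (Fin 4) × Multiplicative (ZMod f)) := by
  classical
  have hIΓ : I ≤ Γ := hIP.trans hPΓ
  set π : A →* A ⧸ I := QuotientGroup.mk' I with hπ
  have hπsurj : Function.Surjective π := QuotientGroup.mk'_surjective I
  have hπker : π.ker = I := QuotientGroup.ker_mk' I
  have hπ1 : ∀ a : A, π a = 1 ↔ a ∈ I := fun a => QuotientGroup.eq_one_iff a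
  -- the order
  have h8 : I.relIndex P = 8 := by
    unfold Subgroup.relIndex
    rw [← hker, Subgroup.index_ker, MonoidHom.range_eq_top.2 hφ, Subgroup.card_top,
      DihedralGroup.nat_card]
  have hidx : I.index = 24 * f := by
    rw [← Subgroup.relIndex_mul_index hIΓ, hΓ3, ← Subgroup.relIndex_mul_relIndex _ _ _ hIP hPΓ,
      h8, hrel]
    ring
  have hG : Nat.card (A ⧸ I) = 24 * f := by
    rw [← hidx]
    exact (Subgroup.index_eq_card _).symm
  -- the subgroups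
  set H : Subgroup (A ⧸ I) := Γ.map π with hH
  set N : Subgroup (A ⧸ I) := P.map π with hN
  have hHidx : H.index = 3 := by
    rw [hH, Subgroup.index_map_eq _ hπsurj (by rw [hπker]; exact hIΓ), hΓ3]
  have hNH : N ≤ H := Subgroup.map_mono hPΓ
  have hmemH : ∀ a : A, π a ∈ H ↔ a ∈ Γ := fun a => mem_map_mk_iff I Γ hIΓ a
  have hmemN : ∀ a : A, π a ∈ N ↔ a ∈ P := fun a => mem_map_mk_iff I P hIP a
  let eN : ↥N ≃* DihedralGroup 4 := mapEquiv I P φ hφ hker
  -- commutation in the quotient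
  have hcomm_of : ∀ a b : A, a * b * a⁻¹ * b⁻¹ ∈ I → π a * π b = π b * π a := by
    intro a b h
    have h1 := (hπ1 _).2 h
    rw [map_mul, map_mul, map_mul, map_inv, map_inv] at h1
    calc π a * π b = (π a * π b * (π a)⁻¹ * (π b)⁻¹) * π b * π a := by group
      _ = π b * π a := by rw [h1, one_mul]
  have hcr := hcomm_of x r hxr
  have hcd := hcomm_of x d hxd
  have hcτ := hcomm_of x τ hxτ
  -- `[d, r] ∉ I`
  have hz : d * r * d⁻¹ * r⁻¹ ∉ I := by
    intro h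
    apply htz
    have h1 := (inferInstance : I.Normal).conj_mem _ h (τ * r)
    exact I.mul_mem h1 (I.inv_mem h)
  have hrd : π r * π d ≠ π d * π r := by
    intro h
    apply hz
    rw [← hπ1, map_mul, map_mul, map_mul, map_inv, map_inv, ← h]
    group
  have hcN : ∀ n ∈ N, π x * n = n * π x :=
    d8_centralizer N eN (π x) (π r) (π d) ((hmemN r).2 hr) ((hmemN d).2 hd) hrd hcr hcd
  have hcH' : ∀ β ∈ Γ, π x * π β = π β * π x := by
    intro β hβ
    obtain ⟨i, hi⟩ := hgen β hβ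
    have h1 := hcN _ ((hmemN _).2 hi)
    rw [map_mul, map_pow] at h1
    have h2 : Commute (π x) (π β * π x ^ i) := h1
    have h3 : Commute (π x) (π x ^ i) := (Commute.refl (π x)).pow_right i
    have h4 : Commute (π x) (π β * π x ^ i * (π x ^ i)⁻¹) := h2.mul_right h3.inv_right
    rw [mul_inv_cancel_right] at h4
    exact h4
  have hcz : ∀ g : A ⧸ I, π x * g = g * π x := by
    intro g
    obtain ⟨α, rfl⟩ := hπsurj g
    rcases hcos α with h | h | h
    · exact hcH' α h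
    · have h1 : Commute (π x) (π τ) := hcτ
      have h2 : Commute (π x) (π (τ⁻¹ * α)) := hcH' _ h
      have h3 := h1.mul_right h2
      rw [← map_mul, mul_inv_cancel_left] at h3
      exact h3
    · have h1 : Commute (π x) (π r * π τ) := (show Commute (π x) (π r) from hcr).mul_right hcτ
      have h2 : Commute (π x) (π ((r * τ)⁻¹ * α)) := hcH' _ h
      have h3 := h1.mul_right h2
      rw [← map_mul, ← map_mul, mul_inv_cancel_left] at h3
      exact h3
  refine s4_prod_cyclic f hf hG H N hHidx hNH eN (π x) hcz ((hmemH x).2 hxΓ) ?_ ?_ ?_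
    (π r) (π d) (π (τ * r)) ((hmemN r).2 hr) ((hmemN d).2 hd) ?_ ?_ ?_ ?_ ?_ ?_
  · rw [← map_pow]; exact (hπ1 _).2 hxf
  · intro j hj
    rw [← map_pow] at hj
    exact hord j ((hmemN _).1 hj)
  · rintro h ⟨β, hβ, rfl⟩
    obtain ⟨i, hi⟩ := hgen β hβ
    refine ⟨i, ?_⟩
    rw [← map_pow, ← map_mul]
    exact (hmemN _).2 hi
  · rw [← map_mul]; exact (hπ1 _).2 hrr
  · rw [pow_three', ← map_mul, ← map_mul]; exact (hπ1 _).2 ht3
  · have h1 := (hπ1 _).2 hrt
    rw [map_mul] at h1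
    rw [← map_mul, ← map_mul]
    exact eq_inv_of_mul_eq_one_left h1
  · intro h
    rw [hmemH] at h
    apply hτΓ
    have := Γ.mul_mem h (Γ.inv_mem (hPΓ hr))
    rwa [mul_inv_cancel_right] at this
  · refine ⟨π τ⁻¹, ?_⟩
    intro h
    apply hrK
    rw [← map_mul, ← map_inv, ← map_mul, hmemH, inv_inv] at h
    exact h
  · intro h
    apply htz
    rw [← hπ1]
    simp only [map_mul, map_inv] at h ⊢
    set t := π τ * π r
    set z := π d * π r * (π d)⁻¹ * (π r)⁻¹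
    rw [h]
    group

end Cfsg.Agent.Helper87.OutD8
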