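import Mathlib
import Cfsg.Agent.Lib.Helper87.GlaubFunctor
import Cfsg.Agent.Lib.Helper87.ModelExists
import Cfsg.Agent.Lib.Helper85.Model

set_option autoImplicit false
set_option linter.style.haveILetI false
set_option linter.unusedSectionVars false
set_option linter.unusedVariables false

/-! # The Glauberman functor theorem for constrained systems -/

namespace Cfsg.Agent.Helper87.GlaubConstrained

open Cfsg Cfsg.FusionSystem Cfsg.Agent.Helper87 Cfsg.Agent.Helper85
  Cfsg.Agent.Helper87.GlaubFunctor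

universe u

variable {Ω : Type u} [Group Ω] {W : ∀ (Q : Type u) [Group Q], Subgroup Q}

/-- in a saturated system with a normal centric subgroup all of whose models are `Qd(p)`-free, `W` of the
underlying group is normal -/
theorem isNormal_of_constrained {p : ℕ} [Fact p.Prime] (hW : IsGlauberman p W) {T : Subgroup Ω}
    [Finite T] (hT : IsPGroup p T) {E : FusionSystem T} (hE : E.IsSaturated p) {R : Subgroup Ω}
    (hRn : E.IsNormal R) (hRc : E.IsCentric R)
    (hfree : ∀ (L : Type u) [Group L] (ι : T →* L), E.IsModel p L ι →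
      ¬ Cfsg.Involves ↥(Cfsg.qd p) L) : E.IsNormal (WW W T) := by
  obtain ⟨L, _, ι, hL, -⟩ :=
    Cfsg.Agent.Helper87.ModelExists.exists_model_centralizer hT hE hRn hRc
  haveI : Finite L := hL.1
  obtain ⟨P₀, hP₀⟩ := hL.2.2.1
  have hinj : Function.Injective ι := hL.2.1.1
  have hchar : Subgroup.centralizer ((Cfsg.pCore p L : Subgroup L) : Set L) =
      Cfsg.pCore p L ⊓ Subgroup.centralizer ((Cfsg.pCore p L : Subgroup L) : Set L) :=
    (inf_eq_right.2 hL.2.2.2).symm
  have hnorm := hW.h3 L P₀ hchar (hfree L ι hL)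
  -- the isomorphism `T ≃ P₀`
  let e : ↥T ≃* ↥(P₀ : Subgroup L) :=
    (MonoidHom.ofInjective hinj).trans (MulEquiv.subgroupCongr hP₀.symm)
  have he : ∀ x : T, ((e x : (P₀ : Subgroup L)) : L) = ι x := fun x => rfl
  have h2 := hW.h2 ↥T ↥(P₀ : Subgroup L) hT e
  have hmap : ((W ↥(P₀ : Subgroup L)).map (P₀ : Subgroup L).subtype : Subgroup L) =
      (W ↥T).map ι := by
    rw [← h2, Subgroup.map_map]
    congr 1
  rw [hmap] at hnorm
  haveI := hnorm
  have hle : (W ↥T).map ι ≤ ι.range := by
    rintro _ ⟨x, -, rfl⟩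
    exact ⟨x, rfl⟩
  have hres := realized_preimage_normal hL.2.1 ((W ↥T).map ι) hle
  have hpre : preimageAlong ι ((W ↥T).map ι) = WW W T := by
    ext x
    rw [mem_pre, mem_WW]
    constructor
    · rintro ⟨hx, hx'⟩
      rw [au_mem ι hx] at hx'
      obtain ⟨w, hw, hwx⟩ := hx'
      have := hinj hwx
      exact ⟨hx, this ▸ hw⟩
    · rintro ⟨hx, hxW⟩
      refine ⟨hx, ?_⟩
      rw [au_mem ι hx]
      exact ⟨⟨x, hx⟩, hxW, rfl⟩
  rwa [hpre] at hres

end Cfsg.Agent.Helper87.GlaubConstrained
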