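import Mathlib
import Cfsg.Agent.Lib.Helper87.GlaubFunctor
import Cfsg.Agent.Lib.Helper87.FusionAlperin
import Cfsg.Agent.S5096

set_option autoImplicit false
set_option linter.style.haveILetI false
set_option linter.unusedSectionVars false
set_option linter.unusedVariables false

/-! # Local control implies global control for a Glauberman functor

If `W(N_S(X))` is normal in `N_F(X)` for every nontrivial fully normalized `X`, then `W(S)` is
normal in `F` (Kessar-Linckelmann, after Glauberman and Alperin-Gorenstein). -/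

namespace Cfsg.Agent.Helper87.GlaubLocal

open Cfsg Cfsg.FusionSystem Cfsg.Agent.Helper87 Cfsg.Agent.Helper87.GlaubFunctor

universe u

variable {Ω : Type u} [Group Ω] {S : Subgroup Ω} {W : ∀ (Q : Type u) [Group Q], Subgroup Q}

/-- transport of goodness along a good map -/
theorem Good.conj [Finite S] {F : FusionSystem S} {Q₀ M A : Subgroup Ω} {φ γ γ' : Ω → Ω}
    (hQ₀ : Q₀ ≤ S) (hφ : Mor F M φ) (hφg : Good F Q₀ M φ) (hA : A ≤ M) (hγ : Mor F A γ)
    (hγM : ∀ x ∈ A, γ x ∈ M) (hγ' : Mor F (hφ.restrict hA).image γ')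
    (hcomm : ∀ a ∈ A, γ' (φ a) = φ (γ a)) (hg' : Good F Q₀ (hφ.restrict hA).image γ') :
    Good F Q₀ A γ := by
  have hφA : Mor F A φ := hφ.restrict hA
  have h1 : Good F Q₀ A φ := hφg.restrict hA
  have hB : hγ.image ≤ M := by
    rintro y ⟨x, hx, rfl⟩
    exact hγM x hx
  have hφB : Mor F hγ.image φ := hφ.restrict hB
  have hIB : Iso F hγ.image hφB.image φ := Iso.of_mor hφB
  obtain ⟨ψ, hψ, hψ1, hψ2⟩ := hIB.symm
  have hψg : Good F Q₀ hφB.image ψ := Good.symm hQ₀ hIB hψ.1 hψ1 (hφg.restrict hB)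
  have hm12 : Mor F A (fun x => γ' (φ x)) := hφA.comp hγ' (fun x hx => ⟨x, hx, rfl⟩)
  have hg12 : Good F Q₀ A (fun x => γ' (φ x)) :=
    Good.comp hφA hγ' (fun x hx => ⟨x, hx, rfl⟩) h1 hg'
  have hmaps : ∀ x ∈ A, γ' (φ x) ∈ hφB.image := by
    intro x hx
    rw [hcomm x hx]
    exact ⟨γ x, ⟨x, hx, rfl⟩, rfl⟩
  have h3 := Good.comp hm12 hψ.1 hmaps hg12 hψg
  refine h3.congr (fun x hx => ?_)
  show ψ (γ' (φ x)) = γ x
  rw [hcomm x hx, hψ1 (γ x) ⟨x, hx, rfl⟩]

/-- automorphisms of `S` are good -/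
theorem good_aut_top {p : ℕ} (hW : IsGlauberman p W) [Finite S] (hS : IsPGroup p S)
    {F : FusionSystem S} {α : MulAut S} (hα : α ∈ F.autGroup S) :
    Good F (WW W S) S (extAut α) := by
  have hm : Mor F S (extAut α) := (mem_autGroup_iff le_rfl).1 hα
  have hiso : Iso F S S (extAut α) := iso_of_mor_extAut hm
  refine ⟨extAut α, ?_, fun _ _ => rfl, fun x hx => WW_iso_mem hW hS hiso hx⟩
  rw [sup_eq_left.2 (WW_le W S)]
  exact hm

/-- the chain argument -/
theorem chain_good {p : ℕ} [Fact p.Prime] (hW : IsGlauberman p W) [Finite S] (hS : IsPGroup p S)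
    {F : FusionSystem S} (hF : F.IsSaturated p)
    (hloc : ∀ X : Subgroup Ω, F.IsFullyNormalized X → X ≠ ⊥ →
      ∀ NX : FusionSystem (normalizerIn S X), F.IsNormalizerSystem X NX →
        NX.IsNormal (WW W (normalizerIn S X)))
    (k : ℕ) (hk : 1 ≤ k)
    (IHA : ∀ (P' : Subgroup Ω) (f' : Ω → Ω), Mor F P' f' → k < Nat.card P' →
      Good F (WW W S) P' f') :
    ∀ n : ℕ, ∀ (N A : Subgroup Ω) (γ : Ω → Ω), Nat.card S - Nat.card N = n → N ≤ S →
      k < Nat.card N → A ≤ N → Mor F A γ → (∀ x ∈ A, γ x ∈ N) → WW W N ≤ A →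
      (∀ x ∈ WW W N, γ x ∈ WW W N) → Good F (WW W S) A γ := by
  intro n
  induction n using Nat.strong_induction_on with
  | _ n ih =>
    intro N A γ hn hN hkN hA hγ hγN hWA hγW
    by_cases hNS : N = S
    · subst hNS
      refine ⟨γ, ?_, fun _ _ => rfl, hγW⟩
      rw [sup_eq_left.2 hWA]
      exact hγ
    · haveI : Finite N := finite_of_le hN
      have hNp : IsPGroup p N := hS.to_le hN
      have hNne : N ≠ ⊥ := by
        intro h
        rw [h] at hkN
        simp at hkN
        omega
      have hXN : WW W N ≤ N := WW_le W N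
      have hXS : WW W N ≤ S := hXN.trans hN
      have hXne : WW W N ≠ ⊥ := WW_ne_bot hW hNp hNne
      have hNX : N ≤ normalizerIn S (WW W N) :=
        (le_normalizerIn hN).trans (normalizerIn_le_WW hW hS hN)
      obtain ⟨n₀, hn₀, hn₀N⟩ := exists_normalizer_not_mem hS hN hNS
      have hcard1 : Nat.card N < Nat.card (normalizerIn S (WW W N)) :=
        card_lt_of_not_mem hNX inf_le_left (normalizerIn_le_WW hW hS hN hn₀) hn₀N
      obtain ⟨X', hXX', hX'fn⟩ := exists_fullyNormalized_conj F hXS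
      obtain ⟨φ, hφ, hφX⟩ := exists_map_normalizer_to_fullyNormalized hS hF hX'fn hXX'
      have hφN' : ∀ x ∈ normalizerIn S (WW W N), φ x ∈ normalizerIn S X' :=
        fun x hx => map_normalizerIn hφ hφX hx
      have hcard2 : Nat.card (normalizerIn S (WW W N)) ≤ Nat.card (normalizerIn S X') :=
        card_le_of_mor hφ inf_le_left hφN'
      have hcard3 : Nat.card (normalizerIn S X') ≤ Nat.card S := card_normalizerIn_le X'
      have hX'ne : X' ≠ ⊥ := by
        intro h
        apply hXne
        rw [eq_bot_iff]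
        intro x hx
        have h1 : φ x ∈ X' := hφX.map_mem hx
        rw [h, Subgroup.mem_bot] at h1
        rw [Subgroup.mem_bot]
        have h2 : φ x = φ 1 := by rw [h1, hφ.map_one]
        exact hφ.inj (hNX (hXN hx)) (Subgroup.one_mem _) h2
      obtain ⟨NX', hNX'⟩ := Cfsg.Agent.S5096.result F X' hX'fn.1
      have hΘ := hloc X' hX'fn hX'ne NX' hNX'
      have hAX : A ≤ normalizerIn S (WW W N) := hA.trans hNX
      have hφA : Mor F A φ := hφ.restrict hAX
      have hφNm : Mor F N φ := hφ.restrict hNX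
      have hIA : Iso F A hφA.image φ := Iso.of_mor hφA
      obtain ⟨ψ, hψ, hψ1, hψ2⟩ := hIA.symm
      have hγ'm : Mor F hφA.image (fun y => φ (γ (ψ y))) :=
        (hψ.1.comp hγ (fun y hy => hψ.map_mem hy)).comp hφNm
          (fun y hy => hγN _ (hψ.map_mem hy))
      have hcomm : ∀ a ∈ A, (fun y => φ (γ (ψ y))) (φ a) = φ (γ a) := by
        intro a ha
        show φ (γ (ψ (φ a))) = φ (γ a)
        rw [hψ1 a ha]
      have hX'A' : X' ≤ hφA.image := by
        intro y hy
        obtain ⟨x, hx, rfl⟩ := hφX.surj hy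
        exact ⟨x, hWA hx, rfl⟩
      have hγ'X' : ∀ y ∈ X', (fun y => φ (γ (ψ y))) y ∈ X' := by
        intro y hy
        obtain ⟨x, hx, rfl⟩ := hφX.surj hy
        rw [hcomm x (hWA hx)]
        exact hφX.map_mem (hγW x hx)
      have hisoX' : Iso F X' X' (fun y => φ (γ (ψ y))) :=
        iso_of_card_le (hγ'm.restrict hX'A') hX'fn.1 hγ'X' le_rfl
      have hA'N' : hφA.image ≤ normalizerIn S X' := by
        rintro y ⟨a, ha, rfl⟩
        exact hφN' a (hAX ha)
      have hmorN' : Mor NX' hφA.image (fun y => φ (γ (ψ y))) := by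
        rw [mor_normalizerSystem_iff hNX']
        refine ⟨hγ'm, hA'N', ?_, fun y => φ (γ (ψ y)), ?_, fun _ _ => rfl, hisoX'.2⟩
        · intro y hy
          exact hφN' _ (hNX (hγN _ (hψ.map_mem hy)))
        · rw [sup_eq_left.2 hX'A']
          exact hγ'm
      obtain ⟨g, hg, e, hgQ⟩ := (isNormal_iff.1 hΘ).2 _ _ hmorN'
      have hgF : Mor F (hφA.image ⊔ WW W (normalizerIn S X')) g :=
        ((mor_normalizerSystem_iff hNX').1 hg).1
      have hgood'' : Good F (WW W S) (hφA.image ⊔ WW W (normalizerIn S X')) g := by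
        apply ih (Nat.card S - Nat.card (normalizerIn S X')) (by omega) (normalizerIn S X')
          (hφA.image ⊔ WW W (normalizerIn S X')) g rfl inf_le_left (by omega) hg.le hgF
          (fun x hx => hg.mem hx) le_sup_right
        intro x hx
        exact (hgQ _).2 ⟨x, hx, rfl⟩
      have hgood' : Good F (WW W S) hφA.image (fun y => φ (γ (ψ y))) :=
        (hgood''.restrict le_sup_left).congr e
      have hφgood : Good F (WW W S) N φ :=
        (IHA _ φ hφ (by omega)).restrict hNX
      exact Good.conj ((WW_le W S)) hφNm hφgood hA hγ hγN hγ'm hcomm hgood'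

/-- **Local control implies global control.** -/
theorem local_to_global {p : ℕ} [Fact p.Prime] (hW : IsGlauberman p W) [Finite S]
    (hS : IsPGroup p S) {F : FusionSystem S} (hF : F.IsSaturated p)
    (hloc : ∀ X : Subgroup Ω, F.IsFullyNormalized X → X ≠ ⊥ →
      ∀ NX : FusionSystem (normalizerIn S X), F.IsNormalizerSystem X NX →
        NX.IsNormal (WW W (normalizerIn S X))) :
    F.IsNormal (WW W S) := by
  apply isNormal_of_good (WW_le W S)
  apply alperin_strong hS hF (Good F (WW W S)) (alperinClosed_good F (WW W S))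
  intro R hRfn hRc hRr IHA α hα
  by_cases hRS : R = S
  · subst hRS
    exact good_aut_top hW hS hα
  · have hR : R ≤ S := hRfn.1
    haveI : Finite R := finite_of_le hR
    obtain ⟨n₀, hn₀, hn₀R⟩ := exists_normalizer_not_mem hS hR hRS
    have hcard : Nat.card R < Nat.card (normalizerIn S R) :=
      card_lt_of_not_mem (le_normalizerIn hR) inf_le_left hn₀ hn₀R
    have hRne : R ≠ ⊥ := by
      intro h
      apply hRS
      apply le_antisymm hR
      intro s hs
      have : s ∈ centralizerIn S R := by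
        refine ⟨hs, ?_⟩
        rw [h]
        show s ∈ Subgroup.centralizer ((⊥ : Subgroup Ω) : Set Ω)
        rw [Subgroup.mem_centralizer_iff]
        intro x hx
        have hx' : x = 1 := Subgroup.mem_bot.1 hx
        rw [hx']; simp
      exact hRc.2 R (isConj_refl hR) this
    obtain ⟨NR, hNR⟩ := Cfsg.Agent.S5096.result F R hR
    have hΘ := hloc R hRfn hRne NR hNR
    have hm : Mor F R (extAut α) := (mem_autGroup_iff hR).1 hα
    have hiso : Iso F R R (extAut α) := iso_of_mor_extAut hm
    have hmorN : Mor NR R (extAut α) := by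
      rw [mor_normalizerSystem_iff hNR]
      refine ⟨hm, le_normalizerIn hR, fun x hx => le_normalizerIn hR (hiso.map_mem hx),
        extAut α, ?_, fun _ _ => rfl, hiso.2⟩
      rw [sup_idem]
      exact hm
    obtain ⟨g, hg, e, hgQ⟩ := (isNormal_iff.1 hΘ).2 _ _ hmorN
    have hgF : Mor F (R ⊔ WW W (normalizerIn S R)) g := ((mor_normalizerSystem_iff hNR).1 hg).1
    have hk : 1 ≤ Nat.card R := Nat.card_pos
    have hgood := chain_good hW hS hF hloc (Nat.card R) hk IHA _ (normalizerIn S R)
      (R ⊔ WW W (normalizerIn S R)) g rfl inf_le_left hcard hg.le hgF (fun x hx => hg.mem hx)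
      le_sup_right (fun x hx => (hgQ _).2 ⟨x, hx, rfl⟩)
    exact (hgood.restrict le_sup_left).congr e

end Cfsg.Agent.Helper87.GlaubLocal
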