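import Mathlib
import Cfsg.Agent.Lib.Helper87.GlaubNormal

set_option autoImplicit false
set_option linter.style.haveILetI false
set_option linter.unusedSectionVars false
set_option linter.unusedVariables false

/-! # The automorphism step when `O_p(F)` is nontrivial and not centric -/

namespace Cfsg.Agent.Helper87.GlaubStep

open Cfsg Cfsg.FusionSystem Cfsg.Agent.Helper87 Cfsg.Agent.Helper85
  Cfsg.Agent.Helper87.GlaubFunctor Cfsg.Agent.Helper87.FactorPre Cfsg.Agent.Helper87.GlaubNormal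

universe u

variable {Ω : Type u} [Group Ω] {S : Subgroup Ω} {Ω' : Type*} [Group Ω'] {S' : Subgroup Ω'}
  [Finite S] {p : ℕ} [Fact p.Prime] {F : FusionSystem S} {Q : Subgroup Ω} {θ : S →* Ω'}
  {E : FusionSystem S'}

/-- the full preimage of a subgroup normal in the factor system is conjugate only to itself -/
theorem weaklyClosed_pre (hS : IsPGroup p S) (hF : F.IsSaturated p) (hQ : F.StronglyClosed Q)
    (hE : F.IsFactorSystem Q θ E) {V' : Subgroup Ω'} (hV' : E.IsNormal V') :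
    ∀ V₂, F.IsConj (preimageAlong θ V') V₂ → V₂ = preimageAlong θ V' := by
  intro V₂ hc
  haveI : Finite S' := Cfsg.Agent.Helper85.factor_finite hE
  have hrange : θ.range = S' := hE.2.2.1
  have hker : kerOf θ = Q := kerOf_eq_of_factor hE
  have hQV : Q ≤ preimageAlong θ V' := hker ▸ kerOf_le_pre θ V'
  obtain ⟨hQV₂, hc'⟩ := conj_of_conj hS hF hQ hE hQV hc
  rw [img_pre hrange hV'.1] at hc'
  have e := eq_of_isConj_of_isNormal hV' hc'
  rw [← e, pre_img (isConj_le hc).2 (hker.symm ▸ hQV₂)]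

/-- decomposition of an automorphism of a subgroup containing `Q`, modulo the normalizer system
of the preimage `V` of a subgroup normal in the factor system -/
theorem exists_decomp (hS : IsPGroup p S) (hF : F.IsSaturated p) (hQ : F.StronglyClosed Q)
    (hE : F.IsFactorSystem Q θ E) {V' : Subgroup Ω'} (hV' : E.IsNormal V')
    {FV : FusionSystem (normalizerIn S (preimageAlong θ V'))}
    (hFV : F.IsNormalizerSystem (preimageAlong θ V') FV)
    (hNV : normalizerIn S (preimageAlong θ V') = S) {Q₀ : Subgroup Ω} (hΘ : FV.IsNormal Q₀)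
    {R : Subgroup Ω} (hQR : Q ≤ R) {f : Ω → Ω} (hf : Iso F R R f) :
    ∃ h χ, Iso F R R h ∧ Good F Q₀ R h ∧ Iso F R R χ ∧ (∀ x ∈ R, f x = h (χ x)) ∧
      ∀ x ∈ R, x⁻¹ * χ x ∈ Q := by
  have hα := factor_surjectiveMorphism hS hF hQ hE
  have hrange : θ.range = S' := hE.2.2.1
  have hker : kerOf θ = Q := kerOf_eq_of_factor hE
  have hR : R ≤ S := hf.le_left
  have hpreR : preimageAlong θ (imageAlong θ R) = R := pre_img hR (hker.symm ▸ hQR)
  obtain ⟨fb, hfb, efb⟩ := descend hα.1 hf.mor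
  obtain ⟨gb, hgb, egb, hgbV⟩ := (isNormal_iff.1 hV').2 _ _ hfb
  obtain ⟨h, hh, ehh⟩ := lift hα hgb.le hgb
  have hR_le : R ≤ preimageAlong θ (imageAlong θ R ⊔ V') := by
    rw [← hpreR]
    rw [hpreR]
    intro x hx
    exact mem_pre.2 ⟨hR hx, (le_sup_left : imageAlong θ R ≤ _) (mem_img.2 ⟨x, hR hx, hx, rfl⟩)⟩
  have hV_le : preimageAlong θ V' ≤ preimageAlong θ (imageAlong θ R ⊔ V') :=
    preimageAlong_mono θ le_sup_right
  have hθh : ∀ x ∈ R, au θ (h x) = au θ (f x) := by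
    intro x hx
    rw [← ehh x (hR_le hx), egb _ (mem_img.2 ⟨x, hR hx, hx, rfl⟩), efb x hx]
  have hhR : ∀ x ∈ R, h x ∈ R := by
    intro x hx
    rw [← hpreR]
    refine mem_pre.2 ⟨hh.mem (hR_le hx), ?_⟩
    rw [hθh x hx]
    exact mem_img.2 ⟨f x, hR (hf.map_mem hx), hf.map_mem hx, rfl⟩
  have hhV : ∀ x ∈ preimageAlong θ V', h x ∈ preimageAlong θ V' := by
    intro x hx
    refine mem_pre.2 ⟨hh.mem (hV_le hx), ?_⟩
    rw [← ehh x (hV_le hx)]
    exact (hgbV _).2 ⟨au θ x, (mem_pre.1 hx).2, rfl⟩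
  have hIR : Iso F R R h := iso_of_card_le (hh.restrict hR_le) hR hhR le_rfl
  have hIV : Iso F (preimageAlong θ V') (preimageAlong θ V') h :=
    iso_of_card_le (hh.restrict hV_le) (preimageAlong_le θ V') hhV le_rfl
  have hmorFV : Mor FV R h := by
    rw [mor_normalizerSystem_iff hFV]
    exact ⟨hIR.mor, hNV.symm ▸ hR, fun x hx => hNV.symm ▸ hR (hhR x hx), h,
      hh.restrict (sup_le hR_le hV_le), fun _ _ => rfl, hIV.2⟩
  have hgood : Good F Q₀ R h := good_of_normalizerSystem hFV hΘ hmorFV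
  obtain ⟨ψ, hψ, hψ1, hψ2⟩ := hIR.symm
  have hχ : Iso F R R (fun x => ψ (f x)) := hf.comp hψ
  refine ⟨h, fun x => ψ (f x), hIR, hgood, hχ, fun x hx => (hψ2 _ (hf.map_mem hx)).symm,
    fun x hx => ?_⟩
  -- `χ x ≡ x` modulo `Q`
  have hχx : ψ (f x) ∈ R := hχ.map_mem hx
  have h1 : au θ (f x) = au θ (f (ψ (f x))) := by
    rw [← hθh _ hχx, hψ2 _ (hf.map_mem hx)]
  have h2 : (f x)⁻¹ * f (ψ (f x)) ∈ Q := by
    have := (au_eq_iff θ (hR (hf.map_mem hx)) (hR (hf.map_mem hχx))).1 h1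
    rwa [hker] at this
  have hz : x⁻¹ * ψ (f x) ∈ R := R.mul_mem (R.inv_mem hx) hχx
  have h3 : f (x⁻¹ * ψ (f x)) ∈ Q := by
    rw [hf.mor.map_mul (R.inv_mem hx) hχx, hf.mor.map_inv hx]
    exact h2
  obtain ⟨q, hq, hqe⟩ := Mor.surj_stronglyClosed hQ hf.mor hQR h3
  have : q = x⁻¹ * ψ (f x) := hf.mor.inj (hQR hq) hz hqe
  rw [← this]
  exact hq

/-- an automorphism of a radical subgroup `R ≥ Q` that is trivial modulo the strongly closed subgroup `Q`
extends over every element of `C_S(Q) ∩ N_S(R)` -/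
theorem mem_ext_of_trivial_mod (hS : IsPGroup p S) (hQ : F.StronglyClosed Q) {R : Subgroup Ω}
    (hRr : F.IsRadical p R) (hQR : Q ≤ R) {χ : Ω → Ω} (hχ : Iso F R R χ)
    (hmod : ∀ x ∈ R, x⁻¹ * χ x ∈ Q) {t : Ω} (htS : t ∈ S)
    (htQ : t ∈ Subgroup.centralizer (Q : Set Ω)) (htR : t ∈ Subgroup.normalizer (R : Set Ω)) :
    t ∈ hχ.ext := by
  have hR : R ≤ S := hRr.1
  have ha : (hχ.equiv : MulAut R) ∈ F.autGroup R := hχ.equiv_mem_autGroup
  have hc : conjAut R t htR ∈ F.autGroup R :=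
    autInducedBy_le_autGroup F hR (conjAut_mem_autInducedBy htS htR)
  set a : F.autGroup R := ⟨hχ.equiv, ha⟩ with ha_def
  set c : F.autGroup R := ⟨conjAut R t htR, hc⟩ with hc_def
  have haM : a ∈ modSub F Q R := fun x => hmod x x.2
  have hn : (modSub F Q R).Normal := modSub_normal hQ hR
  have hδM : a * (c * a⁻¹ * c⁻¹) ∈ modSub F Q R :=
    (modSub F Q R).mul_mem haM (hn.conj_mem _ ((modSub F Q R).inv_mem haM) c)
  -- the conjugation fixes `Q` pointwise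
  have hcQ : ∀ x : R, (x : Ω) ∈ Q → (c : MulAut R) x = x := by
    intro x hx
    apply Subtype.ext
    show t * (x : Ω) * t⁻¹ = x
    have := Subgroup.mem_centralizer_iff.1 htQ (x : Ω) hx
    rw [← this]; group
  have hcQ' : ∀ x : R, (x : Ω) ∈ Q → (c : MulAut R)⁻¹ x = x := by
    intro x hx
    have := hcQ x hx
    calc (c : MulAut R)⁻¹ x = (c : MulAut R)⁻¹ ((c : MulAut R) x) := by rw [this]
      _ = x := by simp
  have haQ' : ∀ x : R, (x : Ω) ∈ Q → ((((a : MulAut R)⁻¹ x : R)) : Ω) ∈ Q := by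
    intro x hx
    have h1 := (modSub F Q R).inv_mem haM x
    have h2 := Q.mul_mem hx h1
    rwa [mul_inv_cancel_left] at h2
  have hδfix : ∀ x : R, (x : Ω) ∈ Q → ((a * (c * a⁻¹ * c⁻¹) : F.autGroup R) : MulAut R) x = x := by
    intro x hx
    show (a : MulAut R) ((c : MulAut R) ((a : MulAut R)⁻¹ ((c : MulAut R)⁻¹ x))) = x
    rw [hcQ' x hx, hcQ _ (haQ' x hx)]
    simp
  have hδS : a * (c * a⁻¹ * c⁻¹) ∈ stabSub₁ F Q R := ⟨hδM, hδfix⟩
  have hδcore := stabSub₁_le_pCore hS hQ hR hδS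
  have hδInn : ((a * (c * a⁻¹ * c⁻¹) : F.autGroup R) : MulAut R) ∈ Inn R := by
    rw [← hRr.2]
    exact ⟨_, hδcore, rfl⟩
  obtain ⟨r, hr⟩ := hδInn
  refine ⟨htS, htR, (r : Ω) * t, S.mul_mem (hR r.2) htS, fun x hx => ?_⟩
  -- evaluate `δ` at `c (a x)`
  have h1 : ((a * (c * a⁻¹ * c⁻¹) : F.autGroup R) : MulAut R)
      ((c : MulAut R) ((a : MulAut R) ⟨x, hx⟩)) = (a : MulAut R) ((c : MulAut R) ⟨x, hx⟩) := by
    show (a : MulAut R) ((c : MulAut R) ((a : MulAut R)⁻¹ ((c : MulAut R)⁻¹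
      ((c : MulAut R) ((a : MulAut R) ⟨x, hx⟩))))) = _
    simp
  rw [← hr] at h1
  have h2 := congrArg (fun y : R => (y : Ω)) h1
  simp only [MulAut.conj_apply] at h2
  have h3 : (((a : MulAut R) ((c : MulAut R) ⟨x, hx⟩) : R) : Ω) = χ (t * x * t⁻¹) := rfl
  have h4 : ((((c : MulAut R) ((a : MulAut R) ⟨x, hx⟩)) : R) : Ω) = t * χ x * t⁻¹ := rfl
  rw [← h3, ← h2]
  simp only [Subgroup.coe_mul, Subgroup.coe_inv, h4]
  group

/-- goodness of an automorphism trivial modulo `Q`, when `C_S(Q) ∩ N_S(R)` is not inside `R` -/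
theorem good_of_trivial_mod (hS : IsPGroup p S) (hF : F.IsSaturated p) (hQ : F.StronglyClosed Q)
    {Q₀ : Subgroup Ω} {R : Subgroup Ω} (hRfn : F.IsFullyNormalized R) (hRr : F.IsRadical p R)
    (hQR : Q ≤ R)
    (IHA : ∀ (P' : Subgroup Ω) (f' : Ω → Ω), Mor F P' f' → Nat.card R < Nat.card P' →
      Good F Q₀ P' f')
    {χ : Ω → Ω} (hχ : Iso F R R χ) (hmod : ∀ x ∈ R, x⁻¹ * χ x ∈ Q) {t : Ω} (htS : t ∈ S)
    (htQ : t ∈ Subgroup.centralizer (Q : Set Ω)) (htR : t ∈ Subgroup.normalizer (R : Set Ω))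
    (htnR : t ∉ R) : Good F Q₀ R χ := by
  have ht := mem_ext_of_trivial_mod hS hQ hRr hQR hχ hmod htS htQ htR
  obtain ⟨g, hg, e⟩ := (isReceptive_iff.1 (receptive_of_fullyNormalized hS hF hRfn)).2 R χ hχ
  have hcard : Nat.card R < Nat.card hχ.ext :=
    card_lt_of_not_mem hχ.le_ext (hχ.ext_le_normalizerIn.trans inf_le_left) ht htnR
  exact ((IHA _ g hg hcard).restrict hχ.le_ext).congr e

end Cfsg.Agent.Helper87.GlaubStep
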