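import Mathlib
import Cfsg.Agent.Lib.Helper87.GlaubLocal
import Cfsg.Agent.Lib.Helper87.GlaubStep
import Cfsg.Agent.Lib.Helper87.GlaubConstrained
import Cfsg.Agent.Lib.Helper87.FusionCore
import Cfsg.Agent.Lib.Helper84.FusNorm
import Cfsg.Agent.Lib.Helper85.NormalizerSys
import Cfsg.Agent.S5096
import Cfsg.Agent.S5132
import Cfsg.Agent.S5240
import Cfsg.Agent.S5241

set_option autoImplicit false
set_option linter.style.haveILetI false
set_option linter.unusedSectionVars false
set_option linter.unusedVariables false

/-! # Glauberman's ZJ-theorem for fusion systems, functor form (Kessar-Linckelmann)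

For a Glauberman functor `W` and a saturated `Qd(p)`-free fusion system `F` over `S`, the subgroup
`W(S)` is normal in `F`. -/

namespace Cfsg.Agent.Helper87.GlaubMain

open Cfsg Cfsg.FusionSystem Cfsg.Agent.Helper87 Cfsg.Agent.Helper85
  Cfsg.Agent.Helper87.GlaubFunctor Cfsg.Agent.Helper87.FactorPre Cfsg.Agent.Helper87.GlaubNormal
  Cfsg.Agent.Helper87.GlaubStep

universe u

/-- the induction measure -/
noncomputable def mu {Ω : Type u} [Group Ω] {S : Subgroup Ω} (F : FusionSystem S) : ℕ :=
  Nat.card S * Nat.card S + (Nat.card S - Nat.card F.core)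

theorem mu_lt_of_card_lt {Ω : Type u} [Group Ω] {S : Subgroup Ω} {Ω' : Type u} [Group Ω']
    {S' : Subgroup Ω'} (F : FusionSystem S) (F' : FusionSystem S')
    (h : Nat.card S' < Nat.card S) : mu F' < mu F := by
  unfold mu
  have h1 : Nat.card S' - Nat.card F'.core ≤ Nat.card S' := Nat.sub_le _ _
  have h2 : Nat.card S' + 1 ≤ Nat.card S := h
  nlinarith

theorem mu_lt_of_core {Ω : Type u} [Group Ω] {S : Subgroup Ω} {Ω' : Type u} [Group Ω']
    {S' : Subgroup Ω'} [Finite S'] (F : FusionSystem S) (F' : FusionSystem S')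
    (h : Nat.card S' = Nat.card S) (hc : Nat.card F.core < Nat.card F'.core) : mu F' < mu F := by
  unfold mu
  have h1 : Nat.card F'.core ≤ Nat.card S' :=
    Subgroup.card_le_of_le (Cfsg.Agent.Helper87.ModelSolv.core_le F')
  rw [h]
  rw [h] at h1
  omega

/-- `C_S(Q)` is normalized by `S` when `Q` is -/
theorem le_normalizer_centralizerIn {Ω : Type u} [Group Ω] {S Q : Subgroup Ω}
    (hQ : S ≤ Subgroup.normalizer (Q : Set Ω)) :
    S ≤ Subgroup.normalizer ((centralizerIn S Q : Subgroup Ω) : Set Ω) := by
  have key : ∀ s ∈ S, ∀ c ∈ centralizerIn S Q, s * c * s⁻¹ ∈ centralizerIn S Q := by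
    rintro s hs c ⟨hcS, hcc⟩
    refine ⟨S.mul_mem (S.mul_mem hs hcS) (S.inv_mem hs), ?_⟩
    show s * c * s⁻¹ ∈ Subgroup.centralizer (Q : Set Ω)
    rw [Subgroup.mem_centralizer_iff]
    intro q hq
    have hq' : s⁻¹ * q * s ∈ Q := by
      have := (Subgroup.mem_normalizer_iff.1 (Subgroup.inv_mem _ (hQ hs)) q).1 hq
      simpa using this
    have h1 := Subgroup.mem_centralizer_iff.1 hcc _ hq'
    have e1 : q * (s * c * s⁻¹) = s * ((s⁻¹ * q * s) * c) * s⁻¹ := by group
    have e2 : s * c * s⁻¹ * q = s * (c * (s⁻¹ * q * s)) * s⁻¹ := by group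
    rw [e1, e2, h1]
  intro s hs
  rw [Subgroup.mem_normalizer_iff]
  intro c
  constructor
  · exact key s hs c
  · intro h
    have := key s⁻¹ (S.inv_mem hs) _ h
    have e : s⁻¹ * (s * c * s⁻¹) * s⁻¹⁻¹ = c := by group
    rwa [e] at this

/-- **Glauberman's ZJ-theorem for fusion systems, functor form.** -/
theorem main {p : ℕ} [Fact p.Prime] {W : ∀ (Q : Type u) [Group Q], Subgroup Q}
    (hW : IsGlauberman p W) :
    ∀ n : ℕ, ∀ (Ω : Type u) [Group Ω] (S : Subgroup Ω) [Finite S] (F : FusionSystem S),
      mu F = n → IsPGroup p S → F.IsSaturated p → F.IsSectionFree p ↥(Cfsg.qd p) →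
      F.IsNormal (WW W S) := by
  intro n
  induction n using Nat.strong_induction_on with
  | _ n ih =>
    intro Ω _ S _ F hn hS hF hfree
    have hQ : F.IsNormal F.core := isNormal_core F
    have hQs : F.StronglyClosed F.core := stronglyClosed_of_isNormal hQ
    have hQS : F.core ≤ S := hQ.1
    haveI : Finite F.core := finite_of_le hQS
    -- normalizer systems of smaller measure
    have key : ∀ X : Subgroup Ω, F.IsFullyNormalized X → Nat.card F.core < Nat.card X →
        ∀ NX : FusionSystem (normalizerIn S X), F.IsNormalizerSystem X NX →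
          NX.IsNormal (WW W (normalizerIn S X)) := by
      intro X hXfn hlt NX hNX
      haveI : Finite ↥(normalizerIn S X) := finite_of_le (inf_le_left : normalizerIn S X ≤ S)
      have hsat := Cfsg.Agent.Helper84.normalizerSystem_saturated F hS hF hXfn NX hNX
      have hfreeN := Cfsg.Agent.S5240.result p hS F hF hfree X hXfn NX hNX
      apply ih (mu NX) _ Ω (normalizerIn S X) NX rfl
        (hS.to_le (inf_le_left : normalizerIn S X ≤ S)) hsat hfreeN
      rw [← hn]
      by_cases h : Nat.card (normalizerIn S X) < Nat.card S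
      · exact mu_lt_of_card_lt F NX h
      · have hc : Nat.card (normalizerIn S X) = Nat.card S :=
          le_antisymm (card_normalizerIn_le X) (not_lt.1 h)
        apply mu_lt_of_core F NX hc
        have hXn : NX.IsNormal X := normalizerSystem_isNormal hXfn.1 hNX
        have hle : X ≤ NX.core := le_core hXn
        haveI : Finite NX.core := finite_of_le (Cfsg.Agent.Helper87.ModelSolv.core_le NX)
        exact lt_of_lt_of_le hlt (Subgroup.card_le_of_le hle)
    by_cases hQbot : F.core = ⊥
    · -- trivial core: local control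
      apply Cfsg.Agent.Helper87.GlaubLocal.local_to_global hW hS hF
      intro X hXfn hXne NX hNX
      apply key X hXfn _ NX hNX
      haveI : Finite X := finite_of_le hXfn.1
      rw [hQbot, Subgroup.card_bot]
      exact (Subgroup.one_lt_card_iff_ne_bot X).2 hXne
    · have hwc : ∀ X₂, F.IsConj F.core X₂ → X₂ = F.core :=
        fun X₂ hc => eq_of_isConj_of_isNormal hQ hc
      obtain ⟨hQfn, hNS⟩ := fn_of_weaklyClosed hQS hwc
      by_cases hcen : centralizerIn S F.core ≤ F.core
      · -- centric core: the constrained case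
        have hQc : F.IsCentric F.core := ⟨hQS, fun Q₂ hc => by rw [hwc Q₂ hc]; exact hcen⟩
        obtain ⟨NQ, hNQ⟩ := Cfsg.Agent.S5096.result F F.core hQS
        haveI : Finite ↥(normalizerIn S F.core) :=
          finite_of_le (inf_le_left : normalizerIn S F.core ≤ S)
        have hsat := Cfsg.Agent.Helper84.normalizerSystem_saturated F hS hF hQfn NQ hNQ
        have hΘ : NQ.IsNormal (WW W (normalizerIn S F.core)) :=
          Cfsg.Agent.Helper87.GlaubConstrained.isNormal_of_constrained
            (T := normalizerIn S F.core) hW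
            (hS.to_le (inf_le_left : normalizerIn S F.core ≤ S)) hsat
            (normalizerSystem_isNormal hQS hNQ) (normalizerSystem_isCentric hQc hNQ)
            (fun L _ ι hL => hfree F.core hQfn hQc NQ hNQ L ι hL)
        rw [congrArg (WW W) hNS] at hΘ
        apply isNormal_of_good (WW_le W S)
        intro P f hf
        exact good_of_normalizerSystem hNQ hΘ (mor_normalizerSystem_of_isNormal hQ hNQ hf)
      · -- the remaining case
        have hSn : S ≤ Subgroup.normalizer ((F.core : Subgroup Ω) : Set Ω) :=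
          stronglyClosed_le_normalizer hQs
        haveI : (F.core.subgroupOf S).Normal := Subgroup.normal_subgroupOf_of_le_normalizer hSn
        obtain ⟨E, hE⟩ := Cfsg.Agent.S5132.result p hS F F.core hQs
        have hrange : (QuotientGroup.mk' (F.core.subgroupOf S)).range = ⊤ := hE.2.2.1
        have hker : kerOf (QuotientGroup.mk' (F.core.subgroupOf S)) = F.core :=
          kerOf_eq_of_factor hE
        haveI : Finite ↥(⊤ : Subgroup (↥S ⧸ F.core.subgroupOf S)) :=
          Cfsg.Agent.Helper85.factor_finite hE
        have hS' : IsPGroup p ↥(⊤ : Subgroup (↥S ⧸ F.core.subgroupOf S)) := factor_isPGroup hS hE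
        have hEsat := factor_saturated hS hF hQs hE
        have hEfree := Cfsg.Agent.S5241.result p hS F hF F.core hQ hfree _ E hE
        have hpretop : preimageAlong (QuotientGroup.mk' (F.core.subgroupOf S)) ⊤ = S := by
          ext x
          rw [mem_pre]
          exact ⟨fun h => h.1, fun h => ⟨h, Subgroup.mem_top _⟩⟩
        have hcardS' : Nat.card ↥(⊤ : Subgroup (↥S ⧸ F.core.subgroupOf S)) < Nat.card S := by
          have h1 := card_pre hrange (A' := (⊤ : Subgroup (↥S ⧸ F.core.subgroupOf S))) le_rfl
          rw [hpretop, hker] at h1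
          have h2 : 1 < Nat.card F.core := (Subgroup.one_lt_card_iff_ne_bot F.core).2 hQbot
          have h3 : 0 < Nat.card ↥(⊤ : Subgroup (↥S ⧸ F.core.subgroupOf S)) := Nat.card_pos
          rw [h1]
          nlinarith
        have hΘE : E.IsNormal (WW W ⊤) :=
          ih (mu E) (by rw [← hn]; exact mu_lt_of_card_lt F E hcardS') _ ⊤ E rfl hS' hEsat hEfree
        -- the preimage `V`
        have hVwc := weaklyClosed_pre hS hF hQs hE hΘE
        have hVS : preimageAlong (QuotientGroup.mk' (F.core.subgroupOf S)) (WW W ⊤) ≤ S :=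
          preimageAlong_le _ _
        obtain ⟨hVfn, hNV⟩ := fn_of_weaklyClosed hVS hVwc
        obtain ⟨FV, hFV⟩ := Cfsg.Agent.S5096.result F _ hVS
        have hQV : F.core ≤ preimageAlong (QuotientGroup.mk' (F.core.subgroupOf S)) (WW W ⊤) := by
          have := kerOf_le_pre (QuotientGroup.mk' (F.core.subgroupOf S)) (WW W ⊤)
          rwa [hker] at this
        have hQneS : ¬ S ≤ F.core := fun h => hcen (inf_le_left.trans h)
        have htopne : (⊤ : Subgroup (↥S ⧸ F.core.subgroupOf S)) ≠ ⊥ := by
          intro h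
          apply hQneS
          intro s hs
          have h1 : (QuotientGroup.mk' (F.core.subgroupOf S)) ⟨s, hs⟩ ∈
              (⊤ : Subgroup (↥S ⧸ F.core.subgroupOf S)) := Subgroup.mem_top _
          rw [h, Subgroup.mem_bot] at h1
          exact (hE.2.1 ⟨s, hs⟩).1 h1
        have hWne : WW W (⊤ : Subgroup (↥S ⧸ F.core.subgroupOf S)) ≠ ⊥ :=
          WW_ne_bot hW hS' htopne
        have hVnle : ¬ preimageAlong (QuotientGroup.mk' (F.core.subgroupOf S)) (WW W ⊤) ≤
            F.core := by
          intro hle
          apply hWne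
          rw [eq_bot_iff]
          intro y hy
          obtain ⟨v, hvS, rfl⟩ := exists_au_eq hrange (Subgroup.mem_top y)
          have hv : v ∈ preimageAlong (QuotientGroup.mk' (F.core.subgroupOf S)) (WW W ⊤) :=
            mem_pre.2 ⟨hvS, hy⟩
          have hvQ : v ∈ kerOf (QuotientGroup.mk' (F.core.subgroupOf S)) := by
            rw [hker]; exact hle hv
          rw [Subgroup.mem_bot]
          exact (mem_kerOf.1 hvQ).2
        obtain ⟨v, hv, hvQ⟩ := SetLike.not_le_iff_exists.1 hVnle
        have hcardV : Nat.card F.core <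
            Nat.card (preimageAlong (QuotientGroup.mk' (F.core.subgroupOf S)) (WW W ⊤)) :=
          card_lt_of_not_mem hQV hVS hv hvQ
        have hΘV := key _ hVfn hcardV FV hFV
        rw [congrArg (WW W) hNV] at hΘV
        -- the subgroup `Q C_S(Q)`
        have hR₀wc := weaklyClosed_sup_centralizer hQs
        have hR₀S : F.core ⊔ centralizerIn S F.core ≤ S := sup_le hQS inf_le_left
        obtain ⟨hR₀fn, hNR₀⟩ := fn_of_weaklyClosed hR₀S hR₀wc
        obtain ⟨F₀, hF₀⟩ := Cfsg.Agent.S5096.result F _ hR₀S
        obtain ⟨c, hc, hcQ⟩ := SetLike.not_le_iff_exists.1 hcen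
        have hcardR₀ : Nat.card F.core < Nat.card ↥(F.core ⊔ centralizerIn S F.core) :=
          card_lt_of_not_mem le_sup_left hR₀S
            ((le_sup_right : centralizerIn S F.core ≤ F.core ⊔ centralizerIn S F.core) hc) hcQ
        have hΘ₀ := key _ hR₀fn hcardR₀ F₀ hF₀
        rw [congrArg (WW W) hNR₀] at hΘ₀
        -- Alperin's theorem
        apply isNormal_of_good (WW_le W S)
        apply alperin_strong hS hF (Good F (WW W S)) (alperinClosed_good F (WW W S))
        intro R hRfn hRc hRr IHA α hα
        have hR : R ≤ S := hRfn.1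
        have hm : Mor F R (extAut α) := (mem_autGroup_iff hR).1 hα
        have hiso : Iso F R R (extAut α) := iso_of_mor_extAut hm
        have hQR : F.core ≤ R := le_of_isNormal_centric_radical hS hQ hRc hRr
        by_cases hii : normalizerIn S R ⊓ centralizerIn S F.core ≤ R
        · have hCR : centralizerIn S F.core ≤ R :=
            le_of_normalizerIn_inf_le hS hR inf_le_left (le_normalizer_centralizerIn hSn) hii
          have hR₀R : F.core ⊔ centralizerIn S F.core ≤ R := sup_le hQR hCR
          exact good_of_normalizerSystem hF₀ hΘ₀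
            (mor_normalizerSystem_of_weaklyClosed hR₀wc hNR₀ hF₀ hR₀R hm)
        · obtain ⟨t, ⟨htN, htC⟩, htR⟩ := SetLike.not_le_iff_exists.1 hii
          obtain ⟨h, χ, hIh, hgh, hIχ, hfac, hmod⟩ :=
            exists_decomp hS hF hQs hE hΘE hFV hNV hΘV hQR hiso
          have hgχ := good_of_trivial_mod hS hF hQs hRfn hRr hQR IHA hIχ hmod htN.1 htC.2
            htN.2 htR
          exact (Good.comp hIχ.mor hIh.mor (fun x hx => hIχ.map_mem hx) hgχ hgh).congr
            (fun x hx => (hfac x hx).symm)

end Cfsg.Agent.Helper87.GlaubMain
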