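import Mathlib
import Cfsg.Prelude.Def_FusionSystem
import Cfsg.Agent.Lib.Helper87.CentralFused
import Cfsg.Agent.Lib.Helper87.FusionAlperin

set_option autoImplicit false

namespace Cfsg.Agent.Helper87

open Cfsg Cfsg.FusionSystem

variable {Ω : Type*} [Group Ω] {S : Subgroup Ω} {F : FusionSystem S}

/-- the normalizer of `M` normalizes the centre of `M` -/
theorem normalizer_le_normalizer_zS (M : Subgroup Ω) :
    Subgroup.normalizer (M : Set Ω) ≤ Subgroup.normalizer ((zS M : Subgroup Ω) : Set Ω) := by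
  apply le_normalizer_of_forall
  intro n hn v hv
  rw [mem_zS] at hv ⊢
  refine ⟨(Subgroup.mem_normalizer_iff.1 hn v).1 hv.1, fun s hs => ?_⟩
  have hs' : n⁻¹ * s * n⁻¹⁻¹ ∈ M :=
    (Subgroup.mem_normalizer_iff.1 (Subgroup.inv_mem _ hn) s).1 hs
  have h1 := hv.2 _ hs'
  calc s * (n * v * n⁻¹) = n * ((n⁻¹ * s * n⁻¹⁻¹) * v) * n⁻¹ := by group
    _ = n * (v * (n⁻¹ * s * n⁻¹⁻¹)) * n⁻¹ := by rw [h1]
    _ = n * v * n⁻¹ * s := by group

/-- an isomorphism of the system carries centre to centre -/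
theorem Iso.zS {M M' : Subgroup Ω} {f : Ω → Ω} (h : Iso F M M' f) : Iso F (zS M) (zS M') f := by
  refine ⟨h.1.restrict (zS_le M), fun y => ⟨fun hy => ?_, ?_⟩⟩
  · obtain ⟨hyM, hyc⟩ := mem_zS.1 hy
    obtain ⟨u, hu, rfl⟩ := h.surj hyM
    refine ⟨u, mem_zS.2 ⟨hu, fun s hs => ?_⟩, rfl⟩
    apply h.1.inj (M.mul_mem hs hu) (M.mul_mem hu hs)
    rw [h.1.map_mul hs hu, h.1.map_mul hu hs]
    exact hyc _ (h.map_mem hs)
  · rintro ⟨v, hv, rfl⟩
    obtain ⟨hvM, hvc⟩ := mem_zS.1 hv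
    refine mem_zS.2 ⟨h.map_mem hvM, fun s' hs' => ?_⟩
    obtain ⟨s, hs, rfl⟩ := h.surj hs'
    rw [← h.1.map_mul hs hvM, ← h.1.map_mul hvM hs, hvc s hs]

/-- `C_S(x)` -/
def cS (S : Subgroup Ω) (x : Ω) : Subgroup Ω := S ⊓ Subgroup.centralizer {x}

theorem mem_cS {x s : Ω} : s ∈ cS S x ↔ s ∈ S ∧ x * s = s * x := mem_inf_centralizer_singleton

theorem cS_le (S : Subgroup Ω) (x : Ω) : cS S x ≤ S := inf_le_left

/-- `Z(C_S(x))` -/
def vS (S : Subgroup Ω) (x : Ω) : Subgroup Ω := zS (cS S x)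

theorem vS_le_cS (S : Subgroup Ω) (x : Ω) : vS S x ≤ cS S x := zS_le _

theorem vS_le (S : Subgroup Ω) (x : Ω) : vS S x ≤ S := (vS_le_cS S x).trans (cS_le S x)

theorem vS_comm {x v w : Ω} (hv : v ∈ vS S x) (hw : w ∈ vS S x) : v * w = w * v :=
  ((mem_zS.1 hw).2 v (vS_le_cS S x hv))

theorem zS_le_vS {x : Ω} (hx : x ∈ S) : zS S ≤ vS S x := by
  intro z hz
  obtain ⟨hzS, hzc⟩ := mem_zS.1 hz
  exact mem_zS.2 ⟨mem_cS.2 ⟨hzS, hzc x hx⟩, fun s hs => hzc s (cS_le S x hs)⟩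

theorem self_mem_cS {x : Ω} (hx : x ∈ S) : x ∈ cS S x := mem_cS.2 ⟨hx, rfl⟩

theorem self_mem_vS {x : Ω} (hx : x ∈ S) : x ∈ vS S x :=
  mem_zS.2 ⟨self_mem_cS hx, fun s hs => ((mem_cS.1 hs).2).symm⟩

theorem cS_le_normalizerIn_vS (x : Ω) : cS S x ≤ normalizerIn S (vS S x) := by
  intro u hu
  exact ⟨cS_le S x hu, normalizer_le_normalizer_zS _ (Subgroup.le_normalizer hu)⟩

theorem normalizerIn_cS_le (x : Ω) :
    normalizerIn S (cS S x) ≤ normalizerIn S (vS S x) :=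
  fun _ hn => ⟨hn.1, normalizer_le_normalizer_zS _ hn.2⟩

/-- `x` is a noncentral element of `S` with centralizer of largest order -/
structure MaxCent (S : Subgroup Ω) (x : Ω) : Prop where
  mem : x ∈ S
  not_mem : x ∉ zS S
  max : ∀ y ∈ S, y ∉ zS S → Nat.card (cS S y) ≤ Nat.card (cS S x)

variable [Finite S]

theorem exists_maxCent (hne : ∃ x ∈ S, x ∉ zS S) : ∃ x, MaxCent S x := by
  classical
  obtain ⟨x₀, hx₀, hx₀Z⟩ := hne
  have hfin : Finite {y : S // (y : Ω) ∉ zS S} := Subtype.finite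
  haveI : Nonempty {y : S // (y : Ω) ∉ zS S} := ⟨⟨⟨x₀, hx₀⟩, hx₀Z⟩⟩
  obtain ⟨y, hy⟩ := Finite.exists_max (fun y : {y : S // (y : Ω) ∉ zS S} => Nat.card (cS S (y.1 : Ω)))
  exact ⟨y.1, y.1.2, y.2, fun t ht htZ => hy ⟨⟨t, ht⟩, htZ⟩⟩

namespace MaxCent

variable {x : Ω}

theorem cS_eq (hm : MaxCent S x) {v : Ω} (hv : v ∈ vS S x) (hvZ : v ∉ zS S) :
    cS S v = cS S x := by
  haveI : Finite (cS S v) := finite_of_le (cS_le S v)
  have hle : cS S x ≤ cS S v := by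
    intro u hu
    exact mem_cS.2 ⟨cS_le S x hu, ((mem_zS.1 hv).2 u hu).symm⟩
  exact (Subgroup.eq_of_le_of_card_ge hle (hm.max v (vS_le S x hv) hvZ)).symm

theorem mem_zS_of_commute (hm : MaxCent S x) {v s : Ω} (hv : v ∈ vS S x) (hs : s ∈ S)
    (hsM : s ∉ cS S x) (hsv : v * s = s * v) : v ∈ zS S := by
  by_contra hvZ
  apply hsM
  rw [← hm.cS_eq hv hvZ]
  exact mem_cS.2 ⟨hs, hsv⟩

theorem cS_ne (hm : MaxCent S x) : cS S x ≠ S := by
  intro h
  apply hm.not_mem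
  rw [mem_zS]
  refine ⟨hm.mem, fun s hs => ?_⟩
  have : s ∈ cS S x := by rw [h]; exact hs
  exact ((mem_cS.1 this).2).symm

theorem exists_normalizer {p : ℕ} [Fact p.Prime] (hm : MaxCent S x) (hS : IsPGroup p S) :
    ∃ n ∈ normalizerIn S (vS S x), n ∉ cS S x := by
  obtain ⟨n, hn, hnM⟩ := exists_normalizer_not_mem hS (cS_le S x) hm.cS_ne
  exact ⟨n, normalizerIn_cS_le x hn, hnM⟩

/-- an element of `N_S(V) ∖ M` whose square lies in `M` -/
theorem exists_sq_mem (hm : MaxCent S x) (hS : IsPGroup 2 S) :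
    ∃ n ∈ normalizerIn S (vS S x), n ∉ cS S x ∧ n ^ 2 ∈ cS S x := by
  obtain ⟨n₀, hn₀, hn₀M⟩ := hm.exists_normalizer hS
  by_contra hcon
  push Not at hcon
  have key : ∀ k : ℕ, n₀ ^ 2 ^ k ∈ normalizerIn S (vS S x) ∧ n₀ ^ 2 ^ k ∉ cS S x := by
    intro k
    induction k with
    | zero => simpa using ⟨hn₀, hn₀M⟩
    | succ k ih =>
      have e : n₀ ^ 2 ^ (k + 1) = (n₀ ^ 2 ^ k) ^ 2 := by rw [pow_succ, pow_mul]
      rw [e]
      exact ⟨Subgroup.pow_mem _ ih.1 2, hcon _ ih.1 ih.2⟩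
  obtain ⟨a, ha⟩ := IsPGroup.iff_card.1 hS
  have h1 : (⟨n₀, hn₀.1⟩ : S) ^ Nat.card S = 1 := pow_card_eq_one'
  have h2 : n₀ ^ 2 ^ a = 1 := by
    have := congrArg Subtype.val h1
    rw [ha] at this
    simpa using this
  apply (key a).2
  rw [h2]
  exact Subgroup.one_mem _

end MaxCent

section Fusion

variable {p : ℕ} [hp : Fact p.Prime]

/-- a maximal centralizer whose centre is fully automized and receptive -/
theorem exists_good (hS : IsPGroup p S) (hF : F.IsSaturated p) {x₀ : Ω} (hm : MaxCent S x₀) :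
    ∃ x, MaxCent S x ∧ F.IsFullyAutomized p (vS S x) ∧ F.IsReceptive (vS S x) := by
  obtain ⟨Q, hconj, hfa, hrec⟩ := hF (vS S x₀) (vS_le S x₀)
  obtain ⟨f, hf⟩ := isConj_iff.1 hconj
  obtain ⟨χ, hχ, hχiso⟩ := exists_extension_to_normalizer hS hfa hrec hf
  have hx₀N : x₀ ∈ normalizerIn S (vS S x₀) := cS_le_normalizerIn_vS x₀ (self_mem_cS hm.mem)
  have hMN : cS S x₀ ≤ normalizerIn S (vS S x₀) := cS_le_normalizerIn_vS x₀
  have hxS : χ x₀ ∈ S := hχ.mem hx₀N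
  -- commutation is reflected
  have hcomm : ∀ a ∈ normalizerIn S (vS S x₀), ∀ b ∈ normalizerIn S (vS S x₀),
      χ a * χ b = χ b * χ a → a * b = b * a := by
    intro a ha b hb hab
    apply hχ.inj (Subgroup.mul_mem _ ha hb) (Subgroup.mul_mem _ hb ha)
    rw [hχ.map_mul ha hb, hχ.map_mul hb ha, hab]
  have hcomm' : ∀ a ∈ normalizerIn S (vS S x₀), ∀ b ∈ normalizerIn S (vS S x₀),
      a * b = b * a → χ a * χ b = χ b * χ a := by
    intro a ha b hb hab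
    rw [← hχ.map_mul ha hb, ← hχ.map_mul hb ha, hab]
  have hxZ : χ x₀ ∉ zS S := by
    intro hz
    obtain ⟨n, hn, hnM⟩ := hm.exists_normalizer hS
    apply hnM
    refine mem_cS.2 ⟨hn.1, ?_⟩
    apply hcomm x₀ hx₀N n hn
    exact ((mem_zS.1 hz).2 _ (hχ.mem hn)).symm
  have himg : ∀ u ∈ cS S x₀, χ u ∈ cS S (χ x₀) := by
    intro u hu
    exact mem_cS.2 ⟨hχ.mem (hMN hu), hcomm' x₀ hx₀N u (hMN hu) (mem_cS.1 hu).2⟩
  haveI : Finite (cS S (χ x₀)) := finite_of_le (cS_le S _)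
  haveI : Finite (cS S x₀) := finite_of_le (cS_le S _)
  have hle : Nat.card (cS S x₀) ≤ Nat.card (cS S (χ x₀)) := by
    apply Nat.card_le_card_of_injective (fun u : cS S x₀ => (⟨χ u, himg u u.2⟩ : cS S (χ x₀)))
    intro a b hab
    exact Subtype.ext (hχ.inj (hMN a.2) (hMN b.2) (congrArg Subtype.val hab))
  have hMiso : Iso F (cS S x₀) (cS S (χ x₀)) χ :=
    iso_of_card_le (hχ.restrict hMN) (cS_le S _) himg (hm.max _ hxS hxZ)
  have hVeq : vS S (χ x₀) = Q := hMiso.zS.eq_of_iso hχiso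
  refine ⟨χ x₀, ⟨hxS, hxZ, fun y hy hyZ => (hm.max y hy hyZ).trans hle⟩, ?_, ?_⟩
  · rw [hVeq]; exact hfa
  · rw [hVeq]; exact hrec

/-- every element of `V = Z(C_S(x))` is carried into `Z(S)` by an automorphism of `V` in the
system -/
theorem MaxCent.exists_aut_to_center (hS : IsPGroup p S) (hF : F.IsSaturated p)
    (hyp : ∀ x ∈ S, ∃ z ∈ zS S, F.IsConjElt x z) {x : Ω} (hm : MaxCent S x)
    (hfa : F.IsFullyAutomized p (vS S x)) (hrec : F.IsReceptive (vS S x)) {v : Ω}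
    (hv : v ∈ vS S x) : ∃ α, Iso F (vS S x) (vS S x) α ∧ α v ∈ zS S := by
  by_cases hvZ : v ∈ zS S
  · exact ⟨fun y => y, Iso.refl (vS_le S x), hvZ⟩
  obtain ⟨z, hz, hc⟩ := hyp v (vS_le S x hv)
  obtain ⟨f, hf, hfv⟩ := exists_mor_centralizer hS hF hz hc
  have hf' : Mor F (cS S x) f := by
    have : cS S v = S ⊓ Subgroup.centralizer {v} := rfl
    rw [← this, hm.cS_eq hv hvZ] at hf
    exact hf
  have hMiso := Iso.of_mor hf'
  have hViso := hMiso.zS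
  obtain ⟨g₀, hg₀, -, -⟩ := hViso.symm
  obtain ⟨ρ, hρ, hρiso⟩ := exists_extension_to_normalizer hS hfa hrec hg₀
  refine ⟨fun y => ρ (f y), hViso.comp hρiso, ?_⟩
  show ρ (f v) ∈ zS S
  rw [hfv]
  by_contra hρz
  have hzV'' : z ∈ zS hf'.image := by rw [← hfv]; exact hViso.map_mem hv
  have hρzV : ρ z ∈ vS S x := hρiso.map_mem hzV''
  have hcS := hm.cS_eq hρzV hρz
  have hV''S : zS hf'.image ≤ S := hViso.le_right
  have hzN : z ∈ normalizerIn S (zS hf'.image) := le_normalizerIn hV''S hzV''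
  -- `ρ` embeds `N_S(V'')` into `C_S(ρ z) = M`
  haveI : Finite (normalizerIn S (zS hf'.image)) := finite_of_le inf_le_left
  haveI : Finite (cS S x) := finite_of_le (cS_le S _)
  have hle : Nat.card (normalizerIn S (zS hf'.image)) ≤ Nat.card (cS S x) := by
    have himg : ∀ w ∈ normalizerIn S (zS hf'.image), ρ w ∈ cS S x := by
      intro w hw
      rw [← hcS]
      refine mem_cS.2 ⟨hρ.mem hw, ?_⟩
      rw [← hρ.map_mul hzN hw, ← hρ.map_mul hw hzN, (mem_zS.1 hz).2 w hw.1]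
    apply Nat.card_le_card_of_injective
      (fun w : normalizerIn S (zS hf'.image) => (⟨ρ w, himg w w.2⟩ : cS S x))
    intro a b hab
    exact Subtype.ext (hρ.inj a.2 b.2 (congrArg Subtype.val hab))
  -- but `N_S(V'')` strictly contains `M''`
  have hM''S : hf'.image ≤ S := hMiso.le_right
  have hcardM : Nat.card (cS S x) = Nat.card hf'.image := hMiso.card_eq
  have hM''ne : hf'.image ≠ S := by
    intro h
    apply hm.cS_ne
    apply Subgroup.eq_of_le_of_card_ge (cS_le S x)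
    rw [hcardM, h]
  obtain ⟨n, hn, hnM⟩ := exists_normalizer_not_mem hS hM''S hM''ne
  have hM''N : hf'.image ≤ normalizerIn S (zS hf'.image) := fun a ha =>
    ⟨hM''S ha, normalizer_le_normalizer_zS _ (Subgroup.le_normalizer ha)⟩
  have hnN : n ∈ normalizerIn S (zS hf'.image) := ⟨hn.1, normalizer_le_normalizer_zS _ hn.2⟩
  haveI : Finite hf'.image := finite_of_le hM''S
  have hlt : Nat.card hf'.image < Nat.card (normalizerIn S (zS hf'.image)) := by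
    by_contra hge
    push Not at hge
    have := Subgroup.eq_of_le_of_card_ge hM''N hge
    apply hnM
    rw [this]; exact hnN
  omega

/-- the norm `v · v^n` is the square of a central element -/
theorem MaxCent.norm_eq_sq (hS : IsPGroup p S) (hF : F.IsSaturated p)
    (hyp : ∀ x ∈ S, ∃ z ∈ zS S, F.IsConjElt x z) {x : Ω} (hm : MaxCent S x) {n : Ω}
    (hn : n ∈ normalizerIn S (vS S x)) (hnM : n ∉ cS S x) (hn2 : n ^ 2 ∈ cS S x) {v : Ω}
    (hv : v ∈ vS S x) : ∃ ζ ∈ zS S, v * (n * v * n⁻¹) = ζ ^ 2 := by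
  have hnS : n ∈ S := hn.1
  have hvS : v ∈ S := vS_le S x hv
  have hw : n * v * n⁻¹ ∈ vS S x := (Subgroup.mem_normalizer_iff.1 hn.2 v).1 hv
  have hNvV : v * (n * v * n⁻¹) ∈ vS S x := Subgroup.mul_mem _ hv hw
  -- `n ^ 2` commutes with `v`
  have h2v : n ^ 2 * v = v * n ^ 2 := (mem_zS.1 hv).2 _ hn2
  have e1 : n * v = (n * v * n⁻¹) * n := by group
  have e2 : n * (n * v * n⁻¹) = v * n := by
    have : n * (n * v * n⁻¹) = (n ^ 2 * v) * n⁻¹ := by rw [pow_two]; group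
    rw [this, h2v, pow_two]; group
  have hvw : v * (n * v * n⁻¹) = (n * v * n⁻¹) * v := vS_comm hv hw
  have hcomm : v * (n * v * n⁻¹) * n = n * (v * (n * v * n⁻¹)) := by
    calc v * (n * v * n⁻¹) * n = (n * v * n⁻¹) * v * n := by rw [hvw]
      _ = (n * v * n⁻¹) * (v * n) := by group
      _ = (n * v * n⁻¹) * (n * (n * v * n⁻¹)) := by rw [e2]
      _ = ((n * v * n⁻¹) * n) * (n * v * n⁻¹) := by group
      _ = (n * v) * (n * v * n⁻¹) := by rw [← e1]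
      _ = n * (v * (n * v * n⁻¹)) := by group
  have hNvZ : v * (n * v * n⁻¹) ∈ zS S := hm.mem_zS_of_commute hNvV hnS hnM hcomm
  have hsq : (v * n) ^ 2 = v * (n * v * n⁻¹) * n ^ 2 := by
    rw [pow_two, pow_two]; group
  -- conjugate `n ^ 2` to a central square
  obtain ⟨ζ, hζ, hc⟩ := inSq_sq hyp hnS
  have hζ2 : ζ ^ 2 ∈ zS S := Subgroup.pow_mem _ hζ 2
  obtain ⟨μ, hμ, hμm⟩ := exists_mor_centralizer hS hF hζ2 hc
  have hvC : v ∈ S ⊓ Subgroup.centralizer {n ^ 2} :=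
    mem_inf_centralizer_singleton.2 ⟨hvS, h2v⟩
  have hnC : n ∈ S ⊓ Subgroup.centralizer {n ^ 2} :=
    mem_inf_centralizer_singleton.2 ⟨hnS, by rw [pow_two]; group⟩
  have hn2C : n ^ 2 ∈ S ⊓ Subgroup.centralizer {n ^ 2} := Subgroup.pow_mem _ hnC 2
  have hvnC : v * n ∈ S ⊓ Subgroup.centralizer {n ^ 2} := Subgroup.mul_mem _ hvC hnC
  have hNvC : v * (n * v * n⁻¹) ∈ S ⊓ Subgroup.centralizer {n ^ 2} :=
    Subgroup.mul_mem _ hvC (Subgroup.mul_mem _ (Subgroup.mul_mem _ hnC hvC) (Subgroup.inv_mem _ hnC))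
  have h3 : μ (v * n) ^ 2 = μ (v * (n * v * n⁻¹)) * ζ ^ 2 := by
    rw [← hμ.map_npow hvnC, hsq, hμ.map_mul hNvC hn2C, hμm]
  have hμvnS : μ (v * n) ∈ S := hμ.mem hvnC
  have hcz : Commute (μ (v * n)) ζ⁻¹ := by
    have : Commute (μ (v * n)) ζ := (mem_zS.1 hζ).2 _ hμvnS
    exact this.inv_right
  have h4 : μ (v * (n * v * n⁻¹)) = (μ (v * n) * ζ⁻¹) ^ 2 := by
    rw [hcz.mul_pow, h3, inv_pow]; group
  have h5 : InSq F (μ (v * (n * v * n⁻¹))) := by
    rw [h4]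
    exact inSq_sq hyp (S.mul_mem hμvnS (S.inv_mem (zS_le S hζ)))
  have h6 : InSq F (v * (n * v * n⁻¹)) := InSq.of_conj (isConjElt_of_mor hμ hNvC) h5
  exact eq_sq_of_inSq hS hF hNvZ h6

end Fusion

end Cfsg.Agent.Helper87
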