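import Mathlib
import Cfsg.Agent.Lib.Helper87.O2520S3C_Q1

/-!
# O2520 / S3C sub-lemma (KLEIN) klein_struct for helper44's assembly (helper87): a corollary of (Q1).
-/

set_option autoImplicit false

namespace Cfsg.Agent.Helper87.O2520

universe u

theorem klein_struct {G : Type u} [Group G] [Finite G] (P : Subgroup G) (hP9 : Nat.card P = 9) (hexp : ∀ x ∈ P, x ^ 3 = 1) (hC : Subgroup.centralizer (P : Set G) = P) (hN36 : Nat.card (Subgroup.normalizer (P : Set G)) = 36) (hno4 : ¬ ∃ u ∈ Subgroup.normalizer (P : Set G), orderOf u = 4) : ∃ x x' a b : G, x ∈ P ∧ x' ∈ P ∧ x ≠ 1 ∧ x' ≠ 1 ∧ a ∈ Subgroup.normalizer (P : Set G) ∧ b ∈ Subgroup.normalizer (P : Set G) ∧ a * a = 1 ∧ b * b = 1 ∧ a * x * a⁻¹ = x ∧ a * x' * a⁻¹ = x'⁻¹ ∧ b * x * b⁻¹ = x⁻¹ ∧ b * x' * b⁻¹ = x' := by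
  obtain ⟨x, x', a, b, h1, h2, h3, h4, h5, h6, h7, h8, -, h10, h11, h12, h13⟩ :=
    s3c_structure P hP9 hexp hC hN36 (fun u hu h => hno4 ⟨u, hu, h⟩)
  refine ⟨x, x', a, b, h1, h2, h3, h4, h5, h6, ?_, ?_, h10, h11, h12, h13⟩
  · have := pow_orderOf_eq_one a
    rwa [h7, pow_two] at this
  · have := pow_orderOf_eq_one b
    rwa [h8, pow_two] at this

end Cfsg.Agent.Helper87.O2520
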