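import Mathlib
import Cfsg.Agent.Lib.Helper18.O3K0
import Cfsg.Agent.Lib.Helper18.O3K1
import Cfsg.Agent.S0293

/-!
# O3K piece (OPLUS) concl_pomega_plus (helper87), for helper18's O3K server (S2363).
Pure arithmetic on the landed order formula S0293.
-/

set_option autoImplicit false

namespace Cfsg.Agent.Helper87.O3K

open Cfsg Cfsg.Agent.Helper18.O3K

variable {p : ℕ}

theorem h87_sum_two_mul (k : ℕ) : ∑ i ∈ Finset.range k, 2 * (i + 1) = (k + 1) * k := by
  induction k with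
  | zero => simp
  | succ k ih => rw [Finset.sum_range_succ, ih]; ring

/-- (OPLUS) -/
theorem concl_pomega_plus (hp : p.Prime) (F : Type) [Field F] [Fintype F] [CharP F p] (m : ℕ) (hm : 4 ≤ m) :
    Concl p (POmega F (quadFormPlus m F)) := by
  obtain ⟨f, hf, hcard⟩ := card_eq_pow hp F
  set q := Fintype.card F with hqdef
  have hq : q = p ^ f := hcard
  have hq1 : 1 ≤ q := by rw [hq]; exact pow_pos hp.pos f
  have hres := Cfsg.Agent.S0293.result (F := F) (q := q) rfl m hm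
  have hPm : ¬ p ∣ q ^ m - 1 := not_dvd_pow_sub_one hp hq hf (by omega)
  have hprod : ¬ p ∣ ∏ i ∈ Finset.range (m - 1), (q ^ (2 * (i + 1)) - 1) :=
    not_dvd_prod_sub_one hp hq hf (fun i => 2 * (i + 1)) (fun i => by omega) (m - 1)
  have hd : ¬ p ∣ Nat.gcd 4 (q ^ m - 1) := fun h => hPm (h.trans (Nat.gcd_dvd_right _ _))
  have hP : ¬ p ∣ (q ^ m - 1) * ∏ i ∈ Finset.range (m - 1), (q ^ (2 * (i + 1)) - 1) := by
    intro h
    rcases (Nat.Prime.dvd_mul hp).mp h with h | h
    · exact hPm h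
    · exact hprod h
  have hd0 : Nat.gcd 4 (q ^ m - 1) ≠ 0 := by
    intro h
    exact hd (h ▸ dvd_zero p)
  have hfin : Finite (POmega F (quadFormPlus m F)) := by
    apply Nat.finite_of_card_ne_zero
    intro h0
    rw [h0, mul_zero] at hres
    have hpos : 0 < q ^ (m * (m - 1)) * (q ^ m - 1) *
        ∏ i ∈ Finset.range (m - 1), (q ^ (2 * (i + 1)) - 1) := by
      rw [mul_assoc]
      refine Nat.mul_pos (pow_pos hq1 _) (Nat.pos_of_ne_zero ?_)
      intro h
      exact hP (h ▸ dvd_zero p)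
    omega
  have hsum : ∑ i ∈ Finset.range (m - 1), 2 * (i + 1) = m * (m - 1) := by
    rw [h87_sum_two_mul]
    have : m - 1 + 1 = m := by omega
    rw [this]
  have hlt : (q ^ m - 1) * ∏ i ∈ Finset.range (m - 1), (q ^ (2 * (i + 1)) - 1) <
      q ^ (m + m * (m - 1)) := by
    refine mul_lt_pow hq1 (pow_sub_one_lt hq1 m) ?_
    have := prod_sub_one_le q (fun i => 2 * (i + 1)) (m - 1)
    rw [hsum] at this
    exact this
  refine concl_of_q hp q f (m * (m - 1)) (m + m * (m - 1))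
    ((q ^ m - 1) * ∏ i ∈ Finset.range (m - 1), (q ^ (2 * (i + 1)) - 1))
    (Nat.gcd 4 (q ^ m - 1)) hq ?_ hd hP hlt ?_
  · rw [hres, mul_assoc]
  · obtain ⟨k, rfl⟩ : ∃ k, m = k + 4 := ⟨m - 4, by omega⟩
    have : k + 4 - 1 = k + 3 := by omega
    rw [this]
    nlinarith

end Cfsg.Agent.Helper87.O3K
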