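import Mathlib
import Cfsg.Agent.Lib.Helper43.OGam5
import Cfsg.Agent.Lib.Helper14.OrthAutCount
import Cfsg.Agent.Lib.Helper85.TriCA
import Cfsg.Agent.Lib.Helper66.OMinOddFR

set_option autoImplicit false
set_option linter.unusedSectionVars false
set_option linter.style.haveILetI false

namespace Cfsg.Agent.Helper87.OutPlusOdd

open Matrix QuadraticMap Cfsg.Agent.Helper13 Cfsg.Agent.Helper43 Cfsg.Agent.Helper43.OGam

section generic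

variable {F : Type*} [Field F] [Fintype F] {ι : Type} [Fintype ι] [DecidableEq ι]
  (Q : QuadraticForm F (ι → F))

set_option maxHeartbeats 1600000 in
/-- `PΓO = PGO ⋊ ⟨x⟩`, `x` the Frobenius field automorphism, of exact order `f` modulo `PGO`. -/
theorem gamma_facts (hQ : (polarBilin Q).Nondegenerate) {k : ℕ}
    (e f : Fin k → (ι → F)) (hef : IsHypFamily Q e f) (hk : 3 ≤ k) (hn : 5 ≤ Fintype.card ι)
    (hQσ : ∀ (σ : F ≃+* F) (v : ι → F), Q (fun i => σ (v i)) = σ (Q v))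
    {p f' : ℕ} [Fact p.Prime] (hf : 1 ≤ f') (hF : Fintype.card F = p ^ f')
    (σ₀ : RingAut F) (hσ₀ : ∀ σ : RingAut F, σ ∈ Subgroup.zpowers σ₀) :
    Cfsg.pgoAut F ⇑Q ≤ Cfsg.gammaPOmega F ⇑Q ∧
    (Cfsg.pgoAut F ⇑Q).relIndex (Cfsg.gammaPOmega F ⇑Q) = f' ∧
    (∀ β ∈ Cfsg.gammaPOmega F ⇑Q, ∀ d ∈ Cfsg.pgoAut F ⇑Q, β * d * β⁻¹ ∈ Cfsg.pgoAut F ⇑Q) ∧
      (Theta ⇑Q (fieldGam (⇑Q) hQσ σ₀)) ^ f' = 1 ∧
      (∀ j : ℕ, (Theta ⇑Q (fieldGam (⇑Q) hQσ σ₀)) ^ j ∈ Cfsg.pgoAut F ⇑Q → f' ∣ j) ∧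
      (∀ β ∈ Cfsg.gammaPOmega F ⇑Q, ∃ i : ℕ,
        β * (Theta ⇑Q (fieldGam (⇑Q) hQσ σ₀)) ^ i ∈ Cfsg.pgoAut F ⇑Q) := by
  classical
  have hchar : CharP F p := charP_of_card_eq_prime_pow hF
  haveI : NeZero f' := ⟨by omega⟩
  have hι : Nonempty ι := by
    by_contra h
    rw [not_nonempty_iff] at h
    rw [Fintype.card_eq_zero] at hn
    omega
  have hmap : (Lin ⇑Q).map (Theta ⇑Q) = Cfsg.pgoAut F ⇑Q :=
    Cfsg.Agent.Helper14.OrthAutCount.map_Lin_eq_pgoAut _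
  have hDΓ : Cfsg.pgoAut F ⇑Q ≤ Cfsg.gammaPOmega F ⇑Q := by
    rw [← hmap, ← range_Theta]
    rintro _ ⟨L, -, rfl⟩
    exact ⟨L, rfl⟩
  obtain ⟨hcyc, hRA⟩ := Cfsg.Agent.Helper41.ringAut_cyclic_card (F := F) p f' hF
  have hσ : ∀ σ : F ≃+* F, ∃ g : GL ι F, Cfsg.IsSemisimilarityPair (⇑Q) g σ := by
    intro σ
    refine ⟨1, 1, ?_⟩
    intro v
    rw [Units.val_one, Matrix.one_mulVec, Units.val_one, one_mul]
    exact hQσ σ v
  have hcardΓ : Nat.card ↥(Cfsg.gammaPOmega F ⇑Q) = f' * Nat.card ↥(Cfsg.pgoAut F ⇑Q) := by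
    rw [Cfsg.Agent.Helper85.Tri.card_gamma Q hQ e f hef hk hn hσ, hRA]
  have hfinΓ : Finite ↥(Cfsg.gammaPOmega F ⇑Q) := by
    rw [← range_Theta]
    infer_instance
  have hrelDΓ : (Cfsg.pgoAut F ⇑Q).relIndex (Cfsg.gammaPOmega F ⇑Q) = f' := by
    have h1 : (Cfsg.pgoAut F ⇑Q).relIndex (Cfsg.gammaPOmega F ⇑Q) *
        Nat.card ↥(Cfsg.pgoAut F ⇑Q) = Nat.card ↥(Cfsg.gammaPOmega F ⇑Q) := by
      rw [Subgroup.relIndex, mul_comm,
        ← Nat.card_congr (Subgroup.subgroupOfEquivOfLe hDΓ).toEquiv]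
      exact Subgroup.card_mul_index _
    rw [hcardΓ] at h1
    haveI : Finite ↥(Cfsg.pgoAut F ⇑Q) := Finite.of_injective
      (Subgroup.inclusion hDΓ) (Subgroup.inclusion_injective hDΓ)
    have hpos : 0 < Nat.card ↥(Cfsg.pgoAut F ⇑Q) := Nat.card_pos
    exact Nat.eq_of_mul_eq_mul_right hpos h1
  refine ⟨hDΓ, hrelDΓ, ?_, ?_⟩
  · intro β hβ d hd
    rw [← range_Theta] at hβ
    obtain ⟨M, rfl⟩ := hβ
    have hd' : d ∈ (Lin ⇑Q).map (Theta ⇑Q) := by rw [hmap]; exact hd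
    obtain ⟨L, hL, rfl⟩ := hd'
    have hconj : M * L * M⁻¹ ∈ Lin ⇑Q := (Lin_normal (⇑Q)).conj_mem L hL _
    have hthis : Theta ⇑Q M * Theta ⇑Q L * (Theta ⇑Q M)⁻¹ ∈ (Lin ⇑Q).map (Theta ⇑Q) := by
      refine ⟨_, hconj, ?_⟩
      rw [map_mul (Theta ⇑Q), map_mul (Theta ⇑Q), map_inv (Theta ⇑Q)]
    rw [hmap] at hthis
    exact hthis
  -- the field automorphism hom
  set fa : RingAut F →* MulAut (Cfsg.POmega F ⇑Q) :=
    (Theta ⇑Q).comp (fieldGam (⇑Q) hQσ) with hfa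
  have key : ∀ σ : RingAut F, fa σ ∈ Cfsg.pgoAut F ⇑Q → σ = 1 := by
    intro σ hσP
    have hσP' : fa σ ∈ (Lin ⇑Q).map (Theta ⇑Q) := by rw [hmap]; exact hσP
    obtain ⟨L', hL', hL'σ⟩ := hσP'
    have h1 : Theta ⇑Q (L'⁻¹ * fieldGam (⇑Q) hQσ σ) = 1 := by
      rw [map_mul, map_inv, hL'σ, hfa, MonoidHom.comp_apply, inv_mul_cancel]
    have hlin : ∀ (c : F) (x : ι → F),
        ((L'⁻¹ : GamO ⇑Q) : Equiv.Perm (ι → F)) (c • x) =
          c • ((L'⁻¹ : GamO ⇑Q) : Equiv.Perm (ι → F)) x := (Lin ⇑Q).inv_mem hL'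
    have h2 := (rigid Q hQ e f hef hk hn _ h1 σ (by
      intro c x
      show ((L'⁻¹ : GamO ⇑Q) : Equiv.Perm (ι → F))
          (((fieldGam (⇑Q) hQσ σ : GamO ⇑Q) : Equiv.Perm (ι → F)) (c • x)) =
        σ c • ((L'⁻¹ : GamO ⇑Q) : Equiv.Perm (ι → F))
          (((fieldGam (⇑Q) hQσ σ : GamO ⇑Q) : Equiv.Perm (ι → F)) x)
      rw [fieldGam_smul, hlin])).2
    apply RingEquiv.ext
    intro c
    exact h2 c
  haveI : Finite (RingAut F) := by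
    apply Nat.finite_of_card_ne_zero
    rw [hRA]; omega
  have hσ₀ord : orderOf σ₀ = f' := by
    rw [← hRA]
    exact orderOf_eq_card_of_forall_mem_zpowers hσ₀
  have hσpow : ∀ σ : RingAut F, ∃ k : ℕ, σ = σ₀ ^ k := by
    intro σ
    have h1 : σ ∈ Subgroup.zpowers σ₀ := hσ₀ σ
    obtain ⟨k, hk⟩ := (mem_powers_iff_mem_zpowers.2 h1)
    exact ⟨k, hk.symm⟩
  have hxfa : Theta ⇑Q (fieldGam (⇑Q) hQσ σ₀) = fa σ₀ := rfl
  refine ⟨?_, ?_, ?_⟩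
  · rw [hxfa, ← map_pow, ← hσ₀ord, pow_orderOf_eq_one, map_one]
  · intro j hj
    rw [hxfa, ← map_pow] at hj
    have := key _ hj
    rw [← hσ₀ord]
    exact orderOf_dvd_of_pow_eq_one this
  · intro β hβ
    rw [← range_Theta] at hβ
    obtain ⟨L, rfl⟩ := hβ
    obtain ⟨L', hL', σ, rfl⟩ := exists_lin_mul_field (⇑Q) hQσ L
    obtain ⟨k, rfl⟩ := hσpow σ
    refine ⟨k * (f' - 1), ?_⟩
    have hd : Theta ⇑Q L' ∈ Cfsg.pgoAut F ⇑Q := by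
      rw [← hmap]; exact ⟨L', hL', rfl⟩
    have h1 : Theta ⇑Q (L' * fieldGam (⇑Q) hQσ (σ₀ ^ k)) * (fa σ₀) ^ (k * (f' - 1)) =
        Theta ⇑Q L' := by
      rw [map_mul (Theta ⇑Q)]
      have h2 : Theta ⇑Q (fieldGam (⇑Q) hQσ (σ₀ ^ k)) = fa (σ₀ ^ k) := rfl
      have h3 : k + k * (f' - 1) = f' * k := by
        obtain ⟨t, rfl⟩ : ∃ t, f' = t + 1 := ⟨f' - 1, by omega⟩
        simp only [Nat.add_sub_cancel]
        ring
      have h4 : σ₀ ^ k * σ₀ ^ (k * (f' - 1)) = 1 := by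
        rw [← pow_add, h3, pow_mul, ← hσ₀ord, pow_orderOf_eq_one, one_pow]
      rw [h2, ← map_pow, mul_assoc, ← map_mul, h4, map_one, mul_one]
    rw [hxfa, h1]
    exact hd

end generic

section frob

variable {F : Type*} [Field F] [Fintype F]

/-- The Frobenius automorphism generates `RingAut F`. -/
theorem frob_generates (p : ℕ) [Fact p.Prime] [CharP F p] (σ : RingAut F) :
    σ ∈ Subgroup.zpowers (frobeniusEquiv F p : RingAut F) := by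
  obtain ⟨n, hn⟩ := Cfsg.Agent.Helper66.OMinOdd.exists_pow_of_ringEquiv_p p σ
  refine ⟨(n : ℤ), ?_⟩
  show (frobeniusEquiv F p : RingAut F) ^ (n : ℤ) = σ
  rw [zpow_natCast]
  apply RingEquiv.ext
  intro c
  rw [hn c]
  have : ∀ (k : ℕ) (c : F), ((frobeniusEquiv F p : RingAut F) ^ k) c = c ^ (p ^ k) := by
    intro k
    induction k with
    | zero => intro c; simp
    | succ k ih =>
      intro c
      rw [pow_succ, RingAut.mul_apply, frobeniusEquiv_apply, frobenius_def, ih, ← pow_mul,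
        pow_succ, mul_comm]
  exact this n c

end frob

end Cfsg.Agent.Helper87.OutPlusOdd
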