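import Mathlib
import Cfsg.Agent.Lib.Helper87.OPOddA
import Cfsg.Agent.Lib.Helper40.AutPOmBasic
import Cfsg.Agent.Lib.Helper43.OMin6
import Cfsg.Agent.Lib.Helper5.OrthAut7

set_option autoImplicit false
set_option linter.unusedSectionVars false
set_option linter.style.haveILetI false

namespace Cfsg.Agent.Helper87.OutPlusOdd

open Matrix QuadraticMap Cfsg.Agent.Helper13 Cfsg.Agent.Helper43 Cfsg.Agent.Helper43.OGam
  Cfsg.Agent.Helper5.OrthAut Cfsg.Agent.Helper40.AutPOm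

section bridge

variable {F : Type*} [Field F] {ι : Type} [Fintype ι] [DecidableEq ι]
  (Q : QuadraticForm F (ι → F))

/-- (B1) the two dialects of the standard field automorphisms agree. -/
theorem theta_field_eq
    (hQσ : ∀ (σ : F ≃+* F) (v : ι → F), Q (fun i => σ (v i)) = σ (Q v)) (σ : RingAut F) :
    Theta ⇑Q (fieldGam (⇑Q) hQσ σ) = fieldAutPOm ⇑Q ⟨σ, fun v => hQσ σ v⟩ := by
  apply MulEquiv.ext
  intro t
  obtain ⟨s, rfl⟩ := QuotientGroup.mk_surjective t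
  rw [fieldAutPOm_mk]
  apply Theta_spec
  intro x
  rw [sigOm_coe, mapGL_coe]
  exact map_mulVec_sigma σ _ x

/-- (B2) an isometry as a semisimilarity induces `Phi` of itself. -/
theorem theta_iso_eq (g : ↥(Cfsg.isometryGroup F ⇑Q)) :
    Theta ⇑Q (Cfsg.Agent.Helper43.OMin.isoGam (⇑Q) g) =
      Phi ⇑Q ⟨(g : GL ι F), sim_le_NO _ (iso_le_sim _ g.2)⟩ := by
  apply Theta_eq_Phi ⇑Q _ _ 1
  intro x
  rw [one_smul]
  rfl

theorem polar_sigma
    (hQσ : ∀ (σ : F ≃+* F) (v : ι → F), Q (fun i => σ (v i)) = σ (Q v)) (σ : F ≃+* F)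
    (x y : ι → F) :
    polar (⇑Q) (fun i => σ (x i)) (fun i => σ (y i)) = σ (polar (⇑Q) x y) := by
  unfold polar
  have h : (fun i => σ (x i)) + (fun i => σ (y i)) = fun i => σ ((x + y) i) := by
    funext i
    simp
  rw [h, hQσ, hQσ, hQσ, map_sub, map_sub]

/-- (X1) the standard field automorphisms commute with the reflection in a vector with
coordinates fixed by the field automorphism. -/
theorem field_comm_refl
    (hQσ : ∀ (σ : F ≃+* F) (v : ι → F), Q (fun i => σ (v i)) = σ (Q v)) (σ : RingAut F)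
    {u : ι → F} (hu : Q u ≠ 0) (hσu : (fun i => σ (u i)) = u) :
    Theta ⇑Q (fieldGam (⇑Q) hQσ σ) *
        Theta ⇑Q (Cfsg.Agent.Helper43.OMin.isoGam (⇑Q) (reflIso Q hu)) =
      Theta ⇑Q (Cfsg.Agent.Helper43.OMin.isoGam (⇑Q) (reflIso Q hu)) *
        Theta ⇑Q (fieldGam (⇑Q) hQσ σ) := by
  rw [← map_mul (Theta ⇑Q), ← map_mul (Theta ⇑Q)]
  congr 1
  apply Subtype.ext
  apply Equiv.ext
  intro x
  show ((fieldGam (⇑Q) hQσ σ : GamO ⇑Q) : Equiv.Perm (ι → F))
      ((Cfsg.Agent.Helper43.OMin.isoGam (⇑Q) (reflIso Q hu) : Equiv.Perm (ι → F)) x) =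
    (Cfsg.Agent.Helper43.OMin.isoGam (⇑Q) (reflIso Q hu) : Equiv.Perm (ι → F))
      (((fieldGam (⇑Q) hQσ σ : GamO ⇑Q) : Equiv.Perm (ι → F)) x)
  rw [Cfsg.Agent.Helper43.OMin.isoGam_apply, Cfsg.Agent.Helper43.OMin.isoGam_apply,
    reflIso_coe, fieldGam_apply, fieldGam_apply,
    Cfsg.Agent.Helper13.reflectionMatrix_mulVec, Cfsg.Agent.Helper13.reflectionMatrix_mulVec]
  have hp := polar_sigma Q hQσ σ u x
  rw [hσu] at hp
  have hq := hQσ σ u
  rw [hσu] at hq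
  funext i
  simp only [Pi.sub_apply, Pi.smul_apply, smul_eq_mul, map_sub, map_mul, map_inv₀]
  rw [← hq, hp]
  congr 2
  exact congrFun hσu i

end bridge

end Cfsg.Agent.Helper87.OutPlusOdd
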