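import Mathlib
import Cfsg.Agent.Lib.Helper87.OPOddB
import Cfsg.Agent.Lib.Helper87.D8Out
import Cfsg.Agent.Lib.Helper13.OMinOddCM
import Cfsg.Agent.S2695

set_option autoImplicit false
set_option linter.unusedSectionVars false
set_option linter.style.haveILetI false

namespace Cfsg.Agent.Helper87.OutPlusOdd

open Matrix QuadraticMap Cfsg.Agent.Helper13 Cfsg.Agent.Helper43 Cfsg.Agent.Helper43.OGam
  Cfsg.Agent.Helper5.OrthAut Cfsg.Agent.Helper40.AutPOm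

section plus

variable {F : Type*} [Field F] [Fintype F]

/-- the reflection automorphism -/
noncomputable def rfl' {m : ℕ} {u : Fin m ⊕ Fin m → F} (hu : stdPlus F m u ≠ 0) :
    MulAut (Cfsg.POmega F ⇑(stdPlus F m)) :=
  Theta ⇑(stdPlus F m) (Cfsg.Agent.Helper43.OMin.isoGam (⇑(stdPlus F m)) (reflIso (stdPlus F m) hu))

theorem rfl'_mem {m : ℕ} (hm : 1 ≤ m) {u : Fin m ⊕ Fin m → F} (hu : stdPlus F m u ≠ 0) :
    rfl' hu ∈ Cfsg.pgoAut F ⇑(stdPlus F m) := by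
  have hne : Nonempty (Fin m ⊕ Fin m) := ⟨Sum.inl ⟨0, by omega⟩⟩
  unfold rfl'
  rw [← Cfsg.Agent.Helper14.OrthAutCount.map_Lin_eq_pgoAut]
  refine ⟨Cfsg.Agent.Helper43.OMin.isoGam _ _, ?_, rfl⟩
  intro c x
  rw [Cfsg.Agent.Helper43.OMin.isoGam_apply, Cfsg.Agent.Helper43.OMin.isoGam_apply,
    Matrix.mulVec_smul]

theorem rfl'_sq {m : ℕ} {u : Fin m ⊕ Fin m → F} (hu : stdPlus F m u ≠ 0) :
    rfl' hu * rfl' hu = 1 := by
  have h1 : rfl' hu = Theta ⇑(stdPlus F m)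
      (Cfsg.Agent.Helper43.OMin.isoGamHom (⇑(stdPlus F m)) (reflIso (stdPlus F m) hu)) := rfl
  rw [h1, ← map_mul (Theta ⇑(stdPlus F m)), ← map_mul, reflIso_mul_self, map_one, map_one]

theorem rfl'_eq_Phi [DecidableEq F] {m : ℕ} {u : Fin m ⊕ Fin m → F} (hu : stdPlus F m u ≠ 0) :
    rfl' hu = ((pP (stdPlus F m) (rGL (stdPlus F m) hu) (rGL_mem_GO (stdPlus F m) hu) :
      ↥(Cfsg.pgoAut F ⇑(stdPlus F m))) : MulAut (Cfsg.POmega F ⇑(stdPlus F m))) := by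
  rw [pP_coe]
  unfold rfl'
  exact theta_iso_eq (stdPlus F m) _

set_option maxHeartbeats 1600000 in
/-- (X2) in the dihedral case, the diagonal automorphism does not commute with a reflection modulo
inner automorphisms. -/
theorem delta_refl_not_inn (hodd : Odd (Fintype.card F)) {m : ℕ} (hm : 4 ≤ m)
    (hD : ¬ (Odd m ∧ Fintype.card F % 4 = 3)) (ν : Fˣ) (hν : ¬ IsSquare (ν : F))
    {u : Fin m ⊕ Fin m → F} (hu : stdPlus F m u ≠ 0) :
    PhiGO ⇑(stdPlus F m) ⟨deltaPlus m ν, deltaPlus_mem m ν⟩ * rfl' hu *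
      (PhiGO ⇑(stdPlus F m) ⟨deltaPlus m ν, deltaPlus_mem m ν⟩)⁻¹ * (rfl' hu)⁻¹ ∉
      Cfsg.Inn (Cfsg.POmega F ⇑(stdPlus F m)) := by
  classical
  have h2 := two_ne_zero_of_odd_card hodd
  have hfam := stdPlus_isHypFamily F m
  have hnd := stdPlus_nondegenerate F m
  have hcard : Fintype.card (Fin m ⊕ Fin m) = 2 * m := by simp; ring
  have hQ0 := hQ0_of_hyp (stdPlus F m) hfam (by omega)
  have hperf := hperf_of_hyp (stdPlus F m) hnd _ _ hfam (by omega) (by rw [hcard]; omega)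
  have hcent := hcent_of_hyp (stdPlus F m) hfam (by omega)
    (Cfsg.Agent.Lead.POmegaCard.hspan_plus m)
  have hq : Fintype.card F % 2 = 1 := Nat.odd_iff.1 hodd
  have hneg := (Cfsg.Agent.S0790.result (F := F) rfl hodd m (by omega)).2
    ((pow_mod_four_eq_one_iff _ _ hq).2 hD)
  have hn : 2 ≤ Fintype.card (Fin m ⊕ Fin m) := by rw [hcard]; omega
  set Q := stdPlus F m with hQdef
  set δ : GL (Fin m ⊕ Fin m) F := deltaPlus m ν with hδdef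
  have hδ : δ ∈ GO Q := deltaPlus_mem m ν
  have hmu : mult Q ⟨δ, hδ⟩ = ν := mult_unique _ hQ0 _ _ (deltaPlus_sim m ν)
  have hδu : Q ((δ : Matrix (Fin m ⊕ Fin m) (Fin m ⊕ Fin m) F) *ᵥ u) ≠ 0 := by
    have := mult_spec Q ⟨δ, hδ⟩ u
    rw [gmat] at this
    rw [this]
    exact mul_ne_zero (Units.ne_zero _) hu
  have hns : ¬ IsSquare (Q ((δ : Matrix (Fin m ⊕ Fin m) (Fin m ⊕ Fin m) F) *ᵥ u) * Q u) := by
    have := mult_spec Q ⟨δ, hδ⟩ u
    rw [gmat] at this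
    rw [this, hmu]
    intro hsq
    apply hν
    obtain ⟨r, hr⟩ := hsq
    refine ⟨r / Q u, ?_⟩
    field_simp
    linear_combination hr
  have hconj : pP Q δ hδ * pP Q (rGL Q hu) (rGL_mem_GO Q hu) * (pP Q δ hδ)⁻¹ =
      pP Q (rGL Q hδu) (rGL_mem_GO Q hδu) := by
    rw [← pP_inv, ← pP_mul, ← pP_mul]
    congr 1
    exact sim_conj_refl Q ⟨δ, hδ⟩ u hu hδu
  have hd : PhiGO ⇑Q ⟨δ, hδ⟩ = ((pP Q δ hδ : ↥(Cfsg.pgoAut F ⇑Q)) :
      MulAut (Cfsg.POmega F ⇑Q)) := rfl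
  intro hmem
  rw [hd, rfl'_eq_Phi hu, ← Subgroup.coe_inv, ← Subgroup.coe_mul, ← Subgroup.coe_mul,
    ← Subgroup.coe_inv, ← Subgroup.coe_mul, hconj, ← pP_inv, ← pP_mul, pP_coe] at hmem
  have hxy : rGL Q hδu * (rGL Q hu)⁻¹ =
      ((reflIso Q hδu * reflIso Q hu : ↥(Cfsg.isometryGroup F ⇑Q)) :
        GL (Fin m ⊕ Fin m) F) := by
    rw [Subgroup.coe_mul, inv_eq_of_mul_eq_one_right (rGL_mul_self Q hu)]
  have hmemOG : rGL Q hδu * (rGL Q hu)⁻¹ ∈ OG Q :=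
    mul_mem (rGL_mem_OG Q hδu) (inv_mem (rGL_mem_OG Q hu))
  have := mem_OmGL_of_Phi_mem_inn Q hperf hcent hQ0 hneg _ hmemOG hmem
  rw [hxy] at this
  exact refl_mul_refl_not_mem Q hnd h2 hn hδu hu hns this

end plus

end Cfsg.Agent.Helper87.OutPlusOdd
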