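import Mathlib
import Cfsg.Agent.Lib.Helper87.OPOddC

set_option autoImplicit false
set_option linter.unusedSectionVars false
set_option linter.style.haveILetI false

namespace Cfsg.Agent.Helper87.OutPlusOdd

open Matrix QuadraticMap Cfsg.Agent.Helper13 Cfsg.Agent.Helper43 Cfsg.Agent.Helper43.OGam
  Cfsg.Agent.Helper5.OrthAut Cfsg.Agent.Helper40.AutPOm

section plus

variable {F : Type*} [Field F] [Fintype F]

theorem quadFormPlus_sigma' (m : ℕ) (σ : F ≃+* F) (v : Fin m ⊕ Fin m → F) :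
    Cfsg.quadFormPlus m F (fun i => σ (v i)) = σ (Cfsg.quadFormPlus m F v) := by
  unfold Cfsg.quadFormPlus
  simp [map_sum, map_mul]

/-- the vector `e₀ + f₀` -/
def u0 (m : ℕ) (hm : 1 ≤ m) : Fin m ⊕ Fin m → F :=
  Pi.single (Sum.inl ⟨0, by omega⟩) 1 + Pi.single (Sum.inr ⟨0, by omega⟩) 1

theorem u0_Q (m : ℕ) (hm : 1 ≤ m) : stdPlus F m (u0 m hm) = 1 := by
  have hfam := stdPlus_isHypFamily F m
  unfold u0
  have h := QuadraticMap.map_add (stdPlus F m)
    (Pi.single (Sum.inl (⟨0, by omega⟩ : Fin m)) (1 : F))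
    (Pi.single (Sum.inr (⟨0, by omega⟩ : Fin m)) (1 : F))
  rw [h, hfam.qe, hfam.qf, hfam.ef]
  simp

theorem u0_sigma (m : ℕ) (hm : 1 ≤ m) (σ : F ≃+* F) :
    (fun i => σ (u0 (F := F) m hm i)) = u0 m hm := by
  funext i
  unfold u0
  simp only [Pi.add_apply, Pi.single_apply]
  split_ifs <;> simp

set_option maxHeartbeats 1600000 in
/-- `Out(PΩ⁺_{2m}(q))`, `q` odd, `m ≥ 5`. -/
theorem out_plus_odd_ge5 {p f m : ℕ} [Fact p.Prime] (hf : 1 ≤ f)
    (hF : Fintype.card F = p ^ f) (hp : p ≠ 2) (hm : 5 ≤ m) :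
    if p ^ f % 4 = 3 ∧ Odd m then
      Nonempty (Cfsg.Out (Cfsg.POmega F (Cfsg.quadFormPlus m F)) ≃*
        Multiplicative (ZMod 2 × ZMod 2 × ZMod f))
    else
      Nonempty (Cfsg.Out (Cfsg.POmega F (Cfsg.quadFormPlus m F)) ≃*
        DihedralGroup 4 × Multiplicative (ZMod f)) := by
  classical
  have hpp : p.Prime := Fact.out
  have hchar : CharP F p := charP_of_card_eq_prime_pow hF
  have hodd : Odd (Fintype.card F) := by
    rw [hF]
    exact Odd.pow (hpp.odd_of_ne_two hp)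
  have h2 : (2 : F) ≠ 0 := two_ne_zero_of_odd_card hodd
  change if p ^ f % 4 = 3 ∧ Odd m then
      Nonempty (Cfsg.Out (Cfsg.POmega F ⇑(stdPlus F m)) ≃*
        Multiplicative (ZMod 2 × ZMod 2 × ZMod f))
    else
      Nonempty (Cfsg.Out (Cfsg.POmega F ⇑(stdPlus F m)) ≃*
        DihedralGroup 4 × Multiplicative (ZMod f))
  have hnd := stdPlus_nondegenerate F m
  have hfam := stdPlus_isHypFamily F m
  have hcard : Fintype.card (Fin m ⊕ Fin m) = 2 * m := by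
    simp only [Fintype.card_sum, Fintype.card_fin]; ring
  have hne : Nonempty (Fin m ⊕ Fin m) := ⟨Sum.inl ⟨0, by omega⟩⟩
  have hgam : Cfsg.gammaPOmega F ⇑(stdPlus F m) = ⊤ := Cfsg.Agent.S2695.result hm
  have hQσ : ∀ (σ : F ≃+* F) (w : Fin m ⊕ Fin m → F),
      stdPlus F m (fun i => σ (w i)) = σ (stdPlus F m w) := by
    intro σ w
    rw [stdPlus_apply, stdPlus_apply]
    exact quadFormPlus_sigma' m σ w
  obtain ⟨hDΓ, -, hnorm, hxf1, hord, hgen⟩ := gamma_facts (stdPlus F m) hnd _ _ hfam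
    (by omega) (by rw [hcard]; omega) hQσ hf hF (frobeniusEquiv F p : RingAut F)
    (frob_generates p)
  set x := Theta ⇑(stdPlus F m) (fieldGam (⇑(stdPlus F m)) hQσ (frobeniusEquiv F p : RingAut F))
    with hx
  have hmap : (Lin ⇑(stdPlus F m)).map (Theta ⇑(stdPlus F m)) =
      Cfsg.pgoAut F ⇑(stdPlus F m) :=
    Cfsg.Agent.Helper14.OrthAutCount.map_Lin_eq_pgoAut _
  have hPN : (Cfsg.pgoAut F ⇑(stdPlus F m)).Normal := by
    constructor
    intro d hd β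
    exact hnorm β (by rw [hgam]; trivial) d hd
  have hIP : Cfsg.Inn (Cfsg.POmega F ⇑(stdPlus F m)) ≤ Cfsg.pgoAut F ⇑(stdPlus F m) :=
    (inn_le_psoAut (stdPlus F m)).trans (psoAut_le_pgoAut (stdPlus F m))
  have hpgo := pgo_mod_inn_plus hodd (show 4 ≤ m by omega)
  have hrel := relIndex_inn_pso_plus hodd (show 4 ≤ m by omega)
  rw [← coe_stdPlus] at hpgo hrel
  have hiff : (p ^ f % 4 = 3 ∧ Odd m) ↔ (Odd m ∧ Fintype.card F % 4 = 3) := by
    rw [hF, and_comm]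
  have hgen' : ∀ β : MulAut (Cfsg.POmega F ⇑(stdPlus F m)),
      ∃ i : ℕ, β * x ^ i ∈ Cfsg.pgoAut F ⇑(stdPlus F m) := fun β =>
    hgen β (by rw [hgam]; trivial)
  have hxfI : x ^ f ∈ Cfsg.Inn (Cfsg.POmega F ⇑(stdPlus F m)) := by
    rw [hxf1]; exact one_mem _
  split_ifs with hc
  · -- the Klein case
    obtain ⟨φ, hφ, hker⟩ := hpgo.1 (hiff.1 hc)
    have hpso : Cfsg.psoAut F ⇑(stdPlus F m) ≤ Cfsg.Inn (Cfsg.POmega F ⇑(stdPlus F m)) :=
      Subgroup.relIndex_eq_one.1 (hrel.1 (hiff.1 hc))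
    refine Cfsg.Agent.Helper87.OutD8.out_klein_split _ _ hIP φ hφ hker x f hf hgen' hord hxfI ?_
    intro β hβ
    rw [← hmap] at hβ
    obtain ⟨M, hM, rfl⟩ := hβ
    have e : x * Theta ⇑(stdPlus F m) M * x⁻¹ * (Theta ⇑(stdPlus F m) M)⁻¹ =
        Theta ⇑(stdPlus F m) (fieldGam (⇑(stdPlus F m)) hQσ (frobeniusEquiv F p : RingAut F) * M *
          (fieldGam (⇑(stdPlus F m)) hQσ (frobeniusEquiv F p : RingAut F))⁻¹ * M⁻¹) := by
      rw [map_mul (Theta ⇑(stdPlus F m)), map_mul (Theta ⇑(stdPlus F m)),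
        map_mul (Theta ⇑(stdPlus F m)), map_inv (Theta ⇑(stdPlus F m)),
        map_inv (Theta ⇑(stdPlus F m))]
    rw [e]
    apply hpso
    refine Cfsg.Agent.Helper13.OMinOddCM.comm_mem_psoAut (stdPlus F m) hnd hp m hcard _ M ?_ hM
    intro c y
    rw [fieldGam_smul]
    rfl
  · -- the dihedral case
    have hc' : ¬ (Odd m ∧ Fintype.card F % 4 = 3) := fun h => hc (hiff.2 h)
    obtain ⟨φ, hφ, hker⟩ := hpgo.2 hc'
    obtain ⟨ν, hν⟩ := exists_nonsquare_unit h2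
    have hm1 : 1 ≤ m := by omega
    have hu : stdPlus F m (u0 (F := F) m hm1) ≠ 0 := by rw [u0_Q]; exact one_ne_zero
    have hdr := delta_refl_not_inn hodd (show 4 ≤ m by omega) hc' ν hν hu
    have hrP := rfl'_mem hm1 hu
    have hrr := rfl'_sq hu
    have hcomm : x * rfl' hu = rfl' hu * x :=
      field_comm_refl (stdPlus F m) hQσ (frobeniusEquiv F p : RingAut F) hu (u0_sigma m hm1 _)
    generalize rfl' hu = r at hdr hrP hrr hcomm
    have hdP : PhiGO ⇑(stdPlus F m) ⟨deltaPlus m ν, deltaPlus_mem m ν⟩ ∈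
        Cfsg.pgoAut F ⇑(stdPlus F m) := by
      rw [pgoAut_eq_range]
      exact ⟨_, rfl⟩
    generalize PhiGO ⇑(stdPlus F m) ⟨deltaPlus m ν, deltaPlus_mem m ν⟩ = d at hdr hdP
    refine Cfsg.Agent.Helper87.OutD8.out_dihedral_gen _ _ hIP φ hφ hker x f hf hgen' hord hxfI
      r d hrP hdP ?_ ?_ hdr
    · rw [hrr]; exact one_mem _
    · have h1 : x * r * x⁻¹ * r⁻¹ = 1 := by
        rw [hcomm]
        group
      rw [h1]; exact one_mem _

end plus

end Cfsg.Agent.Helper87.OutPlusOdd
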