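import Mathlib
import Cfsg.Agent.Lib.Helper87.OPOddD
import Cfsg.Agent.Lib.Helper87.GS4Out
import Cfsg.Agent.Lib.Helper40.OP8Z
import Cfsg.Agent.Lib.Helper5.OP8X4
import Cfsg.Agent.Lib.Helper43.Tri.Field

/-!
# `Out(PΩ⁺₈(q)) ≅ S₄ × C_f`, `q` odd (S2608, the case `m = 4`)
-/

set_option autoImplicit false
set_option linter.unusedSectionVars false
set_option linter.style.haveILetI false

namespace Cfsg.Agent.Helper87.OutPlusOdd

open Matrix QuadraticMap Cfsg.Agent.Helper13 Cfsg.Agent.Helper43 Cfsg.Agent.Helper43.OGam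
  Cfsg.Agent.Helper5.OrthAut Cfsg.Agent.Helper40.AutPOm Cfsg.Agent.Helper43.Tri

section plus

variable {F : Type*} [Field F] [Fintype F]

/-- conjugating a reflection automorphism by the diagonal automorphism -/
theorem delta_conj_rfl' {m : ℕ} (ν : Fˣ) {u : Fin m ⊕ Fin m → F} (hu : stdPlus F m u ≠ 0)
    (hδu : stdPlus F m
      (((deltaPlus m ν : GL (Fin m ⊕ Fin m) F) : Matrix (Fin m ⊕ Fin m) (Fin m ⊕ Fin m) F) *ᵥ u)
        ≠ 0) :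
    PhiGO ⇑(stdPlus F m) ⟨deltaPlus m ν, deltaPlus_mem m ν⟩ * rfl' hu *
      (PhiGO ⇑(stdPlus F m) ⟨deltaPlus m ν, deltaPlus_mem m ν⟩)⁻¹ = rfl' hδu := by
  classical
  set Q := stdPlus F m with hQdef
  set δ : GL (Fin m ⊕ Fin m) F := deltaPlus m ν with hδdef
  have hδ : δ ∈ GO Q := deltaPlus_mem m ν
  have hconj : pP Q δ hδ * pP Q (rGL Q hu) (rGL_mem_GO Q hu) * (pP Q δ hδ)⁻¹ =
      pP Q (rGL Q hδu) (rGL_mem_GO Q hδu) := by
    rw [← pP_inv, ← pP_mul, ← pP_mul]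
    congr 1
    exact sim_conj_refl Q ⟨δ, hδ⟩ u hu hδu
  have hd : PhiGO ⇑Q ⟨δ, hδ⟩ = ((pP Q δ hδ : ↥(Cfsg.pgoAut F ⇑Q)) :
      MulAut (Cfsg.POmega F ⇑Q)) := rfl
  rw [hd, rfl'_eq_Phi hu, rfl'_eq_Phi hδu, ← hconj]
  rfl

theorem rfl'_inv {m : ℕ} {u : Fin m ⊕ Fin m → F} (hu : stdPlus F m u ≠ 0) :
    (rfl' hu)⁻¹ = rfl' hu := inv_eq_of_mul_eq_one_right (rfl'_sq hu)

theorem rfl'_mul_eq_zAut {a b : OV F} (ha : stdPlus F 4 a ≠ 0) (hb : stdPlus F 4 b ≠ 0) :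
    rfl' ha * rfl' hb = Cfsg.Agent.Helper40.OP8.zAut a b ha hb := by
  unfold rfl' Cfsg.Agent.Helper40.OP8.zAut
  rw [← map_mul (Theta ⇑(stdPlus F 4))]
  congr 1
  exact (map_mul (Cfsg.Agent.Helper43.OMin.isoGamHom (⇑(stdPlus F 4))) _ _).symm

theorem rAut_eq_rfl' : (rAut : MulAut (Cfsg.POmega F ⇑(stdPlus F 4))) = rfl' (N_oone_ne (F := F)) := by
  unfold rAut rfl'
  rfl

set_option maxHeartbeats 3200000 in
/-- `Out(PΩ⁺₈(q)) ≅ S₄ × C_f`, `q` odd. -/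
theorem out_plus_odd_four {p f : ℕ} [Fact p.Prime] (hf : 1 ≤ f)
    (hF : Fintype.card F = p ^ f) (hp : p ≠ 2) :
    Nonempty (Cfsg.Out (Cfsg.POmega F (Cfsg.quadFormPlus 4 F)) ≃*
      Equiv.Perm (Fin 4) × Multiplicative (ZMod f)) := by
  classical
  have hpp : p.Prime := Fact.out
  have hchar : CharP F p := charP_of_card_eq_prime_pow hF
  have hodd : Odd (Fintype.card F) := by
    rw [hF]
    exact Odd.pow (hpp.odd_of_ne_two hp)
  have h2 : (2 : F) ≠ 0 := two_ne_zero_of_odd_card hodd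
  change Nonempty (Cfsg.Out (Cfsg.POmega F ⇑(stdPlus F 4)) ≃*
    Equiv.Perm (Fin 4) × Multiplicative (ZMod f))
  have hnd := stdPlus_nondegenerate F 4
  have hfam := stdPlus_isHypFamily F 4
  have hcard : Fintype.card (Fin 4 ⊕ Fin 4) = 8 := by
    simp only [Fintype.card_sum, Fintype.card_fin]
  have hQσ : ∀ (σ : F ≃+* F) (w : Fin 4 ⊕ Fin 4 → F),
      stdPlus F 4 (fun i => σ (w i)) = σ (stdPlus F 4 w) := by
    intro σ w
    rw [stdPlus_apply, stdPlus_apply]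
    exact quadFormPlus_sigma' 4 σ w
  obtain ⟨hDΓ, hrelDΓ, hnorm, hxf1, hord, hgen⟩ := gamma_facts (stdPlus F 4) hnd _ _ hfam
    (by norm_num) (by rw [hcard]; norm_num) hQσ hf hF (frobeniusEquiv F p : RingAut F)
    (frob_generates p)
  set σ₀ : RingAut F := (frobeniusEquiv F p : RingAut F) with hσ₀
  set x := Theta ⇑(stdPlus F 4) (fieldGam (⇑(stdPlus F 4)) hQσ σ₀) with hx
  have hxB : x = fieldAutPOm ⇑(stdPlus F 4) ⟨σ₀, fun v => hQσ σ₀ v⟩ :=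
    theta_field_eq (stdPlus F 4) hQσ σ₀
  have hxΓ : x ∈ Cfsg.gammaPOmega F ⇑(stdPlus F 4) := Theta_mem_gamma _ _
  have hIP : Cfsg.Inn (Cfsg.POmega F ⇑(stdPlus F 4)) ≤ Cfsg.pgoAut F ⇑(stdPlus F 4) :=
    (inn_le_psoAut (stdPlus F 4)).trans (psoAut_le_pgoAut (stdPlus F 4))
  have hD : ¬ (Odd 4 ∧ Fintype.card F % 4 = 3) := by
    rintro ⟨h, -⟩
    revert h
    decide
  have hpgo := pgo_mod_inn_plus hodd (show 4 ≤ 4 by norm_num) (F := F)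
  rw [← coe_stdPlus] at hpgo
  obtain ⟨φ, hφ, hker⟩ := hpgo.2 hD
  have h3 : (Cfsg.gammaPOmega F ⇑(stdPlus F 4)).index = 3 := index_gamma
  haveI : Finite (MulAut (Cfsg.POmega F ⇑(stdPlus F 4))) := by
    apply Nat.finite_of_card_ne_zero
    intro h0
    have := Subgroup.index_mul_card (Cfsg.gammaPOmega F ⇑(stdPlus F 4))
    rw [h0] at this
    have hfin : Finite ↥(Cfsg.gammaPOmega F ⇑(stdPlus F 4)) := by
      rw [← range_Theta]
      infer_instance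
    have hpos : 0 < Nat.card ↥(Cfsg.gammaPOmega F ⇑(stdPlus F 4)) := Nat.card_pos
    rw [h3] at this
    omega
  obtain ⟨τ, col, hτ, hτrel, hτex, hcol, hrτ⟩ := triality_data (F := F)
  obtain ⟨ν, hν⟩ := exists_nonsquare_unit h2
  have hu : stdPlus F 4 (oone : OV F) ≠ 0 := N_oone_ne
  have hmu : stdPlus F 4 (((deltaPlus 4 ν : GL (Fin 4 ⊕ Fin 4) F) :
      Matrix (Fin 4 ⊕ Fin 4) (Fin 4 ⊕ Fin 4) F) *ᵥ (oone : OV F)) = (ν : F) * 1 := by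
    rw [deltaPlus_sim, N_oone]
  have hδu : stdPlus F 4 (((deltaPlus 4 ν : GL (Fin 4 ⊕ Fin 4) F) :
      Matrix (Fin 4 ⊕ Fin 4) (Fin 4 ⊕ Fin 4) F) *ᵥ (oone : OV F)) ≠ 0 := by
    rw [hmu, mul_one]; exact ν.ne_zero
  have hns : ¬ IsSquare (stdPlus F 4 (((deltaPlus 4 ν : GL (Fin 4 ⊕ Fin 4) F) :
      Matrix (Fin 4 ⊕ Fin 4) (Fin 4 ⊕ Fin 4) F) *ᵥ (oone : OV F)) * stdPlus F 4 (oone : OV F)) := by
    rw [hmu, N_oone, mul_one, mul_one]; exact hν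
  -- the facts in `Aut`
  have hrP := rfl'_mem (show 1 ≤ 4 by norm_num) hu
  have hrr := rfl'_sq hu
  have hrinv := rfl'_inv hu
  have hxr : x * rfl' hu = rfl' hu * x :=
    field_comm_refl (stdPlus F 4) hQσ σ₀ hu (sigV_oone σ₀)
  have hconj := delta_conj_rfl' ν hu hδu
  have hzA := rfl'_mul_eq_zAut hδu hu
  have hdP : PhiGO ⇑(stdPlus F 4) ⟨deltaPlus 4 ν, deltaPlus_mem 4 ν⟩ ∈
      Cfsg.pgoAut F ⇑(stdPlus F 4) := by
    rw [pgoAut_eq_range]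
    exact ⟨_, rfl⟩
  have hxd := Cfsg.Agent.Helper5.OP8.field_comm_delta hodd (show 3 ≤ 4 by norm_num)
    (by decide : Even 4) ⟨σ₀, fun v => hQσ σ₀ v⟩ ν
  rw [← hxB] at hxd
  have hxτ : τ * x = x * τ := by
    rw [hxB]
    exact tau_comm_field τ hτrel hτex _
  have hcos := cosets_three _ col hcol τ rAut hτ rAut_mem hrτ
  have ht3 := Cfsg.Agent.Helper40.OP8.tau_rAut_cube h2 τ hτrel hτex
  have hrt := Cfsg.Agent.Helper40.OP8.rAut_conj_rho h2 τ hτrel hτex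
  have htz := Cfsg.Agent.Helper40.OP8.rho_zAut_not_comm hodd τ hτrel hτex _ _ hδu hu hns
  rw [← hzA] at htz
  rw [rAut_eq_rfl'] at hcos ht3 hrt htz hrτ
  generalize rfl' hu = r at hrP hrr hrinv hxr hconj hcos ht3 hrt htz hrτ
  generalize rfl' hδu = r' at hconj htz
  generalize PhiGO ⇑(stdPlus F 4) ⟨deltaPlus 4 ν, deltaPlus_mem 4 ν⟩ = d at hdP hxd hconj
  refine Cfsg.Agent.Helper87.OutD8.out_s4_gen _ _ _ hIP hDΓ φ hφ hker h3 f hf hrelDΓ x hxΓ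
    hgen hord (by rw [hxf1]; exact one_mem _) r d τ hrP hdP (by rw [hrr]; exact one_mem _)
    hcos ?_ hxd ?_ (by rw [ht3]; exact one_mem _) ?_ hτ hrτ ?_
  · have h1 : x * r * x⁻¹ * r⁻¹ = 1 := by
      rw [hxr]; group
    rw [h1]; exact one_mem _
  · have h1 : x * τ * x⁻¹ * τ⁻¹ = 1 := by
      rw [← hxτ]; group
    rw [h1]; exact one_mem _
  · have h1 : r * (τ * r) * r * (τ * r) = 1 := by
      rw [hrt]; group
    rw [h1]; exact one_mem _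
  · have h1 : d * r * d⁻¹ * r⁻¹ = r' * r := by
      rw [hconj, hrinv]
    rw [h1]
    exact htz

end plus

end Cfsg.Agent.Helper87.OutPlusOdd
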