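import Mathlib
import Cfsg.Agent.Lib.Helper87.Om7Defs
import Cfsg.Agent.Lib.Helper19.Om7API1
import Cfsg.Agent.Lib.Helper30.Om7API2a
import Cfsg.Agent.Lib.Helper30.Om7MONO
import Cfsg.Agent.Lib.Helper46.Om7API2b

set_option autoImplicit false

namespace Cfsg.Agent.Helper87.Om7P

open Matrix QuadraticMap Cfsg.Agent.Helper36.QuadInv Cfsg.Agent.Helper36.OmegaTrans
  Cfsg.Agent.Helper43 Cfsg.Agent.Helper87.Om7

variable {F : Type*} [Field F] [Fintype F] [DecidableEq F] {ι : Type} [Fintype ι] [DecidableEq ι]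
variable {Q : QuadraticForm F (ι → F)} {c : F} {f : Fin 7 → ι → F}

theorem b2_fix_six {σ : Equiv.Perm (Fin 7)} (h : σ ∈ P16) : σ 6 = 6 := by
  unfold P16 at h
  induction h using Subgroup.closure_induction with
  | mem y hy =>
    rcases hy with rfl | rfl | hy
    · decide
    · decide
    · rw [Set.mem_singleton_iff] at hy
      subst hy
      decide
  | one => rfl
  | mul a b _ _ iha ihb => rw [Equiv.Perm.mul_apply, ihb, iha]
  | inv a _ iha =>
    rw [Equiv.Perm.inv_eq_iff_eq]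
    exact iha.symm

/-- pure group identity -/
theorem b2_grp {G : Type*} [Group G] (g d e : G) (hd : d * d = 1) (he : e * e = 1) :
    (g * d * g⁻¹) * e * (g * d * g⁻¹)⁻¹ * e =
      g * (d * ((g⁻¹ * e * g) * d * (g⁻¹ * e * g)⁻¹)) * g⁻¹ := by
  have hd' : d⁻¹ = d := inv_eq_of_mul_eq_one_right hd
  have he' : e⁻¹ = e := inv_eq_of_mul_eq_one_right he
  simp only [_root_.mul_inv_rev, inv_inv, hd', he']
  group

theorem b2_grp2 {G : Type*} [Group G] (g d d' : G) (hd : d * d = 1) (hc : d * d' = d' * d) :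
    (g * d * g⁻¹) * (g * (d * d') * g⁻¹) * (g * d * g⁻¹)⁻¹ = g * (d * d') * g⁻¹ := by
  have hd' : d⁻¹ = d := inv_eq_of_mul_eq_one_right hd
  simp only [_root_.mul_inv_rev, inv_inv, hd']
  have : g * d * g⁻¹ * (g * (d * d') * g⁻¹) * (g * (d * g⁻¹)) = g * (d * (d * d') * d) * g⁻¹ := by
    group
  rw [this]
  have h2 : d * (d * d') * d = d * d' := by
    rw [hc, mul_assoc, mul_assoc, hd, mul_one, ← hc]
  rw [h2]

theorem conj_D_diag (hF : Frame Q c f) (h2 : ¬ IsSquare (2 : F)) (g : OG F ⇑Q)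
    (hg : ∀ x, x ∈ Cfsg.Omega F ⇑Q → x ∈ mono Q f → g * x * g⁻¹ ∈ mono Q f)
    (hg' : ∀ x, x ∈ Cfsg.Omega F ⇑Q → x ∈ mono Q f → g⁻¹ * x * g ∈ mono Q f)
    {i j : Fin 7} (hij : i ≠ j) : IsMono Q f (g * D Q f i j * g⁻¹) 1 := by
  have hDm : ∀ {k l : Fin 7}, k ≠ l → D Q f k l ∈ mono Q f :=
    fun h => ⟨1, P16.one_mem, Cfsg.Agent.Helper30.Om7.D_isMono hF h⟩
  obtain ⟨σ, hσ16, hσ⟩ := hg _ (Cfsg.Agent.Helper46.Om7.D_mem_Omega hF hij) (hDm hij)
  suffices hσ1 : σ = 1 by rw [hσ1] at hσ; exact hσ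
  by_contra hσ1
  have : ∃ a, σ a ≠ a := by
    by_contra hcon
    push Not at hcon
    exact hσ1 (Equiv.ext hcon)
  obtain ⟨a, ha⟩ := this
  obtain ⟨b, hb⟩ : ∃ b, σ a = b := ⟨_, rfl⟩
  have h66 : σ 6 = 6 := b2_fix_six hσ16
  have ha6 : a ≠ 6 := by
    intro h; apply ha; rw [h]; exact h66
  have hb6 : b ≠ 6 := by
    intro h
    apply ha6
    apply σ.injective
    rw [h66, hb]; exact h
  have hba : b ≠ a := by rw [← hb]; exact ha
  -- y = g⁻¹ D a 6 g
  obtain ⟨τ, -, hτ⟩ := hg' _ (Cfsg.Agent.Helper46.Om7.D_mem_Omega hF ha6) (hDm ha6)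
  have hτij : τ i ≠ τ j := fun h => hij (τ.injective h)
  set d := D Q f i j with hd
  set e := D Q f a 6 with he
  set d' := D Q f (τ i) (τ j) with hd'
  have hdd : d * d = 1 := Cfsg.Agent.Helper30.Om7.D_mul_self hF hij
  have hee : e * e = 1 := Cfsg.Agent.Helper30.Om7.D_mul_self hF ha6
  have h1 : (g * d * g⁻¹) * e * (g * d * g⁻¹)⁻¹ = D Q f b 6 := by
    have := Cfsg.Agent.Helper30.Om7.isMono_conj_D hF hσ ha6
    rw [h66, hb] at this
    exact this
  have h2' : (g⁻¹ * e * g) * d * (g⁻¹ * e * g)⁻¹ = d' := Cfsg.Agent.Helper30.Om7.isMono_conj_D hF hτ hij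
  have hAB : D Q f a b = g * (d * d') * g⁻¹ := by
    rw [← h2', ← b2_grp g d e hdd hee, h1, Cfsg.Agent.Helper30.Om7.D_symm hF (Ne.symm hba)]
    exact (Cfsg.Agent.Helper30.Om7.D_mul_D hF hba hb6 ha6).symm
  have hcomm : d * d' = d' * d := Cfsg.Agent.Helper30.Om7.D_comm hF hij hτij
  have h3 : (g * d * g⁻¹) * D Q f a b * (g * d * g⁻¹)⁻¹ = D Q f a b := by
    rw [hAB]; exact b2_grp2 g d d' hdd hcomm
  have hab' : a ≠ b := Ne.symm hba
  have h4 : D Q f b (σ b) = D Q f a b := by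
    rw [← h3, Cfsg.Agent.Helper30.Om7.isMono_conj_D hF hσ hab', hb]
  have hbσb : b ≠ σ b := by
    intro h
    apply hba
    apply σ.injective
    rw [hb]; exact h.symm
  have hσb : σ b = a := by
    rcases (Cfsg.Agent.Helper30.Om7.D_eq_D_iff hF hbσb hab').1 h4 with ⟨h5, _⟩ | ⟨h6, _⟩
    · exact absurd h5 hab'
    · exact h6.symm
  -- the diagonal element d'' = g⁻¹ D a b g = d d'
  have hd'' : g⁻¹ * D Q f a b * g = d * d' := by rw [hAB]; group
  have hmono'' : IsMono Q f (d * d') 1 := by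
    have := isMono_mul (Cfsg.Agent.Helper30.Om7.D_isMono hF hij) (Cfsg.Agent.Helper30.Om7.D_isMono hF hτij)
    rwa [mul_one] at this
  have hne'' : d * d' ≠ 1 := by
    intro h
    rw [h] at hd''
    apply Cfsg.Agent.Helper30.Om7.D_ne_one hF hab'
    have : D Q f a b = g * (g⁻¹ * D Q f a b * g) * g⁻¹ := by group
    rw [this, hd'']; group
  have : ∃ k, actHom (⇑Q) (d * d') (f k) = - f k := by
    by_contra hcon
    push Not at hcon
    apply hne''
    apply Cfsg.Agent.Helper30.Om7.eq_one_of_fix hF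
    intro k
    rcases hmono'' k with h | h
    · simpa using h
    · exact absurd (by simpa using h) (hcon k)
  obtain ⟨k, hk⟩ := this
  set v := actHom (⇑Q) g (f k) with hv
  -- (1) D a b v = - v
  have hDv : actHom (⇑Q) (D Q f a b) v = - v := by
    have h5 : D Q f a b * g = g * (d * d') := by rw [← hd'']; group
    rw [hv, ← act_mul, h5, act_mul, hk, map_neg]
  -- (2) x v = ± v
  have hxv : actHom (⇑Q) (g * d * g⁻¹) v = v ∨ actHom (⇑Q) (g * d * g⁻¹) v = - v := by
    have h5 : (g * d * g⁻¹) * g = g * d := by group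
    rw [hv, ← act_mul, h5, act_mul]
    rcases Cfsg.Agent.Helper30.Om7.D_isMono hF hij k with h | h
    · left; rw [h]; simp
    · right; rw [h]; simp
  -- coordinates
  have hcoord : ∀ m, m ≠ a → m ≠ b → polar Q (f m) v = 0 := by
    intro m hma hmb
    have h5 := Cfsg.Agent.Helper19.Om7.polar_act (D Q f a b) (f m) v
    rw [hDv, Cfsg.Agent.Helper30.Om7.D_act hF hab' m, if_neg (by tauto)] at h5
    rw [polar_neg_right] at h5
    have h6 : (2 : F) * polar Q (f m) v = 0 := by linear_combination -h5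
    rcases mul_eq_zero.1 h6 with h7 | h7
    · exact absurd h7 hF.two
    · exact h7
  set α := (2 * c)⁻¹ * polar Q (f a) v with hα
  set β := (2 * c)⁻¹ * polar Q (f b) v with hβ
  have hvab : v = α • f a + β • f b := by
    have h5 := Cfsg.Agent.Helper19.Om7.frame_repr hF v
    rw [Finset.sum_eq_add a b hab' (fun m _ hm => by
        rw [hcoord m hm.1 hm.2, mul_zero, zero_smul])
      (fun h => absurd (Finset.mem_univ a) h) (fun h => absurd (Finset.mem_univ b) h)] at h5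
    exact h5
  -- α² = β²
  have hsq : polar Q (f a) v * polar Q (f a) v = polar Q (f b) v * polar Q (f b) v := by
    have h5 := Cfsg.Agent.Helper19.Om7.polar_act (g * d * g⁻¹) (f a) v
    rcases hσ a with h6 | h6 <;> rcases hxv with h7 | h7 <;>
      rw [h6, h7, hb] at h5 <;> (try simp only [polar_neg_left, polar_neg_right, neg_neg] at h5) <;>
      rw [← h5] <;> ring
  have hQv : Q v = c := (Q_act (Q := ⇑Q) g (f k)).trans (hF.norm k)
  have hQv2 : Q v = (α * α + β * β) * c := by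
    rw [hvab, QuadraticMap.map_add Q (α • f a) (β • f b), QuadraticMap.map_smul Q,
      QuadraticMap.map_smul Q, polar_smul_left, polar_smul_right, hF.norm, hF.norm,
      hF.orth a b hab']
    simp only [smul_eq_mul]
    ring
  have hc0 := hF.c0
  have h20 := hF.two
  have hαβ : α * α = β * β := by
    rw [hα, hβ]
    have : (2 * c)⁻¹ * polar Q (f a) v * ((2 * c)⁻¹ * polar Q (f a) v) =
        (2 * c)⁻¹ * (2 * c)⁻¹ * (polar Q (f a) v * polar Q (f a) v) := by ring
    rw [this, hsq]; ring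
  apply h2
  refine ⟨2 * α, ?_⟩
  have h8 : (α * α + β * β) * c = c := by rw [← hQv2, hQv]
  rw [← hαβ] at h8
  have h9 : (2 * (α * α) - 1) * c = 0 := by linear_combination h8
  rcases mul_eq_zero.1 h9 with h10 | h10
  · linear_combination (-2 : F) * h10
  · exact absurd h10 hc0

end Cfsg.Agent.Helper87.Om7P
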