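import Mathlib
import Cfsg.Prelude.Def_FusionSystem
import Cfsg.Agent.Lib.Helper87.Om7Defs
import Cfsg.Agent.Lib.Helper53.TwoGroupMisc
import Cfsg.Agent.Lib.Helper23.Om7FRAME
import Cfsg.Agent.Lib.Helper26.Om7C4
import Cfsg.Agent.Lib.Helper30.Om7API2a
import Cfsg.Agent.Lib.Helper30.Om7PG
import Cfsg.Agent.Lib.Helper33.Om7GEN
import Cfsg.Agent.Lib.Helper38.Om7B3
import Cfsg.Agent.Lib.Helper41.Om7B4
import Cfsg.Agent.Lib.Helper46.Om7API2b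
import Cfsg.Agent.Lib.Helper63.Om7PERM
import Cfsg.Agent.Lib.Helper65.Om7C3
import Cfsg.Agent.Lib.Helper79.Om7C2
import Cfsg.Agent.Lib.Helper79.Om7C5
import Cfsg.Agent.Lib.Helper87.Om7B2

set_option autoImplicit false

namespace Cfsg.Agent.Helper87.Om7Fin

open Matrix QuadraticMap Cfsg.Agent.Helper36.QuadInv Cfsg.Agent.Helper36.OmegaTrans
  Cfsg.Agent.Helper43 Cfsg.Agent.Helper87.Om7

variable {F : Type*} [Field F] [Fintype F] [DecidableEq F] {ι : Type} [Fintype ι] [DecidableEq ι]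
variable {Q : QuadraticForm F (ι → F)} {c : F} {f : Fin 7 → ι → F}

theorem sa_mem : sa ∈ P8 := Subgroup.subset_closure (by simp)
theorem sb_mem : sb ∈ P8 := Subgroup.subset_closure (by simp)

theorem isPGroup_S0 (hF : Frame Q c f) : IsPGroup 2 ↥(S0 Q f) := by
  have h1 : IsPGroup 2 ↥(mono Q f) := Cfsg.Agent.Helper30.Om7.isPGroup_mono hF
  let φ : ↥(S0 Q f) →* ↥(mono Q f) :=
    { toFun := fun x => ⟨(x : ↥(Cfsg.Omega F ⇑Q)).1, (mem_S0_iff Q f x.1).1 x.2⟩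
      map_one' := rfl
      map_mul' := fun _ _ => rfl }
  have hφ : Function.Injective φ := by
    intro x y h
    have h1 : ((x : ↥(Cfsg.Omega F ⇑Q)) : OG F ⇑Q) = ((y : ↥(Cfsg.Omega F ⇑Q)) : OG F ⇑Q) :=
      congrArg (fun w : ↥(mono Q f) => (w : OG F ⇑Q)) h
    exact Subtype.ext (Subtype.ext h1)
  exact h1.of_injective φ hφ

theorem S0_ne_bot (hF : Frame Q c f) : S0 Q f ≠ ⊥ := by
  intro h
  have h01 : (0 : Fin 7) ≠ 1 := by decide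
  have hm : (⟨D Q f 0 1, Cfsg.Agent.Helper46.Om7.D_mem_Omega hF h01⟩ : ↥(Cfsg.Omega F ⇑Q)) ∈ S0 Q f := by
    rw [mem_S0_iff]
    exact ⟨1, P16.one_mem, Cfsg.Agent.Helper30.Om7.D_isMono hF h01⟩
  rw [h, Subgroup.mem_bot] at hm
  have h3 : D Q f 0 1 = ((1 : ↥(Cfsg.Omega F ⇑Q)) : OG F ⇑Q) :=
    congrArg (fun w : ↥(Cfsg.Omega F ⇑Q) => (w : OG F ⇑Q)) hm
  rw [Subgroup.coe_one] at h3
  exact Cfsg.Agent.Helper30.Om7.D_ne_one hF h01 h3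

theorem normalizer_S0 (hF : Frame Q c f) (h2 : ¬ IsSquare (2 : F)) (g : ↥(Cfsg.Omega F ⇑Q))
    (hg : g ∈ Subgroup.normalizer ((S0 Q f : Subgroup ↥(Cfsg.Omega F ⇑Q)) : Set ↥(Cfsg.Omega F ⇑Q))) :
    g ∈ S0 Q f := by
  have key : ∀ k : ↥(Cfsg.Omega F ⇑Q),
      k ∈ Subgroup.normalizer ((S0 Q f : Subgroup ↥(Cfsg.Omega F ⇑Q)) : Set ↥(Cfsg.Omega F ⇑Q)) →
      ∀ x : OG F ⇑Q, x ∈ Cfsg.Omega F ⇑Q → x ∈ mono Q f →
        (k : OG F ⇑Q) * x * (k : OG F ⇑Q)⁻¹ ∈ mono Q f := by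
    intro k hk x hx hxm
    have h1 : (⟨x, hx⟩ : ↥(Cfsg.Omega F ⇑Q)) ∈ S0 Q f := (mem_S0_iff Q f _).2 hxm
    have h2 := (Subgroup.mem_normalizer_iff.1 hk ⟨x, hx⟩).1 h1
    have h3 := (mem_S0_iff Q f _).1 h2
    rw [Subgroup.coe_mul, Subgroup.coe_mul, Subgroup.coe_inv] at h3
    exact h3
  have hgi : g⁻¹ ∈ Subgroup.normalizer
      ((S0 Q f : Subgroup ↥(Cfsg.Omega F ⇑Q)) : Set ↥(Cfsg.Omega F ⇑Q)) := Subgroup.inv_mem _ hg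
  have hg1 := key g hg
  have hg2 : ∀ x : OG F ⇑Q, x ∈ Cfsg.Omega F ⇑Q → x ∈ mono Q f →
      (g : OG F ⇑Q)⁻¹ * x * (g : OG F ⇑Q) ∈ mono Q f := by
    intro x hx hxm
    have h3 := key g⁻¹ hgi x hx hxm
    rw [Subgroup.coe_inv, inv_inv] at h3
    exact h3
  have hdiag : ∀ i j : Fin 7, i ≠ j →
      IsMono Q f ((g : OG F ⇑Q)⁻¹ * D Q f i j * (g : OG F ⇑Q)) 1 := by
    intro i j hij
    have h3 := Cfsg.Agent.Helper87.Om7P.conj_D_diag hF h2 ((g : OG F ⇑Q)⁻¹) hg2 (by rw [inv_inv]; exact hg1) hij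
    rw [inv_inv] at h3
    exact h3
  obtain ⟨σ, hσ⟩ := Cfsg.Agent.Helper38.Om7.exists_perm_of_diag hF (g : OG F ⇑Q) hdiag
  have hσ16 := Cfsg.Agent.Helper41.Om7.perm_mem_P16 hF (g : OG F ⇑Q) σ hσ hg1
  exact (mem_S0_iff Q f g).2 ⟨σ, hσ16, hσ⟩

theorem strongly_closed_S0 (hF : Frame Q c f) (h2 : ¬ IsSquare (2 : F))
    (T : Subgroup ↥(Cfsg.Omega F ⇑Q)) (hTS : T ≤ S0 Q f) (hT1 : T ≠ ⊥)
    (hcl : ∀ t ∈ T, ∀ g : ↥(Cfsg.Omega F ⇑Q), g * t * g⁻¹ ∈ S0 Q f → g * t * g⁻¹ ∈ T) :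
    T = S0 Q f := by
  classical
  -- the image of `T` in the isometry group
  set T' : Subgroup (OG F ⇑Q) := T.map (Cfsg.Omega F ⇑Q).subtype with hT'
  have memT' : ∀ x : OG F ⇑Q, x ∈ T' ↔ ∃ hx : x ∈ Cfsg.Omega F ⇑Q, (⟨x, hx⟩ : ↥(Cfsg.Omega F ⇑Q)) ∈ T := by
    intro x
    constructor
    · rintro ⟨y, hy, rfl⟩
      exact ⟨y.2, hy⟩
    · rintro ⟨hx, hy⟩
      exact ⟨⟨x, hx⟩, hy, rfl⟩
  have hcl' : ∀ t ∈ T', ∀ g, g ∈ Cfsg.Omega F ⇑Q → g * t * g⁻¹ ∈ mono Q f → g * t * g⁻¹ ∈ T' := by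
    intro t ht g hg hm
    obtain ⟨htΩ, htT⟩ := (memT' t).1 ht
    have h1 : (⟨g, hg⟩ : ↥(Cfsg.Omega F ⇑Q)) * ⟨t, htΩ⟩ * (⟨g, hg⟩ : ↥(Cfsg.Omega F ⇑Q))⁻¹ ∈ S0 Q f := by
      rw [mem_S0_iff, Subgroup.coe_mul, Subgroup.coe_mul, Subgroup.coe_inv]
      exact hm
    have h3 := hcl _ htT ⟨g, hg⟩ h1
    have h4 : g * t * g⁻¹ = (((⟨g, hg⟩ : ↥(Cfsg.Omega F ⇑Q)) * ⟨t, htΩ⟩ *
        (⟨g, hg⟩ : ↥(Cfsg.Omega F ⇑Q))⁻¹ : ↥(Cfsg.Omega F ⇑Q)) : OG F ⇑Q) := by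
      rw [Subgroup.coe_mul, Subgroup.coe_mul, Subgroup.coe_inv]
    rw [h4]
    exact (memT' _).2 ⟨Subtype.property _, h3⟩
  -- a central involution
  have hS0p : IsPGroup 2 ↥(S0 Q f) := isPGroup_S0 hF
  have hnorm : (T.subgroupOf (S0 Q f)).Normal := by
    constructor
    intro n hn s
    rw [Subgroup.mem_subgroupOf] at hn ⊢
    have := hcl _ hn (s : ↥(Cfsg.Omega F ⇑Q)) (by
      exact (S0 Q f).mul_mem ((S0 Q f).mul_mem s.2 n.2) ((S0 Q f).inv_mem s.2))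
    simpa using this
  have hNne : T.subgroupOf (S0 Q f) ≠ ⊥ := by
    intro h
    apply hT1
    rw [Subgroup.subgroupOf_eq_bot] at h
    rw [disjoint_iff, inf_eq_left.2 hTS] at h
    exact h
  obtain ⟨z, hzN, hz2, hzc⟩ :=
    Cfsg.Agent.Helper53.exists_central_invol_of_normal hS0p (T.subgroupOf (S0 Q f)) hNne
  have hz1 : z ≠ 1 := by
    intro h
    rw [h, orderOf_one] at hz2
    norm_num at hz2
  rw [Subgroup.mem_subgroupOf] at hzN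
  set z0 : OG F ⇑Q := ((z : ↥(Cfsg.Omega F ⇑Q)) : OG F ⇑Q) with hz0
  have hz0Ω : z0 ∈ Cfsg.Omega F ⇑Q := (z : ↥(Cfsg.Omega F ⇑Q)).2
  have hz0m : z0 ∈ mono Q f := (mem_S0_iff Q f _).1 z.2
  have hz0T : z0 ∈ T' := (memT' z0).2 ⟨hz0Ω, hzN⟩
  have hz0c : ∀ s, s ∈ Cfsg.Omega F ⇑Q → s ∈ mono Q f → s * z0 = z0 * s := by
    intro s hs hsm
    have h1 := Subgroup.mem_center_iff.1 hzc ⟨⟨s, hs⟩, (mem_S0_iff Q f _).2 hsm⟩
    have h3 := congrArg (fun y : ↥(S0 Q f) => ((y : ↥(Cfsg.Omega F ⇑Q)) : OG F ⇑Q)) h1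
    exact h3
  have hz0ne : z0 ≠ 1 := by
    intro h
    apply hz1
    exact Subtype.ext (Subtype.ext h)
  have hz : D Q f 0 1 * D Q f 2 3 ∈ T' ∨ D Q f 4 5 ∈ T' ∨
      D Q f 0 1 * D Q f 2 3 * D Q f 4 5 ∈ T' := by
    rcases Cfsg.Agent.Helper79.Om7.center_cases hF z0 hz0Ω hz0m hz0c with h | h | h | h
    · exact absurd h hz0ne
    · left; rw [← h]; exact hz0T
    · right; left; rw [← h]; exact hz0T
    · right; right; rw [← h]; exact hz0T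
  have hE := Cfsg.Agent.Helper65.Om7.E_le_of_central hF T' hcl' hz
  have h01 : (0 : Fin 7) ≠ 1 := by decide
  have hW : ∀ {a b p q : Fin 7}, a ≠ b → p ≠ q → a ≠ p → a ≠ q → b ≠ p → b ≠ q →
      Equiv.swap a b * Equiv.swap p q ∈ P16 → W Q f a b p q ∈ T' := by
    intro a b p q hab hpq hap haq hbp hbq hmem
    obtain ⟨g, hg, hgc⟩ := Cfsg.Agent.Helper26.Om7.fusion hF h2 hab hpq hap haq hbp hbq
    rw [← hgc]
    apply hcl' _ (hE 0 1 h01) g hg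
    rw [hgc]
    exact ⟨_, hmem, Cfsg.Agent.Helper30.Om7.W_isMono hF hab hpq hap haq hbp hbq⟩
  have hW1 : W Q f 0 1 2 3 ∈ T' :=
    hW (by decide) (by decide) (by decide) (by decide) (by decide) (by decide)
      (Cfsg.Agent.Helper63.Om7.P8_le_P16 sa_mem)
  have hW2 : W Q f 0 2 4 5 ∈ T' :=
    hW (by decide) (by decide) (by decide) (by decide) (by decide) (by decide)
      (Cfsg.Agent.Helper63.Om7.P8_le_P16 sb_mem)
  apply le_antisymm hTS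
  intro x hx
  have hxm := (mem_S0_iff Q f x).1 hx
  have := Cfsg.Agent.Helper79.Om7.generate hF h2 T' hE hW1 hW2 (x : OG F ⇑Q) x.2 hxm
  obtain ⟨_, h⟩ := (memT' _).1 this
  exact h

theorem om7_main (hF : Frame Q c f) (h2 : ¬ IsSquare (2 : F))
    (S : Sylow 2 ↥(Cfsg.Omega F ⇑Q)) :
    (Cfsg.groupFusionSystem (S : Subgroup ↥(Cfsg.Omega F ⇑Q))).autGroup
        (S : Subgroup ↥(Cfsg.Omega F ⇑Q)) = Cfsg.Inn ↥(S : Subgroup ↥(Cfsg.Omega F ⇑Q)) ∧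
    (∀ T : Subgroup ↥(Cfsg.Omega F ⇑Q),
      (Cfsg.groupFusionSystem (S : Subgroup ↥(Cfsg.Omega F ⇑Q))).StronglyClosed T →
      T = ⊥ ∨ T = (S : Subgroup ↥(Cfsg.Omega F ⇑Q))) ∧
    (Cfsg.groupFusionSystem (S : Subgroup ↥(Cfsg.Omega F ⇑Q))).IsSimple 2 :=
  Cfsg.Agent.Helper33.Om7.main_of_sylow (S0 Q f) (isPGroup_S0 hF) (S0_ne_bot hF) (normalizer_S0 hF h2)
    (strongly_closed_S0 hF h2) S

theorem two_ne_zero_of_mod (q : ℕ) (hq : Fintype.card F = q) (h : q % 8 = 3 ∨ q % 8 = 5) :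
    (2 : F) ≠ 0 := by
  intro h0
  have h1 : ringChar F ∣ 2 := by
    rw [← ringChar.spec]; exact_mod_cast h0
  have h2 : ringChar F = 2 := by
    rcases (Nat.dvd_prime Nat.prime_two).1 h1 with h' | h'
    · exfalso
      have : (1 : F) = 0 := by
        have := ringChar.spec F 1 |>.2 (by rw [h'])
        simpa using this
      exact one_ne_zero this
    · exact h'
  have := FiniteField.even_card_of_char_two h2
  omega

theorem final (q : ℕ) (hq : Fintype.card F = q) (h : q % 8 = 3 ∨ q % 8 = 5)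
    (S : Sylow 2 ↥(Cfsg.Omega F ⇑(stdOdd F 3))) :
    (Cfsg.groupFusionSystem (S : Subgroup ↥(Cfsg.Omega F ⇑(stdOdd F 3)))).autGroup
        (S : Subgroup ↥(Cfsg.Omega F ⇑(stdOdd F 3))) =
      Cfsg.Inn ↥(S : Subgroup ↥(Cfsg.Omega F ⇑(stdOdd F 3))) ∧
    (∀ T : Subgroup ↥(Cfsg.Omega F ⇑(stdOdd F 3)),
      (Cfsg.groupFusionSystem (S : Subgroup ↥(Cfsg.Omega F ⇑(stdOdd F 3)))).StronglyClosed T →
      T = ⊥ ∨ T = (S : Subgroup ↥(Cfsg.Omega F ⇑(stdOdd F 3)))) ∧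
    (Cfsg.groupFusionSystem (S : Subgroup ↥(Cfsg.Omega F ⇑(stdOdd F 3)))).IsSimple 2 := by
  have h2 := two_ne_zero_of_mod q hq h
  have hns : ¬ IsSquare (2 : F) := by
    rw [FiniteField.isSquare_two_iff, hq]
    omega
  obtain ⟨f, hf⟩ := Cfsg.Agent.Helper23.Om7.exists_frame (F := F) h2
  exact om7_main hf hns S

end Cfsg.Agent.Helper87.Om7Fin
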