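import Mathlib

set_option autoImplicit false
set_option maxRecDepth 100000

namespace Cfsg.Agent.Helper87.OutS3

open Equiv

/-- the 3-cycle used as reference -/
def sig0 : Perm (Fin 3) := c[0, 1, 2]

theorem perm3_decomp : ∀ ρ : Perm (Fin 3), ρ ≠ 1 → ρ * ρ = 1 →
    ∀ g : Perm (Fin 3), ∃ i : Fin 3, ∃ j : Fin 2, g = sig0 ^ (i : ℕ) * ρ ^ (j : ℕ) := by
  decide

theorem perm3_conj : ∀ ρ : Perm (Fin 3), ρ ≠ 1 → ρ * ρ = 1 → ρ * sig0 * ρ = sig0⁻¹ := by
  decide

theorem perm3_sign : ∀ ρ : Perm (Fin 3), ρ ≠ 1 → ρ * ρ = 1 → Perm.sign ρ = -1 := by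
  decide

theorem sig0_cube : sig0 ^ 3 = 1 := by decide

theorem sig0_ne_one : sig0 ≠ 1 := by decide

theorem sig0_sign : Perm.sign sig0 = 1 := by decide

theorem orderOf_sig0 : orderOf sig0 = 3 :=
  orderOf_eq_prime sig0_cube sig0_ne_one

section dih

variable {E : Type*} [Group E] {v r : E}

/-- normal form in the closure of `{v, r}` when `r` is an involution inverting `v`. -/
theorem closure_normal_form (hr : r * r = 1) (hinv : r * v * r = v⁻¹) :
    ∀ d ∈ Subgroup.closure ({v, r} : Set E),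
      d ∈ Subgroup.zpowers v ∨ d * r ∈ Subgroup.zpowers v := by
  have hrinv : r⁻¹ = r := inv_eq_of_mul_eq_one_right hr
  have hrr : ∀ a : E, r * (r * a) = a := fun a => by rw [← mul_assoc, hr, one_mul]
  have hnorm : ∀ w ∈ Subgroup.zpowers v, r * w * r ∈ Subgroup.zpowers v := by
    rintro w ⟨k, rfl⟩
    refine ⟨-k, ?_⟩
    have h1 : r * v ^ k * r = (r * v * r⁻¹) ^ k := by
      rw [conj_zpow, hrinv]
    show v ^ (-k) = r * v ^ k * r
    rw [h1, hrinv, hinv, inv_zpow, zpow_neg]
  intro d hd
  induction hd using Subgroup.closure_induction with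
  | mem x hx =>
    rcases hx with rfl | hx
    · exact Or.inl (Subgroup.mem_zpowers _)
    · rw [Set.mem_singleton_iff] at hx
      subst hx
      right
      rw [hr]
      exact one_mem _
  | one => exact Or.inl (one_mem _)
  | mul x y _ _ hx hy =>
    rcases hx with hx | hx <;> rcases hy with hy | hy
    · exact Or.inl (mul_mem hx hy)
    · right
      rw [mul_assoc]
      exact mul_mem hx hy
    · right
      have : x * y * r = (x * r) * (r * y * r) := by
        simp only [mul_assoc, hrr]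
      rw [this]
      exact mul_mem hx (hnorm y hy)
    · left
      have : x * y = (x * r) * (r * (y * r) * r) := by
        simp only [mul_assoc, hrr, hr, mul_one]
      rw [this]
      exact mul_mem hx (hnorm _ hy)
  | inv x _ hx =>
    rcases hx with hx | hx
    · exact Or.inl (inv_mem hx)
    · right
      have : x⁻¹ * r = r * (x * r)⁻¹ * r := by
        rw [mul_inv_rev, hrinv]
        simp only [hrr]
      rw [this]
      exact hnorm _ (inv_mem hx)

end dih

/-- **Lemma A.** A finite group mapping onto `S₃` with cyclic kernel of order `f`, centralised by an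
involution which maps to a non-identity element, is `S₃ × C_f`. -/
theorem s3_prod_cyclic {E : Type*} [Group E] [Finite E] (ψ : E →* Perm (Fin 3))
    (hψ : Function.Surjective ψ) (f : ℕ) (hZ : IsCyclic ψ.ker) (hcard : Nat.card ψ.ker = f)
    (r : E) (hr : r * r = 1) (hψr : ψ r ≠ 1) (hcomm : ∀ z ∈ ψ.ker, r * z = z * r) :
    Nonempty (E ≃* Perm (Fin 3) × Multiplicative (ZMod f)) := by
  classical
  subst hcard
  have hrinv : r⁻¹ = r := inv_eq_of_mul_eq_one_right hr
  have hρ2 : ψ r * ψ r = 1 := by rw [← map_mul, hr, map_one]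
  obtain ⟨t0, ht0⟩ := hψ sig0
  -- the kernel is abelian
  have hZab : ∀ a ∈ ψ.ker, ∀ b ∈ ψ.ker, a * b = b * a := by
    intro a ha b hb
    let _ := @IsCyclic.commGroup ψ.ker _ hZ
    have := mul_comm (⟨a, ha⟩ : ψ.ker) ⟨b, hb⟩
    exact congrArg Subtype.val this
  -- the conjugation action on the kernel
  let κ : E →* MulAut ψ.ker := MulAut.conjNormal
  have hκ : ∀ e : E, κ e = 1 ↔ ∀ z ∈ ψ.ker, e * z = z * e := by
    intro e
    constructor
    · intro h z hz
      have h1 : ((κ e) ⟨z, hz⟩ : E) = z := by rw [h]; rfl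
      rw [MulAut.conjNormal_apply] at h1
      calc e * z = e * z * e⁻¹ * e := by group
        _ = z * e := by rw [h1]
    · intro h
      ext ⟨z, hz⟩
      rw [MulAut.conjNormal_apply]
      show e * z * e⁻¹ = z
      rw [h z hz]; group
  have hκZ : ∀ z ∈ ψ.ker, κ z = 1 := fun z hz => (hκ z).2 (fun w hw => hZab z hz w hw)
  have hκr : κ r = 1 := (hκ r).2 hcomm
  -- `t0` acts trivially
  have hs : ψ (r * t0 * r) = sig0⁻¹ := by
    rw [map_mul, map_mul, ht0]
    exact perm3_conj _ hψr hρ2
  have hκt2 : κ t0 * κ t0 = 1 := by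
    have hmem : r * t0 * r * t0 ∈ ψ.ker := by
      rw [MonoidHom.mem_ker, map_mul, hs, ht0, inv_mul_cancel]
    have := hκZ _ hmem
    rwa [map_mul, map_mul, map_mul, hκr, one_mul, mul_one] at this
  have hκt3 : κ t0 ^ 3 = 1 := by
    have hmem : t0 ^ 3 ∈ ψ.ker := by
      rw [MonoidHom.mem_ker, map_pow, ht0, sig0_cube]
    have := hκZ _ hmem
    rwa [map_pow] at this
  have hκt : κ t0 = 1 := by
    have h1 : κ t0 = κ t0 ^ 3 * (κ t0 * κ t0)⁻¹ := by group
    rw [h1, hκt3, hκt2, inv_one, mul_one]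
  -- decomposition of every element
  have hdec : ∀ (a : E), ψ a = sig0 → ∀ e : E, ∃ i : ℕ, ∃ j : ℕ, ∃ z ∈ ψ.ker,
      e = a ^ i * r ^ j * z := by
    intro a ha e
    obtain ⟨i, j, hij⟩ := perm3_decomp _ hψr hρ2 (ψ e)
    refine ⟨i, j, (a ^ (i : ℕ) * r ^ (j : ℕ))⁻¹ * e, ?_, by group⟩
    rw [MonoidHom.mem_ker, map_mul, map_inv, map_mul, map_pow, map_pow, ha, hij, inv_mul_cancel]
  have hκall : ∀ e : E, κ e = 1 := by
    intro e
    obtain ⟨i, j, z, hz, rfl⟩ := hdec t0 ht0 e
    rw [map_mul, map_mul, map_pow, map_pow, hκt, hκr, one_pow, one_pow, hκZ z hz, one_mul, one_mul]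
  have hcentral : ∀ e : E, ∀ z ∈ ψ.ker, e * z = z * e := fun e => (hκ e).1 (hκall e)
  -- the element of order 3 inverted by r
  set u : E := t0⁻¹ * r * t0 * r with hu
  have hψu : ψ u = sig0 := by
    have h1 : u = t0⁻¹ * (r * t0 * r) := by rw [hu]; group
    rw [h1, map_mul, hs, map_inv, ht0]
    have h3 := sig0_cube
    calc sig0⁻¹ * sig0⁻¹ = sig0⁻¹ * sig0⁻¹ * sig0 ^ 3 := by rw [h3, mul_one]
      _ = sig0 := by group
  have hru : r * u * r = u⁻¹ := by
    rw [hu]
    simp only [mul_inv_rev, inv_inv, hrinv, mul_assoc, hr, mul_one]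
  have hconj : ∀ k : ℕ, r * u ^ k * r = (u ^ k)⁻¹ := by
    intro k
    have h1 : r * u ^ k * r = (r * u * r⁻¹) ^ k := by rw [conj_pow, hrinv]
    rw [h1, hrinv, hru, inv_pow]
  have hu6 : u ^ 6 = 1 := by
    have hmem : u ^ 3 ∈ ψ.ker := by
      rw [MonoidHom.mem_ker, map_pow, hψu, sig0_cube]
    have h1 : r * u ^ 3 * r = u ^ 3 := by
      rw [hcomm _ hmem, mul_assoc, hr, mul_one]
    have h2 := hconj 3
    rw [h1] at h2
    have h3 : u ^ 3 * u ^ 3 = 1 := by
      nth_rewrite 1 [h2]
      exact inv_mul_cancel _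
    rw [show 6 = 3 + 3 from rfl, pow_add]
    exact h3
  set v : E := u ^ 4 with hv
  have hψv : ψ v = sig0 := by
    rw [hv, map_pow, hψu, show 4 = 3 + 1 from rfl, pow_add, sig0_cube, one_mul, pow_one]
  have hrv : r * v * r = v⁻¹ := hconj 4
  have hv3 : v ^ 3 = 1 := by
    rw [hv, ← pow_mul, show 4 * 3 = 6 * 2 from rfl, pow_mul, hu6, one_pow]
  clear_value v
  -- the complement
  set D : Subgroup E := Subgroup.closure ({v, r} : Set E) with hD
  have hvD : v ∈ D := Subgroup.subset_closure (Set.mem_insert _ _)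
  have hrD : r ∈ D := Subgroup.subset_closure (Set.mem_insert_of_mem _ rfl)
  have hDZ : ∀ d ∈ D, ψ d = 1 → d = 1 := by
    intro d hd hψd
    rcases closure_normal_form hr hrv d hd with h | h
    · obtain ⟨k, rfl⟩ := h
      have hk : sig0 ^ k = 1 := by
        have : ψ (v ^ k) = sig0 ^ k := by rw [map_zpow, hψv]
        rw [← this]; exact hψd
      have hdvd : (3 : ℤ) ∣ k := by
        have := (orderOf_dvd_iff_zpow_eq_one (x := sig0) (i := k)).2 hk
        rwa [orderOf_sig0] at this
      obtain ⟨m, rfl⟩ := hdvd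
      show v ^ (3 * m) = 1
      rw [zpow_mul, zpow_ofNat, hv3, one_zpow]
    · exfalso
      obtain ⟨k, hk⟩ := h
      have h1 : ψ r = sig0 ^ k := by
        have : ψ (d * r) = sig0 ^ k := by
          rw [← hk]
          show ψ (v ^ k) = sig0 ^ k
          rw [map_zpow, hψv]
        rwa [map_mul, hψd, one_mul] at this
      have h2 := perm3_sign _ hψr hρ2
      rw [h1, map_zpow, sig0_sign, one_zpow] at h2
      exact absurd h2 (by decide)
  have hDsurj : ∀ g : Perm (Fin 3), ∃ d ∈ D, ψ d = g := by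
    intro g
    obtain ⟨i, j, hij⟩ := perm3_decomp _ hψr hρ2 g
    refine ⟨v ^ (i : ℕ) * r ^ (j : ℕ), mul_mem (pow_mem hvD _) (pow_mem hrD _), ?_⟩
    rw [map_mul, map_pow, map_pow, hψv, hij]
  -- `D ≃* S₃`
  let ψD : D →* Perm (Fin 3) := ψ.comp D.subtype
  have hψD : Function.Bijective ψD := by
    constructor
    · rw [injective_iff_map_eq_one]
      intro d hd
      exact Subtype.ext (hDZ d d.2 hd)
    · intro g
      obtain ⟨d, hd, hdg⟩ := hDsurj g
      exact ⟨⟨d, hd⟩, hdg⟩
  let eD : D ≃* Perm (Fin 3) := MulEquiv.ofBijective ψD hψD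
  -- the product map
  let Φ : D × ψ.ker →* E := MonoidHom.noncommCoprod D.subtype ψ.ker.subtype
    (fun d z => (hcentral d z z.2))
  have hΦ : ∀ p : D × ψ.ker, Φ p = (p.1 : E) * (p.2 : E) := fun p => rfl
  have hΦbij : Function.Bijective Φ := by
    constructor
    · rw [injective_iff_map_eq_one]
      rintro ⟨d, z⟩ h
      rw [hΦ] at h
      have hdz : (d : E) = (z : E)⁻¹ := eq_inv_of_mul_eq_one_left h
      have hd1 : (d : E) = 1 := by
        apply hDZ d d.2
        rw [hdz, map_inv]
        have := z.2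
        rw [MonoidHom.mem_ker] at this
        rw [this, inv_one]
      have hz1 : (z : E) = 1 := by
        rw [hd1, one_mul] at h
        exact h
      exact Prod.ext (Subtype.ext hd1) (Subtype.ext hz1)
    · intro e
      obtain ⟨d, hd, hde⟩ := hDsurj (ψ e)
      refine ⟨(⟨d, hd⟩, ⟨d⁻¹ * e, ?_⟩), ?_⟩
      · rw [MonoidHom.mem_ker, map_mul, map_inv, hde, inv_mul_cancel]
      · rw [hΦ]
        show d * (d⁻¹ * e) = e
        group
  let eΦ : D × ψ.ker ≃* E := MulEquiv.ofBijective Φ hΦbij
  let eZ : Multiplicative (ZMod (Nat.card ψ.ker)) ≃* ψ.ker := zmodCyclicMulEquiv hZ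
  exact ⟨eΦ.symm.trans (MulEquiv.prodCongr eD eZ.symm)⟩

/-- **Lemma A'.** `E` of order `6f` with an abelian subgroup `H` of index 3 generated by an
involution `r` and an element `φ`, such that some conjugate of `r` is outside `H`, is `S₃ × C_f`. -/
theorem s3_prod_cyclic_of_index_three {E : Type*} [Group E] [Finite E] (f : ℕ)
    (hE : Nat.card E = 6 * f) (H : Subgroup E) (hH : H.index = 3)
    (hab : ∀ a ∈ H, ∀ b ∈ H, a * b = b * a)
    (r φ : E) (hrH : r ∈ H) (hφH : φ ∈ H) (hr : r * r = 1)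
    (hgen : ∀ h ∈ H, ∃ k : ℕ, h = φ ^ k ∨ h = φ ^ k * r)
    (α : E) (hα : α * r * α⁻¹ ∉ H) :
    Nonempty (E ≃* Perm (Fin 3) × Multiplicative (ZMod f)) := by
  classical
  have hf : f ≠ 0 := by
    rintro rfl
    have := Nat.card_pos (α := E)
    omega
  set C : Subgroup E := H.normalCore with hC
  have hCH : C ≤ H := Subgroup.normalCore_le H
  have hrC : r ∉ C := by
    intro h
    have h2 : α * r * α⁻¹ ∈ C := (inferInstance : C.Normal).conj_mem r h α
    exact hα (hCH h2)
  -- the coset action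
  have e3 : (E ⧸ H) ≃ Fin 3 := Finite.equivFinOfCardEq hH
  let ψ : E →* Perm (Fin 3) :=
    (e3.permCongrHom : Perm (E ⧸ H) →* Perm (Fin 3)).comp (MulAction.toPermHom E (E ⧸ H))
  have hker : ψ.ker = C := by
    rw [hC, Subgroup.normalCore_eq_ker]
    ext x
    simp only [MonoidHom.mem_ker, ψ, MonoidHom.comp_apply]
    exact EmbeddingLike.map_eq_one_iff (f := e3.permCongrHom)
  -- index computation
  have hperm : Nat.card (Perm (Fin 3)) = 6 := by
    rw [Nat.card_eq_fintype_card, Fintype.card_perm, Fintype.card_fin]; rfl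
  have hidx : C.index = 6 := by
    have h1 : C.relIndex H * H.index = C.index := Subgroup.relIndex_mul_index hCH
    have h2 : C.index = Nat.card ψ.range := by rw [← hker, Subgroup.index_ker]
    have h3 : Nat.card ψ.range ≤ 6 := by
      have := Subgroup.card_le_card_group ψ.range
      rwa [hperm] at this
    have h4 : C.relIndex H ≠ 1 := by
      intro h
      rw [Subgroup.relIndex_eq_one] at h
      exact hrC (h hrH)
    have h5 : C.relIndex H ≠ 0 := by
      intro h
      rw [h, zero_mul] at h1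
      have := Subgroup.index_ne_zero_of_finite (H := C)
      exact this h1.symm
    rw [hH] at h1
    omega
  have hsurj : Function.Surjective ψ := by
    rw [← MonoidHom.range_eq_top]
    apply Subgroup.eq_top_of_card_eq
    rw [← Subgroup.index_ker, hker, hidx, hperm]
  have hcardC : Nat.card C = f := by
    have := Subgroup.card_mul_index C
    rw [hidx, hE] at this
    omega
  -- the core is cyclic
  have hcyc : IsCyclic C := by
    let R : Subgroup H := (Subgroup.zpowers r).subgroupOf H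
    have nR : R.Normal := by
      refine ⟨fun n hn g => ?_⟩
      have : g * n * g⁻¹ = n := by
        apply Subtype.ext
        show (g : E) * n * (g : E)⁻¹ = n
        rw [hab g g.2 n n.2]; group
      rw [this]; exact hn
    have hQ : IsCyclic (H ⧸ R) := by
      refine ⟨⟨QuotientGroup.mk ⟨φ, hφH⟩, fun x => ?_⟩⟩
      obtain ⟨h, rfl⟩ := QuotientGroup.mk_surjective x
      obtain ⟨k, hk | hk⟩ := hgen h h.2
      · refine ⟨k, ?_⟩
        show (QuotientGroup.mk (⟨φ, hφH⟩ : H) : H ⧸ R) ^ (k : ℤ) = _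
        rw [zpow_natCast, ← QuotientGroup.mk_pow]
        congr 1
        exact Subtype.ext hk.symm
      · refine ⟨k, ?_⟩
        show (QuotientGroup.mk (⟨φ, hφH⟩ : H) : H ⧸ R) ^ (k : ℤ) = _
        rw [zpow_natCast, ← QuotientGroup.mk_pow]
        symm
        rw [QuotientGroup.eq]
        show (h⁻¹ * ⟨φ, hφH⟩ ^ k : H) ∈ R
        rw [Subgroup.mem_subgroupOf]
        show (h : E)⁻¹ * φ ^ k ∈ Subgroup.zpowers r
        rw [hk]
        refine ⟨1, ?_⟩
        show r ^ (1 : ℤ) = _
        have hrinv : r⁻¹ = r := inv_eq_of_mul_eq_one_right hr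
        rw [zpow_one, mul_inv_rev, hrinv]; group
    let C' : Subgroup H := C.subgroupOf H
    let j : C' →* H ⧸ R := (QuotientGroup.mk' R).comp C'.subtype
    have hj : Function.Injective j := by
      rw [injective_iff_map_eq_one]
      intro c hc
      have h1 : (c : H) ∈ R := by
        have : (QuotientGroup.mk (c : H) : H ⧸ R) = 1 := hc
        rwa [QuotientGroup.eq_one_iff] at this
      rw [Subgroup.mem_subgroupOf] at h1
      obtain ⟨k, hk⟩ := h1
      have hcC : ((c : H) : E) ∈ C := c.2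
      have hr2 : r ^ (2 : ℤ) = 1 := by
        rw [show (2 : ℤ) = ((2 : ℕ) : ℤ) from rfl, zpow_natCast, pow_two, hr]
      have hc1 : ((c : H) : E) = 1 := by
        rcases Int.emod_two_eq_zero_or_one k with h | h
        · have : k = 2 * (k / 2) := by omega
          have hk' : r ^ k = ((c : H) : E) := hk
          rw [← hk', this, zpow_mul, hr2, one_zpow]
        · exfalso
          have : k = 2 * (k / 2) + 1 := by omega
          have hk' : r ^ k = ((c : H) : E) := hk
          rw [this, zpow_add, zpow_mul, hr2, one_zpow, one_mul, zpow_one] at hk'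
          rw [← hk'] at hcC
          exact hrC hcC
      exact Subtype.ext (Subtype.ext hc1)
    have hC' : IsCyclic C' := isCyclic_of_injective j hj
    exact isCyclic_of_surjective (Subgroup.subgroupOfEquivOfLe hCH)
      (Subgroup.subgroupOfEquivOfLe hCH).surjective
  have hψr : ψ r ≠ 1 := by
    intro h
    apply hrC
    rw [← hker]
    exact h
  refine s3_prod_cyclic ψ hsurj f ?_ ?_ r hr hψr ?_
  · rw [hker]; exact hcyc
  · rw [hker]; exact hcardC
  · intro z hz
    rw [hker] at hz
    exact hab r hrH z (hCH hz)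

end Cfsg.Agent.Helper87.OutS3
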