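import Mathlib
import Cfsg.Agent.Lib.Helper43.OGam5
import Cfsg.Agent.Lib.Helper14.OrthAutCount
import Cfsg.Agent.Lib.Helper14.AutCount
import Cfsg.Agent.Lib.Helper42.TriCB
import Cfsg.Agent.Lib.Helper85.TriCA
import Cfsg.Agent.Lib.Helper43.OrthPlus
import Cfsg.Agent.Lib.Helper43.Tri.Main2
import Cfsg.Agent.Lib.Helper87.OutS3
import Cfsg.Agent.S2695
import Cfsg.Agent.S0296

/-!
# `Out(PΩ⁺_{2m}(2^f))`: `C₂ × C_f` for `m ≥ 5`, `S₃ × C_f` for `m = 4` (S2607)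

* `out_equiv_s3`: generic theorem (any `Q`): `PΓO` of index three in `Aut`, a conjugate of a
  similarity-induced automorphism outside `PΓO`, `[PGO-image : Inn] = 2` ⟹ `Out ≅ S₃ × C_f`.
* `out_plus_even_ge5`, `out_plus_even_four`: the two branches of S2607.
-/

set_option autoImplicit false
set_option linter.unusedSectionVars false
set_option linter.style.haveILetI false

namespace Cfsg.Agent.Helper87.OutPlusEven

open Matrix QuadraticMap Cfsg.Agent.Helper13 Cfsg.Agent.Helper43 Cfsg.Agent.Helper43.OGam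
  Cfsg.Agent.Helper5.OrthAut

section grp

variable {E : Type*} [Group E]

theorem comm_of_forms {r φ : E} (hrφ : r * φ = φ * r) {a b : E}
    (ha : ∃ k : ℕ, a = φ ^ k ∨ a = φ ^ k * r) (hb : ∃ k : ℕ, b = φ ^ k ∨ b = φ ^ k * r) :
    a * b = b * a := by
  have hc : Commute r φ := hrφ
  obtain ⟨i, rfl | rfl⟩ := ha <;> obtain ⟨j, rfl | rfl⟩ := hb
  · exact ((Commute.refl φ).pow_pow i j).eq
  · exact (((Commute.refl φ).pow_pow i j).mul_right ((hc.pow_right i).symm)).eq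
  · exact (((Commute.refl φ).pow_pow i j).mul_left (hc.pow_right j)).eq
  · exact ((((Commute.refl φ).pow_pow i j).mul_left (hc.pow_right j)).mul_right
      (((hc.pow_right i).symm).mul_left (Commute.refl r))).eq

end grp

section main

variable {F : Type*} [Field F] [Fintype F] {ι : Type} [Fintype ι] [DecidableEq ι]
  (Q : QuadraticForm F (ι → F))

set_option maxHeartbeats 1600000 in
/-- The generic theorem for triality: if `PΓO(Q)` has index three in `Aut(PΩ(Q))`, is not normal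
there in the strong sense that a conjugate of a similarity-induced automorphism leaves it, field
automorphisms preserve `Q`, and `Inn(PΩ)` has index two in the image of the similarity group,
then `Out(PΩ(Q)) ≅ S₃ × C_f`. -/
theorem out_equiv_s3 (hQ : (polarBilin Q).Nondegenerate) {k : ℕ}
    (e f : Fin k → (ι → F)) (hef : IsHypFamily Q e f) (hk : 3 ≤ k) (hn : 5 ≤ Fintype.card ι)
    (hQσ : ∀ (σ : F ≃+* F) (v : ι → F), Q (fun i => σ (v i)) = σ (Q v))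
    (hInn : Cfsg.Inn (Cfsg.POmega F ⇑Q) ≤ Cfsg.pgoAut F ⇑Q)
    (hidx : (Cfsg.Inn (Cfsg.POmega F ⇑Q)).relIndex (Cfsg.pgoAut F ⇑Q) = 2)
    (h3 : (Cfsg.gammaPOmega F ⇑Q).index = 3)
    (hτ : ∃ α r : MulAut (Cfsg.POmega F ⇑Q), r ∈ Cfsg.pgoAut F ⇑Q ∧
      α * r * α⁻¹ ∉ Cfsg.gammaPOmega F ⇑Q)
    {p f' : ℕ} [Fact p.Prime] (hf : 1 ≤ f') (hF : Fintype.card F = p ^ f') :
    Nonempty (Cfsg.Out (Cfsg.POmega F ⇑Q) ≃* Equiv.Perm (Fin 3) × Multiplicative (ZMod f')) := by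
  classical
  have hchar : CharP F p := charP_of_card_eq_prime_pow hF
  haveI : NeZero f' := ⟨by omega⟩
  have hι : Nonempty ι := by
    by_contra h
    rw [not_nonempty_iff] at h
    rw [Fintype.card_eq_zero] at hn
    omega
  have hmap : (Lin ⇑Q).map (Theta ⇑Q) = Cfsg.pgoAut F ⇑Q :=
    Cfsg.Agent.Helper14.OrthAutCount.map_Lin_eq_pgoAut _
  have hDΓ : Cfsg.pgoAut F ⇑Q ≤ Cfsg.gammaPOmega F ⇑Q := by
    rw [← hmap, ← range_Theta]
    rintro _ ⟨L, -, rfl⟩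
    exact ⟨L, rfl⟩
  have hNΓ : Cfsg.Inn (Cfsg.POmega F ⇑Q) ≤ Cfsg.gammaPOmega F ⇑Q := hInn.trans hDΓ
  haveI : Finite (MulAut (Cfsg.POmega F ⇑Q)) := by
    apply Nat.finite_of_card_ne_zero
    intro h0
    have := Subgroup.index_mul_card (Cfsg.gammaPOmega F ⇑Q)
    rw [h0] at this
    have hfin : Finite ↥(Cfsg.gammaPOmega F ⇑Q) := by
      rw [← range_Theta]
      infer_instance
    have hpos : 0 < Nat.card ↥(Cfsg.gammaPOmega F ⇑Q) := Nat.card_pos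
    rw [h3] at this
    omega
  -- cardinalities
  obtain ⟨hcyc, hRA⟩ := Cfsg.Agent.Helper41.ringAut_cyclic_card (F := F) p f' hF
  have hσ : ∀ σ : F ≃+* F, ∃ g : GL ι F, Cfsg.IsSemisimilarityPair (⇑Q) g σ := by
    intro σ
    refine ⟨1, 1, ?_⟩
    intro v
    rw [Units.val_one, Matrix.one_mulVec, Units.val_one, one_mul]
    exact hQσ σ v
  have hcardΓ : Nat.card ↥(Cfsg.gammaPOmega F ⇑Q) = f' * Nat.card ↥(Cfsg.pgoAut F ⇑Q) := by
    rw [Cfsg.Agent.Helper85.Tri.card_gamma Q hQ e f hef hk hn hσ, hRA]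
  have hrelDΓ : (Cfsg.pgoAut F ⇑Q).relIndex (Cfsg.gammaPOmega F ⇑Q) = f' := by
    have h1 : (Cfsg.pgoAut F ⇑Q).relIndex (Cfsg.gammaPOmega F ⇑Q) *
        Nat.card ↥(Cfsg.pgoAut F ⇑Q) = Nat.card ↥(Cfsg.gammaPOmega F ⇑Q) := by
      rw [Subgroup.relIndex, mul_comm,
        ← Nat.card_congr (Subgroup.subgroupOfEquivOfLe hDΓ).toEquiv]
      exact Subgroup.card_mul_index _
    rw [hcardΓ] at h1
    have hpos : 0 < Nat.card ↥(Cfsg.pgoAut F ⇑Q) := Nat.card_pos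
    exact Nat.eq_of_mul_eq_mul_right hpos h1
  have hidxN : (Cfsg.Inn (Cfsg.POmega F ⇑Q)).index = 6 * f' := by
    rw [← Subgroup.relIndex_mul_index hNΓ, h3, ← Subgroup.relIndex_mul_relIndex _ _ _ hInn hDΓ,
      hidx, hrelDΓ]
    ring
  have hE : Nat.card (Cfsg.Out (Cfsg.POmega F ⇑Q)) = 6 * f' := by
    rw [← hidxN]
    exact (Subgroup.index_eq_card _).symm
  -- the quotient map and the image of `PΓO`
  set N := Cfsg.Inn (Cfsg.POmega F ⇑Q) with hN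
  set π : MulAut (Cfsg.POmega F ⇑Q) →* Cfsg.Out (Cfsg.POmega F ⇑Q) := QuotientGroup.mk' N with hπ
  have hπsurj : Function.Surjective π := QuotientGroup.mk'_surjective N
  have hπker : π.ker = N := QuotientGroup.ker_mk' N
  have hπ1 : ∀ x, π x = 1 ↔ x ∈ N := fun x => QuotientGroup.eq_one_iff x
  set H : Subgroup (Cfsg.Out (Cfsg.POmega F ⇑Q)) := (Cfsg.gammaPOmega F ⇑Q).map π with hH
  have hHidx : H.index = 3 := by
    rw [hH, Subgroup.index_map_eq _ hπsurj (by rw [hπker]; exact hNΓ), h3]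
  have hmemH : ∀ x, π x ∈ H → x ∈ Cfsg.gammaPOmega F ⇑Q := by
    rintro x ⟨y, hy, hyx⟩
    have h1 : π (y⁻¹ * x) = 1 := by rw [map_mul, map_inv, hyx, inv_mul_cancel]
    have h2 : y⁻¹ * x ∈ Cfsg.gammaPOmega F ⇑Q := hNΓ ((hπ1 _).1 h1)
    have := mul_mem hy h2
    rwa [mul_inv_cancel_left] at this
  -- the two generators
  obtain ⟨α, r₀, hr₀D, hαr⟩ := hτ
  have hr₀N : r₀ ∉ N := by
    intro h
    apply hαr
    exact hNΓ (Cfsg.innNormal _ |>.conj_mem r₀ h α)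
  have hidx' : (N.subgroupOf (Cfsg.pgoAut F ⇑Q)).index = 2 := hidx
  -- dichotomy in `D`
  have hD2 : ∀ d ∈ Cfsg.pgoAut F ⇑Q, d ∉ N → π d = π r₀ := by
    intro d hd hdN
    have h1 := Subgroup.mul_mem_iff_of_index_two hidx' (a := ⟨d⁻¹, inv_mem hd⟩) (b := ⟨r₀, hr₀D⟩)
    have h2 : (⟨d⁻¹, inv_mem hd⟩ : ↥(Cfsg.pgoAut F ⇑Q)) * ⟨r₀, hr₀D⟩ ∈
        N.subgroupOf (Cfsg.pgoAut F ⇑Q) := by
      rw [h1]
      constructor
      · intro h
        exact absurd (inv_mem_iff.1 (Subgroup.mem_subgroupOf.1 h)) hdN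
      · intro h
        exact absurd (Subgroup.mem_subgroupOf.1 h) hr₀N
    have h3 : d⁻¹ * r₀ ∈ N := Subgroup.mem_subgroupOf.1 h2
    have h4 : π (d⁻¹ * r₀) = 1 := (hπ1 _).2 h3
    rw [map_mul, map_inv] at h4
    exact (inv_mul_eq_one.1 h4)
  set r : Cfsg.Out (Cfsg.POmega F ⇑Q) := π r₀ with hr
  have hr1 : r ≠ 1 := fun h => hr₀N ((hπ1 _).1 h)
  have hrr : r * r = 1 := by
    have h1 := Subgroup.mul_mem_iff_of_index_two hidx' (a := ⟨r₀, hr₀D⟩) (b := ⟨r₀, hr₀D⟩)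
    have h2 : (⟨r₀, hr₀D⟩ : ↥(Cfsg.pgoAut F ⇑Q)) * ⟨r₀, hr₀D⟩ ∈
        N.subgroupOf (Cfsg.pgoAut F ⇑Q) := h1.2 Iff.rfl
    have h3 : r₀ * r₀ ∈ N := Subgroup.mem_subgroupOf.1 h2
    rw [hr, ← map_mul]
    exact (hπ1 _).2 h3
  -- the field automorphisms
  set fa : RingAut F →* MulAut (Cfsg.POmega F ⇑Q) :=
    (Theta ⇑Q).comp (fieldGam (⇑Q) hQσ) with hfa
  obtain ⟨σ₀, hσ₀⟩ := hcyc.exists_generator
  set φ : Cfsg.Out (Cfsg.POmega F ⇑Q) := π (fa σ₀) with hφ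
  have hfaΓ : ∀ σ, fa σ ∈ Cfsg.gammaPOmega F ⇑Q := by
    intro σ
    rw [← range_Theta]
    exact ⟨_, rfl⟩
  haveI : Finite (RingAut F) := by
    apply Nat.finite_of_card_ne_zero
    rw [hRA]; omega
  have hσpow : ∀ σ : RingAut F, ∃ k : ℕ, σ = σ₀ ^ k := by
    intro σ
    have h1 : σ ∈ Subgroup.zpowers σ₀ := hσ₀ σ
    obtain ⟨k, hk⟩ := (mem_powers_iff_mem_zpowers.2 h1)
    exact ⟨k, hk.symm⟩
  -- `D` is normalised by field automorphisms
  have hDnorm : ∀ (σ : RingAut F) (d : MulAut (Cfsg.POmega F ⇑Q)), d ∈ Cfsg.pgoAut F ⇑Q →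
      fa σ * d * (fa σ)⁻¹ ∈ Cfsg.pgoAut F ⇑Q := by
    intro σ d hd
    have hd' : d ∈ (Lin ⇑Q).map (Theta ⇑Q) := by rw [hmap]; exact hd
    obtain ⟨L, hL, rfl⟩ := hd'
    have hconj : fieldGam (⇑Q) hQσ σ * L * (fieldGam (⇑Q) hQσ σ)⁻¹ ∈ Lin ⇑Q :=
      (Lin_normal (⇑Q)).conj_mem L hL _
    have hthis : fa σ * Theta ⇑Q L * (fa σ)⁻¹ ∈ (Lin ⇑Q).map (Theta ⇑Q) := by
      refine ⟨_, hconj, ?_⟩
      rw [map_mul (Theta ⇑Q), map_mul (Theta ⇑Q), map_inv (Theta ⇑Q), hfa, MonoidHom.comp_apply]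
    rw [hmap] at hthis
    exact hthis
  have hrφ : r * φ = φ * r := by
    have h1 : fa σ₀ * r₀ * (fa σ₀)⁻¹ ∈ Cfsg.pgoAut F ⇑Q := hDnorm σ₀ r₀ hr₀D
    have h2 : fa σ₀ * r₀ * (fa σ₀)⁻¹ ∉ N := by
      intro h
      apply hr₀N
      have hthis := (Cfsg.innNormal _).conj_mem _ h (fa σ₀)⁻¹
      have e : (fa σ₀)⁻¹ * (fa σ₀ * r₀ * (fa σ₀)⁻¹) * ((fa σ₀)⁻¹)⁻¹ = r₀ := by group
      rwa [e] at hthis
    have h3 := hD2 _ h1 h2
    rw [map_mul, map_mul, map_inv] at h3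
    have h4 : φ * r * φ⁻¹ = r := h3
    calc r * φ = (φ * r * φ⁻¹) * φ := by rw [h4]
      _ = φ * r := by group
  have hgen : ∀ h ∈ H, ∃ k : ℕ, h = φ ^ k ∨ h = φ ^ k * r := by
    rintro _ ⟨β, hβ, rfl⟩
    rw [← range_Theta] at hβ
    obtain ⟨L, rfl⟩ := hβ
    obtain ⟨L', hL', σ, rfl⟩ := exists_lin_mul_field (⇑Q) hQσ L
    obtain ⟨k, rfl⟩ := hσpow σ
    refine ⟨k, ?_⟩
    have hd : Theta ⇑Q L' ∈ Cfsg.pgoAut F ⇑Q := by
      rw [← hmap]; exact ⟨L', hL', rfl⟩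
    have hsplit : π (Theta ⇑Q (L' * fieldGam (⇑Q) hQσ (σ₀ ^ k))) = π (Theta ⇑Q L') * φ ^ k := by
      rw [map_mul, map_mul, map_pow, map_pow, map_pow]
      rfl
    rw [hsplit]
    by_cases hdN : Theta ⇑Q L' ∈ N
    · left
      rw [(hπ1 _).2 hdN, one_mul]
    · right
      rw [hD2 _ hd hdN]
      exact ((show Commute r φ from hrφ).pow_right k).eq
  have hrH : r ∈ H := ⟨r₀, hDΓ hr₀D, rfl⟩
  have hφH : φ ∈ H := ⟨fa σ₀, hfaΓ σ₀, rfl⟩
  have hab : ∀ a ∈ H, ∀ b ∈ H, a * b = b * a := fun a ha b hb =>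
    comm_of_forms hrφ (hgen a ha) (hgen b hb)
  refine Cfsg.Agent.Helper87.OutS3.s3_prod_cyclic_of_index_three f' hE H hHidx hab r φ hrH hφH hrr
    hgen (π α) ?_
  intro hmem
  apply hαr
  apply hmemH
  rw [map_mul, map_mul, map_inv]
  exact hmem

end main

section plus

variable {F : Type*} [Field F] [Fintype F]

theorem quadFormPlus_sigma (m : ℕ) (σ : F ≃+* F) (v : Fin m ⊕ Fin m → F) :
    Cfsg.quadFormPlus m F (fun i => σ (v i)) = σ (Cfsg.quadFormPlus m F v) := by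
  unfold Cfsg.quadFormPlus
  simp [map_sum, map_mul]

/-- `|Inn(PΩ⁺)| = |PΩ⁺|` and the index of `Inn` in the similarity image is `2` (char 2). -/
theorem relIndex_inn_pgo_plus_even (h2 : (2 : F) = 0) {m : ℕ} (hm : 4 ≤ m) :
    Cfsg.Inn (Cfsg.POmega F ⇑(stdPlus F m)) ≤ Cfsg.pgoAut F ⇑(stdPlus F m) ∧
    (Cfsg.Inn (Cfsg.POmega F ⇑(stdPlus F m))).relIndex (Cfsg.pgoAut F ⇑(stdPlus F m)) = 2 := by
  classical
  have hle : Cfsg.Inn (Cfsg.POmega F ⇑(stdPlus F m)) ≤ Cfsg.pgoAut F ⇑(stdPlus F m) :=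
    (inn_le_psoAut (stdPlus F m)).trans (psoAut_le_pgoAut (stdPlus F m))
  refine ⟨hle, ?_⟩
  have hnd := stdPlus_nondegenerate F m
  have hfam := stdPlus_isHypFamily F m
  have hcard : Fintype.card (Fin m ⊕ Fin m) = 2 * m := by
    simp only [Fintype.card_sum, Fintype.card_fin]; ring
  have hperf : commutator ↥(Cfsg.Omega F ⇑(stdPlus F m)) = ⊤ :=
    hperf_of_hyp (stdPlus F m) hnd _ _ hfam (by omega) (by rw [hcard]; omega)
  have hperfK : commutator (Cfsg.POmega F ⇑(stdPlus F m)) = ⊤ :=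
    Cfsg.Agent.Helper14.AutCount.commutator_quotient_eq_top _ hperf
  have hsimple : IsSimpleGroup (Cfsg.POmega F ⇑(stdPlus F m)) := Cfsg.Agent.S0296.result m hm
  have hZ : Subgroup.center (Cfsg.POmega F ⇑(stdPlus F m)) = ⊥ :=
    Cfsg.Agent.Helper14.AutCount.center_eq_bot_of_simple_perfect hsimple hperfK
  have hinn : Nat.card (Cfsg.Inn (Cfsg.POmega F ⇑(stdPlus F m))) =
      Nat.card (Cfsg.POmega F ⇑(stdPlus F m)) := Cfsg.Agent.Helper14.AutCount.card_inn hZ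
  have hpgo : Nat.card ↥(Cfsg.pgoAut F ⇑(stdPlus F m)) =
      2 * Nat.card (Cfsg.POmega F ⇑(stdPlus F m)) :=
    Cfsg.Agent.Helper42.Tri.card_pgoAut_plus_even h2 hm
  have hpos : 0 < Nat.card (Cfsg.POmega F ⇑(stdPlus F m)) := Nat.card_pos
  have h1 : (Cfsg.Inn (Cfsg.POmega F ⇑(stdPlus F m))).relIndex (Cfsg.pgoAut F ⇑(stdPlus F m)) *
      Nat.card (Cfsg.Inn (Cfsg.POmega F ⇑(stdPlus F m))) =
      Nat.card ↥(Cfsg.pgoAut F ⇑(stdPlus F m)) := by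
    rw [Subgroup.relIndex, mul_comm,
      ← Nat.card_congr (Subgroup.subgroupOfEquivOfLe hle).toEquiv]
    exact Subgroup.card_mul_index _
  rw [hinn, hpgo] at h1
  nlinarith

/-- `Out(PΩ⁺_{2m}(2^f)) ≅ C₂ × C_f` for `m ≥ 5`. -/
theorem out_plus_even_ge5 {f m : ℕ} (hf : 1 ≤ f) (hF : Fintype.card F = 2 ^ f) (hm : 5 ≤ m) :
    Nonempty (Cfsg.Out (Cfsg.POmega F (Cfsg.quadFormPlus m F)) ≃*
      Multiplicative (ZMod 2 × ZMod f)) := by
  classical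
  haveI : Fact (Nat.Prime 2) := ⟨Nat.prime_two⟩
  have hchar : CharP F 2 := charP_of_card_eq_prime_pow hF
  have h2 : (2 : F) = 0 := by
    have := CharP.cast_eq_zero F 2
    exact_mod_cast this
  change Nonempty (Cfsg.Out (Cfsg.POmega F ⇑(stdPlus F m)) ≃* Multiplicative (ZMod 2 × ZMod f))
  have hnd := stdPlus_nondegenerate F m
  have hfam := stdPlus_isHypFamily F m
  have hcard : Fintype.card (Fin m ⊕ Fin m) = 2 * m := by
    simp only [Fintype.card_sum, Fintype.card_fin]; ring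
  have hne : Nonempty (Fin m ⊕ Fin m) := ⟨Sum.inl ⟨0, by omega⟩⟩
  have hgam : Cfsg.gammaPOmega F ⇑(stdPlus F m) = ⊤ := Cfsg.Agent.S2695.result hm
  have hQσ : ∀ (σ : F ≃+* F) (w : Fin m ⊕ Fin m → F),
      stdPlus F m (fun i => σ (w i)) = σ (stdPlus F m w) := by
    intro σ w
    rw [stdPlus_apply, stdPlus_apply]
    exact quadFormPlus_sigma m σ w
  have hmap : (Lin ⇑(stdPlus F m)).map (Theta ⇑(stdPlus F m)) =
      Cfsg.pgoAut F ⇑(stdPlus F m) :=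
    Cfsg.Agent.Helper14.OrthAutCount.map_Lin_eq_pgoAut _
  obtain ⟨hle, hidx⟩ := relIndex_inn_pgo_plus_even (F := F) h2 (m := m) (by omega)
  apply out_equiv (stdPlus F m) hnd _ _ hfam (by omega) (by rw [hcard]; omega) hQσ hgam _ _ hf hF
  · rw [hmap]; exact hle
  · rw [hmap]; exact hidx

/-- `Out(PΩ⁺₈(2^f)) ≅ S₃ × C_f`. -/
theorem out_plus_even_four {f : ℕ} (hf : 1 ≤ f) (hF : Fintype.card F = 2 ^ f) :
    Nonempty (Cfsg.Out (Cfsg.POmega F (Cfsg.quadFormPlus 4 F)) ≃*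
      Equiv.Perm (Fin 3) × Multiplicative (ZMod f)) := by
  classical
  haveI : Fact (Nat.Prime 2) := ⟨Nat.prime_two⟩
  have hchar : CharP F 2 := charP_of_card_eq_prime_pow hF
  have h2 : (2 : F) = 0 := by
    have := CharP.cast_eq_zero F 2
    exact_mod_cast this
  change Nonempty (Cfsg.Out (Cfsg.POmega F ⇑(stdPlus F 4)) ≃*
    Equiv.Perm (Fin 3) × Multiplicative (ZMod f))
  have hnd := stdPlus_nondegenerate F 4
  have hfam := stdPlus_isHypFamily F 4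
  have hcard : Fintype.card (Fin 4 ⊕ Fin 4) = 8 := by
    simp only [Fintype.card_sum, Fintype.card_fin]
  have hne : Nonempty (Fin 4 ⊕ Fin 4) := ⟨Sum.inl ⟨0, by omega⟩⟩
  have hQσ : ∀ (σ : F ≃+* F) (w : Fin 4 ⊕ Fin 4 → F),
      stdPlus F 4 (fun i => σ (w i)) = σ (stdPlus F 4 w) := by
    intro σ w
    rw [stdPlus_apply, stdPlus_apply]
    exact quadFormPlus_sigma 4 σ w
  obtain ⟨hle, hidx⟩ := relIndex_inn_pgo_plus_even (F := F) h2 (m := 4) le_rfl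
  obtain ⟨τ, c, -, -, -, -, hrτ⟩ := Cfsg.Agent.Helper43.Tri.triality_data (F := F)
  refine out_equiv_s3 (stdPlus F 4) hnd _ _ hfam (by norm_num) (by rw [hcard]; norm_num) hQσ
    hle hidx Cfsg.Agent.Helper43.Tri.index_gamma ⟨τ⁻¹, Cfsg.Agent.Helper43.Tri.rAut, ?_, ?_⟩ hf hF
  · rw [← Cfsg.Agent.Helper14.OrthAutCount.map_Lin_eq_pgoAut]
    refine ⟨Cfsg.Agent.Helper43.OMin.isoGam _ _, ?_, rfl⟩
    intro c x
    rw [Cfsg.Agent.Helper43.OMin.isoGam_apply, Cfsg.Agent.Helper43.OMin.isoGam_apply,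
      Matrix.mulVec_smul]
  · rwa [inv_inv]

end plus

end Cfsg.Agent.Helper87.OutPlusEven
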