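import Mathlib
import Cfsg.Prelude.Def_FusionSystem
import Cfsg.Agent.Lib.Helper87.FusionNormalizerSys
import Cfsg.Agent.Lib.Helper87.FusionAlperin
import Cfsg.Agent.Lib.Helper87.FusionEssential
import Cfsg.Agent.Lib.Helper87.FusionMore

set_option autoImplicit false
set_option linter.unusedSectionVars false

/-!
# Climbing from a subgroup to a centric radical subgroup

For a subgroup `R` of `S`, `plus F p R` is the subgroup of `N_S(R)` of elements inducing an automorphism in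
`O_p(Aut_F(R))`.  If `R` is fully normalized, every automorphism of `R` in the system extends to `plus F p R`.
Iterating, every `Q ≤ S` is conjugate to some `Q'` contained in a fully normalized centric radical `R'` such that
every element of `Aut_F(Q')` extends to an element of `Aut_F(R')`.
-/

namespace Cfsg.Agent.Helper87.PStabChain

open Cfsg Cfsg.FusionSystem Cfsg.Agent.Helper87

variable {Ω : Type*} [Group Ω] {S : Subgroup Ω} [Finite S] {p : ℕ} [Fact p.Prime]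

/-- `O_p(Aut_F(R))` as a subgroup of `MulAut R` -/
abbrev OpAut (F : FusionSystem S) (p : ℕ) (R : Subgroup Ω) : Subgroup (MulAut R) :=
  (pCore p (F.autGroup R)).map (F.autGroup R).subtype

theorem inn_le_opAut (hS : IsPGroup p S) (F : FusionSystem S) {R : Subgroup Ω} (hRS : R ≤ S) :
    Inn R ≤ OpAut F p R := by
  have hInnA : Inn R ≤ F.autGroup R :=
    (inn_le_autInducedBy hRS).trans (autInducedBy_le_autGroup F hRS)
  have hn : ((Inn R).subgroupOf (F.autGroup R)).Normal := (inn_normal R).subgroupOf _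
  have hp : IsPGroup p ((Inn R).subgroupOf (F.autGroup R)) :=
    (inn_isPGroup (hS.to_le hRS)).comap_subtype
  have h1 := le_pCore hn hp
  intro x hx
  exact ⟨⟨x, hInnA hx⟩, h1 (Subgroup.mem_subgroupOf.2 hx), rfl⟩

theorem opAut_conj_mem (F : FusionSystem S) {R : Subgroup Ω} {a κ : MulAut R} (ha : a ∈ F.autGroup R)
    (hκ : κ ∈ OpAut F p R) : a * κ * a⁻¹ ∈ OpAut F p R := by
  obtain ⟨κ', hκ', rfl⟩ := hκ
  exact ⟨⟨a, ha⟩ * κ' * ⟨a, ha⟩⁻¹, (pCore_normal p _).conj_mem κ' hκ' ⟨a, ha⟩, rfl⟩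

/-- the elements of `S` inducing on `R` an element of `O_p(Aut_F(R))` -/
def plus (F : FusionSystem S) (p : ℕ) (R : Subgroup Ω) : Subgroup Ω where
  carrier := {y | y ∈ S ∧ ∃ κ ∈ OpAut F p R, ∀ x : R, ((κ x : R) : Ω) = y * x * y⁻¹}
  mul_mem' := by
    rintro a b ⟨haS, κ₁, hκ₁, e₁⟩ ⟨hbS, κ₂, hκ₂, e₂⟩
    refine ⟨S.mul_mem haS hbS, κ₁ * κ₂, Subgroup.mul_mem _ hκ₁ hκ₂, fun x => ?_⟩
    rw [MulAut.mul_apply, e₁, e₂]
    group
  one_mem' := ⟨S.one_mem, 1, Subgroup.one_mem _, fun x => by simp⟩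
  inv_mem' := by
    rintro a ⟨haS, κ, hκ, e⟩
    refine ⟨S.inv_mem haS, κ⁻¹, Subgroup.inv_mem _ hκ, fun x => ?_⟩
    have h1 := e (κ⁻¹ x)
    rw [MulAut.apply_inv_self] at h1
    rw [h1]
    group

theorem mem_plus {F : FusionSystem S} {R : Subgroup Ω} {y : Ω} :
    y ∈ plus F p R ↔ y ∈ S ∧ ∃ κ ∈ OpAut F p R, ∀ x : R, ((κ x : R) : Ω) = y * x * y⁻¹ := Iff.rfl

theorem plus_le (F : FusionSystem S) (R : Subgroup Ω) : plus F p R ≤ S := fun _ h => h.1

theorem plus_le_normalizer (F : FusionSystem S) (R : Subgroup Ω) :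
    plus F p R ≤ Subgroup.normalizer (R : Set Ω) := by
  rintro y ⟨-, κ, -, e⟩
  exact mem_normalizer_of_aut κ e

theorem le_plus (hS : IsPGroup p S) (F : FusionSystem S) {R : Subgroup Ω} (hRS : R ≤ S) :
    R ≤ plus F p R := by
  intro y hy
  refine ⟨hRS hy, MulAut.conj ⟨y, hy⟩, inn_le_opAut hS F hRS ⟨_, rfl⟩, fun x => ?_⟩
  simp [MulAut.conj_apply]

theorem centralizerIn_le_plus (F : FusionSystem S) (R : Subgroup Ω) :
    centralizerIn S R ≤ plus F p R := by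
  intro y hy
  refine ⟨hy.1, 1, Subgroup.one_mem _, fun x => ?_⟩
  have := hy.2 x x.2
  rw [MulAut.one_apply, ← this]
  group

/-- `R⁺` lies in the extender of every automorphism of a fully automized `R` -/
theorem plus_le_ext {F : FusionSystem S} {R : Subgroup Ω} (hfa : F.IsFullyAutomized p R)
    {α : Ω → Ω} (hα : Iso F R R α) : plus F p R ≤ hα.ext := by
  classical
  obtain ⟨hRS, R₀, hR₀⟩ := hfa
  have hfinR : Finite R := finite_of_le hRS
  intro y hy
  obtain ⟨hyS, κ, hκ, e⟩ := id hy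
  refine ⟨hyS, plus_le_normalizer F R hy, ?_⟩
  have hκ2 := opAut_conj_mem F hα.equiv_mem_autGroup hκ
  obtain ⟨κ', hκ', eκ'⟩ := hκ2
  have h3 : κ' ∈ (R₀ : Subgroup (F.autGroup R)) := pCore_le_sylow R₀ hκ'
  rw [hR₀, Subgroup.mem_subgroupOf] at h3
  obtain ⟨k, hk, ek⟩ := mem_autInducedBy_iff.1 h3
  refine ⟨k, hk, fun x hx => ?_⟩
  have h4 := ek (hα.equiv ⟨x, hx⟩)
  have hx' : y * x * y⁻¹ ∈ R := (Subgroup.mem_normalizer_iff.1 (plus_le_normalizer F R hy) x).1 hx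
  have h5 : ((κ' : F.autGroup R) : MulAut R) (hα.equiv ⟨x, hx⟩) = hα.equiv (κ ⟨x, hx⟩) := by
    have : ((κ' : F.autGroup R) : MulAut R) = hα.equiv * κ * hα.equiv⁻¹ := eκ'
    rw [this]
    show hα.equiv (κ (hα.equiv.symm (hα.equiv ⟨x, hx⟩))) = _
    rw [MulEquiv.symm_apply_apply]
  rw [h5] at h4
  have h6 : κ ⟨x, hx⟩ = ⟨y * x * y⁻¹, hx'⟩ := Subtype.ext (e ⟨x, hx⟩)
  rw [h6] at h4
  exact h4

/-- every automorphism of a fully normalized `R` extends to an automorphism of `R⁺` -/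
theorem exists_ext_plus (hS : IsPGroup p S) {F : FusionSystem S} (hF : F.IsSaturated p)
    {R : Subgroup Ω} (hfn : F.IsFullyNormalized R) {α : Ω → Ω} (hα : Iso F R R α) :
    ∃ β, Iso F (plus F p R) (plus F p R) β ∧ ∀ x ∈ R, β x = α x := by
  have hRS : R ≤ S := hfn.1
  have hrec := receptive_of_fullyNormalized hS hF hfn
  have hfa := fullyAutomized_of_fullyNormalized hS hF hfn
  obtain ⟨g, hg, hgx⟩ := (isReceptive_iff.1 hrec).2 R α hα
  have hle := plus_le_ext hfa hα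
  have hg' : Mor F (plus F p R) g := hg.restrict hle
  refine ⟨g, iso_of_card_le hg' (plus_le F R) (fun y hy => ?_) le_rfl, hgx⟩
  obtain ⟨hyS, κ, hκ, e⟩ := id hy
  refine ⟨hg'.mem hy, hα.equiv * κ * hα.equiv⁻¹, opAut_conj_mem F hα.equiv_mem_autGroup hκ,
    fun x => ?_⟩
  show ((hα.equiv (κ (hα.equiv.symm x)) : R) : Ω) = _
  rw [hα.equiv_apply, e]
  have hz : ((hα.equiv.symm x : R) : Ω) ∈ hα.ext := hα.le_ext (hα.equiv.symm x).2
  rw [← hgx _ (by
    have := (Subgroup.mem_normalizer_iff.1 (plus_le_normalizer F R hy) _).1 (hα.equiv.symm x).2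
    exact this)]
  rw [hg.map_conj (hle hy) hz, hgx _ (hα.equiv.symm x).2, ← hα.equiv_apply,
    MulEquiv.apply_symm_apply]

/-- a fully normalized subgroup equal to its `plus` is centric and radical -/
theorem centric_radical_of_plus_eq (hS : IsPGroup p S) {F : FusionSystem S} (hF : F.IsSaturated p)
    {R : Subgroup Ω} (hfn : F.IsFullyNormalized R) (heq : plus F p R = R) :
    F.IsCentric R ∧ F.IsRadical p R := by
  classical
  have hRS : R ≤ S := hfn.1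
  have hfinR : Finite R := finite_of_le hRS
  constructor
  · apply isCentric_of_fullyCentralized (fullyCentralized_of_fullyNormalized hS hF hfn)
    have := centralizerIn_le_plus (p := p) F R
    rwa [heq] at this
  · refine ⟨hRS, le_antisymm ?_ (inn_le_opAut hS F hRS)⟩
    rintro _ ⟨κ', hκ', rfl⟩
    obtain ⟨-, R₀, hR₀⟩ := fullyAutomized_of_fullyNormalized hS hF hfn
    have h3 : κ' ∈ (R₀ : Subgroup (F.autGroup R)) := pCore_le_sylow R₀ hκ'
    rw [hR₀, Subgroup.mem_subgroupOf] at h3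
    obtain ⟨n, hnS, e⟩ := mem_autInducedBy_iff.1 h3
    have hn : n ∈ plus F p R := ⟨hnS, _, ⟨κ', hκ', rfl⟩, e⟩
    rw [heq] at hn
    refine ⟨⟨n, hn⟩, ?_⟩
    ext x
    show ((MulAut.conj (⟨n, hn⟩ : R) x : R) : Ω) = _
    rw [Subgroup.subtype_apply, e x]
    simp [MulAut.conj_apply]

/-- every automorphism of `Q` in the system extends to an automorphism of `R` in the system -/
def Ext (F : FusionSystem S) (Q R : Subgroup Ω) : Prop :=
  ∀ α, Iso F Q Q α → ∃ β, Iso F R R β ∧ ∀ x ∈ Q, β x = α x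

theorem ext_transport {F : FusionSystem S} {Q R R₁ : Subgroup Ω} (hQR : Q ≤ R) (hE : Ext F Q R)
    {g : Ω → Ω} (hg : Iso F R R₁ g) : Ext F (hg.1.restrict hQR).image R₁ := by
  obtain ⟨g', hg', hg'g, hgg'⟩ := hg.symm
  have hQ₁ : Iso F Q (hg.1.restrict hQR).image g := hg.restrict hQR
  have hQ₁R₁ : (hg.1.restrict hQR).image ≤ R₁ := by
    rintro _ ⟨x, hx, rfl⟩
    exact hg.map_mem (hQR hx)
  have hback : Iso F (hg.1.restrict hQR).image Q g' := by
    refine ⟨hg'.1.restrict hQ₁R₁, fun y => ⟨fun hy => ?_, ?_⟩⟩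
    · exact ⟨g y, ⟨y, hy, rfl⟩, hg'g y (hQR hy)⟩
    · rintro ⟨_, ⟨q, hq, rfl⟩, rfl⟩
      rw [hg'g q (hQR hq)]; exact hq
  intro α₁ hα₁
  have hα : Iso F Q Q (fun x => g' (α₁ (g x))) := hQ₁.comp (hα₁.comp hback)
  obtain ⟨β, hβ, hβα⟩ := hE _ hα
  refine ⟨fun y => g (β (g' y)), hg'.comp (hβ.comp hg), ?_⟩
  rintro _ ⟨q, hq, rfl⟩
  show g (β (g' (g q))) = α₁ (g q)
  rw [hg'g q (hQR hq), hβα q hq]
  show g (g' (α₁ (g q))) = α₁ (g q)
  exact hgg' _ (hQ₁R₁ (hα₁.map_mem ⟨q, hq, rfl⟩))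

/-- climbing to a centric radical subgroup -/
theorem exists_frc_aux (hS : IsPGroup p S) {F : FusionSystem S} (hF : F.IsSaturated p) :
    ∀ (n : ℕ) (Q R : Subgroup Ω), Q ≤ R → R ≤ S → Nat.card S - Nat.card R = n → Ext F Q R →
      ∃ (Q' R' : Subgroup Ω) (f : Ω → Ω), Iso F Q Q' f ∧ Q' ≤ R' ∧ Ext F Q' R' ∧
        F.IsFullyNormalized R' ∧ F.IsCentric R' ∧ F.IsRadical p R' := by
  intro n
  induction n using Nat.strong_induction_on with
  | _ n ih =>
  intro Q R hQR hRS hn hE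
  obtain ⟨R₁, hRR₁, hfn⟩ := exists_fullyNormalized_conj F hRS
  obtain ⟨g, hg⟩ := isConj_iff.1 hRR₁
  have hE₁ := ext_transport hQR hE hg
  have hQ₁ : Iso F Q (hg.1.restrict hQR).image g := hg.restrict hQR
  have hQ₁R₁ : (hg.1.restrict hQR).image ≤ R₁ := by
    rintro _ ⟨x, hx, rfl⟩
    exact hg.map_mem (hQR hx)
  have hR₁S : R₁ ≤ S := hfn.1
  by_cases heq : plus F p R₁ = R₁
  · obtain ⟨hc, hr⟩ := centric_radical_of_plus_eq hS hF hfn heq
    exact ⟨_, R₁, g, hQ₁, hQ₁R₁, hE₁, hfn, hc, hr⟩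
  · have hlt : R₁ < plus F p R₁ := lt_of_le_of_ne (le_plus hS F hR₁S) (Ne.symm heq)
    have hE₂ : Ext F (hg.1.restrict hQR).image (plus F p R₁) := by
      intro α₁ hα₁
      obtain ⟨β₁, hβ₁, e₁⟩ := hE₁ α₁ hα₁
      obtain ⟨γ, hγ, e₂⟩ := exists_ext_plus hS hF hfn hβ₁
      exact ⟨γ, hγ, fun x hx => (e₂ x (hQ₁R₁ hx)).trans (e₁ x hx)⟩
    have hfinP : Finite (plus F p R₁) := finite_of_le (plus_le F R₁)
    have hc1 : Nat.card R₁ < Nat.card (plus F p R₁) := by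
      apply lt_of_le_of_ne (Subgroup.card_le_of_le hlt.le)
      intro h
      exact absurd (Subgroup.eq_of_le_of_card_ge hlt.le h.ge) (ne_of_lt hlt)
    have hc2 : Nat.card (plus F p R₁) ≤ Nat.card S := Subgroup.card_le_of_le (plus_le F R₁)
    have hc3 : Nat.card R = Nat.card R₁ := hg.card_eq
    obtain ⟨Q', R', f', hf', hQ'R', hE', hfn', hc', hr'⟩ :=
      ih (Nat.card S - Nat.card (plus F p R₁)) (by omega) _ (plus F p R₁)
        (hQ₁R₁.trans hlt.le) (plus_le F R₁) rfl hE₂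
    exact ⟨Q', R', fun x => f' (g x), hQ₁.comp hf', hQ'R', hE', hfn', hc', hr'⟩

theorem exists_frc (hS : IsPGroup p S) {F : FusionSystem S} (hF : F.IsSaturated p)
    {Q : Subgroup Ω} (hQS : Q ≤ S) :
    ∃ (Q' R' : Subgroup Ω) (f : Ω → Ω), Iso F Q Q' f ∧ Q' ≤ R' ∧ Ext F Q' R' ∧
      F.IsFullyNormalized R' ∧ F.IsCentric R' ∧ F.IsRadical p R' :=
  exists_frc_aux hS hF _ Q Q le_rfl hQS rfl (fun α hα => ⟨α, hα, fun _ _ => rfl⟩)

end Cfsg.Agent.Helper87.PStabChain
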