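import Mathlib
import Cfsg.Agent.Lib.Helper84.PslGrp
import Cfsg.Agent.Lib.Helper85.CentQuot

/-!
# Simplicity of `F_S(G)` passes to the quotient by a central `p'`-subgroup
-/

set_option autoImplicit false
open Cfsg

namespace Cfsg.Agent.Helper87.PsuQuot

open Cfsg.FusionSystem Cfsg.Agent.Helper87 Cfsg.Agent.Helper84

variable {G : Type*} [Group G] [Finite G] {p : ℕ} [Fact p.Prime]

/-- a `p`-subgroup meets a `p'`-subgroup trivially (element form) -/
theorem eq_one_of_mem_of_mem (Z : Subgroup G) (hpZ : ¬ p ∣ Nat.card Z) (S : Sylow p G)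
    {x : G} (hxS : x ∈ (S : Subgroup G)) (hxZ : x ∈ Z) : x = 1 := by
  obtain ⟨a, ha⟩ := S.isPGroup' ⟨x, hxS⟩
  have hxa : x ^ p ^ a = 1 := by
    have := congrArg Subtype.val ha
    simpa using this
  have hxZc : x ^ Nat.card Z = 1 := by
    have h1 : (⟨x, hxZ⟩ : Z) ^ Nat.card Z = 1 := pow_card_eq_one'
    have h2 := congrArg Subtype.val h1
    rw [Subgroup.coe_pow] at h2
    exact h2
  have hcop : Nat.Coprime (p ^ a) (Nat.card Z) :=
    Nat.Coprime.pow_left _ ((Nat.Prime.coprime_iff_not_dvd Fact.out).2 hpZ)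
  have h1 : orderOf x ∣ p ^ a := orderOf_dvd_of_pow_eq_one hxa
  have h2 : orderOf x ∣ Nat.card Z := orderOf_dvd_of_pow_eq_one hxZc
  have h3 : orderOf x = 1 := Nat.eq_one_of_dvd_coprimes hcop h1 h2
  exact orderOf_eq_one_iff.1 h3

/-- the section of the quotient map on the image of the Sylow subgroup -/
noncomputable def sec (Z : Subgroup G) [Z.Normal] (S : Sylow p G) (y : G ⧸ Z) : G := by
  classical
  exact if h : y ∈ (S : Subgroup G).map (QuotientGroup.mk' Z) then h.choose else 1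

theorem sec_spec (Z : Subgroup G) [Z.Normal] (S : Sylow p G) {y : G ⧸ Z}
    (h : y ∈ (S : Subgroup G).map (QuotientGroup.mk' Z)) :
    sec Z S y ∈ (S : Subgroup G) ∧ QuotientGroup.mk' Z (sec Z S y) = y := by
  unfold sec
  rw [dif_pos h]
  exact h.choose_spec

theorem tr_quot (Z : Subgroup G) [Z.Normal] (hpZ : ¬ p ∣ Nat.card Z) (S : Sylow p G) :
    T1.Tr (S : Subgroup G) ((S : Subgroup G).map (QuotientGroup.mk' Z))
      (fun x => QuotientGroup.mk' Z x) (sec Z S) where
  map x hx := Subgroup.mem_map_of_mem _ hx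
  mul x _ y _ := map_mul _ x y
  inv y hy := (sec_spec Z S hy).1
  left x hx := by
    have hy : QuotientGroup.mk' Z x ∈ (S : Subgroup G).map (QuotientGroup.mk' Z) :=
      Subgroup.mem_map_of_mem _ hx
    obtain ⟨h1, h2⟩ := sec_spec Z S hy
    have hz : (sec Z S (QuotientGroup.mk' Z x))⁻¹ * x ∈ Z := QuotientGroup.eq.1 h2
    have hs : (sec Z S (QuotientGroup.mk' Z x))⁻¹ * x ∈ (S : Subgroup G) :=
      Subgroup.mul_mem _ (Subgroup.inv_mem _ h1) hx
    have := eq_one_of_mem_of_mem Z hpZ S hs hz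
    exact (inv_mul_eq_one.1 this)
  right y hy := (sec_spec Z S hy).2

theorem rel_quot (Z : Subgroup G) [Z.Normal] (hZ : Z ≤ Subgroup.center G)
    (hpZ : ¬ p ∣ Nat.card Z) (S : Sylow p G) :
    T2.Rel (tr_quot Z hpZ S) (groupFusionSystem (S : Subgroup G))
      (groupFusionSystem ((S : Subgroup G).map (QuotientGroup.mk' Z))) := by
  set π := QuotientGroup.mk' Z with hπ
  have hπs : Function.Surjective π := QuotientGroup.mk'_surjective Z
  refine ⟨le_rfl, (tr_quot Z hpZ S).img_top.symm, ?_, ?_⟩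
  · intro P f hf
    rw [Cfsg.Agent.Helper85.gfs_mor_iff] at hf ⊢
    obtain ⟨hPS, hfS, c, hc⟩ := hf
    refine ⟨(tr_quot Z hpZ S).img_le P, fun y hy => ?_, π c, fun y hy => ?_⟩
    · have h1 : sec Z S y ∈ P := hy.2
      exact Subgroup.mem_map_of_mem _ (hfS _ h1)
    · have h1 : sec Z S y ∈ P := hy.2
      show π (f (sec Z S y)) = _
      rw [hc _ h1, map_mul, map_mul, map_inv, (sec_spec Z S hy.1).2]
  · intro P' f' hf'
    rw [Cfsg.Agent.Helper85.gfs_mor_iff] at hf' ⊢
    obtain ⟨hPS, hfS, c', hc'⟩ := hf'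
    obtain ⟨c, rfl⟩ := hπs c'
    refine ⟨fun x hx => hx.1, fun x hx => ?_, c, fun x hx => ?_⟩
    · have hx2 : π x ∈ P' := hx.2
      exact (sec_spec Z S (hfS _ hx2)).1
    · have hx1 : x ∈ (S : Subgroup G) := hx.1
      have hx2 : π x ∈ P' := hx.2
      show sec Z S (f' (π x)) = _
      have hfx : f' (π x) = π (c * x * c⁻¹) := by
        rw [hc' _ hx2, map_mul, map_mul, map_inv]
      have hmem : π (c * x * c⁻¹) ∈ (S : Subgroup G).map π := by
        rw [← hfx]; exact hfS _ hx2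
      have hpel : ∃ k : ℕ, (c * x * c⁻¹) ^ p ^ k = 1 := by
        obtain ⟨a, ha⟩ := S.isPGroup' ⟨x, hx1⟩
        have hxa : x ^ p ^ a = 1 := by
          have := congrArg Subtype.val ha
          simpa using this
        refine ⟨a, ?_⟩
        rw [conj_pow, hxa]
        group
      have hS : c * x * c⁻¹ ∈ (S : Subgroup G) :=
        Cfsg.Agent.Helper85.mem_sylow_of_map_mem S Z hZ hpel hmem
      rw [hfx]
      exact (tr_quot Z hpZ S).left _ hS

theorem simple_quot (Z : Subgroup G) [Z.Normal] (hZ : Z ≤ Subgroup.center G)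
    (hpZ : ¬ p ∣ Nat.card Z) (S : Sylow p G)
    (h : (Cfsg.groupFusionSystem (S : Subgroup G)).IsSimple p) (S' : Sylow p (G ⧸ Z)) :
    (Cfsg.groupFusionSystem (S' : Subgroup (G ⧸ Z))).IsSimple p := by
  have hπs : Function.Surjective (QuotientGroup.mk' Z) := QuotientGroup.mk'_surjective Z
  have h1 : (groupFusionSystem ((S : Subgroup G).map (QuotientGroup.mk' Z))).IsSimple p :=
    T6.simple S.isPGroup' (rel_quot Z hZ hpZ S) h
  have h2 : (groupFusionSystem ((S.mapSurjective hπs : Sylow p (G ⧸ Z)) :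
      Subgroup (G ⧸ Z))).IsSimple p := by
    rw [Sylow.coe_mapSurjective]
    exact h1
  exact PslGrp.simple_of_sylow _ S' h2

end Cfsg.Agent.Helper87.PsuQuot
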