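import Mathlib
import Cfsg.Agent.Lib.Helper99.Psl3API
import Cfsg.Agent.Lib.Helper77.Psl3CEN
import Cfsg.Agent.Lib.Helper9.Psl3INV
import Cfsg.Agent.Lib.Helper9.Psl3C4
import Cfsg.Agent.Lib.Helper94.Psl3W
import Cfsg.Agent.Lib.Helper57.Psl3CHAR
import Cfsg.Agent.Lib.Helper8.Psl3N5
import Cfsg.Agent.Lib.Helper94.Psl3N6
import Cfsg.Agent.Lib.Helper57.Psl3N1
import Cfsg.Agent.Lib.Helper8.Psl3NORM
import Cfsg.Agent.Lib.Helper47.Psl3SYL
import Cfsg.Agent.Lib.Helper47.Psl3AUT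
import Cfsg.Agent.Lib.Helper23.Psl3SCns
import Cfsg.Agent.Lib.Helper21.Psl3SCsp
import Cfsg.Agent.Lib.Helper77.Psl3CTR
import Cfsg.Agent.Lib.Helper87.Psl3Defs
import Cfsg.Agent.S5339
import Cfsg.Agent.Lib.Helper84.GrpFus
import Cfsg.Agent.Lib.Helper84.PslGrp
import Cfsg.Agent.Lib.Helper87.PsuQuot

set_option autoImplicit false

namespace Cfsg.Agent.Helper87.Psl3Fin

open Matrix Cfsg Cfsg.Agent.Helper87.Psl3

variable {F : Type*} [Field F]

local notation "SL3" => Matrix.SpecialLinearGroup (Fin 3) F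
local notation "GL2" => GL (Fin 2) F

theorem two_ne_zero_of_odd [Fintype F] (hodd : Fintype.card F % 2 = 1) : (2 : F) ≠ 0 := by
  intro h
  have h1 : ringChar F ∣ 2 := by
    rw [← ringChar.spec]; exact_mod_cast h
  have h2 : ringChar F = 2 := by
    rcases (Nat.dvd_prime Nat.prime_two).1 h1 with h' | h'
    · exfalso
      have : (1 : F) = 0 := by
        have := ringChar.spec F 1 |>.2 (by rw [h'])
        simpa using this
      exact one_ne_zero this
    · exact h'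
  have := FiniteField.even_card_of_char_two h2
  omega

theorem zz_mem_S3 : (zz : SL3) ∈ S3 := by
  refine ⟨sc (-1), ?_, rfl⟩
  rw [← Cfsg.Agent.Helper99.Psl3.M0_mul_M0]
  have : (M0 : GL2) ∈ S2 := Subgroup.mem_sup_left Cfsg.Agent.Helper99.Psl3.M0_mem_P2
  exact Subgroup.mul_mem _ this this

theorem zz_ne_one (h2 : (2 : F) ≠ 0) : (zz : SL3) ≠ 1 := by
  intro h
  have h1 := congrArg (fun g : SL3 => (g : Matrix (Fin 3) (Fin 3) F) 0 0) h
  simp [zz, iotaMat, sc] at h1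
  apply h2
  have : (2 : F) = 1 - (-1) := by ring
  rw [this, h1]; ring

theorem sl3_simple [Fintype F] (hodd : Fintype.card F % 2 = 1) :
    ∃ S : Sylow 2 SL3, (groupFusionSystem (S : Subgroup SL3)).IsSimple 2 := by
  classical
  have h2 : (2 : F) ≠ 0 := two_ne_zero_of_odd hodd
  have hN : ∀ g : SL3, g ∈ Subgroup.normalizer ((S3 : Subgroup SL3) : Set SL3) →
      ∃ s ∈ (S3 : Subgroup SL3), ∃ c : Fˣ, Odd (orderOf c) ∧ g = s * iota (sc c) :=
    Cfsg.Agent.Helper8.Psl3.normalizer_S3 h2 (Cfsg.Agent.Helper57.Psl3.normalizer_comm_zz h2) (Cfsg.Agent.Helper77.Psl3.cen_zz h2)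
      (Cfsg.Agent.Helper57.Psl3.normalizer_S2_le h2 (Cfsg.Agent.Helper94.Psl3.exists_witness h2)) (Cfsg.Agent.Helper8.Psl3.conj_M0 h2) (Cfsg.Agent.Helper94.Psl3.torus_normalizer h2)
  obtain ⟨S, hS⟩ := Cfsg.Agent.Helper47.Psl3.exists_sylow Cfsg.Agent.Helper99.Psl3.isPGroup_S3 hN
  refine ⟨S, ?_⟩
  have hINV := Cfsg.Agent.Helper9.Psl3.inv_conj (F := F) h2
  apply Cfsg.Agent.S5339.result 2 S.isPGroup' _ (Cfsg.Agent.Helper84.gfs_saturated S)
  · rw [hS]
    intro h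
    have := zz_mem_S3 (F := F)
    rw [h, Subgroup.mem_bot] at this
    exact zz_ne_one h2 this
  · apply Cfsg.Agent.Helper47.Psl3.autGroup_eq_inn
    intro g hg
    rw [hS] at hg
    obtain ⟨s, hs, c, -, rfl⟩ := hN g hg
    refine ⟨s, by rw [hS]; exact hs, iota (sc c), ?_, rfl⟩
    intro x hx
    rw [hS] at hx
    obtain ⟨X, -, rfl⟩ := hx
    rw [← map_mul, ← map_mul, Cfsg.Agent.Helper99.Psl3.sc_comm]
  · intro T hT
    by_cases hT1 : T = ⊥
    · left; exact hT1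
    · right
      have hTS : T ≤ S3 := by rw [← hS]; exact hT.1
      have hcl : ∀ t ∈ T, ∀ g : SL3, g * t * g⁻¹ ∈ (S3 : Subgroup SL3) → g * t * g⁻¹ ∈ T := by
        intro t ht g hg
        exact Cfsg.Agent.Helper84.PslGrp.conj_mem_of_stronglyClosed hT ht g (by rw [hS]; exact hg)
      rw [hS]
      by_cases hi : ∃ i : F, i * i = -1
      · obtain ⟨i, hi⟩ := hi
        exact Cfsg.Agent.Helper21.Psl3.strongly_closed_split h2 i hi hINV T hTS hT1 hcl
      · push Not at hi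
        exact Cfsg.Agent.Helper23.Psl3.strongly_closed_nonsplit h2 hi hINV Cfsg.Agent.Helper9.Psl3.c4_conj T hTS hT1 hcl

theorem psl3_simple [Fintype F] (hodd : Fintype.card F % 2 = 1)
    (S : Sylow 2 (Matrix.ProjectiveSpecialLinearGroup (Fin 3) F)) :
    (Cfsg.groupFusionSystem
      (S : Subgroup (Matrix.ProjectiveSpecialLinearGroup (Fin 3) F))).IsSimple 2 := by
  obtain ⟨S0, h0⟩ := sl3_simple hodd
  exact Cfsg.Agent.Helper87.PsuQuot.simple_quot (Subgroup.center SL3) le_rfl Cfsg.Agent.Helper77.Psl3.center_card_odd S0 h0 S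

end Cfsg.Agent.Helper87.Psl3Fin
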