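import Mathlib
import Cfsg.Agent.Lib.Helper99.Psl3API
import Cfsg.Agent.Lib.Helper77.Psl3CEN
import Cfsg.Agent.Lib.Helper47.Psl3AUT
import Cfsg.Agent.Lib.Helper77.Psu3APIU
import Cfsg.Agent.Lib.Helper67.Psu3N1U
import Cfsg.Agent.Lib.Helper66.Psu3WU
import Cfsg.Agent.Lib.Helper57.Psu3CHARU
import Cfsg.Agent.Lib.Helper67.Psu3N5G
import Cfsg.Agent.Lib.Helper94.Psu3N6U
import Cfsg.Agent.Lib.Helper90.Psu3NORMU
import Cfsg.Agent.Lib.Helper67.Psu3SYLABS
import Cfsg.Agent.Lib.Helper2.Psu3INVU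
import Cfsg.Agent.Lib.Helper66.Psu3C4U
import Cfsg.Agent.Lib.Helper16.Psu3SCU1
import Cfsg.Agent.Lib.Helper21.Psu3SCU3
import Cfsg.Agent.Lib.Helper87.Psl3Defs
import Cfsg.Agent.Lib.Helper87.Psu3Defs
import Cfsg.Agent.S5339
import Cfsg.Agent.Lib.Helper84.GrpFus
import Cfsg.Agent.Lib.Helper84.PslGrp
import Cfsg.Agent.Lib.Helper87.PsuQuot
import Cfsg.Agent.Lib.Helper5.SUCenter

set_option autoImplicit false

namespace Cfsg.Agent.Helper87.Psu3Fin

open Matrix Cfsg Cfsg.Agent.Helper87.Psl3 Cfsg.Agent.Helper87.Psu3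

variable {K : Type*} [Field K] {q : ℕ}

local notation "SL3" => Matrix.SpecialLinearGroup (Fin 3) K
local notation "GL2" => GL (Fin 2) K

theorem two_ne_zero_of_card [Fintype K] (hK : Fintype.card K = q ^ 2) (hodd : q % 2 = 1) :
    (2 : K) ≠ 0 := by
  intro h
  have h1 : ringChar K ∣ 2 := by
    rw [← ringChar.spec]; exact_mod_cast h
  have h2 : ringChar K = 2 := by
    rcases (Nat.dvd_prime Nat.prime_two).1 h1 with h' | h'
    · exfalso
      have : (1 : K) = 0 := by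
        have := ringChar.spec K 1 |>.2 (by rw [h'])
        simpa using this
      exact one_ne_zero this
    · exact h'
  have := FiniteField.even_card_of_char_two h2
  rw [hK] at this
  have h3 : q ^ 2 % 2 = 1 := by rw [Nat.pow_mod, hodd]
  omega

theorem orderOf_iota_sc (c : Kˣ) : orderOf (iota (sc c) : SL3) = orderOf c := by
  have hinj : Function.Injective (fun c : Kˣ => (iota (sc c) : SL3)) := by
    intro a b hab
    have h1 := congrArg (fun g : SL3 => (g : Matrix (Fin 3) (Fin 3) K) 0 0) hab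
    simp [iotaMat, sc] at h1
    exact Units.ext h1
  exact orderOf_injective ((iota : GL2 →* SL3).comp sc) hinj c

theorem su3_simple [Fintype K] (hK : Fintype.card K = q ^ 2) (hodd : q % 2 = 1) :
    ∃ S : Sylow 2 ↥(Cfsg.SU 3 K q),
      (groupFusionSystem (S : Subgroup ↥(Cfsg.SU 3 K q))).IsSimple 2 := by
  classical
  have h2 : (2 : K) ≠ 0 := two_ne_zero_of_card hK hodd
  have hN : ∀ g : ↥(Cfsg.SU 3 K q),
      g ∈ Subgroup.normalizer ((S3U q : Subgroup ↥(Cfsg.SU 3 K q)) : Set ↥(Cfsg.SU 3 K q)) →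
      ∃ s ∈ (S3U q : Subgroup ↥(Cfsg.SU 3 K q)), ∃ c : Kˣ, Odd (orderOf c) ∧
        (g : SL3) = (s : SL3) * iota (sc c) :=
    Cfsg.Agent.Helper90.Psu3.normalizer_S3U h2 hodd (Cfsg.Agent.Helper67.Psu3.normalizer_comm_zzU h2 hodd) (Cfsg.Agent.Helper77.Psl3.cen_zz h2)
      (Cfsg.Agent.Helper57.Psu3.normalizer_S2U_le h2 hodd (Cfsg.Agent.Helper66.Psu3.exists_witnessU hK hodd)) (Cfsg.Agent.Helper67.Psu3.conj_M0_of_mem_Eu h2)
      (Cfsg.Agent.Helper94.Psu3.torus_normalizerU h2 hodd)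
  -- the element `iota (sc c)` as an element of `SU₃`
  have hN' : ∀ g : ↥(Cfsg.SU 3 K q),
      g ∈ Subgroup.normalizer ((S3U q : Subgroup ↥(Cfsg.SU 3 K q)) : Set ↥(Cfsg.SU 3 K q)) →
      ∃ s ∈ (S3U q : Subgroup ↥(Cfsg.SU 3 K q)), ∃ c : ↥(Cfsg.SU 3 K q), Odd (orderOf c) ∧
        (∀ x ∈ (S3U q : Subgroup ↥(Cfsg.SU 3 K q)), c * x = x * c) ∧ g = s * c := by
    intro g hg
    obtain ⟨s, hs, c, hc, hgs⟩ := hN g hg
    have hmem : (iota (sc c) : SL3) ∈ Cfsg.SU 3 K q := by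
      have : (iota (sc c) : SL3) = (s : SL3)⁻¹ * (g : SL3) := by rw [hgs]; group
      rw [this]
      exact Subgroup.mul_mem _ (Subgroup.inv_mem _ s.2) g.2
    refine ⟨s, hs, ⟨iota (sc c), hmem⟩, ?_, ?_, ?_⟩
    · have : orderOf (⟨iota (sc c), hmem⟩ : ↥(Cfsg.SU 3 K q)) = orderOf (iota (sc c) : SL3) :=
        (Subgroup.orderOf_coe (⟨iota (sc c), hmem⟩ : ↥(Cfsg.SU 3 K q))).symm
      rw [this, orderOf_iota_sc]
      exact hc
    · intro x hx
      obtain ⟨X, -, hX⟩ := (Cfsg.Agent.Helper77.Psu3.mem_S3U_iff' x).1 hx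
      apply Subtype.ext
      rw [Subgroup.coe_mul, Subgroup.coe_mul, ← hX]
      show iota (sc c) * iota X = iota X * iota (sc c)
      rw [← map_mul, ← map_mul, Cfsg.Agent.Helper99.Psl3.sc_comm]
    · apply Subtype.ext
      rw [Subgroup.coe_mul]
      exact hgs
  obtain ⟨S, hS⟩ := Cfsg.Agent.Helper67.Psu3.exists_sylow_of_normalizer (S3U q) Cfsg.Agent.Helper77.Psu3.isPGroup_S3U (fun g hg => by
    obtain ⟨s, hs, c, hc, -, e⟩ := hN' g hg
    exact ⟨s, hs, c, hc, e⟩)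
  refine ⟨S, ?_⟩
  have hINV := Cfsg.Agent.Helper2.Psu3.inv_conjU (K := K) hK hodd
  apply Cfsg.Agent.S5339.result 2 S.isPGroup' _ (Cfsg.Agent.Helper84.gfs_saturated S)
  · rw [hS]
    intro h
    have hz : (⟨zz, Cfsg.Agent.Helper77.Psu3.zz_mem_SU hodd⟩ : ↥(Cfsg.SU 3 K q)) ∈ S3U q := by
      rw [mem_S3U_iff]
      refine ⟨sc (-1), ?_, rfl⟩
      rw [← Cfsg.Agent.Helper99.Psl3.M0_mul_M0]
      have : (M0 : GL2) ∈ S2 := Subgroup.mem_sup_left Cfsg.Agent.Helper99.Psl3.M0_mem_P2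
      exact Subgroup.mul_mem _ this this
    rw [h, Subgroup.mem_bot] at hz
    have h1 := congrArg (fun g : ↥(Cfsg.SU 3 K q) => ((g : SL3) : Matrix (Fin 3) (Fin 3) K) 0 0) hz
    simp [zz, iotaMat, sc] at h1
    apply h2
    have : (2 : K) = 1 - (-1) := by ring
    rw [this, h1]; ring
  · apply Cfsg.Agent.Helper47.Psl3.autGroup_eq_inn
    intro g hg
    rw [hS] at hg
    obtain ⟨s, hs, c, -, hcc, e⟩ := hN' g hg
    exact ⟨s, by rw [hS]; exact hs, c, fun x hx => hcc x (by rw [← hS]; exact hx), e⟩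
  · intro T hT
    by_cases hT1 : T = ⊥
    · left; exact hT1
    · right
      have hTS : T ≤ S3U q := by rw [← hS]; exact hT.1
      have hcl : ∀ t ∈ T, ∀ g : ↥(Cfsg.SU 3 K q),
          g * t * g⁻¹ ∈ (S3U q : Subgroup ↥(Cfsg.SU 3 K q)) → g * t * g⁻¹ ∈ T := by
        intro t ht g hg
        exact Cfsg.Agent.Helper84.PslGrp.conj_mem_of_stronglyClosed hT ht g (by rw [hS]; exact hg)
      rw [hS]
      have hq4 : q % 4 = 1 ∨ q % 4 = 3 := by omega
      rcases hq4 with hq | hq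
      · exact Cfsg.Agent.Helper16.Psu3.strongly_closed_U_one hK hq hINV (Cfsg.Agent.Helper66.Psu3.c4_conjU hK hodd) T hTS hT1 hcl
      · exact Cfsg.Agent.Helper21.Psu3.strongly_closed_U_three hK hq hINV T hTS hT1 hcl

theorem psu3_simple [Fintype K] (hK : Fintype.card K = q ^ 2) (hodd : q % 2 = 1)
    (S : Sylow 2 (Cfsg.PSU 3 K q)) :
    (Cfsg.groupFusionSystem (S : Subgroup (Cfsg.PSU 3 K q))).IsSimple 2 := by
  obtain ⟨S0, h0⟩ := su3_simple hK hodd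
  have hc : ¬ 2 ∣ Nat.card (Subgroup.center ↥(Cfsg.SU 3 K q)) := by
    rw [Cfsg.Agent.Helper5.card_center_SU hK le_rfl]
    intro h
    have h3 : Nat.gcd 3 (q + 1) ∣ 3 := Nat.gcd_dvd_left _ _
    have := (Nat.dvd_prime Nat.prime_three).1 h3
    rcases this with h' | h' <;> rw [h'] at h <;> omega
  exact Cfsg.Agent.Helper87.PsuQuot.simple_quot (Subgroup.center ↥(Cfsg.SU 3 K q)) le_rfl hc S0 h0 S

end Cfsg.Agent.Helper87.Psu3Fin
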