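import Mathlib

/-!
(P3) of helper87's S5172 server (board #3276), written by helper49: a matrix `g` such that, for every
column `j > 0`, some upper unitriangular `u` with nonzero `(j-1, j)` entry is carried by `g` to an
upper unitriangular `u'` (`g * u = u' * g`) is upper triangular.
-/

set_option autoImplicit false

namespace Cfsg.Agent.Helper87.PsuFlag

theorem upper_of_conj {n : ℕ} {F : Type*} [Field F] (g : Matrix (Fin n) (Fin n) F)
    (h : ∀ j : Fin n, 0 < (j : ℕ) → ∃ u u' : Matrix (Fin n) (Fin n) F,
      (∀ x y : Fin n, y ≤ x → u' x y = if x = y then 1 else 0) ∧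
      (∀ x y : Fin n, y ≤ x → u x y = if x = y then 1 else 0) ∧
      (∃ i : Fin n, (i : ℕ) + 1 = j ∧ u i j ≠ 0) ∧ g * u = u' * g) :
    ∀ i j : Fin n, j < i → g i j = 0 := by
  intro i
  induction i using WellFoundedGT.induction with
  | ind i IHo =>
  intro j
  induction j using WellFoundedLT.induction with
  | ind j IHi =>
  intro hji
  have hji' : (j : ℕ) < (i : ℕ) := Fin.lt_def.mp hji
  have hjn : (j : ℕ) + 1 < n := lt_of_le_of_lt (Nat.succ_le_of_lt hji') i.isLt
  obtain ⟨c, hc⟩ : ∃ c : Fin n, c = ⟨(j : ℕ) + 1, hjn⟩ := ⟨_, rfl⟩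
  have hcv : (c : ℕ) = (j : ℕ) + 1 := by rw [hc]
  have hcpos : 0 < (c : ℕ) := by omega
  obtain ⟨u, u', hu', hu, ⟨i₀, hi₀, hne⟩, hgu⟩ := h c hcpos
  have hi₀j : i₀ = j := Fin.ext (by omega)
  rw [hi₀j] at hne
  have key1 : ∀ k : Fin n, g i k * u k c =
      (if k = j then g i j * u j c else 0) + (if k = c then g i c else 0) := by
    intro k
    rcases lt_trichotomy (k : ℕ) (j : ℕ) with hk | hk | hk
    · have hkj : k < j := Fin.lt_def.mpr hk
      have h0 : g i k = 0 := IHi k hkj (lt_trans hkj hji)
      have h1 : k ≠ j := fun e => by have := congrArg Fin.val e; omega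
      have h2 : k ≠ c := fun e => by have := congrArg Fin.val e; omega
      rw [h0, zero_mul, if_neg h1, if_neg h2, add_zero]
    · have hkj : k = j := Fin.ext hk
      have h2 : k ≠ c := fun e => by have := congrArg Fin.val e; omega
      rw [if_pos hkj, if_neg h2, add_zero, hkj]
    · have hck : c ≤ k := Fin.le_def.mpr (by omega)
      have h1 : k ≠ j := fun e => by have := congrArg Fin.val e; omega
      rw [hu k c hck, if_neg h1, zero_add]
      by_cases hkc : k = c
      · rw [if_pos hkc, if_pos hkc, mul_one, hkc]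
      · rw [if_neg hkc, if_neg hkc, mul_zero]
  have key2 : ∀ k : Fin n, u' i k * g k c = if i = k then g i c else 0 := by
    intro k
    rcases lt_or_ge i k with hk | hk
    · have hk' : (i : ℕ) < (k : ℕ) := Fin.lt_def.mp hk
      have hck : c < k := Fin.lt_def.mpr (by omega)
      have h0 : g k c = 0 := IHo k hk c hck
      have hik : i ≠ k := ne_of_lt hk
      rw [h0, mul_zero, if_neg hik]
    · rw [hu' i k hk]
      by_cases hik : i = k
      · rw [if_pos hik, if_pos hik, one_mul, hik]
      · rw [if_neg hik, if_neg hik, zero_mul]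
  have e := congrFun (congrFun hgu i) c
  rw [Matrix.mul_apply, Matrix.mul_apply, Finset.sum_congr rfl (fun k _ => key1 k),
    Finset.sum_congr rfl (fun k _ => key2 k)] at e
  simp only [Finset.sum_add_distrib, Finset.sum_ite_eq', Finset.sum_ite_eq, Finset.mem_univ,
    if_true] at e
  have e0 : g i j * u j c = 0 := by
    have e1 : g i j * u j c + g i c = 0 + g i c := by rw [zero_add]; exact e
    exact add_right_cancel e1
  exact (mul_eq_zero.mp e0).resolve_right hne

end Cfsg.Agent.Helper87.PsuFlag
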