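import Mathlib
import Cfsg.Agent.Lib.Helper87.PsuB0
import Cfsg.Agent.Lib.Helper87.PsuFlag
import Cfsg.Agent.Lib.Helper84.PslGrp

/-!
# (B) of helper87's S5172 server (board #3398), written by helper74:
the normalizer of the unitriangular subgroup `Usub` of `SU_n(q)` is upper triangular, and `Usub`
is a Sylow `p`-subgroup.

All four statements take `hF` as FIRST explicit argument (signature file v2, board #3433).
-/

set_option autoImplicit false
set_option quotPrecheck false

open Matrix Cfsg Cfsg.Agent.Helper13 Cfsg.Agent.Helper87.PsuA Cfsg.Agent.Helper87.PsuD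
  Cfsg.Agent.Helper87.PsuB0

variable {F : Type*} [Field F] [Fintype F] {q n : ℕ}

local notation "V" => Fin n → F
local notation "G" => ↥(Cfsg.SU n F q)
local notation "H" => Cfsg.hermForm n F q

variable (hF : Fintype.card F = q ^ 2) {b : Fin n → Fin n → F}

namespace Cfsg.Agent.Helper87.PsuB

open Cfsg.Agent.Helper13.AutPSLSylow

include hF in
/-- for every column `j > 0` there is a root element of `Usub` whose `(j-1, j)` entry is nonzero -/
theorem exists_root (hb : HB q b) (i j : Fin n) (hij : (i : ℕ) + 1 = (j : ℕ)) :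
    ∃ x : G, x ∈ Usub hb ∧ rhoM q b x i j ≠ 0 := by
  have hvr : ∀ k : Fin n, ((Fin.rev k : Fin n) : ℕ) = n - ((k : ℕ) + 1) := fun k => Fin.val_rev k
  have hjn : (j : ℕ) < n := j.isLt
  have hinj : i ≠ j := fun e => by have := congrArg Fin.val e; omega
  rcases lt_trichotomy (2 * (j : ℕ)) n with hlt | heq | hgt
  · -- `2 j < n`: `E(b_i, b_(rev j), a)`
    have hk : i < Fin.rev i := by
      rw [Fin.lt_def, hvr]; omega
    have hirj : i ≠ Fin.rev j := fun e => by
      have := congrArg Fin.val e; rw [hvr] at this; omega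
    have hw : ∀ i' : Fin n, Fin.rev i ≤ i' → co q b (b (Fin.rev j)) i' = 0 := by
      intro i' hi'
      rw [co_b hb, if_neg]
      intro e
      rw [Fin.le_def, hvr] at hi'
      have := congrArg Fin.val e; rw [hvr] at this; omega
    obtain ⟨a, ha⟩ := exists_eich_param hF (b (Fin.rev j))
    have huw : H (b i) (b (Fin.rev j)) = 0 := by
      rw [hb i (Fin.rev j), if_neg]
      intro e
      exact hinj (Fin.rev_injective e).symm
    refine ⟨eich hF (b i) (b (Fin.rev j)) a, eich_mem_Usub hF hb i hk _ a hw ha, ?_⟩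
    rw [rhoM_apply, co_eich_b hF hb i hk.ne _ a huw ha j i]
    simp [co_b hb, hinj, hirj]
  · -- `2 j = n`: a transvection along `b_i`
    have hk : i < Fin.rev i := by
      rw [Fin.lt_def, hvr]; omega
    have hirj : i = Fin.rev j := by
      apply Fin.ext; rw [hvr]; omega
    obtain ⟨κ, hκ0, hκ⟩ := exists_kappa hF
    have hw : ∀ i' : Fin n, Fin.rev i ≤ i' → co q b (0 : V) i' = 0 := fun i' _ => co_zero hF i'
    have ha : κ + κ ^ q + H (0 : V) (0 : V) = 0 := by rw [H_zero_left hF, add_zero, hκ]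
    have huw : H (b i) (0 : V) = 0 := H_zero_right hF _
    refine ⟨eich hF (b i) 0 κ, eich_mem_Usub hF hb i hk _ κ hw ha, ?_⟩
    rw [rhoM_apply, co_eich_b hF hb i hk.ne _ κ huw ha j i]
    simp only [co_zero hF, frob_zero hF, if_neg hinj, if_pos hirj, if_pos rfl]
    simpa using hκ0
  · -- `2 j > n`: `E(b_(rev j), b_i, a)`
    have hk : Fin.rev j < Fin.rev (Fin.rev j) := by
      rw [Fin.rev_rev, Fin.lt_def, hvr]; omega
    have hirj : i ≠ Fin.rev j := fun e => by
      have := congrArg Fin.val e; rw [hvr] at this; omega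
    have hw : ∀ i' : Fin n, Fin.rev (Fin.rev j) ≤ i' → co q b (b i) i' = 0 := by
      intro i' hi'
      rw [co_b hb, if_neg]
      intro e
      rw [Fin.rev_rev, Fin.le_def] at hi'
      have := congrArg Fin.val e; omega
    obtain ⟨a, ha⟩ := exists_eich_param hF (b i)
    have huw : H (b (Fin.rev j)) (b i) = 0 := by
      rw [hb (Fin.rev j) i, if_neg]
      rw [Fin.rev_rev]
      exact hinj
    refine ⟨eich hF (b (Fin.rev j)) (b i) a, eich_mem_Usub hF hb _ hk _ a hw ha, ?_⟩
    rw [rhoM_apply, co_eich_b hF hb _ hk.ne _ a huw ha j i]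
    simp [co_b hb, hinj, hirj]

include hF in
/-- N_G(U) is upper triangular -/
theorem normalizer_le_Bsub (hb : HB q b) :
    Subgroup.normalizer ((Usub hb : Subgroup G) : Set G) ≤ Bsub hb := by
  intro g hg
  rw [mem_Bsub]
  apply Cfsg.Agent.Helper87.PsuFlag.upper_of_conj
  intro j hj
  have hi : (j : ℕ) - 1 < n := lt_of_le_of_lt (Nat.sub_le _ _) j.isLt
  have hij : ((⟨(j : ℕ) - 1, hi⟩ : Fin n) : ℕ) + 1 = (j : ℕ) := by
    show (j : ℕ) - 1 + 1 = (j : ℕ)
    omega
  obtain ⟨x, hxU, hx⟩ := exists_root hF hb ⟨(j : ℕ) - 1, hi⟩ j hij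
  refine ⟨rhoM q b x, rhoM q b (g * x * g⁻¹), ?_, ?_, ⟨⟨(j : ℕ) - 1, hi⟩, hij, hx⟩, ?_⟩
  · exact (mem_Usub hb).1 ((Subgroup.mem_normalizer_iff.1 hg x).1 hxU)
  · exact (mem_Usub hb).1 hxU
  · rw [← rhoM_mul hb, ← rhoM_mul hb]
    congr 1
    group

include hF in
/-- upper triangular elements of `p`-power order are unitriangular -/
theorem mem_Usub_of_pow (hb : HB q b) (p : ℕ) [Fact p.Prime] [CharP F p] {g : G}
    (hg : g ∈ Bsub hb) (k : ℕ) (h : g ^ (p ^ k) = 1) : g ∈ Usub hb := by
  rw [mem_Usub, isUT_iff]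
  refine ⟨hg, fun i => ?_⟩
  have h1 : (rhoM q b g i i) ^ (p ^ k) = 1 := by
    rw [← IsUp.diag_pow hg, ← rhoM_pow hb, h, rhoM_one hb, Matrix.one_apply_eq]
  have h2 : (rhoM q b g i i - 1) ^ (p ^ k) = 0 := by
    rw [sub_pow_char_pow, h1, one_pow, sub_self]
  have h3 : p ^ k ≠ 0 := pow_ne_zero k (Fact.out : p.Prime).ne_zero
  exact sub_eq_zero.1 ((pow_eq_zero_iff h3).1 h2)

include hF in
theorem isPGroup_Usub (hb : HB q b) (p : ℕ) [Fact p.Prime] [CharP F p] :
    IsPGroup p (Usub hb) := by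
  obtain ⟨f, _, hf⟩ := FiniteField.card F p
  have h1 : IsPGroup p (UT n F) :=
    IsPGroup.of_card (n := (f : ℕ) * (n * (n - 1) / 2)) (by rw [card_UT, hf, pow_mul])
  exact h1.comap_of_injective (rhoSL hb) (rhoSL_injective hb)

include hF in
/-- `Usub` is a Sylow `p`-subgroup (normalizers grow in `p`-groups) -/
theorem exists_sylow_Usub (hb : HB q b) (p : ℕ) [Fact p.Prime] [CharP F p] :
    ∃ S : Sylow p G, (S : Subgroup G) = Usub hb := by
  obtain ⟨S, hS⟩ := (isPGroup_Usub hF hb p).exists_le_sylow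
  refine ⟨S, le_antisymm ?_ hS⟩
  by_contra hne
  have hlt : (Usub hb).subgroupOf (S : Subgroup G) < ⊤ := by
    rw [lt_top_iff_ne_top, Ne, Subgroup.subgroupOf_eq_top]
    exact hne
  have _inst : Group.IsNilpotent ↥(S : Subgroup G) := S.isPGroup'.isNilpotent
  have hnc := Group.normalizerCondition_of_isNilpotent _ hlt
  obtain ⟨x, hxN, hxU⟩ := SetLike.exists_of_lt hnc
  have hxG : (x : G) ∈ Subgroup.normalizer ((Usub hb : Subgroup G) : Set G) := by
    rw [Subgroup.mem_normalizer_iff]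
    intro h
    constructor
    · intro hh
      have hhS : h ∈ (S : Subgroup G) := hS hh
      have h1 := (Subgroup.mem_normalizer_iff.1 hxN ⟨h, hhS⟩).1 (Subgroup.mem_subgroupOf.2 hh)
      exact Subgroup.mem_subgroupOf.1 h1
    · intro hh
      have hhS : (x : G) * h * (x : G)⁻¹ ∈ (S : Subgroup G) := hS hh
      have hS' : h ∈ (S : Subgroup G) := by
        have h2 := (S : Subgroup G).mul_mem ((S : Subgroup G).mul_mem
          ((S : Subgroup G).inv_mem x.2) hhS) x.2
        have e : (x : G)⁻¹ * ((x : G) * h * (x : G)⁻¹) * (x : G) = h := by group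
        rwa [e] at h2
      have h1 := (Subgroup.mem_normalizer_iff.1 hxN ⟨h, hS'⟩).2
        (Subgroup.mem_subgroupOf.2 hh)
      exact Subgroup.mem_subgroupOf.1 h1
  have hxB : (x : G) ∈ Bsub hb := normalizer_le_Bsub hF hb hxG
  obtain ⟨k, hk⟩ := S.isPGroup' x
  have hk' : (x : G) ^ p ^ k = 1 := by
    have := congrArg Subtype.val hk
    simpa using this
  exact hxU (Subgroup.mem_subgroupOf.2 (mem_Usub_of_pow hF hb p hxB k hk'))

end Cfsg.Agent.Helper87.PsuB
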