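import Mathlib
import Cfsg.Agent.Lib.Helper87.PsuB0
import Cfsg.Agent.Lib.Helper87.PsuFlag
import Cfsg.Agent.Lib.Helper84.PslGrp

/-!
# S5172 piece (C1): the subgroup `Qv (b 0)` of `SU_n(q)` (helper64 for helper87)
-/

set_option autoImplicit false
set_option quotPrecheck false
set_option linter.unusedSectionVars false
set_option linter.unusedSimpArgs false
set_option linter.unusedVariables false
set_option linter.unreachableTactic false
set_option linter.unusedTactic false

open Matrix Cfsg Cfsg.Agent.Helper13 Cfsg.Agent.Helper87.PsuA Cfsg.Agent.Helper87.PsuD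
  Cfsg.Agent.Helper87.PsuB0

variable {F : Type*} [Field F] [Fintype F] {q n : ℕ}

local notation "V" => Fin n → F
local notation "G" => ↥(Cfsg.SU n F q)
local notation "H" => Cfsg.hermForm n F q

variable (hF : Fintype.card F = q ^ 2) {b : Fin n → Fin n → F}

namespace Cfsg.Agent.Helper87.PsuC1

theorem eich_mem_Qv {u w : V} {a : F} (huu : H u u = 0) (huw : H u w = 0)
    (ha : a + a ^ q + H w w = 0) : eich hF u w a ∈ Qv q u := by
  rw [mem_Qv]
  refine ⟨?_, fun y hy => ⟨-H y w, ?_⟩⟩
  · rw [eich_act hF huu huw ha, huu, huw]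
    module
  · rw [eich_act hF huu huw ha, hy]
    module

theorem helper64_conj_mem_Qv {u : V} {g h : G} {c : F} (hc : c ≠ 0) (hg : actv g u = c • u)
    (hh : h ∈ Qv q u) : g * h * g⁻¹ ∈ Qv q u := by
  have hgi : actv g⁻¹ u = c⁻¹ • u := by
    have h1 : actv g⁻¹ (actv g u) = u := actv_inv_actv g u
    rw [hg, actv_smul] at h1
    calc actv g⁻¹ u = c⁻¹ • (c • actv g⁻¹ u) := by
          rw [smul_smul, inv_mul_cancel₀ hc, one_smul]
      _ = c⁻¹ • u := by rw [h1]
  obtain ⟨h1, h2⟩ := mem_Qv.1 hh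
  rw [mem_Qv]
  refine ⟨?_, fun y hy => ?_⟩
  · rw [actv_mul, actv_mul, hgi, actv_smul, h1, actv_smul, hg, smul_smul, inv_mul_cancel₀ hc,
      one_smul]
  · have hy' : H (actv g⁻¹ y) u = 0 := by
      rw [H_actv_inv, hg, hermForm_smul_right, hy, mul_zero]
    obtain ⟨d, hd⟩ := h2 _ hy'
    refine ⟨d * c, ?_⟩
    have e : actv h (actv g⁻¹ y) = actv g⁻¹ y + d • u := by rw [← hd]; abel
    rw [actv_mul, actv_mul, e, actv_add, actv_actv_inv, actv_smul, hg, smul_smul]
    abel

include hF in
theorem mem_normalizer_Qv {u : V} (hu : u ≠ 0) {g : G} {c : F} (hg : actv g u = c • u) :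
    g ∈ Subgroup.normalizer ((Qv q u : Subgroup G) : Set G) := by
  have hc : c ≠ 0 := by
    intro h0
    rw [h0, zero_smul] at hg
    apply hu
    have h1 := actv_inv g u 0 hg
    rw [PsuA.actv_zero] at h1
    exact h1.symm
  have hgi : actv g⁻¹ u = c⁻¹ • u := by
    have h1 : actv g⁻¹ (actv g u) = u := actv_inv_actv g u
    rw [hg, actv_smul] at h1
    calc actv g⁻¹ u = c⁻¹ • (c • actv g⁻¹ u) := by
          rw [smul_smul, inv_mul_cancel₀ hc, one_smul]
      _ = c⁻¹ • u := by rw [h1]
  rw [Subgroup.mem_normalizer_iff]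
  intro h
  refine ⟨fun hh => helper64_conj_mem_Qv hc hg hh, fun hh => ?_⟩
  have h2 := helper64_conj_mem_Qv (inv_ne_zero hc) hgi hh
  have e : g⁻¹ * (g * h * g⁻¹) * g⁻¹⁻¹ = h := by group
  rwa [e] at h2

theorem helper64_i0_ne_rev (hn : 4 ≤ n) : i0 hn ≠ Fin.rev (i0 hn) := by
  intro h
  have h1 := congrArg Fin.val h
  rw [Fin.val_rev] at h1
  simp only [i0] at h1
  omega

include hF in
theorem Qv_le_Usub (hb : HB q b) (hn : 4 ≤ n) : Qv q (b (i0 hn)) ≤ Usub hb := by
  intro g hg
  obtain ⟨h1, h2⟩ := mem_Qv.1 hg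
  rw [mem_Usub_iff]
  intro i j hji
  by_cases hj0 : j = i0 hn
  · rw [hj0, h1, co_b hb]
  · by_cases hjl : j = Fin.rev (i0 hn)
    · have hij : i = j := by
        apply le_antisymm _ hji
        rw [hjl, Fin.le_def, Fin.val_rev]
        simp only [i0]
        omega
      rw [if_pos hij, hij]
      unfold co
      rw [hjl, Fin.rev_rev]
      have h3 := H_actv g (b (Fin.rev (i0 hn))) (b (i0 hn))
      rw [h1] at h3
      rw [h3, hb, if_pos (Fin.rev_rev _).symm]
    · have hperp : H (b j) (b (i0 hn)) = 0 := by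
        rw [hb j (i0 hn), if_neg]
        intro h
        apply hjl
        rw [h, Fin.rev_rev]
      obtain ⟨c, hc⟩ := h2 _ hperp
      have e : actv g (b j) = b j + c • b (i0 hn) := by rw [← hc]; abel
      have hi0 : i ≠ i0 hn := by
        intro h
        apply hj0
        rw [h] at hji
        apply Fin.ext
        have h4 := Fin.le_def.1 hji
        simp only [i0] at h4 ⊢
        omega
      rw [e, co_add, co_smul, co_b hb, co_b hb, if_neg hi0, mul_zero, add_zero]

/-- equal transvections have proportional centres -/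
theorem smul_of_eich_eq {u u' : V} {a : F} (hu : H u u = 0) (hu' : H u' u' = 0) (hu0 : u ≠ 0)
    (ha : a + a ^ q = 0) (ha0 : a ≠ 0) (h : eich hF u 0 a = eich hF u' 0 a) :
    ∃ c : F, u' = c • u := by
  have hq := (q_pos hF).ne'
  obtain ⟨i, hi⟩ : ∃ i, u i ≠ 0 := by
    by_contra hcon
    push Not at hcon
    exact hu0 (funext hcon)
  have hxu : H (Pi.single i 1) u ≠ 0 := by
    rw [hermForm_single_left']
    exact pow_ne_zero _ hi
  have hav : ∀ v : V, H v v = 0 → ∀ x : V, actv (eich hF v 0 a) x = x + (a * H x v) • v := by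
    intro v hv x
    rw [eich_act hF hv (H_zero_right hF v) (by rw [H_zero_right hF, add_zero]; exact ha),
      H_zero_right hF]
    module
  have e1 := hav u hu (Pi.single i 1)
  rw [h, hav u' hu'] at e1
  have e2 : (a * H (Pi.single i 1) u') • u' = (a * H (Pi.single i 1) u) • u := add_left_cancel e1
  have h3 : a * H (Pi.single i 1) u' ≠ 0 := by
    intro h0
    rw [h0, zero_smul] at e2
    rcases smul_eq_zero.1 e2.symm with h | h
    · exact (mul_ne_zero ha0 hxu) h
    · exact hu0 h
  refine ⟨(a * H (Pi.single i 1) u')⁻¹ * (a * H (Pi.single i 1) u), ?_⟩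
  rw [← smul_smul, ← e2, smul_smul, inv_mul_cancel₀ h3, one_smul]

/-- abstract form: an element fixing the isotropic `u` and commuting with all `E(u, w, a)` fixes
`u^⊥` pointwise, and `z l - l ⊥ u^⊥` -/
theorem helper64_central_aux {u l : V} (huu : H u u = 0) (hlu : H l u = 1) (hu0 : u ≠ 0) {z : G}
    (hz0 : actv z u = u)
    (hcomm : ∀ (w : V) (a : F), H u w = 0 → a + a ^ q + H w w = 0 →
      z * eich hF u w a = eich hF u w a * z) :
    ∀ w : V, H u w = 0 → (H (actv z l - l) w = 0 ∧ actv z w = w) := by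
  have hzlu : H (actv z l) u = 1 := by
    have h1 := H_actv z l u
    rw [hz0] at h1
    rw [h1, hlu]
  have key : ∀ w : V, H u w = 0 → actv z w = w - H (actv z l - l) w • u := by
    intro w hw
    obtain ⟨a, ha⟩ := exists_eich_param hF w
    have hc := hcomm w a hw ha
    have e : actv (z * eich hF u w a) l = actv (eich hF u w a * z) l := by rw [hc]
    rw [actv_mul, actv_mul, eich_act hF huu hw ha, eich_act hF huu hw ha, hzlu, hlu] at e
    simp only [actv_add, actv_sub, actv_smul, hz0] at e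
    rw [H_sub_left hF]
    linear_combination (norm := module) e
  obtain ⟨c, hc⟩ := exists_not_fixed hF
  intro w hw
  have hvw : H (actv z l - l) w = 0 := by
    have h1 := key w hw
    have h2 := key (c • w) (by rw [hermForm_smul_right, hw, mul_zero])
    rw [actv_smul, h1, hermForm_smul_right] at h2
    have h3 : ((c ^ q - c) * H (actv z l - l) w) • u = 0 := by
      linear_combination (norm := module) h2
    rcases smul_eq_zero.1 h3 with h | h
    · rcases mul_eq_zero.1 h with h' | h'
      · exact absurd (sub_eq_zero.1 h') hc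
      · exact h'
    · exact absurd h hu0
  refine ⟨hvw, ?_⟩
  rw [key w hw, hvw, zero_smul, sub_zero]

/-- an element fixing `b 0` and commuting with all `E(b 0, w, a)` is a transvection along `b 0` -/
theorem central_eq_transvection (hb : HB q b) (hn : 4 ≤ n) {z : G}
    (hz0 : actv z (b (i0 hn)) = b (i0 hn))
    (hcomm : ∀ (w : V) (a : F), H (b (i0 hn)) w = 0 → a + a ^ q + H w w = 0 →
      z * eich hF (b (i0 hn)) w a = eich hF (b (i0 hn)) w a * z) :
    ∃ a : F, a + a ^ q = 0 ∧ z = eich hF (b (i0 hn)) 0 a := by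
  have h0l := helper64_i0_ne_rev hn
  have huu : H (b (i0 hn)) (b (i0 hn)) = 0 := b_isotropic hb h0l
  have hlu : H (b (Fin.rev (i0 hn))) (b (i0 hn)) = 1 := by
    rw [hb, if_pos (Fin.rev_rev _).symm]
  have hul : H (b (i0 hn)) (b (Fin.rev (i0 hn))) = 1 := by
    rw [hb, if_pos rfl]
  have hll : H (b (Fin.rev (i0 hn))) (b (Fin.rev (i0 hn))) = 0 := by
    rw [hb, if_neg]
    rw [Fin.rev_rev]
    exact h0l.symm
  have hu0 : b (i0 hn) ≠ 0 := b_ne_zero hF hb _
  have aux := helper64_central_aux hF huu hlu hu0 hz0 hcomm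
  have hv_eq : actv z (b (Fin.rev (i0 hn))) - b (Fin.rev (i0 hn)) =
      co q b (actv z (b (Fin.rev (i0 hn))) - b (Fin.rev (i0 hn))) (i0 hn) • b (i0 hn) := by
    conv_lhs => rw [expand hb (actv z (b (Fin.rev (i0 hn))) - b (Fin.rev (i0 hn)))]
    rw [Finset.sum_eq_single (i0 hn)]
    · intro i _ hi
      have h1 : co q b (actv z (b (Fin.rev (i0 hn))) - b (Fin.rev (i0 hn))) i = 0 := by
        unfold co
        apply (aux _ _).1
        rw [hb, if_neg]
        intro h
        exact hi (Fin.rev_injective h)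
      rw [h1, zero_smul]
    · intro h
      exact absurd (Finset.mem_univ _) h
  obtain ⟨a, ha_def⟩ : ∃ a : F, a = co q b (actv z (b (Fin.rev (i0 hn))) - b (Fin.rev (i0 hn)))
      (i0 hn) := ⟨_, rfl⟩
  rw [← ha_def] at hv_eq
  have hzl : actv z (b (Fin.rev (i0 hn))) = b (Fin.rev (i0 hn)) + a • b (i0 hn) := by
    rw [← hv_eq]
    abel
  have ha : a + a ^ q = 0 := by
    have h1 : H (actv z (b (Fin.rev (i0 hn)))) (actv z (b (Fin.rev (i0 hn)))) =
        H (b (Fin.rev (i0 hn))) (b (Fin.rev (i0 hn))) := H_actv z _ _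
    rw [hzl, hll] at h1
    simp only [hermForm_add_left, hermForm_add_right hF, hermForm_smul_left, hermForm_smul_right,
      hll, hlu, hul, huu] at h1
    linear_combination h1
  refine ⟨a, ha, ?_⟩
  apply ext_b hb
  intro j
  rw [eich_act hF huu (H_zero_right hF _) (by rw [H_zero_right hF, add_zero]; exact ha),
    H_zero_right hF]
  by_cases hj : j = Fin.rev (i0 hn)
  · rw [hj, hzl, hlu]
    module
  · have hperp : H (b (i0 hn)) (b j) = 0 := by rw [hb, if_neg hj]
    have hperp' : H (b j) (b (i0 hn)) = 0 := H_symm_zero hF hperp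
    rw [(aux _ hperp).2, hperp']
    module

include hF in
/-- `p`-elements centralizing `Qv (b 0)` lie in it.  NOTE (helper64): the server's signature did
not mention `hF` (so it was not a hypothesis there); it is needed, hence `include hF`: the first
explicit argument is `hF`, as for all other theorems of this piece. -/
theorem Qv_pcentral (hb : HB q b) (hn : 4 ≤ n) (p : ℕ) [Fact p.Prime] [CharP F p] {x : G}
    (hx : ∃ k : ℕ, x ^ (p ^ k) = 1)
    (hc : x ∈ Subgroup.centralizer ((Qv q (b (i0 hn)) : Subgroup G) : Set G)) :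
    x ∈ Qv q (b (i0 hn)) := by
  have h0l := helper64_i0_ne_rev hn
  have huu : H (b (i0 hn)) (b (i0 hn)) = 0 := b_isotropic hb h0l
  have hu0 : b (i0 hn) ≠ 0 := b_ne_zero hF hb _
  obtain ⟨κ, hκ0, hκ⟩ := exists_kappa hF
  have hκ' : κ + κ ^ q + H (0 : V) 0 = 0 := by rw [H_zero_right hF, add_zero]; exact hκ
  have hcomm : ∀ (w : V) (a : F), H (b (i0 hn)) w = 0 → a + a ^ q + H w w = 0 →
      x * eich hF (b (i0 hn)) w a = eich hF (b (i0 hn)) w a * x := by
    intro w a hw ha
    exact (Subgroup.mem_centralizer_iff.1 hc _ (eich_mem_Qv hF huu hw ha)).symm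
  have hconj : eich hF (actv x (b (i0 hn))) 0 κ = eich hF (b (i0 hn)) 0 κ := by
    have h1 := eich_conj hF huu (H_zero_right hF (b (i0 hn))) hκ' x
    rw [PsuA.actv_zero] at h1
    rw [← h1, hcomm 0 κ (H_zero_right hF _) hκ', mul_inv_cancel_right]
  obtain ⟨c, hcu⟩ := smul_of_eich_eq hF huu (by rw [H_actv]; exact huu) hu0 hκ hκ0 hconj.symm
  obtain ⟨k, hk⟩ := hx
  have hpow : ∀ m : ℕ, actv (x ^ m) (b (i0 hn)) = c ^ m • b (i0 hn) := by
    intro m
    induction m with
    | zero => rw [pow_zero, pow_zero, actv_one, one_smul]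
    | succ m ih => rw [pow_succ, actv_mul, hcu, actv_smul, ih, smul_smul, ← pow_succ']
  have h1 := hpow (p ^ k)
  rw [hk, actv_one] at h1
  have hc1 : c ^ p ^ k = 1 := by
    by_contra hne
    have h2 : (c ^ p ^ k - 1) • b (i0 hn) = 0 := by rw [sub_smul, one_smul, ← h1, sub_self]
    rcases smul_eq_zero.1 h2 with h | h
    · exact hne (sub_eq_zero.1 h)
    · exact hu0 h
  have hc' : c = 1 := by
    apply (frobenius_inj F p).iterate k
    rw [iterate_frobenius, iterate_frobenius, hc1, one_pow]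
  rw [hc', one_smul] at hcu
  obtain ⟨a, ha, hxa⟩ := central_eq_transvection hF hb hn hcu hcomm
  rw [hxa]
  exact eich_mem_Qv hF huu (H_zero_right hF _) (by rw [H_zero_right hF, add_zero]; exact ha)

end Cfsg.Agent.Helper87.PsuC1
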