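import Mathlib
import Cfsg.Agent.Lib.Helper87.PsuB0
import Cfsg.Agent.Lib.Helper87.PsuFlag
import Cfsg.Agent.Lib.Helper84.PslGrp

/-!
(C2) of helper87's S5172 server (board #3398), written by helper61: the subgroup `RW`
(the unipotent radical of the stabilizer of the totally isotropic subspace
`W = span (b i : i < rev i)`): it is unitriangular, it is normalized by the stabilizer of `W`,
the Borel subgroup stabilizes `W`, and `p`-elements centralizing `RW` lie in `RW`.
-/

set_option autoImplicit false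
set_option quotPrecheck false
set_option linter.unusedSectionVars false
set_option linter.unusedVariables false

open Matrix Cfsg Cfsg.Agent.Helper13 Cfsg.Agent.Helper87.PsuA Cfsg.Agent.Helper87.PsuD
  Cfsg.Agent.Helper87.PsuB0

variable {F : Type*} [Field F] [Fintype F] {q n : ℕ}

local notation "V" => Fin n → F
local notation "G" => ↥(Cfsg.SU n F q)
local notation "H" => Cfsg.hermForm n F q

variable (hF : Fintype.card F = q ^ 2) {b : Fin n → Fin n → F}

namespace Cfsg.Agent.Helper87.PsuC2

/-! ### membership in `W` and `W^⊥` in coordinates -/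

theorem inW_b (hb : HB q b) {j : Fin n} (hj : j < Fin.rev j) : InW q b (b j) := by
  intro i hi
  rw [co_b hb, if_neg]
  rintro rfl
  exact absurd hj (not_lt.2 hi)

theorem co_of_inWp (hb : HB q b) {y : V} (hy : InWp q b y) {i : Fin n} (hi : Fin.rev i < i) :
    co q b y i = 0 :=
  hy (b (Fin.rev i)) (inW_b hb (by rw [Fin.rev_rev]; exact hi))

include hF in
theorem inWp_of (hb : HB q b) {y : V} (h : ∀ i : Fin n, Fin.rev i < i → co q b y i = 0) :
    InWp q b y := by
  intro w hw
  rw [H_eq_sum hF hb]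
  apply Finset.sum_eq_zero
  intro i _
  by_cases hi : Fin.rev i < i
  · rw [h i hi, zero_mul]
  · have h0 : co q b w (Fin.rev i) = 0 :=
      hw (Fin.rev i) (by rw [Fin.rev_rev]; exact not_lt.1 hi)
    rw [h0, frob_zero hF, mul_zero]

include hF in
theorem inWp_zero : InWp q b (0 : V) := fun w _ => H_zero_left hF w

theorem H_inW_b {y : V} (hy : InW q b y) {k : Fin n} (hk : k < Fin.rev k) : H y (b k) = 0 := by
  rw [H_b_left (q := q) (b := b)]
  exact hy _ (by rw [Fin.rev_rev]; exact hk.le)

/-! ### Eichler elements in `RW` -/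

theorem eich_mem_RW (hb : HB q b) {k : Fin n} (hk : k < Fin.rev k) {w : V} (hw : InWp q b w)
    {a : F} (ha : a + a ^ q + H w w = 0) : eich hF (b k) w a ∈ RW hF b := by
  have huu : H (b k) (b k) = 0 := b_isotropic hb hk.ne
  have hwu : H w (b k) = 0 := hw (b k) (inW_b hb hk)
  have huw : H (b k) w = 0 := H_symm_zero hF hwu
  rw [mem_RW]
  constructor
  · intro y hy
    have e1 : H y (b k) = 0 := H_inW_b hy hk
    have e2 : H y w = 0 := H_symm_zero hF (hw y hy)
    rw [eich_act hF huu huw ha, e1, e2]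
    module
  · intro y hy
    have e1 : H y (b k) = 0 := hy (b k) (inW_b hb hk)
    rw [eich_act hF huu huw ha, e1]
    have e : y + (0 : F) • w - H y w • b k + (a * 0) • b k - y = (-(H y w)) • b k := by module
    rw [e]
    exact (inW_b hb hk).smul _

/-! ### (1) `RW` is unitriangular -/

theorem RW_le_Usub (hb : HB q b) : RW hF b ≤ Usub hb := by
  intro g hg
  rw [mem_RW] at hg
  obtain ⟨h1, h2⟩ := hg
  rw [mem_Usub_iff]
  intro i j hji
  rw [← co_b hb j i]
  by_cases hi : Fin.rev i < i
  · have hfix : actv g (b (Fin.rev i)) = b (Fin.rev i) :=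
      h1 _ (inW_b hb (by rw [Fin.rev_rev]; exact hi))
    calc co q b (actv g (b j)) i = H (actv g (b j)) (actv g (b (Fin.rev i))) := by
          rw [hfix]; rfl
      _ = H (b j) (b (Fin.rev i)) := H_actv g _ _
      _ = co q b (b j) i := rfl
  · have hi' : i ≤ Fin.rev i := not_lt.1 hi
    have hrr : Fin.rev i ≤ Fin.rev j := Fin.rev_le_rev.2 hji
    have hjr : j ≤ Fin.rev j := le_trans hji (le_trans hi' hrr)
    rcases lt_or_eq_of_le hjr with hj | hj
    · rw [h1 _ (inW_b hb hj)]
    · have hij : i = j := le_antisymm (le_trans hi' (by rw [hj]; exact hrr)) hji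
      have hri : Fin.rev i ≤ i := by rw [hij]; exact le_of_eq hj.symm
      have hp : InWp q b (b j) := by
        apply inWp_of hF hb
        intro l hl
        rw [co_b hb, if_neg]
        rintro rfl
        rw [← hj] at hl
        exact lt_irrefl _ hl
      have h3 := h2 _ hp i hri
      rw [co_sub hF] at h3
      exact sub_eq_zero.1 h3

/-! ### (2) the stabilizer of `W` normalizes `RW` -/

theorem stab_pow {g : G} (hg : ∀ y : V, InW q b y → InW q b (actv g y)) (k : ℕ) :
    ∀ y : V, InW q b y → InW q b (actv (g ^ k) y) := by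
  induction k with
  | zero =>
    intro y hy
    rw [pow_zero, actv_one]
    exact hy
  | succ k ih =>
    intro y hy
    rw [pow_succ, actv_mul]
    exact ih _ (hg y hy)

theorem stab_inv {g : G} (hg : ∀ y : V, InW q b y → InW q b (actv g y)) :
    ∀ y : V, InW q b y → InW q b (actv g⁻¹ y) := by
  have h1 : g ^ (orderOf g - 1) * g = 1 := by
    rw [← pow_succ, Nat.sub_add_cancel (orderOf_pos g), pow_orderOf_eq_one]
  have h2 : g⁻¹ = g ^ (orderOf g - 1) := (eq_inv_of_mul_eq_one_left h1).symm
  rw [h2]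
  exact stab_pow hg _

theorem stabp {g : G} (hg' : ∀ y : V, InW q b y → InW q b (actv g⁻¹ y)) :
    ∀ y : V, InWp q b y → InWp q b (actv g y) := by
  intro y hy w hw
  rw [← H_actv_inv' g y w]
  exact hy _ (hg' w hw)

theorem conj_mem_RW {g h : G} (hg : ∀ y : V, InW q b y → InW q b (actv g y))
    (hg' : ∀ y : V, InW q b y → InW q b (actv g⁻¹ y)) (hh : h ∈ RW hF b) :
    g * h * g⁻¹ ∈ RW hF b := by
  rw [mem_RW] at hh ⊢
  obtain ⟨h1, h2⟩ := hh
  constructor
  · intro y hy
    rw [actv_mul, actv_mul, h1 _ (hg' y hy), actv_actv_inv]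
  · intro y hy
    have hy' : InWp q b (actv g⁻¹ y) := stabp (g := g⁻¹) (by rwa [inv_inv]) y hy
    have e : actv (g * h * g⁻¹) y - y = actv g (actv h (actv g⁻¹ y) - actv g⁻¹ y) := by
      rw [actv_mul, actv_mul, actv_sub, actv_actv_inv]
    rw [e]
    exact hg _ (h2 _ hy')

/-- the stabilizer of `W` normalizes `RW` -/
theorem mem_normalizer_RW (hb : HB q b) {g : G}
    (hg : ∀ y : V, InW q b y → InW q b (actv g y)) :
    g ∈ Subgroup.normalizer ((RW hF b : Subgroup G) : Set G) := by
  rw [Subgroup.mem_normalizer_iff]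
  intro h
  constructor
  · exact conj_mem_RW hF hg (stab_inv hg)
  · intro hh
    have h3 := conj_mem_RW hF (g := g⁻¹) (stab_inv hg) (by rwa [inv_inv]) hh
    have e : g⁻¹ * (g * h * g⁻¹) * g⁻¹⁻¹ = h := by group
    rwa [e] at h3

/-! ### (3) the Borel subgroup stabilizes `W` -/

include hF in
theorem Bsub_stab_W (hb : HB q b) {g : G} (hg : g ∈ Bsub hb) (y : V) (hy : InW q b y) :
    InW q b (actv g y) := by
  rw [mem_Bsub_iff] at hg
  intro i hi
  have e : actv g y = ∑ j, co q b y j • actv g (b j) := by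
    conv_lhs => rw [expand hb y]
    rw [actv_sum]
    simp only [actv_smul]
  rw [e, co_sum hF]
  apply Finset.sum_eq_zero
  intro j _
  rw [co_smul]
  by_cases hj : Fin.rev j ≤ j
  · rw [hy j hj, zero_mul]
  · have hji : j < i := by
      by_contra hcon
      have hij : i ≤ j := not_lt.1 hcon
      exact hj (le_trans (Fin.rev_le_rev.2 hij) (le_trans hi hij))
    rw [hg i j hji, mul_zero]

/-! ### (4) `p`-elements centralizing `RW` lie in it -/

theorem exists_low (hn : 4 ≤ n) : ∃ k : Fin n, k < Fin.rev k := by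
  refine ⟨⟨0, by omega⟩, ?_⟩
  rw [Fin.lt_def, Fin.val_rev]
  simp only
  omega

theorem fix_b_of_central (hb : HB q b) (p : ℕ) [Fact p.Prime] [CharP F p] {x : G}
    (hx : ∃ k : ℕ, x ^ (p ^ k) = 1)
    (hc : x ∈ Subgroup.centralizer ((RW hF b : Subgroup G) : Set G)) {k : Fin n}
    (hk : k < Fin.rev k) : actv x (b k) = b k := by
  obtain ⟨κ, hκ0, hκ⟩ := exists_kappa hF
  have huu : H (b k) (b k) = 0 := b_isotropic hb hk.ne
  have hu0 : H (b k) (0 : V) = 0 := H_zero_right hF _
  have ha : κ + κ ^ q + H (0 : V) (0 : V) = 0 := by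
    rw [H_zero_left hF, add_zero]; exact hκ
  have hT : eich hF (b k) 0 κ ∈ RW hF b := eich_mem_RW hF hb hk (inWp_zero hF) ha
  have hcomm : eich hF (b k) 0 κ * x = x * eich hF (b k) 0 κ :=
    (Subgroup.mem_centralizer_iff.1 hc) _ hT
  have hTact : ∀ y : V, actv (eich hF (b k) 0 κ) y = y + (κ * H y (b k)) • b k := by
    intro y
    rw [eich_act hF huu hu0 ha, H_zero_right hF]
    module
  have h1 : H (b (Fin.rev k)) (b k) = 1 := by
    rw [hb (Fin.rev k) k, if_pos (Fin.rev_rev k).symm]
  obtain ⟨c, hcdef⟩ : ∃ c : F, c = H (actv x (b (Fin.rev k))) (b k) := ⟨_, rfl⟩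
  have e := congrArg (fun t => actv t (b (Fin.rev k))) hcomm
  simp only [actv_mul] at e
  rw [hTact, hTact, h1, mul_one, actv_add, actv_smul, ← hcdef] at e
  have e2 : κ • (c • b k) = κ • actv x (b k) := by
    rw [← mul_smul]; exact add_left_cancel e
  have e3 : actv x (b k) = c • b k := (smul_right_injective V hκ0 e2).symm
  have hpow : ∀ m : ℕ, actv (x ^ m) (b k) = c ^ m • b k := by
    intro m
    induction m with
    | zero => rw [pow_zero, pow_zero, actv_one, one_smul]
    | succ m ih => rw [pow_succ, actv_mul, e3, actv_smul, ih, smul_smul, pow_succ, mul_comm]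
  obtain ⟨kk, hkk⟩ := hx
  have h4 := hpow (p ^ kk)
  rw [hkk, actv_one] at h4
  have hc1 : c ^ (p ^ kk) = 1 := by
    by_contra hne
    have h5 : (c ^ (p ^ kk) - 1) • b k = 0 := by rw [sub_smul, one_smul, ← h4, sub_self]
    rcases smul_eq_zero.1 h5 with h | h
    · exact hne (sub_eq_zero.1 h)
    · exact b_ne_zero hF hb k h
  have hc2 : c = 1 := by
    have h6 : (c - 1) ^ (p ^ kk) = 0 := by rw [sub_pow_char_pow, hc1, one_pow, sub_self]
    exact sub_eq_zero.1 (eq_zero_of_pow_eq_zero h6)
  rw [e3, hc2, one_smul]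

theorem fix_W_of_fix_b (hb : HB q b) {x : G}
    (hfix : ∀ k : Fin n, k < Fin.rev k → actv x (b k) = b k) (y : V) (hy : InW q b y) :
    actv x y = y := by
  have e : actv x y = ∑ j, co q b y j • actv x (b j) := by
    conv_lhs => rw [expand hb y]
    rw [actv_sum]
    simp only [actv_smul]
  rw [e]
  conv_rhs => rw [expand hb y]
  apply Finset.sum_congr rfl
  intro j _
  by_cases hj : j < Fin.rev j
  · rw [hfix j hj]
  · rw [hy j (not_lt.1 hj), zero_smul, zero_smul]

/-- `p`-elements centralizing `RW` lie in it -/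
theorem RW_pcentral (hb : HB q b) (hn : 4 ≤ n) (p : ℕ) [Fact p.Prime] [CharP F p] {x : G}
    (hx : ∃ k : ℕ, x ^ (p ^ k) = 1)
    (hc : x ∈ Subgroup.centralizer ((RW hF b : Subgroup G) : Set G)) : x ∈ RW hF b := by
  have hfixb : ∀ k : Fin n, k < Fin.rev k → actv x (b k) = b k :=
    fun k hk => fix_b_of_central hF hb p hx hc hk
  have hfixW : ∀ y : V, InW q b y → actv x y = y := fix_W_of_fix_b hb hfixb
  rw [mem_RW]
  refine ⟨hfixW, ?_⟩
  intro y hy
  obtain ⟨k, hk⟩ := exists_low hn
  obtain ⟨a, ha⟩ := exists_eich_param hF y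
  have huu : H (b k) (b k) = 0 := b_isotropic hb hk.ne
  have hyu : H y (b k) = 0 := hy (b k) (inW_b hb hk)
  have huy : H (b k) y = 0 := H_symm_zero hF hyu
  have hE : eich hF (b k) y a ∈ RW hF b := eich_mem_RW hF hb hk hy ha
  have hcomm : eich hF (b k) y a * x = x * eich hF (b k) y a :=
    (Subgroup.mem_centralizer_iff.1 hc) _ hE
  have h1 : H (b (Fin.rev k)) (b k) = 1 := by
    rw [hb (Fin.rev k) k, if_pos (Fin.rev_rev k).symm]
  have h2 : H (actv x (b (Fin.rev k))) (b k) = 1 := by
    calc H (actv x (b (Fin.rev k))) (b k)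
        = H (actv x (b (Fin.rev k))) (actv x (b k)) := by rw [hfixb k hk]
      _ = H (b (Fin.rev k)) (b k) := H_actv x _ _
      _ = 1 := h1
  have e := congrArg (fun t => actv t (b (Fin.rev k))) hcomm
  simp only [actv_mul] at e
  rw [eich_act hF huu huy ha, eich_act hF huu huy ha, h1, h2] at e
  simp only [actv_add, actv_sub, actv_smul, hfixb k hk] at e
  have e' : actv x y - y
      = (H (b (Fin.rev k)) y - H (actv x (b (Fin.rev k))) y) • b k := by
    have e4 := sub_eq_zero.2 e
    have e5 : actv x y - y - (H (b (Fin.rev k)) y - H (actv x (b (Fin.rev k))) y) • b k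
        = -((actv x (b (Fin.rev k)) + (1 : F) • y - H (actv x (b (Fin.rev k))) y • b k
              + (a * 1) • b k)
            - (actv x (b (Fin.rev k)) + (1 : F) • actv x y - H (b (Fin.rev k)) y • b k
              + (a * 1) • b k)) := by
      module
    rw [e4, neg_zero] at e5
    exact sub_eq_zero.1 e5
  rw [e']
  exact (inW_b hb hk).smul _

end Cfsg.Agent.Helper87.PsuC2
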