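import Mathlib
import Cfsg.Agent.Lib.Helper84.PslGrp

/-!
# S5172 lemma server (helper87), piece (C3): generic centric criterion (delivered by helper66)
-/

set_option autoImplicit false

open Cfsg

namespace Cfsg.Agent.Helper87.PsuC3

open Cfsg.FusionSystem
open scoped Pointwise

theorem centric_of_pcentralizer {Γ : Type*} [Group Γ] {p : ℕ} [Fact p.Prime] {S Q : Subgroup Γ}
    (hS : IsPGroup p S) (hQS : Q ≤ S)
    (hC : ∀ x : Γ, (∃ k : ℕ, x ^ (p ^ k) = 1) → x ∈ Subgroup.centralizer (Q : Set Γ) → x ∈ Q) :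
    (groupFusionSystem S).IsCentric Q := by
  rw [Cfsg.Agent.Helper33.isCentric_groupFusionSystem_iff]
  refine ⟨hQS, fun g _ x hx => ?_⟩
  rw [Cfsg.Agent.Helper33.mem_conj_smul]
  apply hC
  · obtain ⟨k, hk⟩ := hS ⟨x, hx.1⟩
    refine ⟨k, ?_⟩
    have hk' : x ^ (p ^ k) = 1 := by
      have := congrArg Subtype.val hk
      simpa using this
    have e : (g⁻¹ * x * g) ^ (p ^ k) = g⁻¹ * x ^ (p ^ k) * g := by
      have := conj_pow (a := g⁻¹) (b := x) (i := p ^ k)
      simpa using this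
    rw [e, hk']; group
  · rw [Subgroup.mem_centralizer_iff]
    intro q hq
    have h1 := Subgroup.mem_centralizer_iff.1 hx.2 (g * q * g⁻¹)
      (Cfsg.Agent.Helper33.conj_mem_conj_smul hq)
    calc q * (g⁻¹ * x * g) = g⁻¹ * ((g * q * g⁻¹) * x) * g := by group
      _ = g⁻¹ * (x * (g * q * g⁻¹)) * g := by rw [h1]
      _ = g⁻¹ * x * g * q := by group

end Cfsg.Agent.Helper87.PsuC3
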