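import Mathlib
import Cfsg.Agent.Lib.Helper87.PsuB0
import Cfsg.Agent.Lib.Helper87.PsuFlag
import Cfsg.Agent.Lib.Helper84.PslGrp

/-!
# S5172 lemma server (helper87), piece (E): the stabilizer of `b 0` (written by helper26)
-/

set_option autoImplicit false
set_option quotPrecheck false
set_option linter.unusedSectionVars false
set_option linter.unusedVariables false

open Matrix Cfsg Cfsg.Agent.Helper13 Cfsg.Agent.Helper87.PsuA Cfsg.Agent.Helper87.PsuD
  Cfsg.Agent.Helper87.PsuB0

variable {F : Type*} [Field F] [Fintype F] {q n : ℕ}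

local notation "V" => Fin n → F
local notation "G" => ↥(Cfsg.SU n F q)
local notation "H" => Cfsg.hermForm n F q

variable (hF : Fintype.card F = q ^ 2) {b : Fin n → Fin n → F}

namespace Cfsg.Agent.Helper87.PsuE

theorem helper26_rev_i0_ne (hn : 4 ≤ n) : Fin.rev (i0 hn) ≠ i0 hn := by
  intro h
  have := congrArg Fin.val h
  simp only [Fin.val_rev, i0] at this
  omega

/-- an element fixing `b 0` is corrected by an Eichler element to fix `b (rev 0)` as well -/
theorem exists_eich_fix (hb : HB q b) (hn : 4 ≤ n) {g : G}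
    (h0 : actv g (b (i0 hn)) = b (i0 hn)) :
    ∃ (w : V) (a : F), H (b (i0 hn)) w = 0 ∧ a + a ^ q + H w w = 0 ∧
      actv (eich hF (b (i0 hn)) w a) (b (Fin.rev (i0 hn))) = actv g (b (Fin.rev (i0 hn))) := by
  set u := b (i0 hn) with hu
  set l := b (Fin.rev (i0 hn)) with hl
  set y := actv g l with hy
  have hne := helper26_rev_i0_ne hn
  have huu : H u u = 0 := b_isotropic hb (Ne.symm hne)
  have hll : H l l = 0 := by
    rw [hl, hb (Fin.rev (i0 hn)) (Fin.rev (i0 hn)), if_neg]
    rw [Fin.rev_rev]; exact hne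
  have hul : H u l = 1 := by rw [hu, hl, hb, if_pos rfl]
  have hlu : H l u = 1 := by rw [hu, hl, hb, if_pos (Fin.rev_rev _).symm]
  have hyu : H y u = 1 := by
    have := H_actv g l u
    rw [h0] at this
    rw [hy, this, hlu]
  have huy : H u y = 1 := by
    rw [← hermForm_conj hF y u, hyu, one_pow]
  have hyy : H y y = 0 := by rw [hy, H_actv, hll]
  have hyl : H y l = (H l y) ^ q := (hermForm_conj hF l y).symm
  have huw : H u (y - l) = 0 := by rw [H_sub_right hF, huy, hul, sub_self]
  have ha : H l y + (H l y) ^ q + H (y - l) (y - l) = 0 := by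
    rw [H_sub_left hF, H_sub_right hF, H_sub_right hF, hyy, hll, hyl]
    ring
  refine ⟨y - l, H l y, huw, ha, ?_⟩
  rw [eich_act hF huu huw ha, hlu, H_sub_right hF, hll]
  module

/-- `SU_{n-2}` is generated by transvections: elements fixing `b 0` and `b (rev 0)` are
products of transvections with centres orthogonal to `b 0` (via `Helper13.mem_TG_of_fix` with an
orthonormal pair spanning `⟨b 0, b (rev 0)⟩`) -/
theorem fix_mem_closure_tv (hb : HB q b) (hn : 4 ≤ n) (h52 : ¬ (n = 5 ∧ q = 2)) {g : G}
    (h0 : actv g (b (i0 hn)) = b (i0 hn))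
    (hl : actv g (b (Fin.rev (i0 hn))) = b (Fin.rev (i0 hn))) :
    g ∈ Subgroup.closure {x : G | ∃ (u : V) (a : F), H u u = 0 ∧ a + a ^ q = 0 ∧
      H u (b (i0 hn)) = 0 ∧ x = eich hF u 0 a} := by
  set u := b (i0 hn) with hu
  set l := b (Fin.rev (i0 hn)) with hl'
  have hne := helper26_rev_i0_ne hn
  have huu : H u u = 0 := b_isotropic hb (Ne.symm hne)
  have hll : H l l = 0 := by
    rw [hl', hb (Fin.rev (i0 hn)) (Fin.rev (i0 hn)), if_neg]
    rw [Fin.rev_rev]; exact hne
  have hul : H u l = 1 := by rw [hu, hl', hb, if_pos rfl]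
  have hlu : H l u = 1 := by rw [hu, hl', hb, if_pos (Fin.rev_rev _).symm]
  obtain ⟨lam, hlam⟩ := exists_trace hF (1 : F) (one_pow q)
  obtain ⟨al, hal⟩ := exists_norm hF (-1 : F) (by rw [frob_neg hF, one_pow])
  have hal0 : al ≠ 0 := by
    rintro rfl
    rw [zero_mul] at hal
    exact absurd hal (by simp)
  have hq2 := Cfsg.Agent.Helper19.herm_two_le hF
  -- the orthonormal pair
  let e : Fin 2 → V := ![u + lam • l, al • u - (lam ^ q * al) • l]
  have hlamqq : (lam ^ q) ^ q = lam := frob_frob hF lam
  have e00 : H (u + lam • l) (u + lam • l) = 1 := by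
    simp only [hermForm_add_left, hermForm_add_right hF, hermForm_smul_left, hermForm_smul_right,
      huu, hll, hul, hlu]
    linear_combination hlam
  have e11 : H (al • u - (lam ^ q * al) • l) (al • u - (lam ^ q * al) • l) = 1 := by
    simp only [H_sub_left hF, H_sub_right hF, hermForm_smul_left, hermForm_smul_right,
      huu, hll, hul, hlu, mul_pow, hlamqq]
    linear_combination (-lam - lam ^ q) * hal + hlam
  have e01 : H (u + lam • l) (al • u - (lam ^ q * al) • l) = 0 := by
    simp only [hermForm_add_left, H_sub_right hF, hermForm_smul_left, hermForm_smul_right,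
      huu, hll, hul, hlu, mul_pow, hlamqq]
    ring
  have e10 : H (al • u - (lam ^ q * al) • l) (u + lam • l) = 0 := H_symm_zero hF e01
  have hON : ON hF e := by
    intro i j
    rw [stdB_apply]
    fin_cases i <;> fin_cases j <;> simp [e, e00, e11, e01, e10]
  have hfix : ∀ i, actv g (e i) = e i := by
    intro i
    fin_cases i
    · simp only [e, Fin.zero_eta, Fin.isValue, Matrix.cons_val_zero]
      rw [actv_add, actv_smul, h0, hl]
    · simp only [e, Fin.mk_one, Fin.isValue, Matrix.cons_val_one, Matrix.cons_val_zero]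
      rw [actv_sub, actv_smul, actv_smul, h0, hl]
  have hmem := mem_TG_of_fix hF (n - 2) (by omega) (by
      by_cases h3 : 3 ≤ q
      · exact Or.inl h3
      · right
        intro h
        exact h52 ⟨by omega, by omega⟩) 2 e hON (by omega) g hfix
  -- `u` is in the span of the pair
  have hu_eq : u = (lam ^ q) • (u + lam • l) + (lam * al⁻¹) • (al • u - (lam ^ q * al) • l) := by
    have h1 : (lam ^ q) • (u + lam • l) + (lam * al⁻¹) • (al • u - (lam ^ q * al) • l)
        = (lam ^ q + lam * (al⁻¹ * al)) • u + (lam ^ q * lam - lam * (al⁻¹ * al) * lam ^ q) • l := by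
      module
    rw [h1, inv_mul_cancel₀ hal0]
    have h2 : lam ^ q + lam * 1 = 1 := by linear_combination hlam
    have h3 : lam ^ q * lam - lam * 1 * lam ^ q = 0 := by ring
    rw [h2, h3, one_smul, zero_smul, add_zero]
  refine (Subgroup.closure_mono ?_ : TG hF (perpS hF e) ≤ _) hmem
  rintro x ⟨v, a, hvv, ha, hv, rfl⟩
  refine ⟨v, a, hvv, by rw [add_comm]; exact ha, ?_, tvSU_eq_eich hF v a hvv ha⟩
  have hv0 : H v (u + lam • l) = 0 := by
    have := (mem_perpS hF e v).1 hv 0
    rw [stdB_apply] at this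
    simpa [e] using this
  have hv1 : H v (al • u - (lam ^ q * al) • l) = 0 := by
    have := (mem_perpS hF e v).1 hv 1
    rw [stdB_apply] at this
    simpa [e] using this
  rw [hu_eq, hermForm_add_right hF, hermForm_smul_right, hermForm_smul_right, hv0, hv1]
  ring

end Cfsg.Agent.Helper87.PsuE
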