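import Mathlib
import Cfsg.Agent.Lib.Helper87.PsuB0
import Cfsg.Agent.Lib.Helper87.PsuFlag
import Cfsg.Agent.Lib.Helper84.PslGrp

/-!
# (E52) of helper87's S5172 server: the exception `SU_5(2)`  (written by helper16)

An upper triangular element of `SU_5(2)` fixing `b 0` and `b 4` is `z * u` with `u` unitriangular
and `z` a product of four unitary transvections with centres in `⟨b 1, b 2, b 3⟩`.
-/

set_option autoImplicit false
set_option quotPrecheck false
set_option linter.unusedSectionVars false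
set_option linter.unusedVariables false
set_option linter.unusedSimpArgs false

open Matrix Cfsg Cfsg.Agent.Helper13 Cfsg.Agent.Helper87.PsuA Cfsg.Agent.Helper87.PsuD
  Cfsg.Agent.Helper87.PsuB0

variable {F : Type*} [Field F] [Fintype F] {q n : ℕ}

local notation "V" => Fin n → F
local notation "G" => ↥(Cfsg.SU n F q)
local notation "H" => Cfsg.hermForm n F q

variable (hF : Fintype.card F = q ^ 2) {b : Fin n → Fin n → F}

namespace Cfsg.Agent.Helper87.PsuE52

/-! ### transvections with parameter `1` in characteristic `2` -/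

include hF in
theorem tv_param (h2 : (2 : F) = 0) : (1 : F) + 1 ^ q + H (0 : V) 0 = 0 := by
  rw [H_zero_right hF, one_pow]
  linear_combination h2

theorem tv_act (h2 : (2 : F) = 0) {u : V} (huu : H u u = 0) (x : V) :
    actv (eich hF u 0 1) x = x + H x u • u := by
  rw [eich_act hF huu (H_zero_right hF u) (tv_param hF h2), H_zero_right hF]
  module

theorem tv_sq (h2 : (2 : F) = 0) {u : V} (huu : H u u = 0) :
    eich hF u 0 1 * eich hF u 0 1 = 1 := by
  apply G_ext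
  intro x
  rw [actv_mul, tv_act hF h2 huu, tv_act hF h2 huu, actv_one, hermForm_add_left,
    hermForm_smul_left, huu, mul_zero, add_zero, add_assoc, ← add_smul]
  have e : H x u + H x u = 0 := by linear_combination (H x u) * h2
  rw [e, zero_smul, add_zero]

/-- an element fixing `u` normalizes `Qv u` -/
theorem conj_mem_Qv {u : V} {g h : G} (hg : actv g u = u) (hh : h ∈ Qv q u) :
    g * h * g⁻¹ ∈ Qv q u := by
  have hgi : actv g⁻¹ u = u := actv_inv g u u hg
  obtain ⟨h1, h2⟩ := hh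
  refine ⟨by rw [actv_mul, actv_mul, hgi, h1, hg], fun y hy => ?_⟩
  have hy' : H (actv g⁻¹ y) u = 0 := by rw [H_actv_inv, hg]; exact hy
  obtain ⟨c, hc⟩ := h2 _ hy'
  refine ⟨c, ?_⟩
  have e : actv h (actv g⁻¹ y) = actv g⁻¹ y + c • u := by rw [← hc]; abel
  rw [actv_mul, actv_mul, e, actv_add, actv_actv_inv, actv_smul, hg]
  abel

theorem fix_mem_normalizer_Qv {u : V} {g : G} (hg : actv g u = u) :
    g ∈ Subgroup.normalizer ((Qv q u : Subgroup G) : Set G) := by
  rw [Subgroup.mem_normalizer_iff]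
  intro h
  refine ⟨fun hh => conj_mem_Qv hg hh, fun hh => ?_⟩
  have := conj_mem_Qv (actv_inv g u u hg) hh
  have e : g⁻¹ * (g * h * g⁻¹) * g⁻¹⁻¹ = h := by group
  rwa [e] at this

theorem tv_mem_PG (h2 : (2 : F) = 0) (p : ℕ) [Fact p.Prime] [CharP F p] {v u : V}
    (huu : H u u = 0) (hvu : H v u = 0) : eich hF u 0 1 ∈ PG p (Qv q v) := by
  have hp2 : p = 2 := by
    have h := (CharP.cast_eq_zero_iff F p 2).1 (by exact_mod_cast h2)
    exact (Nat.prime_dvd_prime_iff_eq (Fact.out : p.Prime) Nat.prime_two).1 h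
  apply Subgroup.subset_closure
  refine ⟨fix_mem_normalizer_Qv ?_, ?_⟩
  · rw [tv_act hF h2 huu, hvu, zero_smul, add_zero]
  · have hd : orderOf (eich hF u 0 1) ∣ 2 := by
      apply orderOf_dvd_of_pow_eq_one
      rw [pow_two]
      exact tv_sq hF h2 huu
    rcases (Nat.dvd_prime Nat.prime_two).1 hd with h | h
    · exact ⟨0, by rw [h, pow_zero]⟩
    · exact ⟨1, by rw [h, hp2, pow_one]⟩

/-! ### the swap transvection of an orthonormal pair -/

include hF in
theorem sw_iso (h2 : (2 : F) = 0) {e e' : V} {c : F} (hee : H e e = 1) (he'e' : H e' e' = 1)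
    (hee' : H e e' = 0) (he'e : H e' e = 0) (hc : c * c ^ q = 1) :
    H (e + c • e') (e + c • e') = 0 := by
  rw [hermForm_add_left, hermForm_add_right hF, hermForm_add_right hF, hermForm_smul_left,
    hermForm_smul_left, hermForm_smul_right, hermForm_smul_right, hee, he'e', hee', he'e]
  linear_combination h2 + hc

theorem sw_left (h2 : (2 : F) = 0) {e e' : V} {c : F} (hee : H e e = 1) (he'e' : H e' e' = 1)
    (hee' : H e e' = 0) (he'e : H e' e = 0) (hc : c * c ^ q = 1) :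
    actv (eich hF (e + c • e') 0 1) e = c • e' := by
  rw [tv_act hF h2 (sw_iso hF h2 hee he'e' hee' he'e hc), hermForm_add_right hF,
    hermForm_smul_right, hee, hee', mul_zero, add_zero, one_smul, ← add_assoc]
  have e2 : e + e = 0 := by
    rw [← two_smul F e, h2, zero_smul]
  rw [e2, zero_add]

theorem sw_right (h2 : (2 : F) = 0) {e e' : V} {c : F} (hee : H e e = 1) (he'e' : H e' e' = 1)
    (hee' : H e e' = 0) (he'e : H e' e = 0) (hc : c * c ^ q = 1) :
    actv (eich hF (e + c • e') 0 1) e' = c ^ q • e := by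
  rw [tv_act hF h2 (sw_iso hF h2 hee he'e' hee' he'e hc), hermForm_add_right hF,
    hermForm_smul_right, he'e, he'e', zero_add, mul_one, smul_add, smul_smul, mul_comm, hc, one_smul]
  have e2 : e' + e' = 0 := by
    rw [← two_smul F e', h2, zero_smul]
  rw [add_comm (c ^ q • e) e', ← add_assoc, e2, zero_add]

theorem sw_fix (h2 : (2 : F) = 0) {e e' y : V} {c : F} (hee : H e e = 1) (he'e' : H e' e' = 1)
    (hee' : H e e' = 0) (he'e : H e' e = 0) (hc : c * c ^ q = 1) (hy : H y e = 0)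
    (hy' : H y e' = 0) : actv (eich hF (e + c • e') 0 1) y = y := by
  rw [tv_act hF h2 (sw_iso hF h2 hee he'e' hee' he'e hc), hermForm_add_right hF,
    hermForm_smul_right, hy, hy', mul_zero, add_zero, zero_smul, add_zero]

/-- the element acting as `c` on `e`, as `c^q` on `e'`, and trivially on `⟨e, e'⟩^⊥` -/
noncomputable def dd (e e' : V) (c : F) : G :=
  eich hF (e + (1 : F) • e') 0 1 * eich hF (e + c • e') 0 1

theorem dd_left (h2 : (2 : F) = 0) {e e' : V} {c : F} (hee : H e e = 1) (he'e' : H e' e' = 1)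
    (hee' : H e e' = 0) (he'e : H e' e = 0) (hc : c * c ^ q = 1) :
    actv (dd hF e e' c) e = c • e := by
  unfold dd
  have h1 : (1 : F) * 1 ^ q = 1 := by rw [one_pow, one_mul]
  rw [actv_mul, sw_left hF h2 hee he'e' hee' he'e hc, actv_smul,
    sw_right hF h2 hee he'e' hee' he'e h1, one_pow, one_smul]

theorem dd_right (h2 : (2 : F) = 0) {e e' : V} {c : F} (hee : H e e = 1) (he'e' : H e' e' = 1)
    (hee' : H e e' = 0) (he'e : H e' e = 0) (hc : c * c ^ q = 1) :
    actv (dd hF e e' c) e' = c ^ q • e' := by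
  unfold dd
  have h1 : (1 : F) * 1 ^ q = 1 := by rw [one_pow, one_mul]
  rw [actv_mul, sw_right hF h2 hee he'e' hee' he'e hc, actv_smul,
    sw_left hF h2 hee he'e' hee' he'e h1, one_smul]

theorem dd_fix (h2 : (2 : F) = 0) {e e' y : V} {c : F} (hee : H e e = 1) (he'e' : H e' e' = 1)
    (hee' : H e e' = 0) (he'e : H e' e = 0) (hc : c * c ^ q = 1) (hy : H y e = 0)
    (hy' : H y e' = 0) : actv (dd hF e e' c) y = y := by
  unfold dd
  have h1 : (1 : F) * 1 ^ q = 1 := by rw [one_pow, one_mul]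
  rw [actv_mul, sw_fix hF h2 hee he'e' hee' he'e hc hy hy',
    sw_fix hF h2 hee he'e' hee' he'e h1 hy hy']

theorem dd_mem_PG (h2 : (2 : F) = 0) (p : ℕ) [Fact p.Prime] [CharP F p] {v e e' : V} {c : F}
    (hee : H e e = 1) (he'e' : H e' e' = 1) (hee' : H e e' = 0) (he'e : H e' e = 0)
    (hc : c * c ^ q = 1) (hv : H v e = 0) (hv' : H v e' = 0) :
    dd hF e e' c ∈ PG p (Qv q v) := by
  unfold dd
  have h1 : (1 : F) * 1 ^ q = 1 := by rw [one_pow, one_mul]
  refine Subgroup.mul_mem _ (tv_mem_PG hF h2 p (sw_iso hF h2 hee he'e' hee' he'e h1) ?_)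
    (tv_mem_PG hF h2 p (sw_iso hF h2 hee he'e' hee' he'e hc) ?_)
  · rw [hermForm_add_right hF, hermForm_smul_right, hv, hv', mul_zero, add_zero]
  · rw [hermForm_add_right hF, hermForm_smul_right, hv, hv', mul_zero, add_zero]

/-! ### the main statement -/

include hF in
theorem fix_decomp_52 (hb : HB q b) (hn : 4 ≤ n) (hn5 : n = 5) (hq2 : q = 2) (p : ℕ)
    [Fact p.Prime] [CharP F p] {g : G} (hgB : g ∈ Bsub hb)
    (h0 : actv g (b (i0 hn)) = b (i0 hn))
    (hl : actv g (b (Fin.rev (i0 hn))) = b (Fin.rev (i0 hn))) :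
    ∃ z u : G, g = z * u ∧ z ∈ Bsub hb ∧ z ∈ PG p (Qv q (b (i0 hn))) ∧ u ∈ Usub hb := by
  subst hn5 hq2
  have h2 : (2 : F) = 0 := two_eq_zero_of_q hF rfl
  have hx3 : ∀ x : F, x ≠ 0 → x ^ 3 = 1 := by
    intro x hx
    have := FiniteField.pow_card_sub_one_eq_one x hx
    rw [hF] at this
    exact this
  have e0 : i0 hn = (0 : Fin 5) := rfl
  have e4 : Fin.rev (i0 hn) = (4 : Fin 5) := rfl
  rw [e0] at h0
  rw [e4] at hl
  rw [e0]
  have hb00 : Cfsg.hermForm 5 F 2 (b 0) (b 0) = 0 := (hb 0 0).trans (if_neg (by decide))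
  have hb01 : Cfsg.hermForm 5 F 2 (b 0) (b 1) = 0 := (hb 0 1).trans (if_neg (by decide))
  have hb02 : Cfsg.hermForm 5 F 2 (b 0) (b 2) = 0 := (hb 0 2).trans (if_neg (by decide))
  have hb03 : Cfsg.hermForm 5 F 2 (b 0) (b 3) = 0 := (hb 0 3).trans (if_neg (by decide))
  have hb04 : Cfsg.hermForm 5 F 2 (b 0) (b 4) = 1 := (hb 0 4).trans (if_pos (by decide))
  have hb10 : Cfsg.hermForm 5 F 2 (b 1) (b 0) = 0 := (hb 1 0).trans (if_neg (by decide))
  have hb11 : Cfsg.hermForm 5 F 2 (b 1) (b 1) = 0 := (hb 1 1).trans (if_neg (by decide))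
  have hb12 : Cfsg.hermForm 5 F 2 (b 1) (b 2) = 0 := (hb 1 2).trans (if_neg (by decide))
  have hb13 : Cfsg.hermForm 5 F 2 (b 1) (b 3) = 1 := (hb 1 3).trans (if_pos (by decide))
  have hb14 : Cfsg.hermForm 5 F 2 (b 1) (b 4) = 0 := (hb 1 4).trans (if_neg (by decide))
  have hb20 : Cfsg.hermForm 5 F 2 (b 2) (b 0) = 0 := (hb 2 0).trans (if_neg (by decide))
  have hb21 : Cfsg.hermForm 5 F 2 (b 2) (b 1) = 0 := (hb 2 1).trans (if_neg (by decide))
  have hb22 : Cfsg.hermForm 5 F 2 (b 2) (b 2) = 1 := (hb 2 2).trans (if_pos (by decide))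
  have hb23 : Cfsg.hermForm 5 F 2 (b 2) (b 3) = 0 := (hb 2 3).trans (if_neg (by decide))
  have hb24 : Cfsg.hermForm 5 F 2 (b 2) (b 4) = 0 := (hb 2 4).trans (if_neg (by decide))
  have hb30 : Cfsg.hermForm 5 F 2 (b 3) (b 0) = 0 := (hb 3 0).trans (if_neg (by decide))
  have hb31 : Cfsg.hermForm 5 F 2 (b 3) (b 1) = 1 := (hb 3 1).trans (if_pos (by decide))
  have hb32 : Cfsg.hermForm 5 F 2 (b 3) (b 2) = 0 := (hb 3 2).trans (if_neg (by decide))
  have hb33 : Cfsg.hermForm 5 F 2 (b 3) (b 3) = 0 := (hb 3 3).trans (if_neg (by decide))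
  have hb34 : Cfsg.hermForm 5 F 2 (b 3) (b 4) = 0 := (hb 3 4).trans (if_neg (by decide))
  have hb40 : Cfsg.hermForm 5 F 2 (b 4) (b 0) = 1 := (hb 4 0).trans (if_pos (by decide))
  have hb41 : Cfsg.hermForm 5 F 2 (b 4) (b 1) = 0 := (hb 4 1).trans (if_neg (by decide))
  have hb42 : Cfsg.hermForm 5 F 2 (b 4) (b 2) = 0 := (hb 4 2).trans (if_neg (by decide))
  have hb43 : Cfsg.hermForm 5 F 2 (b 4) (b 3) = 0 := (hb 4 3).trans (if_neg (by decide))
  have hb44 : Cfsg.hermForm 5 F 2 (b 4) (b 4) = 0 := (hb 4 4).trans (if_neg (by decide))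
  -- the orthonormal vectors
  obtain ⟨l, hl1⟩ := exists_trace hF (1 : F) (one_pow _)
  obtain ⟨f1, hf1⟩ : ∃ f1 : Fin 5 → F, f1 = b 1 + l • b 3 := ⟨_, rfl⟩
  obtain ⟨f2, hf2⟩ : ∃ f2 : Fin 5 → F, f2 = b 2 := ⟨_, rfl⟩
  obtain ⟨f3, hf3⟩ : ∃ f3 : Fin 5 → F, f3 = b 1 + (l ^ 2) • b 3 := ⟨_, rfl⟩
  have hl4 : (l ^ 2) ^ 2 = l := frob_frob hF l
  have hf11 : Cfsg.hermForm 5 F 2 f1 f1 = 1 := by
    rw [hf1]
    simp only [hermForm_add_left, hermForm_add_right hF, hermForm_smul_left, hermForm_smul_right,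
      hb00, hb01, hb02, hb03, hb04, hb10, hb11, hb12, hb13, hb14, hb20, hb21, hb22, hb23, hb24, hb30, hb31, hb32, hb33, hb34, hb40, hb41, hb42, hb43, hb44]
    linear_combination hl1
  have hf22 : Cfsg.hermForm 5 F 2 f2 f2 = 1 := by
    rw [hf2]; exact hb22
  have hf33 : Cfsg.hermForm 5 F 2 f3 f3 = 1 := by
    rw [hf3]
    simp only [hermForm_add_left, hermForm_add_right hF, hermForm_smul_left, hermForm_smul_right,
      hb00, hb01, hb02, hb03, hb04, hb10, hb11, hb12, hb13, hb14, hb20, hb21, hb22, hb23, hb24, hb30, hb31, hb32, hb33, hb34, hb40, hb41, hb42, hb43, hb44]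
    linear_combination hl1 + hl4
  have hf12 : Cfsg.hermForm 5 F 2 f1 f2 = 0 := by
    rw [hf1, hf2]
    simp only [hermForm_add_left, hermForm_add_right hF, hermForm_smul_left, hermForm_smul_right,
      hb00, hb01, hb02, hb03, hb04, hb10, hb11, hb12, hb13, hb14, hb20, hb21, hb22, hb23, hb24, hb30, hb31, hb32, hb33, hb34, hb40, hb41, hb42, hb43, hb44]
    ring
  have hf21 : Cfsg.hermForm 5 F 2 f2 f1 = 0 := by
    rw [hf1, hf2]
    simp only [hermForm_add_left, hermForm_add_right hF, hermForm_smul_left, hermForm_smul_right,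
      hb00, hb01, hb02, hb03, hb04, hb10, hb11, hb12, hb13, hb14, hb20, hb21, hb22, hb23, hb24, hb30, hb31, hb32, hb33, hb34, hb40, hb41, hb42, hb43, hb44]
    ring
  have hf32 : Cfsg.hermForm 5 F 2 f3 f2 = 0 := by
    rw [hf3, hf2]
    simp only [hermForm_add_left, hermForm_add_right hF, hermForm_smul_left, hermForm_smul_right,
      hb00, hb01, hb02, hb03, hb04, hb10, hb11, hb12, hb13, hb14, hb20, hb21, hb22, hb23, hb24, hb30, hb31, hb32, hb33, hb34, hb40, hb41, hb42, hb43, hb44]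
    ring
  have hf23 : Cfsg.hermForm 5 F 2 f2 f3 = 0 := by
    rw [hf3, hf2]
    simp only [hermForm_add_left, hermForm_add_right hF, hermForm_smul_left, hermForm_smul_right,
      hb00, hb01, hb02, hb03, hb04, hb10, hb11, hb12, hb13, hb14, hb20, hb21, hb22, hb23, hb24, hb30, hb31, hb32, hb33, hb34, hb40, hb41, hb42, hb43, hb44]
    ring
  have hf13 : Cfsg.hermForm 5 F 2 f1 f3 = 0 := by
    rw [hf1, hf3]
    simp only [hermForm_add_left, hermForm_add_right hF, hermForm_smul_left, hermForm_smul_right,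
      hb00, hb01, hb02, hb03, hb04, hb10, hb11, hb12, hb13, hb14, hb20, hb21, hb22, hb23, hb24, hb30, hb31, hb32, hb33, hb34, hb40, hb41, hb42, hb43, hb44]
    linear_combination hl4 + l * h2
  have hf31 : Cfsg.hermForm 5 F 2 f3 f1 = 0 := by
    rw [hf1, hf3]
    simp only [hermForm_add_left, hermForm_add_right hF, hermForm_smul_left, hermForm_smul_right,
      hb00, hb01, hb02, hb03, hb04, hb10, hb11, hb12, hb13, hb14, hb20, hb21, hb22, hb23, hb24, hb30, hb31, hb32, hb33, hb34, hb40, hb41, hb42, hb43, hb44]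
    linear_combination (l ^ 2) * h2
  have h0f1 : Cfsg.hermForm 5 F 2 (b 0) f1 = 0 := by
    rw [hf1]
    simp only [hermForm_add_left, hermForm_add_right hF, hermForm_smul_left, hermForm_smul_right,
      hb00, hb01, hb02, hb03, hb04, hb10, hb11, hb12, hb13, hb14, hb20, hb21, hb22, hb23, hb24, hb30, hb31, hb32, hb33, hb34, hb40, hb41, hb42, hb43, hb44]
    ring
  have h0f2 : Cfsg.hermForm 5 F 2 (b 0) f2 = 0 := by
    rw [hf2]; exact hb02
  have h0f3 : Cfsg.hermForm 5 F 2 (b 0) f3 = 0 := by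
    rw [hf3]
    simp only [hermForm_add_left, hermForm_add_right hF, hermForm_smul_left, hermForm_smul_right,
      hb00, hb01, hb02, hb03, hb04, hb10, hb11, hb12, hb13, hb14, hb20, hb21, hb22, hb23, hb24, hb30, hb31, hb32, hb33, hb34, hb40, hb41, hb42, hb43, hb44]
    ring
  have h4f1 : Cfsg.hermForm 5 F 2 (b 4) f1 = 0 := by
    rw [hf1]
    simp only [hermForm_add_left, hermForm_add_right hF, hermForm_smul_left, hermForm_smul_right,
      hb00, hb01, hb02, hb03, hb04, hb10, hb11, hb12, hb13, hb14, hb20, hb21, hb22, hb23, hb24, hb30, hb31, hb32, hb33, hb34, hb40, hb41, hb42, hb43, hb44]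
    ring
  have h4f2 : Cfsg.hermForm 5 F 2 (b 4) f2 = 0 := by
    rw [hf2]; exact hb42
  have h4f3 : Cfsg.hermForm 5 F 2 (b 4) f3 = 0 := by
    rw [hf3]
    simp only [hermForm_add_left, hermForm_add_right hF, hermForm_smul_left, hermForm_smul_right,
      hb00, hb01, hb02, hb03, hb04, hb10, hb11, hb12, hb13, hb14, hb20, hb21, hb22, hb23, hb24, hb30, hb31, hb32, hb33, hb34, hb40, hb41, hb42, hb43, hb44]
    ring
  have hb1f : b 1 = (l ^ 2) • f1 + l • f3 := by
    have e : (l ^ 2) • f1 + l • f3 = (l + l ^ 2) • b 1 + (2 * l ^ 3) • b 3 := by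
      rw [hf1, hf3]; module
    rw [e, hl1, h2, zero_mul, zero_smul, add_zero, one_smul]
  have hb3f : b 3 = f1 + f3 := by
    have e : f1 + f3 = (2 : F) • b 1 + (l + l ^ 2) • b 3 := by
      rw [hf1, hf3]; module
    rw [e, hl1, h2, zero_smul, zero_add, one_smul]
  -- the diagonal of `g`
  have hgB' := (mem_Bsub_iff hb).1 hgB
  have r0 : Fin.rev (0 : Fin 5) = 4 := rfl
  have r1 : Fin.rev (1 : Fin 5) = 3 := rfl
  have r2 : Fin.rev (2 : Fin 5) = 2 := rfl
  have r3 : Fin.rev (3 : Fin 5) = 1 := rfl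
  have r4 : Fin.rev (4 : Fin 5) = 0 := rfl
  have hd0 : co 2 b (actv g (b 0)) 0 = 1 := by
    rw [h0, co_b hb, if_pos rfl]
  have hd4 : co 2 b (actv g (b 4)) 4 = 1 := by
    rw [hl, co_b hb, if_pos rfl]
  have hA : co 2 b (actv g (b 1)) 1 * (co 2 b (actv g (b 3)) 3) ^ 2 = 1 := by
    have h := H_eq_sum hF hb (actv g (b 1)) (actv g (b 3))
    rw [H_actv, hb13, Fin.sum_univ_five, r0, r1, r2, r3, r4, hgB' 2 1 (by decide),
      hgB' 3 1 (by decide), hgB' 4 1 (by decide), hgB' 4 3 (by decide)] at h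
    rw [h]; ring
  have hD : co 2 b (actv g (b 1)) 1 * co 2 b (actv g (b 2)) 2 * co 2 b (actv g (b 3)) 3 = 1 := by
    have h := rhoM_det hb g
    rw [Matrix.det_of_isUpperTriangular (show (rhoM 2 b g).BlockTriangular id from
      fun i j hij => (mem_Bsub hb).1 hgB i j hij), Fin.prod_univ_five] at h
    simp only [rhoM_apply] at h
    rw [hd0, hd4] at h
    rw [← h]; ring
  obtain ⟨s, hs⟩ : ∃ s : F, s = co 2 b (actv g (b 1)) 1 := ⟨_, rfl⟩
  obtain ⟨d2, hd2⟩ : ∃ s : F, s = co 2 b (actv g (b 2)) 2 := ⟨_, rfl⟩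
  obtain ⟨d3, hd3⟩ : ∃ s : F, s = co 2 b (actv g (b 3)) 3 := ⟨_, rfl⟩
  rw [← hs, ← hd3] at hA
  rw [← hs, ← hd2, ← hd3] at hD
  have hd3ne : d3 ≠ 0 := by
    intro h
    rw [h] at hA
    simp at hA
  have hd33 := hx3 d3 hd3ne
  have hsd3 : d3 = s := by linear_combination s * hd33 - d3 * hA
  rw [hsd3] at hA hD hd3
  have hs3 : s ^ 3 = 1 := by linear_combination hA
  have hsd2 : d2 = s := by linear_combination s * hD - d2 * hs3
  rw [hsd2] at hd2
  have hsq : s * s ^ 2 = 1 := by linear_combination hs3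
  have hsq' : (s ^ 2) * (s ^ 2) ^ 2 = 1 := by linear_combination (s ^ 3 + 1) * hs3
  have hs4 : s ^ 2 * s ^ 2 = s := by linear_combination s * hs3
  -- the diagonal element
  obtain ⟨z, hz⟩ : ∃ z : ↥(Cfsg.SU 5 F 2), z = dd hF f1 f2 s * dd hF f2 f3 (s ^ 2) := ⟨_, rfl⟩
  have hzf1 : actv z f1 = s • f1 := by
    rw [hz, actv_mul, dd_fix hF h2 hf22 hf33 hf23 hf32 hsq' hf12 hf13,
      dd_left hF h2 hf11 hf22 hf12 hf21 hsq]
  have hzf2 : actv z f2 = s • f2 := by
    rw [hz, actv_mul, dd_left hF h2 hf22 hf33 hf23 hf32 hsq', actv_smul,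
      dd_right hF h2 hf11 hf22 hf12 hf21 hsq, smul_smul, hs4]
  have hzf3 : actv z f3 = s • f3 := by
    rw [hz, actv_mul, dd_right hF h2 hf22 hf33 hf23 hf32 hsq', actv_smul,
      dd_fix hF h2 hf11 hf22 hf12 hf21 hsq hf31 hf32, pow_two (s ^ 2), hs4]
  have hz0 : actv z (b 0) = b 0 := by
    rw [hz, actv_mul, dd_fix hF h2 hf22 hf33 hf23 hf32 hsq' h0f2 h0f3,
      dd_fix hF h2 hf11 hf22 hf12 hf21 hsq h0f1 h0f2]
  have hz4 : actv z (b 4) = b 4 := by
    rw [hz, actv_mul, dd_fix hF h2 hf22 hf33 hf23 hf32 hsq' h4f2 h4f3,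
      dd_fix hF h2 hf11 hf22 hf12 hf21 hsq h4f1 h4f2]
  have hz1 : actv z (b 1) = s • b 1 := by
    rw [hb1f, actv_add, actv_smul, actv_smul, hzf1, hzf3]
    module
  have hz2 : actv z (b 2) = s • b 2 := by
    rw [← hf2]; exact hzf2
  have hz3 : actv z (b 3) = s • b 3 := by
    rw [hb3f, actv_add, hzf1, hzf3, smul_add]
  have key : ∀ j : Fin 5, j = 0 ∨ j = 1 ∨ j = 2 ∨ j = 3 ∨ j = 4 := by decide
  have hzb : ∀ j : Fin 5, actv z (b j) = (if j = 0 ∨ j = 4 then (1 : F) else s) • b j := by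
    intro j
    rcases key j with rfl | rfl | rfl | rfl | rfl
    · rw [if_pos (by decide), one_smul]; exact hz0
    · rw [if_neg (by decide)]; exact hz1
    · rw [if_neg (by decide)]; exact hz2
    · rw [if_neg (by decide)]; exact hz3
    · rw [if_pos (by decide), one_smul]; exact hz4
  have hgd : ∀ j : Fin 5, rhoM 2 b g j j = (if j = 0 ∨ j = 4 then (1 : F) else s) := by
    intro j
    rw [rhoM_apply]
    rcases key j with rfl | rfl | rfl | rfl | rfl
    · rw [if_pos (by decide)]; exact hd0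
    · rw [if_neg (by decide)]; exact hs.symm
    · rw [if_neg (by decide)]; exact hd2.symm
    · rw [if_neg (by decide)]; exact hd3.symm
    · rw [if_pos (by decide)]; exact hd4
  have hzB : z ∈ Bsub hb := by
    rw [mem_Bsub_iff]
    intro i j hji
    rw [hzb j, co_smul, co_b hb, if_neg (ne_of_gt hji), mul_zero]
  have hzd : ∀ j : Fin 5, rhoM 2 b z j j = (if j = 0 ∨ j = 4 then (1 : F) else s) := by
    intro j
    rw [rhoM_apply, hzb j, co_smul, co_b hb, if_pos rfl, mul_one]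
  have hziB : z⁻¹ ∈ Bsub hb := (Bsub hb).inv_mem hzB
  refine ⟨z, z⁻¹ * g, by group, hzB, ?_, ?_⟩
  · rw [hz]
    exact Subgroup.mul_mem _ (dd_mem_PG hF h2 p hf11 hf22 hf12 hf21 hsq h0f1 h0f2)
      (dd_mem_PG hF h2 p hf22 hf33 hf23 hf32 hsq' h0f2 h0f3)
  · rw [mem_Usub, isUT_iff, rhoM_mul hb]
    have hU1 : IsUp (rhoM 2 b z⁻¹) := (mem_Bsub hb).1 hziB
    have hU2 : IsUp (rhoM 2 b g) := (mem_Bsub hb).1 hgB
    have hU3 : IsUp (rhoM 2 b z) := (mem_Bsub hb).1 hzB
    refine ⟨hU1.mul hU2, fun i => ?_⟩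
    have h1 : rhoM 2 b z⁻¹ i i * rhoM 2 b z i i = 1 := by
      rw [← hU1.diag_mul hU3, ← rhoM_mul hb, inv_mul_cancel, rhoM_one hb, Matrix.one_apply_eq]
    rw [hU1.diag_mul hU2, hgd i, ← hzd i, h1]

end Cfsg.Agent.Helper87.PsuE52
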