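import Mathlib
import Cfsg.Agent.Lib.Helper87.PsuB0
import Cfsg.Agent.Lib.Helper87.PsuFlag
import Cfsg.Agent.Lib.Helper84.PslGrp

/-!
# S5172 server piece (H) (helper1 for helper87): root elements `xp`, `xm` and the torus `hel`
-/

set_option autoImplicit false
set_option quotPrecheck false
set_option linter.unusedSectionVars false
set_option linter.unusedVariables false
set_option linter.unusedSimpArgs false

open Matrix Cfsg Cfsg.Agent.Helper13 Cfsg.Agent.Helper87.PsuA Cfsg.Agent.Helper87.PsuD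
  Cfsg.Agent.Helper87.PsuB0

variable {F : Type*} [Field F] [Fintype F] {q n : ℕ}

local notation "V" => Fin n → F
local notation "G" => ↥(Cfsg.SU n F q)
local notation "H" => Cfsg.hermForm n F q

variable (hF : Fintype.card F = q ^ 2) {b : Fin n → Fin n → F}

namespace Cfsg.Agent.Helper87.PsuH

/-! ### index facts -/

theorem idx (hn : 4 ≤ n) :
    i0 hn ≠ Fin.rev (i0 hn) ∧ i1 hn ≠ Fin.rev (i1 hn) ∧ i0 hn ≠ i1 hn ∧
    Fin.rev (i1 hn) ≠ Fin.rev (i0 hn) ∧ i0 hn ≠ Fin.rev (i1 hn) ∧ i1 hn ≠ Fin.rev (i0 hn) := by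
  simp only [ne_eq, Fin.ext_iff, Fin.val_rev, i0, i1]
  omega

/-! ### the parameters of `xp`, `xm` are valid -/

include hF in
theorem xp_valid (hb : HB q b) (hn : 4 ≤ n) (c : F) :
    H (b (i0 hn)) (b (i0 hn)) = 0 ∧ H (b (i0 hn)) (c • b (Fin.rev (i1 hn))) = 0 ∧
      (0 : F) + 0 ^ q + H (c • b (Fin.rev (i1 hn))) (c • b (Fin.rev (i1 hn))) = 0 := by
  obtain ⟨h1, h2, h3, h4, h5, h6⟩ := idx hn
  refine ⟨b_isotropic hb h1, ?_, ?_⟩
  · rw [hermForm_smul_right, hb, if_neg h4, mul_zero]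
  · rw [hermForm_smul_right, hermForm_smul_left, hb, Fin.rev_rev, if_neg h2.symm, frob_zero hF]
    ring

include hF in
theorem xm_valid (hb : HB q b) (hn : 4 ≤ n) (c : F) :
    H (b (i1 hn)) (b (i1 hn)) = 0 ∧ H (b (i1 hn)) (c • b (Fin.rev (i0 hn))) = 0 ∧
      (0 : F) + 0 ^ q + H (c • b (Fin.rev (i0 hn))) (c • b (Fin.rev (i0 hn))) = 0 := by
  obtain ⟨h1, h2, h3, h4, h5, h6⟩ := idx hn
  refine ⟨b_isotropic hb h2, ?_, ?_⟩
  · rw [hermForm_smul_right, hb, if_neg h4.symm, mul_zero]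
  · rw [hermForm_smul_right, hermForm_smul_left, hb, Fin.rev_rev, if_neg h1.symm, frob_zero hF]
    ring

/-- the action of `xp t` -/
theorem xp_act (hb : HB q b) (hn : 4 ≤ n) (t : F) (x : V) :
    actv (xp hF b hn t) x = x - (co q b x (Fin.rev (i0 hn)) * t ^ q) • b (Fin.rev (i1 hn))
      + (t * co q b x (i1 hn)) • b (i0 hn) := by
  obtain ⟨h1, h2, h3⟩ := xp_valid hF hb hn (-(t ^ q))
  unfold xp
  rw [eich_act hF h1 h2 h3, H_b_left, hermForm_smul_right, H_b_left, Fin.rev_rev, frob_neg hF,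
    frob_frob hF]
  module

/-- the action of `xm t` -/
theorem xm_act (hb : HB q b) (hn : 4 ≤ n) (t : F) (x : V) :
    actv (xm hF b hn t) x = x - (co q b x (Fin.rev (i1 hn)) * t ^ q) • b (Fin.rev (i0 hn))
      + (t * co q b x (i0 hn)) • b (i1 hn) := by
  obtain ⟨h1, h2, h3⟩ := xm_valid hF hb hn (-(t ^ q))
  unfold xm
  rw [eich_act hF h1 h2 h3, H_b_left, hermForm_smul_right, H_b_left, Fin.rev_rev, frob_neg hF,
    frob_frob hF]
  module

/-! ### images of basis vectors -/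

theorem xp_bj (hb : HB q b) (hn : 4 ≤ n) (t : F) (j : Fin n) :
    actv (xp hF b hn t) (b j) = b j
      - ((if Fin.rev (i0 hn) = j then (1 : F) else 0) * t ^ q) • b (Fin.rev (i1 hn))
      + (t * (if i1 hn = j then (1 : F) else 0)) • b (i0 hn) := by
  rw [xp_act hF hb hn, co_b hb, co_b hb]

theorem xm_bj (hb : HB q b) (hn : 4 ≤ n) (t : F) (j : Fin n) :
    actv (xm hF b hn t) (b j) = b j
      - ((if Fin.rev (i1 hn) = j then (1 : F) else 0) * t ^ q) • b (Fin.rev (i0 hn))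
      + (t * (if i0 hn = j then (1 : F) else 0)) • b (i1 hn) := by
  rw [xm_act hF hb hn, co_b hb, co_b hb]

/-- `xp t : b_1 ↦ b_1 + t b_0`, fixes `b_0` -/
theorem xp_b0 (hb : HB q b) (hn : 4 ≤ n) (t : F) :
    actv (xp hF b hn t) (b (i0 hn)) = b (i0 hn) := by
  obtain ⟨h1, h2, h3, h4, h5, h6⟩ := idx hn
  rw [xp_bj hF hb hn, if_neg h1.symm, if_neg h3.symm]
  module

theorem xp_b1 (hb : HB q b) (hn : 4 ≤ n) (t : F) :
    actv (xp hF b hn t) (b (i1 hn)) = b (i1 hn) + t • b (i0 hn) := by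
  obtain ⟨h1, h2, h3, h4, h5, h6⟩ := idx hn
  rw [xp_bj hF hb hn, if_neg h6.symm, if_pos rfl]
  module

theorem xm_b0 (hb : HB q b) (hn : 4 ≤ n) (t : F) :
    actv (xm hF b hn t) (b (i0 hn)) = b (i0 hn) + t • b (i1 hn) := by
  obtain ⟨h1, h2, h3, h4, h5, h6⟩ := idx hn
  rw [xm_bj hF hb hn, if_neg h5.symm, if_pos rfl]
  module

theorem xm_b1 (hb : HB q b) (hn : 4 ≤ n) (t : F) :
    actv (xm hF b hn t) (b (i1 hn)) = b (i1 hn) := by
  obtain ⟨h1, h2, h3, h4, h5, h6⟩ := idx hn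
  rw [xm_bj hF hb hn, if_neg h2.symm, if_neg h3]
  module

theorem xp_br0 (hb : HB q b) (hn : 4 ≤ n) (t : F) :
    actv (xp hF b hn t) (b (Fin.rev (i0 hn))) =
      b (Fin.rev (i0 hn)) - (t ^ q) • b (Fin.rev (i1 hn)) := by
  obtain ⟨h1, h2, h3, h4, h5, h6⟩ := idx hn
  rw [xp_bj hF hb hn, if_pos rfl, if_neg h6]
  module

theorem xp_br1 (hb : HB q b) (hn : 4 ≤ n) (t : F) :
    actv (xp hF b hn t) (b (Fin.rev (i1 hn))) = b (Fin.rev (i1 hn)) := by
  obtain ⟨h1, h2, h3, h4, h5, h6⟩ := idx hn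
  rw [xp_bj hF hb hn, if_neg h4.symm, if_neg h2]
  module

theorem xm_br1 (hb : HB q b) (hn : 4 ≤ n) (t : F) :
    actv (xm hF b hn t) (b (Fin.rev (i1 hn))) =
      b (Fin.rev (i1 hn)) - (t ^ q) • b (Fin.rev (i0 hn)) := by
  obtain ⟨h1, h2, h3, h4, h5, h6⟩ := idx hn
  rw [xm_bj hF hb hn, if_pos rfl, if_neg h5]
  module

theorem xm_br0 (hb : HB q b) (hn : 4 ≤ n) (t : F) :
    actv (xm hF b hn t) (b (Fin.rev (i0 hn))) = b (Fin.rev (i0 hn)) := by
  obtain ⟨h1, h2, h3, h4, h5, h6⟩ := idx hn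
  rw [xm_bj hF hb hn, if_neg h4, if_neg h1]
  module

theorem xp_other (hb : HB q b) (hn : 4 ≤ n) (t : F) {j : Fin n} (hj1 : j ≠ i1 hn)
    (hj2 : j ≠ Fin.rev (i0 hn)) : actv (xp hF b hn t) (b j) = b j := by
  rw [xp_bj hF hb hn, if_neg (Ne.symm hj2), if_neg (Ne.symm hj1)]
  module

theorem xm_other (hb : HB q b) (hn : 4 ≤ n) (t : F) {j : Fin n} (hj1 : j ≠ i0 hn)
    (hj2 : j ≠ Fin.rev (i1 hn)) : actv (xm hF b hn t) (b j) = b j := by
  rw [xm_bj hF hb hn, if_neg (Ne.symm hj2), if_neg (Ne.symm hj1)]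
  module

/-! ### the stabilizer of `W` -/

theorem xp_stab_W (hb : HB q b) (hn : 4 ≤ n) (t : F) (y : V) (hy : InW q b y) :
    InW q b (actv (xp hF b hn t) y) := by
  obtain ⟨h1, h2, h3, h4, h5, h6⟩ := idx hn
  have h0 : co q b y (Fin.rev (i0 hn)) = 0 := by
    apply hy
    rw [Fin.rev_rev]
    simp only [Fin.le_def, Fin.val_rev, i0]
    omega
  rw [xp_act hF hb hn, h0, zero_mul, zero_smul, sub_zero]
  refine hy.add (InW.smul _ ?_)
  intro i hi
  rw [co_b hb, if_neg]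
  rintro rfl
  simp only [Fin.le_def, Fin.val_rev, i0] at hi
  omega

theorem xm_stab_W (hb : HB q b) (hn : 4 ≤ n) (t : F) (y : V) (hy : InW q b y) :
    InW q b (actv (xm hF b hn t) y) := by
  obtain ⟨h1, h2, h3, h4, h5, h6⟩ := idx hn
  have h0 : co q b y (Fin.rev (i1 hn)) = 0 := by
    apply hy
    rw [Fin.rev_rev]
    simp only [Fin.le_def, Fin.val_rev, i1]
    omega
  rw [xm_act hF hb hn, h0, zero_mul, zero_smul, sub_zero]
  refine hy.add (InW.smul _ ?_)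
  intro i hi
  rw [co_b hb, if_neg]
  rintro rfl
  simp only [Fin.le_def, Fin.val_rev, i1] at hi
  omega

/-! ### the torus element -/

theorem hel_b0 (hb : HB q b) (hn : 4 ≤ n) {s : F} (hs : s ≠ 0) :
    actv (hel hF b hn s) (b (i0 hn)) = s • b (i0 hn) := by
  have hs' : s * s⁻¹ = 1 := mul_inv_cancel₀ hs
  unfold hel
  simp only [actv_mul, xm_b0 hF hb hn, xm_b1 hF hb hn, xp_b0 hF hb hn, xp_b1 hF hb hn, actv_add,
    actv_smul]
  linear_combination (norm := module) hs' • (-(b (i1 hn) + s • b (i0 hn)))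

theorem hel_b1 (hb : HB q b) (hn : 4 ≤ n) {s : F} (hs : s ≠ 0) :
    actv (hel hF b hn s) (b (i1 hn)) = s⁻¹ • b (i1 hn) := by
  have hs' : s * s⁻¹ = 1 := mul_inv_cancel₀ hs
  unfold hel
  simp only [actv_mul, xm_b0 hF hb hn, xm_b1 hF hb hn, xp_b0 hF hb hn, xp_b1 hF hb hn, actv_add,
    actv_smul]
  linear_combination (norm := module) hs' • b (i0 hn)

theorem hel_br1 (hb : HB q b) (hn : 4 ≤ n) {s : F} (hs : s ≠ 0) :
    actv (hel hF b hn s) (b (Fin.rev (i1 hn))) = (s ^ q) • b (Fin.rev (i1 hn)) := by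
  have hσ : s ^ q * (s ^ q)⁻¹ = 1 := mul_inv_cancel₀ (pow_ne_zero _ hs)
  unfold hel
  simp only [actv_mul, xm_br0 hF hb hn, xm_br1 hF hb hn, xp_br0 hF hb hn, xp_br1 hF hb hn, actv_add,
    actv_sub, actv_smul, frob_neg hF, frob_sub hF, one_pow, inv_pow]
  linear_combination (norm := module) hσ • (b (Fin.rev (i0 hn)) - (s ^ q) • b (Fin.rev (i1 hn)))

theorem hel_br0 (hb : HB q b) (hn : 4 ≤ n) {s : F} (hs : s ≠ 0) :
    actv (hel hF b hn s) (b (Fin.rev (i0 hn))) = (s ^ q)⁻¹ • b (Fin.rev (i0 hn)) := by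
  have hσ : s ^ q * (s ^ q)⁻¹ = 1 := mul_inv_cancel₀ (pow_ne_zero _ hs)
  unfold hel
  simp only [actv_mul, xm_br0 hF hb hn, xm_br1 hF hb hn, xp_br0 hF hb hn, xp_br1 hF hb hn, actv_add,
    actv_sub, actv_smul, frob_neg hF, frob_sub hF, one_pow, inv_pow]
  linear_combination (norm := module) hσ • (-b (Fin.rev (i1 hn)))

theorem hel_other (hb : HB q b) (hn : 4 ≤ n) (s : F) {j : Fin n} (hj0 : j ≠ i0 hn)
    (hj1 : j ≠ i1 hn) (hj2 : j ≠ Fin.rev (i1 hn)) (hj3 : j ≠ Fin.rev (i0 hn)) :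
    actv (hel hF b hn s) (b j) = b j := by
  unfold hel
  simp only [actv_mul, xm_other hF hb hn _ hj0 hj2, xp_other hF hb hn _ hj1 hj3]

/-- the torus element is diagonal in the basis `b` -/
theorem hel_diag (hb : HB q b) (hn : 4 ≤ n) {s : F} (hs : s ≠ 0) (j : Fin n) :
    ∃ d : F, actv (hel hF b hn s) (b j) = d • b j := by
  by_cases hj0 : j = i0 hn
  · subst hj0; exact ⟨s, hel_b0 hF hb hn hs⟩
  by_cases hj1 : j = i1 hn
  · subst hj1; exact ⟨s⁻¹, hel_b1 hF hb hn hs⟩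
  by_cases hj2 : j = Fin.rev (i1 hn)
  · subst hj2; exact ⟨s ^ q, hel_br1 hF hb hn hs⟩
  by_cases hj3 : j = Fin.rev (i0 hn)
  · subst hj3; exact ⟨(s ^ q)⁻¹, hel_br0 hF hb hn hs⟩
  exact ⟨1, by rw [hel_other hF hb hn s hj0 hj1 hj2 hj3, one_smul]⟩

/-- the torus element is diagonal in the basis `b`, in particular upper triangular -/
theorem hel_mem_Bsub (hb : HB q b) (hn : 4 ≤ n) {s : F} (hs : s ≠ 0) :
    hel hF b hn s ∈ Bsub hb := by
  rw [mem_Bsub_iff]
  intro i j hji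
  obtain ⟨d, hd⟩ := hel_diag hF hb hn hs j
  rw [hd, co_smul, co_b hb, if_neg (ne_of_gt hji), mul_zero]

/-! ### Eichler elements have `p`-power order -/

include hF in
theorem natCast_frob (k : ℕ) : ((k : F)) ^ q = (k : F) := by
  have := map_natCast (frobQ hF) k
  rwa [frobQ_apply] at this

theorem eich_pow_aux {u w : V} {a : F} (huu : H u u = 0) (huw : H u w = 0)
    (ha : a + a ^ q + H w w = 0) (k : ℕ) :
    ∃ a' : F, a' + a' ^ q + H ((k : F) • w) ((k : F) • w) = 0 ∧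
      (eich hF u w a) ^ k = eich hF u ((k : F) • w) a' := by
  induction k with
  | zero =>
    refine ⟨0, ?_, ?_⟩
    · rw [Nat.cast_zero, zero_smul, H_zero_left hF, frob_zero hF]; ring
    · rw [pow_zero, Nat.cast_zero, zero_smul, eich_one hF huu]
  | succ k ih =>
    obtain ⟨a', ha', hpow⟩ := ih
    have huw' : H u ((k : F) • w) = 0 := by rw [hermForm_smul_right, huw, mul_zero]
    have e : ((k + 1 : ℕ) : F) • w = (k : F) • w + w := by
      rw [Nat.cast_succ, add_smul, one_smul]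
    refine ⟨a' + a - H w ((k : F) • w), ?_, ?_⟩
    · rw [e, frob_sub hF, frob_add hF, hermForm_conj hF, hermForm_add_left, hermForm_add_right hF,
        hermForm_add_right hF]
      linear_combination ha' + ha
    · rw [pow_succ, hpow, eich_mul hF huu huw' ha' huw ha, e]

theorem eich_zero_pow {u : V} {a : F} (huu : H u u = 0) (ha : a + a ^ q = 0) (k : ℕ) :
    (eich hF u 0 a) ^ k = eich hF u 0 ((k : F) * a) := by
  have h0 : H u (0 : V) = 0 := H_zero_right hF u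
  have hc : ∀ c : F, c + c ^ q = 0 → c + c ^ q + H (0 : V) 0 = 0 := by
    intro c hc; rw [H_zero_left hF, hc, add_zero]
  have hk : ∀ k : ℕ, (k : F) * a + ((k : F) * a) ^ q = 0 := by
    intro k; rw [mul_pow, natCast_frob hF]; linear_combination (k : F) * ha
  induction k with
  | zero => rw [pow_zero, Nat.cast_zero, zero_mul, eich_one hF huu]
  | succ k ih =>
    rw [pow_succ, ih, eich_mul hF huu h0 (hc _ (hk k)) h0 (hc _ ha), add_zero, H_zero_left hF,
      sub_zero]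
    congr 1
    rw [Nat.cast_succ]; ring

/-- Eichler elements have `p`-power order (`E^p` is a transvection, `E^(p^2) = 1`) -/
theorem eich_orderOf (p : ℕ) [Fact p.Prime] [CharP F p] {u w : V} {a : F} (huu : H u u = 0)
    (huw : H u w = 0) (ha : a + a ^ q + H w w = 0) :
    ∃ m : ℕ, orderOf (eich hF u w a) = p ^ m := by
  obtain ⟨a', ha', hpow⟩ := eich_pow_aux hF huu huw ha p
  rw [CharP.cast_eq_zero, zero_smul] at ha' hpow
  rw [H_zero_left hF, add_zero] at ha'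
  have h2 : (eich hF u w a) ^ (p ^ 2) = 1 := by
    rw [pow_two, pow_mul, hpow, eich_zero_pow hF huu ha', CharP.cast_eq_zero, zero_mul,
      eich_one hF huu]
  obtain ⟨m, -, hm⟩ := (Nat.dvd_prime_pow (Fact.out : p.Prime)).mp (orderOf_dvd_of_pow_eq_one h2)
  exact ⟨m, hm⟩

end Cfsg.Agent.Helper87.PsuH
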