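import Mathlib
import Cfsg.Agent.Lib.Helper87.PsuB0
import Cfsg.Agent.Lib.Helper87.PsuFlag
import Cfsg.Agent.Lib.Helper84.PslGrp
import Cfsg.Agent.Lib.Helper87.PsuC1

/-!
# S5172 piece (S1): strongly closed subgroups of `Usub`, first steps (helper42 for helper87)

Statements verbatim from `tools/psu_sigs_helper87.lean.txt` (v2).  Uses `PsuC1.central_eq_transvection`;
the facts about `xp`, `xm`, `hel` needed here are proved locally (`s1_xp_b0` etc.), so `PsuH` is not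
imported.
-/

set_option autoImplicit false
set_option quotPrecheck false
set_option linter.unusedSectionVars false
set_option linter.unusedVariables false

open Matrix Cfsg Cfsg.Agent.Helper13 Cfsg.Agent.Helper87.PsuA Cfsg.Agent.Helper87.PsuD
  Cfsg.Agent.Helper87.PsuB0

variable {F : Type*} [Field F] [Fintype F] {q n : ℕ}

local notation "V" => Fin n → F
local notation "G" => ↥(Cfsg.SU n F q)
local notation "H" => Cfsg.hermForm n F q

variable (hF : Fintype.card F = q ^ 2) {b : Fin n → Fin n → F}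

namespace Cfsg.Agent.Helper87.PsuS1

theorem s1_i0_val (hn : 4 ≤ n) : ((i0 hn : Fin n) : ℕ) = 0 := rfl

theorem s1_i1_val (hn : 4 ≤ n) : ((i1 hn : Fin n) : ℕ) = 1 := rfl

theorem s1_i0_lt_rev (hn : 4 ≤ n) : (i0 hn : Fin n) < Fin.rev (i0 hn) := by
  rw [Fin.lt_def, Fin.val_rev, s1_i0_val]; omega

theorem s1_i1_lt_rev (hn : 4 ≤ n) : (i1 hn : Fin n) < Fin.rev (i1 hn) := by
  rw [Fin.lt_def, Fin.val_rev, s1_i1_val]; omega

theorem s1_i1_ne_i0 (hn : 4 ≤ n) : (i1 hn : Fin n) ≠ i0 hn := by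
  intro h
  have := congrArg Fin.val h
  rw [s1_i0_val, s1_i1_val] at this
  omega

theorem s1_i1_ne_rev_i0 (hn : 4 ≤ n) : (i1 hn : Fin n) ≠ Fin.rev (i0 hn) := by
  intro h
  have := congrArg Fin.val h
  rw [Fin.val_rev, s1_i0_val, s1_i1_val] at this
  omega

theorem s1_i1_ne_rev_i1 (hn : 4 ≤ n) : (i1 hn : Fin n) ≠ Fin.rev (i1 hn) := (s1_i1_lt_rev hn).ne

theorem s1_i0_ne_rev_i0 (hn : 4 ≤ n) : (i0 hn : Fin n) ≠ Fin.rev (i0 hn) := (s1_i0_lt_rev hn).ne

theorem s1_i0_ne_rev_i1 (hn : 4 ≤ n) : (i0 hn : Fin n) ≠ Fin.rev (i1 hn) := by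
  intro h
  have := congrArg Fin.val h
  rw [Fin.val_rev, s1_i0_val, s1_i1_val] at this
  omega

theorem s1_H01 (hb : HB q b) (hn : 4 ≤ n) : H (b (i0 hn)) (b (i1 hn)) = 0 := by
  rw [hb, if_neg (s1_i1_ne_rev_i0 hn)]

theorem s1_H10 (hb : HB q b) (hn : 4 ≤ n) : H (b (i1 hn)) (b (i0 hn)) = 0 := by
  rw [hb, if_neg (s1_i0_ne_rev_i1 hn)]

theorem s1_H00 (hb : HB q b) (hn : 4 ≤ n) : H (b (i0 hn)) (b (i0 hn)) = 0 :=
  b_isotropic hb (s1_i0_ne_rev_i0 hn)

theorem s1_H11 (hb : HB q b) (hn : 4 ≤ n) : H (b (i1 hn)) (b (i1 hn)) = 0 :=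
  b_isotropic hb (s1_i1_ne_rev_i1 hn)

theorem s1_H0r1 (hb : HB q b) (hn : 4 ≤ n) : H (b (i0 hn)) (b (Fin.rev (i1 hn))) = 0 := by
  rw [hb, if_neg]
  rw [Fin.rev_inj]
  exact s1_i1_ne_i0 hn

theorem s1_H1r1 (hb : HB q b) (hn : 4 ≤ n) : H (b (i1 hn)) (b (Fin.rev (i1 hn))) = 1 := by
  rw [hb, if_pos rfl]

theorem s1_H0r0 (hb : HB q b) (hn : 4 ≤ n) : H (b (i0 hn)) (b (Fin.rev (i0 hn))) = 1 := by
  rw [hb, if_pos rfl]

theorem s1_H1r0 (hb : HB q b) (hn : 4 ≤ n) : H (b (i1 hn)) (b (Fin.rev (i0 hn))) = 0 := by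
  rw [hb, if_neg]
  rw [Fin.rev_inj]
  exact (s1_i1_ne_i0 hn).symm

theorem s1_Hr1r1 (hb : HB q b) (hn : 4 ≤ n) :
    H (b (Fin.rev (i1 hn))) (b (Fin.rev (i1 hn))) = 0 := by
  apply b_isotropic hb
  rw [Fin.rev_rev]
  exact (s1_i1_ne_rev_i1 hn).symm

theorem s1_Hr0r0 (hb : HB q b) (hn : 4 ≤ n) :
    H (b (Fin.rev (i0 hn))) (b (Fin.rev (i0 hn))) = 0 := by
  apply b_isotropic hb
  rw [Fin.rev_rev]
  exact (s1_i0_ne_rev_i0 hn).symm

/-! ### the root elements `xp`, `xm` and the torus element `hel` on `b 0`, `b 1` -/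

theorem s1_xp_act (hb : HB q b) (hn : 4 ≤ n) (t : F) (x : V) :
    actv (xp hF b hn t) x = x + H x (b (i0 hn)) • ((-(t ^ q)) • b (Fin.rev (i1 hn)))
      - H x ((-(t ^ q)) • b (Fin.rev (i1 hn))) • b (i0 hn) := by
  unfold xp
  rw [eich_act hF (s1_H00 hb hn) (by rw [hermForm_smul_right, s1_H0r1 hb hn, mul_zero])
    (by rw [hermForm_smul_left, hermForm_smul_right, s1_Hr1r1 hb hn, frob_zero hF]; ring)]
  module

theorem s1_xm_act (hb : HB q b) (hn : 4 ≤ n) (t : F) (x : V) :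
    actv (xm hF b hn t) x = x + H x (b (i1 hn)) • ((-(t ^ q)) • b (Fin.rev (i0 hn)))
      - H x ((-(t ^ q)) • b (Fin.rev (i0 hn))) • b (i1 hn) := by
  unfold xm
  rw [eich_act hF (s1_H11 hb hn) (by rw [hermForm_smul_right, s1_H1r0 hb hn, mul_zero])
    (by rw [hermForm_smul_left, hermForm_smul_right, s1_Hr0r0 hb hn, frob_zero hF]; ring)]
  module

theorem s1_xp_b0 (hb : HB q b) (hn : 4 ≤ n) (t : F) :
    actv (xp hF b hn t) (b (i0 hn)) = b (i0 hn) := by
  rw [s1_xp_act hF hb hn, s1_H00 hb hn, hermForm_smul_right, s1_H0r1 hb hn]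
  module

theorem s1_xp_b1 (hb : HB q b) (hn : 4 ≤ n) (t : F) :
    actv (xp hF b hn t) (b (i1 hn)) = b (i1 hn) + t • b (i0 hn) := by
  rw [s1_xp_act hF hb hn, s1_H10 hb hn, hermForm_smul_right, s1_H1r1 hb hn, frob_neg hF,
    frob_frob hF]
  module

theorem s1_xm_b0 (hb : HB q b) (hn : 4 ≤ n) (t : F) :
    actv (xm hF b hn t) (b (i0 hn)) = b (i0 hn) + t • b (i1 hn) := by
  rw [s1_xm_act hF hb hn, s1_H01 hb hn, hermForm_smul_right, s1_H0r0 hb hn, frob_neg hF,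
    frob_frob hF]
  module

theorem s1_xm_b1 (hb : HB q b) (hn : 4 ≤ n) (t : F) :
    actv (xm hF b hn t) (b (i1 hn)) = b (i1 hn) := by
  rw [s1_xm_act hF hb hn, s1_H11 hb hn, hermForm_smul_right, s1_H1r0 hb hn]
  module

theorem s1_hel_b0 (hb : HB q b) (hn : 4 ≤ n) {s : F} (hs : s ≠ 0) :
    actv (hel hF b hn s) (b (i0 hn)) = s • b (i0 hn) := by
  unfold hel
  simp only [actv_mul, actv_add, actv_smul, s1_xm_b0 hF hb hn, s1_xm_b1 hF hb hn,
    s1_xp_b0 hF hb hn, s1_xp_b1 hF hb hn]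
  match_scalars
  · field_simp
    ring
  · field_simp
    ring

theorem s1_i0_le (hn : 4 ≤ n) (i : Fin n) : i0 hn ≤ i := by
  rw [Fin.le_def, s1_i0_val]; exact Nat.zero_le _

theorem s1_eq_rev_i0 (hn : 4 ≤ n) {i : Fin n} (h : Fin.rev (i0 hn) ≤ i) : i = Fin.rev (i0 hn) := by
  rw [Fin.le_def, Fin.val_rev, s1_i0_val] at h
  apply Fin.ext
  rw [Fin.val_rev, s1_i0_val]
  have := i.2
  omega

include hF in
/-- `w ⊥ b 0` in coordinates -/
theorem s1_co_of_perp (hn : 4 ≤ n) {w : V} (hw : H (b (i0 hn)) w = 0) (i : Fin n)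
    (hi : Fin.rev (i0 hn) ≤ i) : co q b w i = 0 := by
  rw [s1_eq_rev_i0 hn hi]
  rw [H_b_right hF] at hw
  exact (pow_eq_zero_iff (q_pos hF).ne').1 hw

/-- transvections along `b k` lie in `Usub` when `k < rev k` -/
theorem s1_tv_mem_Usub (hb : HB q b) (k : Fin n) (hk : k < Fin.rev k) (a : F)
    (ha : a + a ^ q = 0) : eich hF (b k) 0 a ∈ Usub hb := by
  apply eich_mem_Usub hF hb k hk 0 a
  · intro i _
    exact co_zero hF i
  · rw [H_zero_right hF, ha, add_zero]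

/-- `E(b 0, w, a) ∈ Usub` whenever it is a genuine Eichler element -/
theorem s1_eich0_mem_Usub (hb : HB q b) (hn : 4 ≤ n) {w : V} {a : F}
    (hw : H (b (i0 hn)) w = 0) (ha : a + a ^ q + H w w = 0) :
    eich hF (b (i0 hn)) w a ∈ Usub hb :=
  eich_mem_Usub hF hb (i0 hn) (s1_i0_lt_rev hn) w a (s1_co_of_perp hF hn hw) ha

/-- conjugating a transvection -/
theorem s1_tv_conj {u : V} {a : F} (huu : H u u = 0) (ha : a + a ^ q = 0) (g : G) :
    g * eich hF u 0 a * g⁻¹ = eich hF (actv g u) 0 a := by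
  rw [eich_conj hF huu (H_zero_right hF _) (by rw [H_zero_right hF, ha, add_zero]), actv_zero]

/-- the centre of `Usub` consists of transvections along `b 0` -/
theorem center_eq_transvection (hb : HB q b) (hn : 4 ≤ n) {z : G} (hzU : z ∈ Usub hb)
    (hzc : ∀ y ∈ Usub hb, z * y = y * z) :
    ∃ a : F, a + a ^ q = 0 ∧ z = eich hF (b (i0 hn)) 0 a := by
  apply PsuC1.central_eq_transvection hF hb hn
  · apply ext_co hb
    intro i
    rw [(mem_Usub_iff hb).1 hzU i (i0 hn) (s1_i0_le hn i), co_b hb]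
  · intro w a hw ha
    apply hzc
    exact eich_mem_Usub hF hb (i0 hn) (s1_i0_lt_rev hn) w a (s1_co_of_perp hF hn hw) ha

/-- from one nontrivial transvection along `b 0` to all of them (conjugate by `hel s`,
`s * s^q = a / a0`, use `eich_conj`, `eich_smul`) -/
theorem X0_mem (hb : HB q b) (hn : 4 ≤ n) {K : Subgroup G}
    (hK : ∀ x ∈ K, ∀ g : G, g * x * g⁻¹ ∈ Usub hb → g * x * g⁻¹ ∈ K) {a0 : F} (ha0 : a0 ≠ 0)
    (ha0' : a0 + a0 ^ q = 0) (h : eich hF (b (i0 hn)) 0 a0 ∈ K) (a : F) (ha : a + a ^ q = 0) :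
    eich hF (b (i0 hn)) 0 a ∈ K := by
  have huu : H (b (i0 hn)) (b (i0 hn)) = 0 := b_isotropic hb (s1_i0_lt_rev hn).ne
  have hfix : (a / a0) ^ q = a / a0 := by
    have e1 : a ^ q = -a := by linear_combination ha
    have e2 : a0 ^ q = -a0 := by linear_combination ha0'
    rw [div_pow, e1, e2, neg_div_neg_eq]
  obtain ⟨s, hs⟩ := exists_norm hF (a / a0) hfix
  by_cases hs0 : s = 0
  · have ha00 : a = 0 := by
      rw [hs0, zero_mul] at hs
      have := (div_eq_zero_iff.1 hs.symm)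
      tauto
    rw [ha00, eich_one hF huu]
    exact K.one_mem
  · have hconj : hel hF b hn s * eich hF (b (i0 hn)) 0 a0 * (hel hF b hn s)⁻¹ =
        eich hF (b (i0 hn)) 0 a := by
      rw [eich_conj hF huu (H_zero_right hF _) (by rw [H_zero_right hF, ha0', add_zero]),
        s1_hel_b0 hF hb hn hs0, actv_zero,
        eich_smul hF huu (H_zero_right hF _) (by rw [H_zero_right hF, ha0', add_zero]),
        smul_zero, hs]
      congr 1
      field_simp
    rw [← hconj]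
    apply hK _ h
    rw [hconj]
    exact s1_tv_mem_Usub hF hb (i0 hn) (s1_i0_lt_rev hn) a ha

/-- Siegel: `E(u, (c*l) • v, 0) = t_{u + l v}(c) * t_u(-c) * t_v(-c l l^q)` for orthogonal
isotropic `u, v` and `c + c^q = 0` -/
theorem siegel {u v : V} {c l : F} (huu : H u u = 0) (hvv : H v v = 0) (huv : H u v = 0)
    (hc : c + c ^ q = 0) :
    eich hF u ((c * l) • v) 0 =
      eich hF (u + l • v) 0 c * eich hF u 0 (-c) * eich hF v 0 (-(c * l * l ^ q)) := by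
  have hvu : H v u = 0 := H_symm_zero hF huv
  have hcq : c ^ q = -c := by linear_combination hc
  have h1 : H u ((c * l) • v) = 0 := by rw [hermForm_smul_right, huv, mul_zero]
  have h2 : (0 : F) + 0 ^ q + H ((c * l) • v) ((c * l) • v) = 0 := by
    rw [hermForm_smul_left, hermForm_smul_right, hvv, frob_zero hF]; ring
  have h3 : H (u + l • v) (u + l • v) = 0 := by
    rw [hermForm_add_left, hermForm_add_right hF, hermForm_add_right hF, hermForm_smul_left,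
      hermForm_smul_left, hermForm_smul_right, hermForm_smul_right, huu, hvv, huv, hvu]
    ring
  have h4 : ∀ y : V, H y (0 : V) = 0 := fun y => H_zero_right hF y
  have h5 : ∀ (a : F), a + a ^ q = 0 → a + a ^ q + H (0 : V) (0 : V) = 0 := by
    intro a ha
    rw [H_zero_right hF, ha, add_zero]
  have h6 : (-c) + (-c) ^ q = 0 := by rw [frob_neg hF]; linear_combination -hc
  have h7 : (-(c * l * l ^ q)) + (-(c * l * l ^ q)) ^ q = 0 := by
    rw [frob_neg hF, mul_pow, mul_pow, frob_frob hF, hcq]; ring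
  apply G_ext
  intro x
  rw [actv_mul, actv_mul, eich_act hF huu h1 h2, eich_act hF hvv (h4 v) (h5 _ h7),
    eich_act hF huu (h4 u) (h5 _ h6), eich_act hF h3 (h4 _) (h5 _ hc)]
  simp only [hermForm_add_left, H_sub_left hF, hermForm_smul_left, hermForm_add_right hF,
    hermForm_smul_right, huu, hvv, huv, hvu, H_zero_right hF, H_zero_left hF, mul_pow, hcq]
  module

/-- the root elements `E(b 0, ν b 1, 0)` (transvections along the points of `⟨b 0, b 1⟩` are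
conjugate to those along `b 0`; then `siegel`) -/
theorem root01_mem (hb : HB q b) (hn : 4 ≤ n) {K : Subgroup G} (hKU : K ≤ Usub hb)
    (hK : ∀ x ∈ K, ∀ g : G, g * x * g⁻¹ ∈ Usub hb → g * x * g⁻¹ ∈ K)
    (hX0 : ∀ a : F, a + a ^ q = 0 → eich hF (b (i0 hn)) 0 a ∈ K) (ν : F) :
    eich hF (b (i0 hn)) (ν • b (i1 hn)) 0 ∈ K := by
  obtain ⟨κ, hκ0, hκ⟩ := exists_kappa hF
  have hκq : κ ^ q = -κ := by linear_combination hκ
  have huu := s1_H00 hb hn
  have hvv := s1_H11 hb hn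
  have huv := s1_H01 hb hn
  obtain ⟨l, rfl⟩ : ∃ l : F, ν = κ * l := ⟨κ⁻¹ * ν, by field_simp⟩
  have h6 : (-κ) + (-κ) ^ q = 0 := by rw [frob_neg hF]; linear_combination -hκ
  have h7 : (-(κ * l * l ^ q)) + (-(κ * l * l ^ q)) ^ q = 0 := by
    rw [frob_neg hF, mul_pow, mul_pow, frob_frob hF, hκq]; ring
  have hsieg := siegel hF (u := b (i0 hn)) (v := b (i1 hn)) (c := κ) (l := l) huu hvv huv hκ
  -- the left hand side is in `Usub`
  have hw1 : H (b (i0 hn)) ((κ * l) • b (i1 hn)) = 0 := by rw [hermForm_smul_right, huv, mul_zero]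
  have hw2 : (0 : F) + 0 ^ q + H ((κ * l) • b (i1 hn)) ((κ * l) • b (i1 hn)) = 0 := by
    rw [hermForm_smul_left, hermForm_smul_right, hvv, frob_zero hF]; ring
  have hL : eich hF (b (i0 hn)) ((κ * l) • b (i1 hn)) 0 ∈ Usub hb := s1_eich0_mem_Usub hF hb hn hw1 hw2
  -- T2
  have hT2 : eich hF (b (i0 hn)) 0 (-κ) ∈ K := hX0 _ h6
  -- T3
  have hT3U : eich hF (b (i1 hn)) 0 (-(κ * l * l ^ q)) ∈ Usub hb :=
    s1_tv_mem_Usub hF hb (i1 hn) (s1_i1_lt_rev hn) _ h7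
  have hT3 : eich hF (b (i1 hn)) 0 (-(κ * l * l ^ q)) ∈ K := by
    have hg : actv (xp hF b hn (-1) * xm hF b hn 1) (b (i0 hn)) = b (i1 hn) := by
      rw [actv_mul, s1_xm_b0 hF hb hn, actv_add, actv_smul, s1_xp_b0 hF hb hn,
        s1_xp_b1 hF hb hn]
      module
    have hconj := s1_tv_conj hF huu h7 (xp hF b hn (-1) * xm hF b hn 1)
    rw [hg] at hconj
    rw [← hconj]
    apply hK _ (hX0 _ h7)
    rw [hconj]
    exact hT3U
  -- T1
  have hT1eq : eich hF (b (i0 hn) + l • b (i1 hn)) 0 κ =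
      eich hF (b (i0 hn)) ((κ * l) • b (i1 hn)) 0 *
        (eich hF (b (i0 hn)) 0 (-κ) * eich hF (b (i1 hn)) 0 (-(κ * l * l ^ q)))⁻¹ := by
    rw [hsieg]; group
  have hT1U : eich hF (b (i0 hn) + l • b (i1 hn)) 0 κ ∈ Usub hb := by
    rw [hT1eq]
    exact (Usub hb).mul_mem hL ((Usub hb).inv_mem ((Usub hb).mul_mem (hKU hT2) hT3U))
  have hT1 : eich hF (b (i0 hn) + l • b (i1 hn)) 0 κ ∈ K := by
    have hconj := s1_tv_conj hF huu hκ (xm hF b hn l)
    rw [s1_xm_b0 hF hb hn] at hconj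
    rw [← hconj]
    apply hK _ (hX0 _ hκ)
    rw [hconj]
    exact hT1U
  rw [hsieg]
  exact K.mul_mem (K.mul_mem hT1 hT2) hT3

/-- the root elements `E(b 0, μ b (rev 1), 0)` (conjugate `root01_mem` by the transvection with
centre `κ • b (rev 1) - b 1`, which fixes `b 0` and maps `b 1` to `κ • b (rev 1)`) -/
theorem root0r1_mem (hb : HB q b) (hn : 4 ≤ n) {K : Subgroup G} (hKU : K ≤ Usub hb)
    (hK : ∀ x ∈ K, ∀ g : G, g * x * g⁻¹ ∈ Usub hb → g * x * g⁻¹ ∈ K)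
    (hX0 : ∀ a : F, a + a ^ q = 0 → eich hF (b (i0 hn)) 0 a ∈ K) (μ : F) :
    eich hF (b (i0 hn)) (μ • b (Fin.rev (i1 hn))) 0 ∈ K := by
  obtain ⟨κ, hκ0, hκ⟩ := exists_kappa hF
  have hκq : κ ^ q = -κ := by linear_combination hκ
  have huu := s1_H00 hb hn
  have huv := s1_H01 hb hn
  have hvv := s1_H11 hb hn
  set d : V := κ • b (Fin.rev (i1 hn)) - b (i1 hn) with hd
  have hr1 : H (b (Fin.rev (i1 hn))) (b (i1 hn)) = 1 := by
    rw [hb, Fin.rev_rev, if_pos rfl]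
  have hdd : H d d = 0 := by
    rw [hd]
    simp only [H_sub_left hF, H_sub_right hF, hermForm_smul_left, hermForm_smul_right,
      s1_Hr1r1 hb hn, s1_H1r1 hb hn, hr1, hvv, hκq]
    ring
  have h0d : H (b (i0 hn)) d = 0 := by
    rw [hd]
    simp only [H_sub_right hF, hermForm_smul_right, s1_H0r1 hb hn, huv]
    ring
  have h1d : H (b (i1 hn)) d = -κ := by
    rw [hd]
    simp only [H_sub_right hF, hermForm_smul_right, s1_H1r1 hb hn, hvv, hκq]
    ring
  have ha : (-κ⁻¹) + (-κ⁻¹) ^ q = 0 := by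
    rw [frob_neg hF, inv_pow, hκq]
    field_simp
    ring
  have hact : ∀ x : V, actv (eich hF d 0 (-κ⁻¹)) x = x + ((-κ⁻¹) * H x d) • d := by
    intro x
    rw [eich_act hF hdd (H_zero_right hF _) (by rw [H_zero_right hF, ha, add_zero]),
      H_zero_right hF]
    module
  have hg0 : actv (eich hF d 0 (-κ⁻¹)) (b (i0 hn)) = b (i0 hn) := by
    rw [hact, h0d]; module
  have hg1 : actv (eich hF d 0 (-κ⁻¹)) (b (i1 hn)) = κ • b (Fin.rev (i1 hn)) := by
    rw [hact, h1d]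
    have : (-κ⁻¹) * (-κ) = 1 := by field_simp
    rw [this, hd]
    module
  -- conjugate the root element
  have hw1 : H (b (i0 hn)) ((μ * κ⁻¹) • b (i1 hn)) = 0 := by
    rw [hermForm_smul_right, huv, mul_zero]
  have hw2 : (0 : F) + 0 ^ q + H ((μ * κ⁻¹) • b (i1 hn)) ((μ * κ⁻¹) • b (i1 hn)) = 0 := by
    rw [hermForm_smul_left, hermForm_smul_right, hvv, frob_zero hF]; ring
  have hconj := eich_conj hF huu hw1 hw2 (eich hF d 0 (-κ⁻¹))
  rw [hg0, actv_smul, hg1, smul_smul] at hconj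
  have e : μ * κ⁻¹ * κ = μ := by field_simp
  rw [e] at hconj
  rw [← hconj]
  apply hK _ (root01_mem hF hb hn hKU hK hX0 (μ * κ⁻¹))
  rw [hconj]
  apply s1_eich0_mem_Usub hF hb hn
  · rw [hermForm_smul_right, s1_H0r1 hb hn, mul_zero]
  · rw [hermForm_smul_left, hermForm_smul_right, s1_Hr1r1 hb hn, frob_zero hF]; ring

end Cfsg.Agent.Helper87.PsuS1
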