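import Mathlib
import Cfsg.Agent.Lib.Helper87.PsuB0
import Cfsg.Agent.Lib.Helper87.PsuFlag
import Cfsg.Agent.Lib.Helper84.PslGrp

/-!
# S5172 lemma server, piece (S2): strongly closed subgroups of `Usub` contain all Eichler elements
(written by helper47 for helper87)
-/

set_option autoImplicit false
set_option quotPrecheck false
set_option linter.unusedSectionVars false
set_option linter.unusedVariables false

open Matrix Cfsg Cfsg.Agent.Helper13 Cfsg.Agent.Helper87.PsuA Cfsg.Agent.Helper87.PsuD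
  Cfsg.Agent.Helper87.PsuB0

variable {F : Type*} [Field F] [Fintype F] {q n : ℕ}

local notation "V" => Fin n → F
local notation "G" => ↥(Cfsg.SU n F q)
local notation "H" => Cfsg.hermForm n F q

variable (hF : Fintype.card F = q ^ 2) {b : Fin n → Fin n → F}

namespace Cfsg.Agent.Helper87.PsuS2

/-! ### index facts -/

theorem h47_i0_ne_rev (hn : 4 ≤ n) : i0 hn ≠ Fin.rev (i0 hn) := by
  intro h
  have := congrArg Fin.val h
  simp only [Fin.val_rev, i0] at this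
  omega

theorem h47_i1_ne_rev (hn : 4 ≤ n) : i1 hn ≠ Fin.rev (i1 hn) := by
  intro h
  have := congrArg Fin.val h
  simp only [Fin.val_rev, i1] at this
  omega

theorem h47_i1_ne_rev_i0 (hn : 4 ≤ n) : i1 hn ≠ Fin.rev (i0 hn) := by
  intro h
  have := congrArg Fin.val h
  simp only [Fin.val_rev, i0, i1] at this
  omega

theorem h47_i0_ne_i1 (hn : 4 ≤ n) : i0 hn ≠ i1 hn := by
  intro h
  have := congrArg Fin.val h
  simp only [i0, i1] at this
  omega

theorem h47_i0_ne_rev_i1 (hn : 4 ≤ n) : i0 hn ≠ Fin.rev (i1 hn) := by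
  intro h
  have := congrArg Fin.val h
  simp only [Fin.val_rev, i0, i1] at this
  omega

theorem h47_i1_lt_rev (hn : 4 ≤ n) : i1 hn < Fin.rev (i1 hn) := by
  rw [Fin.lt_def]
  simp only [Fin.val_rev, i1]
  omega

/-! ### the set of admissible `w` -/

/-- `w` is orthogonal to `b 0` and every `E(b 0, w, a)` lies in `K` -/
def h47_S (hn : 4 ≤ n) (K : Subgroup G) (w : V) : Prop :=
  H (b (i0 hn)) w = 0 ∧ ∀ a : F, a + a ^ q + H w w = 0 → eich hF (b (i0 hn)) w a ∈ K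

theorem h47_S_of_mem (hb : HB q b) (hn : 4 ≤ n) {K : Subgroup G}
    (hX0 : ∀ a : F, a + a ^ q = 0 → eich hF (b (i0 hn)) 0 a ∈ K) {w : V} {a0 : F}
    (huw : H (b (i0 hn)) w = 0) (ha0 : a0 + a0 ^ q + H w w = 0)
    (hmem : eich hF (b (i0 hn)) w a0 ∈ K) : h47_S hF (b := b) hn K w := by
  have huu : H (b (i0 hn)) (b (i0 hn)) = 0 := b_isotropic hb (h47_i0_ne_rev hn)
  refine ⟨huw, fun a ha => ?_⟩
  have hc : (a - a0) + (a - a0) ^ q = 0 := by
    rw [frob_sub hF]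
    linear_combination ha - ha0
  have hc' : (a - a0) + (a - a0) ^ q + H (0 : V) 0 = 0 := by
    rw [H_zero_left hF, add_zero]
    exact hc
  have h1 := eich_mul hF huu huw ha0 (H_zero_right hF _) hc'
  rw [add_zero, H_zero_left hF, sub_zero] at h1
  have e : a0 + (a - a0) = a := by ring
  rw [e] at h1
  rw [← h1]
  exact K.mul_mem hmem (hX0 _ hc)

theorem h47_S_add (hb : HB q b) (hn : 4 ≤ n) {K : Subgroup G}
    (hX0 : ∀ a : F, a + a ^ q = 0 → eich hF (b (i0 hn)) 0 a ∈ K) {w1 w2 : V}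
    (h1 : h47_S hF (b := b) hn K w1) (h2 : h47_S hF (b := b) hn K w2) :
    h47_S hF (b := b) hn K (w1 + w2) := by
  have huu : H (b (i0 hn)) (b (i0 hn)) = 0 := b_isotropic hb (h47_i0_ne_rev hn)
  obtain ⟨a1, ha1⟩ := exists_eich_param hF w1
  obtain ⟨a2, ha2⟩ := exists_eich_param hF w2
  have hm := eich_mul hF huu h1.1 ha1 h2.1 ha2
  have h3 : H (b (i0 hn)) (w1 + w2) = 0 := by
    rw [hermForm_add_right hF, h1.1, h2.1, add_zero]
  have h4 : (a1 + a2 - H w2 w1) + (a1 + a2 - H w2 w1) ^ q + H (w1 + w2) (w1 + w2) = 0 := by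
    rw [frob_sub hF, frob_add hF, hermForm_conj hF, hermForm_add_left, hermForm_add_right hF,
      hermForm_add_right hF]
    linear_combination ha1 + ha2
  refine h47_S_of_mem hF hb hn hX0 h3 h4 ?_
  rw [← hm]
  exact K.mul_mem (h1.2 a1 ha1) (h2.2 a2 ha2)

theorem h47_S_smul_b0 (hb : HB q b) (hn : 4 ≤ n) {K : Subgroup G}
    (hX0 : ∀ a : F, a + a ^ q = 0 → eich hF (b (i0 hn)) 0 a ∈ K) (c : F) :
    h47_S hF (b := b) hn K (c • b (i0 hn)) := by
  have huu : H (b (i0 hn)) (b (i0 hn)) = 0 := b_isotropic hb (h47_i0_ne_rev hn)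
  have hcc : H (c • b (i0 hn)) (c • b (i0 hn)) = 0 := by
    rw [hermForm_smul_left, hermForm_smul_right, huu, mul_zero, mul_zero]
  refine ⟨by rw [hermForm_smul_right, huu, mul_zero], fun a ha => ?_⟩
  rw [hcc, add_zero] at ha
  have ha' : a + a ^ q + H (0 : V) 0 = 0 := by
    rw [H_zero_left hF, add_zero]
    exact ha
  have h1 := eich_add_smul hF (c := c) huu (H_zero_right hF _) ha'
  rw [zero_add] at h1
  rw [h1]
  apply hX0
  rw [frob_sub hF, frob_add hF, frob_frob hF]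
  linear_combination ha


theorem h47_S_b1 (hb : HB q b) (hn : 4 ≤ n) {K : Subgroup G}
    (hX0 : ∀ a : F, a + a ^ q = 0 → eich hF (b (i0 hn)) 0 a ∈ K)
    (h01 : ∀ ν : F, eich hF (b (i0 hn)) (ν • b (i1 hn)) 0 ∈ K) (ν : F) :
    h47_S hF (b := b) hn K (ν • b (i1 hn)) := by
  have h11 : H (b (i1 hn)) (b (i1 hn)) = 0 := b_isotropic hb (h47_i1_ne_rev hn)
  have h01' : H (b (i0 hn)) (b (i1 hn)) = 0 := by
    rw [hb (i0 hn) (i1 hn), if_neg (h47_i1_ne_rev_i0 hn)]
  refine h47_S_of_mem hF hb hn hX0 (a0 := 0) ?_ ?_ (h01 ν)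
  · rw [hermForm_smul_right, h01', mul_zero]
  · rw [hermForm_smul_left, hermForm_smul_right, h11, mul_zero, mul_zero, frob_zero hF]
    ring

theorem h47_S_br1 (hb : HB q b) (hn : 4 ≤ n) {K : Subgroup G}
    (hX0 : ∀ a : F, a + a ^ q = 0 → eich hF (b (i0 hn)) 0 a ∈ K)
    (h0r1 : ∀ μ : F, eich hF (b (i0 hn)) (μ • b (Fin.rev (i1 hn))) 0 ∈ K) (μ : F) :
    h47_S hF (b := b) hn K (μ • b (Fin.rev (i1 hn))) := by
  have h11 : H (b (Fin.rev (i1 hn))) (b (Fin.rev (i1 hn))) = 0 :=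
    b_isotropic hb (by rw [Fin.rev_rev]; exact (h47_i1_ne_rev hn).symm)
  have h01' : H (b (i0 hn)) (b (Fin.rev (i1 hn))) = 0 := by
    rw [hb (i0 hn) (Fin.rev (i1 hn)), if_neg]
    intro h
    exact h47_i0_ne_i1 hn (Fin.rev_injective h).symm
  refine h47_S_of_mem hF hb hn hX0 (a0 := 0) ?_ ?_ (h0r1 μ)
  · rw [hermForm_smul_right, h01', mul_zero]
  · rw [hermForm_smul_left, hermForm_smul_right, h11, mul_zero, mul_zero, frob_zero hF]
    ring

/-- the conjugate of `E(b 0, b (rev 1), 0)` by `E(b 1, w', a')` -/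
theorem h47_S_conj (hb : HB q b) (hn : 4 ≤ n) {K : Subgroup G} (hKU : K ≤ Usub hb)
    (hK : ∀ x ∈ K, ∀ g : G, g * x * g⁻¹ ∈ Usub hb → g * x * g⁻¹ ∈ K)
    (hX0 : ∀ a : F, a + a ^ q = 0 → eich hF (b (i0 hn)) 0 a ∈ K)
    (h0r1 : ∀ μ : F, eich hF (b (i0 hn)) (μ • b (Fin.rev (i1 hn))) 0 ∈ K)
    (w' : V) (a' : F) (hw0 : co q b w' (Fin.rev (i0 hn)) = 0)
    (hw1 : co q b w' (i1 hn) = 0)
    (hw : ∀ i : Fin n, Fin.rev (i1 hn) ≤ i → co q b w' i = 0)
    (ha' : a' + a' ^ q + H w' w' = 0) :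
    h47_S hF (b := b) hn K (b (Fin.rev (i1 hn)) + w' + a' • b (i1 hn)) := by
  have h00 : H (b (i0 hn)) (b (i0 hn)) = 0 := b_isotropic hb (h47_i0_ne_rev hn)
  have hr1r1 : H (b (Fin.rev (i1 hn))) (b (Fin.rev (i1 hn))) = 0 :=
    b_isotropic hb (by rw [Fin.rev_rev]; exact (h47_i1_ne_rev hn).symm)
  have h0r1' : H (b (i0 hn)) (b (Fin.rev (i1 hn))) = 0 := by
    rw [hb (i0 hn) (Fin.rev (i1 hn)), if_neg]
    intro h
    exact h47_i0_ne_i1 hn (Fin.rev_injective h).symm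
  have hx : eich hF (b (i0 hn)) (b (Fin.rev (i1 hn))) 0 ∈ K := by
    have := h0r1 1
    rwa [one_smul] at this
  have hxa : (0 : F) + 0 ^ q + H (b (Fin.rev (i1 hn))) (b (Fin.rev (i1 hn))) = 0 := by
    rw [hr1r1, frob_zero hF]; ring
  have h1w : H (b (i1 hn)) w' = 0 := by
    rw [H_b_right hF, hw _ le_rfl, frob_zero hF]
  -- the conjugating element
  have hyU : eich hF (b (i1 hn)) w' a' ∈ Usub hb :=
    eich_mem_Usub hF hb (i1 hn) (h47_i1_lt_rev hn) w' a' hw ha'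
  have hconj := eich_conj hF h00 h0r1' hxa (eich hF (b (i1 hn)) w' a')
  have e0 : actv (eich hF (b (i1 hn)) w' a') (b (i0 hn)) = b (i0 hn) := by
    rw [eich_b hF hb (i1 hn) (h47_i1_ne_rev hn) w' a' h1w ha' (i0 hn),
      if_neg (h47_i1_ne_rev_i0 hn), hw0, frob_zero hF]
    simp
  have e1 : actv (eich hF (b (i1 hn)) w' a') (b (Fin.rev (i1 hn))) =
      b (Fin.rev (i1 hn)) + w' + a' • b (i1 hn) := by
    rw [eich_b hF hb (i1 hn) (h47_i1_ne_rev hn) w' a' h1w ha' (Fin.rev (i1 hn)),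
      if_pos (Fin.rev_rev _).symm, Fin.rev_rev, hw1, frob_zero hF]
    simp
  rw [e0, e1] at hconj
  have hmemU : eich hF (b (i1 hn)) w' a' * eich hF (b (i0 hn)) (b (Fin.rev (i1 hn))) 0 *
      (eich hF (b (i1 hn)) w' a')⁻¹ ∈ Usub hb :=
    (Usub hb).mul_mem ((Usub hb).mul_mem hyU (hKU hx)) ((Usub hb).inv_mem hyU)
  have hmemK := hK _ hx _ hmemU
  rw [hconj] at hmemK
  -- validity of the parameters of the conjugate
  have hv1 : H (b (i0 hn)) (b (Fin.rev (i1 hn)) + w' + a' • b (i1 hn)) = 0 := by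
    have := H_actv (eich hF (b (i1 hn)) w' a') (b (i0 hn)) (b (Fin.rev (i1 hn)))
    rw [e0, e1, h0r1'] at this
    exact this
  have hv2 : (0 : F) + 0 ^ q + H (b (Fin.rev (i1 hn)) + w' + a' • b (i1 hn))
      (b (Fin.rev (i1 hn)) + w' + a' • b (i1 hn)) = 0 := by
    have := H_actv (eich hF (b (i1 hn)) w' a') (b (Fin.rev (i1 hn))) (b (Fin.rev (i1 hn)))
    rw [e1, hr1r1] at this
    rw [this, frob_zero hF]; ring
  exact h47_S_of_mem hF hb hn hX0 hv1 hv2 hmemK


/-- all of `Q_1 = {E(b 0, w, a)}`: with `x = E(b 0, b (rev 1), 0) ∈ K` and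
`y = E(b 1, w', a') ∈ Usub` one has `y x y⁻¹ x⁻¹ = E(b 0, w' + a' b 1, a'^q) ∈ K`; multiply with
root elements `E(b 0, ν b 1, 0)`, `E(b 0, μ b (rev 1), 0)`, transvections `E(b 0, 0, c)`, and use
`eich_mul`, `eich_add_smul` -/
theorem Q1_mem (hb : HB q b) (hn : 4 ≤ n) {K : Subgroup G} (hKU : K ≤ Usub hb)
    (hK : ∀ x ∈ K, ∀ g : G, g * x * g⁻¹ ∈ Usub hb → g * x * g⁻¹ ∈ K)
    (hX0 : ∀ a : F, a + a ^ q = 0 → eich hF (b (i0 hn)) 0 a ∈ K)
    (h01 : ∀ ν : F, eich hF (b (i0 hn)) (ν • b (i1 hn)) 0 ∈ K)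
    (h0r1 : ∀ μ : F, eich hF (b (i0 hn)) (μ • b (Fin.rev (i1 hn))) 0 ∈ K)
    (w : V) (a : F) (huw : H (b (i0 hn)) w = 0) (ha : a + a ^ q + H w w = 0) :
    eich hF (b (i0 hn)) w a ∈ K := by
  have hq0 : q ≠ 0 := (q_pos hF).ne'
  have hcr0 : co q b w (Fin.rev (i0 hn)) = 0 := by
    rw [H_b_right hF] at huw
    exact (pow_eq_zero_iff hq0).1 huw
  set c0 := co q b w (i0 hn) with hc0
  set c1 := co q b w (i1 hn) with hc1
  set cr := co q b w (Fin.rev (i1 hn)) with hcr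
  set w' : V := w - c0 • b (i0 hn) - c1 • b (i1 hn) - cr • b (Fin.rev (i1 hn)) with hw'
  have hco : ∀ i : Fin n, co q b w' i = co q b w i - c0 * (if i = i0 hn then 1 else 0)
      - c1 * (if i = i1 hn then 1 else 0) - cr * (if i = Fin.rev (i1 hn) then 1 else 0) := by
    intro i
    rw [hw', co_sub hF, co_sub hF, co_sub hF, co_smul, co_smul, co_smul, co_b hb, co_b hb,
      co_b hb]
  have hw0 : co q b w' (Fin.rev (i0 hn)) = 0 := by
    rw [hco, hcr0, if_neg (h47_i0_ne_rev hn).symm, if_neg (h47_i1_ne_rev_i0 hn).symm, if_neg]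
    · ring
    · intro h
      exact h47_i0_ne_i1 hn (Fin.rev_injective h)
  have hw1 : co q b w' (i1 hn) = 0 := by
    rw [hco, if_neg (h47_i0_ne_i1 hn).symm, if_pos rfl, if_neg (h47_i1_ne_rev hn)]
    ring
  have hwr1 : co q b w' (Fin.rev (i1 hn)) = 0 := by
    rw [hco, if_neg (h47_i0_ne_rev_i1 hn).symm, if_neg (h47_i1_ne_rev hn).symm, if_pos rfl]
    ring
  have hw : ∀ i : Fin n, Fin.rev (i1 hn) ≤ i → co q b w' i = 0 := by
    intro i hi
    have hi' : (Fin.rev (i1 hn) : ℕ) ≤ (i : ℕ) := hi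
    have hv1 : ((Fin.rev (i1 hn) : Fin n) : ℕ) = n - 2 := by
      simp only [Fin.val_rev, i1]
    have hv0 : ((Fin.rev (i0 hn) : Fin n) : ℕ) = n - 1 := by
      simp only [Fin.val_rev, i0]
    have hlt := i.2
    have : i = Fin.rev (i1 hn) ∨ i = Fin.rev (i0 hn) := by
      rcases Nat.lt_or_ge (i : ℕ) (n - 1) with h | h
      · left
        apply Fin.ext
        omega
      · right
        apply Fin.ext
        omega
    rcases this with rfl | rfl
    · exact hwr1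
    · exact hw0
  obtain ⟨a', ha'⟩ := exists_eich_param hF w'
  have s1 := h47_S_conj hF hb hn hKU hK hX0 h0r1 w' a' hw0 hw1 hw ha'
  have s2 := h47_S_b1 hF hb hn hX0 h01 (c1 - a')
  have s3 := h47_S_br1 hF hb hn hX0 h0r1 (cr - 1)
  have s4 := h47_S_smul_b0 hF hb hn (K := K) hX0 c0
  have s := h47_S_add hF hb hn hX0 (h47_S_add hF hb hn hX0 (h47_S_add hF hb hn hX0 s1 s2) s3) s4
  have e : b (Fin.rev (i1 hn)) + w' + a' • b (i1 hn) + (c1 - a') • b (i1 hn)
      + (cr - 1) • b (Fin.rev (i1 hn)) + c0 • b (i0 hn) = w := by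
    rw [hw']
    module
  rw [e] at s
  exact s.2 a ha


include hF in
/-- a single transvection moves `x` to `y` when `y - x` is isotropic and not orthogonal to `x` -/
theorem h47_move (x y : V) (hnorm : H x x = H y y) (hdd : H (y - x) (y - x) = 0)
    (hxd : H x (y - x) ≠ 0) : ∃ g : G, actv g x = y := by
  set d : V := y - x with hd
  set c : F := H x d with hc
  have hdx : H d x = c ^ q := (hermForm_conj hF x d).symm
  have hsum : c + c ^ q = 0 := by
    have e : y = x + d := by rw [hd]; abel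
    have h1 : H y y = H x x + c + c ^ q + H d d := by
      conv_lhs => rw [e]
      rw [hermForm_add_left, hermForm_add_right hF, hermForm_add_right hF, ← hc, hdx]
      ring
    rw [hdd, ← hnorm] at h1
    linear_combination -h1
  have hcq : c ^ q ≠ 0 := pow_ne_zero _ hxd
  have ha : c⁻¹ + (c⁻¹) ^ q + H (0 : V) 0 = 0 := by
    rw [H_zero_left hF, add_zero, inv_pow]
    field_simp
    linear_combination hsum
  refine ⟨eich hF d 0 c⁻¹, ?_⟩
  rw [eich_act hF hdd (H_zero_right hF d) ha, H_zero_right hF, ← hc, inv_mul_cancel₀ hxd]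
  rw [hd]
  module

include hF in
/-- `SU` moves `b 0` to `b k` (two transvections: `b 0 ↦ κ t ↦ b k`, `t = b (rev 0) + b (rev k)`,
e.g. with `Helper13.conn_move`) -/
theorem exists_map_b0 (hb : HB q b) (hn : 4 ≤ n) (k : Fin n) (hk : k < Fin.rev k) :
    ∃ g : G, actv g (b (i0 hn)) = b k := by
  by_cases hk0 : k = i0 hn
  · exact ⟨1, by rw [hk0, actv_one]⟩
  obtain ⟨κ, hκ0, hκ⟩ := exists_kappa hF
  -- index facts
  have hkr : k ≠ Fin.rev k := hk.ne
  have h0r : i0 hn ≠ Fin.rev (i0 hn) := h47_i0_ne_rev hn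
  have hk_r0 : k ≠ Fin.rev (i0 hn) := by
    intro h
    have h1 : (k : ℕ) < (Fin.rev k : ℕ) := hk
    have h2 := congrArg Fin.val h
    simp only [Fin.val_rev, i0] at h1 h2
    omega
  have h0_rk : i0 hn ≠ Fin.rev k := by
    intro h
    apply hk_r0
    rw [h, Fin.rev_rev]
  -- values of the form
  have H00 : H (b (i0 hn)) (b (i0 hn)) = 0 := b_isotropic hb h0r
  have Hkk : H (b k) (b k) = 0 := b_isotropic hb hkr
  set t : V := b (Fin.rev (i0 hn)) + b (Fin.rev k) with ht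
  have H0t : H (b (i0 hn)) t = 1 := by
    rw [ht, hermForm_add_right hF, hb, hb, if_pos rfl, if_neg]
    · ring
    · intro h
      exact hk0 (Fin.rev_injective h)
  have Ht0 : H t (b (i0 hn)) = 1 := by
    rw [← hermForm_conj hF, H0t, one_pow]
  have Hkt : H (b k) t = 1 := by
    rw [ht, hermForm_add_right hF, hb, hb, if_pos rfl, if_neg]
    · ring
    · intro h
      exact hk0 (Fin.rev_injective h).symm
  have Htk : H t (b k) = 1 := by
    rw [← hermForm_conj hF, Hkt, one_pow]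
  have Htt : H t t = 0 := by
    have e1 : H (b (Fin.rev (i0 hn))) (b (Fin.rev (i0 hn))) = 0 :=
      b_isotropic hb (by rw [Fin.rev_rev]; exact h0r.symm)
    have e2 : H (b (Fin.rev k)) (b (Fin.rev k)) = 0 :=
      b_isotropic hb (by rw [Fin.rev_rev]; exact hkr.symm)
    have e3 : H (b (Fin.rev (i0 hn))) (b (Fin.rev k)) = 0 := by
      rw [hb, if_neg]
      rw [Fin.rev_rev]
      exact fun h => h0_rk h.symm
    have e4 : H (b (Fin.rev k)) (b (Fin.rev (i0 hn))) = 0 := by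
      rw [hb, if_neg]
      rw [Fin.rev_rev]
      exact fun h => hk_r0 h.symm
    rw [ht, hermForm_add_left, hermForm_add_right hF, hermForm_add_right hF, e1, e2, e3, e4]
    ring
  have Hκt : H (κ • t) (κ • t) = 0 := by
    rw [hermForm_smul_left, hermForm_smul_right, Htt, mul_zero, mul_zero]
  have hκq : κ ^ q ≠ 0 := pow_ne_zero _ hκ0
  -- first move: `b 0 ↦ κ t`
  obtain ⟨g1, hg1⟩ := h47_move hF (b (i0 hn)) (κ • t) (by rw [H00, Hκt])
    (by
      rw [H_sub_left hF, H_sub_right hF, H_sub_right hF, Hκt, H00, hermForm_smul_left,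
        hermForm_smul_right, Ht0, H0t]
      linear_combination -hκ)
    (by
      rw [H_sub_right hF, hermForm_smul_right, H0t, H00]
      simpa using hκq)
  -- second move: `b k ↦ κ t`
  obtain ⟨g2, hg2⟩ := h47_move hF (b k) (κ • t) (by rw [Hkk, Hκt])
    (by
      rw [H_sub_left hF, H_sub_right hF, H_sub_right hF, Hκt, Hkk, hermForm_smul_left,
        hermForm_smul_right, Htk, Hkt]
      linear_combination -hκ)
    (by
      rw [H_sub_right hF, hermForm_smul_right, Hkt, Hkk]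
      simpa using hκq)
  refine ⟨g2⁻¹ * g1, ?_⟩
  rw [actv_mul, hg1]
  exact actv_inv g2 _ _ hg2

/-- all Eichler elements of `Usub` (conjugate `Q1_mem` by `exists_map_b0`) -/
theorem eich_mem_of_Q1 (hb : HB q b) (hn : 4 ≤ n) {K : Subgroup G}
    (hK : ∀ x ∈ K, ∀ g : G, g * x * g⁻¹ ∈ Usub hb → g * x * g⁻¹ ∈ K)
    (hQ1 : ∀ (w : V) (a : F), H (b (i0 hn)) w = 0 → a + a ^ q + H w w = 0 →
      eich hF (b (i0 hn)) w a ∈ K)
    (k : Fin n) (hk : k < Fin.rev k) (w : V) (a : F)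
    (hw : ∀ i : Fin n, Fin.rev k ≤ i → co q b w i = 0) (ha : a + a ^ q + H w w = 0) :
    eich hF (b k) w a ∈ K := by
  obtain ⟨g, hg⟩ := exists_map_b0 hF hb hn k hk
  have H00 : H (b (i0 hn)) (b (i0 hn)) = 0 := b_isotropic hb (h47_i0_ne_rev hn)
  have hkw : H (b k) w = 0 := by
    rw [H_b_right hF, hw _ le_rfl, frob_zero hF]
  have h1 : H (b (i0 hn)) (actv g⁻¹ w) = 0 := by
    rw [H_actv_inv', hg, hkw]
  have h2 : a + a ^ q + H (actv g⁻¹ w) (actv g⁻¹ w) = 0 := by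
    rw [H_actv]
    exact ha
  have hx := hQ1 (actv g⁻¹ w) a h1 h2
  have hconj := eich_conj hF H00 h1 h2 g
  rw [hg, actv_actv_inv] at hconj
  have hU : eich hF (b k) w a ∈ Usub hb := eich_mem_Usub hF hb k hk w a hw ha
  have := hK _ hx g (by rw [hconj]; exact hU)
  rwa [hconj] at this

end Cfsg.Agent.Helper87.PsuS2
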