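import Mathlib
import Cfsg.Agent.Lib.Helper87.PsuB0

/-!
# S5172 lemma server (helper87), piece (S8): `Usub` is generated by Eichler elements
(peeling the columns `b (rev k)`, `k = 0, 1, ...`).  Delivered by helper66.
-/

set_option autoImplicit false
set_option quotPrecheck false
set_option linter.unusedSectionVars false
set_option linter.unusedVariables false

open Matrix Cfsg Cfsg.Agent.Helper13 Cfsg.Agent.Helper87.PsuA Cfsg.Agent.Helper87.PsuD
  Cfsg.Agent.Helper87.PsuB0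

variable {F : Type*} [Field F] [Fintype F] {q n : ℕ}

local notation "V" => Fin n → F
local notation "G" => ↥(Cfsg.SU n F q)
local notation "H" => Cfsg.hermForm n F q

variable (hF : Fintype.card F = q ^ 2) {b : Fin n → Fin n → F}

namespace Cfsg.Agent.Helper87.PsuS8

/-- if `g` fixes `b (rev j)` then row `j` of `g` is trivial -/
theorem s8_row (hb : HB q b) (g : G) (j : Fin n)
    (hfix : actv g (b (Fin.rev j)) = b (Fin.rev j)) (i : Fin n) :
    co q b (actv g (b i)) j = if j = i then 1 else 0 := by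
  unfold co
  have h1 : H (actv g (b i)) (b (Fin.rev j)) = H (actv g (b i)) (actv g (b (Fin.rev j))) := by
    rw [hfix]
  rw [h1, H_actv, hb i (Fin.rev j)]
  simp only [Fin.rev_inj]

include hF in
theorem s8_peel (hb : HB q b) : ∀ (d k : ℕ), k + d = n → ∀ g : G, g ∈ Usub hb →
    (∀ j : Fin n, (j : ℕ) < k → actv g (b (Fin.rev j)) = b (Fin.rev j)) →
    g ∈ Subgroup.closure {x : G | ∃ (k : Fin n) (w : V) (a : F), k < Fin.rev k ∧
      (∀ i : Fin n, Fin.rev k ≤ i → co q b w i = 0) ∧ a + a ^ q + H w w = 0 ∧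
      x = eich hF (b k) w a} := by
  intro d
  induction d with
  | zero =>
    intro k hk g hg hfix
    have h1 : g = 1 := by
      apply ext_b hb
      intro i
      rw [actv_one]
      have h2 := hfix (Fin.rev i) (by
        have := (Fin.rev i).2
        omega)
      rwa [Fin.rev_rev] at h2
    rw [h1]; exact Subgroup.one_mem _
  | succ d ih =>
    intro k hk g hg hfix
    have hkn : k < n := by omega
    have hU := (mem_Usub_iff hb).1 hg
    have hwco : ∀ i : Fin n, (Fin.rev (⟨k, hkn⟩ : Fin n) ≤ i ∨ (i : ℕ) < k) →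
        co q b (actv g (b (Fin.rev (⟨k, hkn⟩ : Fin n))) - b (Fin.rev (⟨k, hkn⟩ : Fin n))) i = 0 := by
      intro i hi
      rw [co_sub hF, co_b hb]
      rcases hi with hi | hi
      · rw [hU i _ hi]; ring
      · rw [s8_row hb g i (hfix i hi)]; ring
    by_cases hlt : (⟨k, hkn⟩ : Fin n) < Fin.rev (⟨k, hkn⟩ : Fin n)
    · -- peel the column `rev k`
      have hrr : Fin.rev (Fin.rev (⟨k, hkn⟩ : Fin n)) = ⟨k, hkn⟩ := Fin.rev_rev _
      have hkne : (⟨k, hkn⟩ : Fin n) ≠ Fin.rev (⟨k, hkn⟩ : Fin n) := hlt.ne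
      have hwc : ∀ i : Fin n, Fin.rev (⟨k, hkn⟩ : Fin n) ≤ i →
          co q b (actv g (b (Fin.rev (⟨k, hkn⟩ : Fin n))) - b (Fin.rev (⟨k, hkn⟩ : Fin n))) i = 0 :=
        fun i hi => hwco i (Or.inl hi)
      have huw : H (b (⟨k, hkn⟩ : Fin n))
          (actv g (b (Fin.rev (⟨k, hkn⟩ : Fin n))) - b (Fin.rev (⟨k, hkn⟩ : Fin n))) = 0 := by
        rw [H_b_right hF, hwc _ le_rfl, frob_zero hF]
      have hgc : actv g (b (Fin.rev (⟨k, hkn⟩ : Fin n))) = b (Fin.rev (⟨k, hkn⟩ : Fin n)) +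
          (actv g (b (Fin.rev (⟨k, hkn⟩ : Fin n))) - b (Fin.rev (⟨k, hkn⟩ : Fin n))) := by abel
      have hcc : H (b (Fin.rev (⟨k, hkn⟩ : Fin n))) (b (Fin.rev (⟨k, hkn⟩ : Fin n))) = 0 := by
        rw [hb _ _, if_neg]
        rw [hrr]; exact hlt.ne'
      have hpar : (co q b (actv g (b (Fin.rev (⟨k, hkn⟩ : Fin n))) -
            b (Fin.rev (⟨k, hkn⟩ : Fin n))) ⟨k, hkn⟩) ^ q +
          ((co q b (actv g (b (Fin.rev (⟨k, hkn⟩ : Fin n))) -
            b (Fin.rev (⟨k, hkn⟩ : Fin n))) ⟨k, hkn⟩) ^ q) ^ q +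
          H (actv g (b (Fin.rev (⟨k, hkn⟩ : Fin n))) - b (Fin.rev (⟨k, hkn⟩ : Fin n)))
            (actv g (b (Fin.rev (⟨k, hkn⟩ : Fin n))) - b (Fin.rev (⟨k, hkn⟩ : Fin n))) = 0 := by
        have h1 : H (actv g (b (Fin.rev (⟨k, hkn⟩ : Fin n))))
            (actv g (b (Fin.rev (⟨k, hkn⟩ : Fin n)))) = 0 := by rw [H_actv, hcc]
        generalize hwdef : actv g (b (Fin.rev (⟨k, hkn⟩ : Fin n))) -
          b (Fin.rev (⟨k, hkn⟩ : Fin n)) = w at hgc ⊢
        rw [hgc, hermForm_add_left, hermForm_add_right hF, hermForm_add_right hF, hcc,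
          H_b_right hF, H_b_left, hrr] at h1
        rw [frob_frob hF]
        linear_combination h1
      generalize hwdef : actv g (b (Fin.rev (⟨k, hkn⟩ : Fin n))) -
        b (Fin.rev (⟨k, hkn⟩ : Fin n)) = w at hwco hwc huw hgc hpar
      generalize hadef : (co q b w ⟨k, hkn⟩) ^ q = a at hpar
      have hEX : eich hF (b (⟨k, hkn⟩ : Fin n)) w a ∈
          {x : G | ∃ (k : Fin n) (w : V) (a : F), k < Fin.rev k ∧
            (∀ i : Fin n, Fin.rev k ≤ i → co q b w i = 0) ∧ a + a ^ q + H w w = 0 ∧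
            x = eich hF (b k) w a} := ⟨⟨k, hkn⟩, w, a, hlt, hwc, hpar, rfl⟩
      have hEU : eich hF (b (⟨k, hkn⟩ : Fin n)) w a ∈ Usub hb :=
        eich_mem_Usub hF hb ⟨k, hkn⟩ hlt w a hwc hpar
      have hEc : actv (eich hF (b (⟨k, hkn⟩ : Fin n)) w a) (b (Fin.rev (⟨k, hkn⟩ : Fin n))) =
          b (Fin.rev (⟨k, hkn⟩ : Fin n)) + w := by
        rw [eich_b hF hb ⟨k, hkn⟩ hkne w a huw hpar (Fin.rev (⟨k, hkn⟩ : Fin n)), hrr, if_pos rfl,
          hadef]
        module
      have hEfix : ∀ j : Fin n, (j : ℕ) < k →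
          actv (eich hF (b (⟨k, hkn⟩ : Fin n)) w a) (b (Fin.rev j)) = b (Fin.rev j) := by
        intro j hj
        rw [eich_b hF hb ⟨k, hkn⟩ hkne w a huw hpar (Fin.rev j), Fin.rev_rev]
        have hne : (⟨k, hkn⟩ : Fin n) ≠ j := by
          intro h
          rw [← h] at hj
          exact absurd hj (lt_irrefl _)
        rw [if_neg hne, hwco j (Or.inr hj), frob_zero hF]
        module
      have hg' : (eich hF (b (⟨k, hkn⟩ : Fin n)) w a)⁻¹ * g ∈ Usub hb :=
        mul_mem (inv_mem hEU) hg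
      have hfix' : ∀ j : Fin n, (j : ℕ) < k + 1 →
          actv ((eich hF (b (⟨k, hkn⟩ : Fin n)) w a)⁻¹ * g) (b (Fin.rev j)) = b (Fin.rev j) := by
        intro j hj
        rw [actv_mul]
        rcases Nat.lt_succ_iff_lt_or_eq.1 hj with h | h
        · rw [hfix j h]
          have h3 := actv_inv_actv (eich hF (b (⟨k, hkn⟩ : Fin n)) w a) (b (Fin.rev j))
          rwa [hEfix j h] at h3
        · have h4 : j = ⟨k, hkn⟩ := Fin.ext h
          rw [h4, hgc, ← hEc, actv_inv_actv]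
      have h5 := ih (k + 1) (by omega) _ hg' hfix'
      have e : g = eich hF (b (⟨k, hkn⟩ : Fin n)) w a *
          ((eich hF (b (⟨k, hkn⟩ : Fin n)) w a)⁻¹ * g) := by group
      rw [e]
      exact mul_mem (Subgroup.subset_closure hEX) h5
    · -- `g` already fixes `b (rev k)`
      have hw0 : actv g (b (Fin.rev (⟨k, hkn⟩ : Fin n))) - b (Fin.rev (⟨k, hkn⟩ : Fin n)) = 0 := by
        apply ext_co hb
        intro i
        rw [co_zero hF]
        apply hwco
        by_cases h : Fin.rev (⟨k, hkn⟩ : Fin n) ≤ i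
        · left; exact h
        · right
          have h1 : i < Fin.rev (⟨k, hkn⟩ : Fin n) := not_le.1 h
          have h2 : Fin.rev (⟨k, hkn⟩ : Fin n) ≤ ⟨k, hkn⟩ := not_lt.1 hlt
          have h3 : i < (⟨k, hkn⟩ : Fin n) := lt_of_lt_of_le h1 h2
          exact h3
      have hfixc : actv g (b (Fin.rev (⟨k, hkn⟩ : Fin n))) = b (Fin.rev (⟨k, hkn⟩ : Fin n)) :=
        sub_eq_zero.1 hw0
      apply ih (k + 1) (by omega) g hg
      intro j hj
      rcases Nat.lt_succ_iff_lt_or_eq.1 hj with h | h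
      · exact hfix j h
      · have h4 : j = ⟨k, hkn⟩ := Fin.ext h
        rw [h4]; exact hfixc

theorem Usub_le_closure (hb : HB q b) :
    Usub hb ≤ Subgroup.closure {x : G | ∃ (k : Fin n) (w : V) (a : F), k < Fin.rev k ∧
      (∀ i : Fin n, Fin.rev k ≤ i → co q b w i = 0) ∧ a + a ^ q + H w w = 0 ∧
      x = eich hF (b k) w a} := by
  intro g hg
  exact s8_peel hF hb n 0 (by omega) g hg (fun j hj => absurd hj (Nat.not_lt_zero _))

end Cfsg.Agent.Helper87.PsuS8
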