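import Mathlib
import Cfsg.Agent.Lib.Helper87.PsuB0
import Cfsg.Agent.Lib.Helper87.PsuB
import Cfsg.Agent.Lib.Helper87.PsuC1
import Cfsg.Agent.Lib.Helper87.PsuC2
import Cfsg.Agent.Lib.Helper87.PsuC3
import Cfsg.Agent.Lib.Helper87.PsuH
import Cfsg.Agent.Lib.Helper87.PsuE
import Cfsg.Agent.Lib.Helper87.PsuE52
import Cfsg.Agent.Lib.Helper87.PsuS8
import Cfsg.Agent.Lib.Helper87.PsuS1
import Cfsg.Agent.Lib.Helper87.PsuS2
import Cfsg.Agent.Lib.Helper87.PsuHB
import Cfsg.Agent.Lib.Helper87.PsuQuot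
import Cfsg.Agent.Lib.Helper84.PslCrit
import Cfsg.Agent.Lib.Helper5.SUCenter

/-!
# The fusion system of `PSU_n(q)` in the defining characteristic is simple (`n ≥ 4`)
-/

set_option autoImplicit false
set_option linter.unusedSectionVars false
set_option linter.unusedSimpArgs false
set_option linter.unusedVariables false
set_option quotPrecheck false
set_option linter.unreachableTactic false
set_option linter.unusedTactic false

namespace Cfsg.Agent.Helper87.PsuF

open Matrix Cfsg Cfsg.Agent.Helper13 Cfsg.Agent.Helper87.PsuA Cfsg.Agent.Helper87.PsuD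
  Cfsg.Agent.Helper87.PsuB0 Cfsg.Agent.Helper84.PslGrp

variable {F : Type*} [Field F] [Fintype F] {q n : ℕ}

local notation "V" => Fin n → F
local notation "G" => ↥(Cfsg.SU n F q)
local notation "H" => Cfsg.hermForm n F q

variable (hF : Fintype.card F = q ^ 2) {b : Fin n → Fin n → F}

/-! ### small facts -/

theorem rev_i0_le (hn : 4 ≤ n) (i : Fin n) : i ≤ Fin.rev (i0 hn) := by
  rw [Fin.le_def, Fin.val_rev]
  have := i.2
  simp only [i0]
  omega

include hF in
theorem co_last_of_perp (hn : 4 ≤ n) {w : V} (huw : H (b (i0 hn)) w = 0) (i : Fin n)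
    (hi : Fin.rev (i0 hn) ≤ i) : co q b w i = 0 := by
  have e : i = Fin.rev (i0 hn) := le_antisymm (rev_i0_le hn i) hi
  rw [e]
  unfold co
  rw [Fin.rev_rev]
  exact H_symm_zero hF huw

include hF in
/-- `Q_1`-elements are unitriangular -/
theorem eich0_mem_Usub (hb : HB q b) (hn : 4 ≤ n) {w : V} {a : F} (huw : H (b (i0 hn)) w = 0)
    (ha : a + a ^ q + H w w = 0) : eich hF (b (i0 hn)) w a ∈ Usub hb := by
  apply eich_mem_Usub hF hb (i0 hn) _ w a (co_last_of_perp hF hn huw) ha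
  rw [Fin.lt_def, Fin.val_rev]
  simp only [i0]
  omega

theorem i0_ne_rev (hn : 4 ≤ n) : i0 hn ≠ Fin.rev (i0 hn) := by
  intro h
  have := congrArg Fin.val h
  rw [Fin.val_rev] at this
  simp only [i0] at this
  omega

theorem i1_ne_rev (hn : 4 ≤ n) : i1 hn ≠ Fin.rev (i1 hn) := by
  intro h
  have := congrArg Fin.val h
  rw [Fin.val_rev] at this
  simp only [i1] at this
  omega

/-- unitriangular elements fix `b 0` -/
theorem Usub_fix_b0 (hb : HB q b) (hn : 4 ≤ n) {g : G} (hg : g ∈ Usub hb) :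
    actv g (b (i0 hn)) = b (i0 hn) := by
  apply ext_co hb
  intro i
  rw [(mem_Usub_iff hb).1 hg i (i0 hn) (by rw [Fin.le_def]; simp [i0]), co_b hb]

include hF in
/-- upper triangular elements scale `b 0` -/
theorem Bsub_b0 (hb : HB q b) (hn : 4 ≤ n) {g : G} (hg : g ∈ Bsub hb) :
    actv g (b (i0 hn)) = co q b (actv g (b (i0 hn))) (i0 hn) • b (i0 hn) := by
  apply ext_co hb
  intro i
  rw [co_smul, co_b hb]
  by_cases h : i = i0 hn
  · rw [if_pos h, mul_one, h]
  · rw [if_neg h, mul_zero]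
    apply (mem_Bsub_iff hb).1 hg i (i0 hn)
    rw [Fin.lt_def]
    have : (i : ℕ) ≠ 0 := fun h0 => h (Fin.ext h0)
    simp only [i0]
    omega

theorem orderOf_of_isPGroup {Γ : Type*} [Group Γ] {p : ℕ} [hp : Fact p.Prime] {P : Subgroup Γ}
    (hP : IsPGroup p P) {x : Γ} (hx : x ∈ P) : ∃ m : ℕ, orderOf x = p ^ m := by
  obtain ⟨k, hk⟩ := hP ⟨x, hx⟩
  have hk' : x ^ (p ^ k) = 1 := by
    have := congrArg Subtype.val hk
    simpa using this
  obtain ⟨m, -, hm⟩ := (Nat.dvd_prime_pow hp.out).1 (orderOf_dvd_of_pow_eq_one hk')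
  exact ⟨m, hm⟩

/-! ### the main theorem for `SU_n` -/

section main

variable (hb : HB q b) (hn : 4 ≤ n) (p : ℕ) [Fact p.Prime] [CharP F p]

include hF hb hn

theorem xp_mem_PG (t : F) : xp hF b hn t ∈ PG p (RW hF b) := by
  apply Subgroup.subset_closure
  refine ⟨PsuC2.mem_normalizer_RW hF hb (PsuH.xp_stab_W hF hb hn t), ?_⟩
  have hu := b_isotropic hb (i0_ne_rev hn)
  have h1 : H (b (i0 hn)) ((-(t ^ q)) • b (Fin.rev (i1 hn))) = 0 := by
    rw [hermForm_smul_right, hb (i0 hn), if_neg, mul_zero]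
    intro h
    have := congrArg Fin.val (Fin.rev_injective h)
    simp [i0, i1] at this
  have h2 : (0 : F) + 0 ^ q + H ((-(t ^ q)) • b (Fin.rev (i1 hn)))
      ((-(t ^ q)) • b (Fin.rev (i1 hn))) = 0 := by
    rw [hermForm_smul_left, hermForm_smul_right, hb (Fin.rev (i1 hn)), if_neg, frob_zero hF]
    · ring
    · rw [Fin.rev_rev]
      exact (i1_ne_rev hn).symm
  exact PsuH.eich_orderOf hF p hu h1 h2

theorem xm_mem_PG (t : F) : xm hF b hn t ∈ PG p (RW hF b) := by
  apply Subgroup.subset_closure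
  refine ⟨PsuC2.mem_normalizer_RW hF hb (PsuH.xm_stab_W hF hb hn t), ?_⟩
  have hu := b_isotropic hb (i1_ne_rev hn)
  have h1 : H (b (i1 hn)) ((-(t ^ q)) • b (Fin.rev (i0 hn))) = 0 := by
    rw [hermForm_smul_right, hb (i1 hn), if_neg, mul_zero]
    intro h
    have := congrArg Fin.val (Fin.rev_injective h)
    simp [i0, i1] at this
  have h2 : (0 : F) + 0 ^ q + H ((-(t ^ q)) • b (Fin.rev (i0 hn)))
      ((-(t ^ q)) • b (Fin.rev (i0 hn))) = 0 := by
    rw [hermForm_smul_left, hermForm_smul_right, hb (Fin.rev (i0 hn)), if_neg, frob_zero hF]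
    · ring
    · rw [Fin.rev_rev]
      exact (i0_ne_rev hn).symm
  exact PsuH.eich_orderOf hF p hu h1 h2

theorem hel_mem_PG (s : F) : hel hF b hn s ∈ PG p (RW hF b) := by
  unfold hel
  exact Subgroup.mul_mem _ (Subgroup.mul_mem _ (Subgroup.mul_mem _ (xp_mem_PG hF hb hn p _)
    (xm_mem_PG hF hb hn p _)) (xp_mem_PG hF hb hn p _)) (xm_mem_PG hF hb hn p _)

/-- elements fixing `b 0` normalize `Qv (b 0)` -/
theorem fix_mem_normalizer_Qv {g : G} (hg : actv g (b (i0 hn)) = b (i0 hn)) :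
    g ∈ Subgroup.normalizer ((Qv q (b (i0 hn)) : Subgroup G) : Set G) :=
  PsuC1.mem_normalizer_Qv hF (b_ne_zero hF hb _) (c := 1) (by rw [hg, one_smul])

theorem Usub_le_PG_Qv : Usub hb ≤ PG p (Qv q (b (i0 hn))) := by
  intro u hu
  apply Subgroup.subset_closure
  exact ⟨fix_mem_normalizer_Qv hF hb hn (Usub_fix_b0 hb hn hu),
    orderOf_of_isPGroup (PsuB.isPGroup_Usub hF hb p) hu⟩

/-- the part of the normalizer fixing `b 0` and `b (rev 0)` -/
theorem fix_decomp {g : G} (hgB : g ∈ Bsub hb) (h0 : actv g (b (i0 hn)) = b (i0 hn))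
    (hl : actv g (b (Fin.rev (i0 hn))) = b (Fin.rev (i0 hn))) :
    ∃ z u : G, g = z * u ∧ z ∈ Bsub hb ∧ z ∈ PG p (Qv q (b (i0 hn))) ∧ u ∈ Usub hb := by
  by_cases h52 : n = 5 ∧ q = 2
  · exact PsuE52.fix_decomp_52 hF hb hn h52.1 h52.2 p hgB h0 hl
  · refine ⟨g, 1, (mul_one g).symm, hgB, ?_, Subgroup.one_mem _⟩
    have h1 := PsuE.fix_mem_closure_tv hF hb hn h52 h0 hl
    refine (Subgroup.closure_le _).2 ?_ h1
    rintro x ⟨u, a, huu, ha, hu0, rfl⟩
    apply Subgroup.subset_closure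
    refine ⟨fix_mem_normalizer_Qv hF hb hn ?_, ?_⟩
    · rw [eich_act hF huu (H_zero_right hF u) (by rw [H_zero_right hF, add_zero]; exact ha),
        H_symm_zero hF hu0, H_zero_right hF]
      simp
    · exact PsuH.eich_orderOf hF p huu (H_zero_right hF u)
        (by rw [H_zero_right hF, add_zero]; exact ha)

theorem su_simple (S : Sylow p G) (hS : (S : Subgroup G) = Usub hb) :
    (groupFusionSystem (S : Subgroup G)).IsSimple p := by
  have hUp : IsPGroup p (Usub hb) := PsuB.isPGroup_Usub hF hb p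
  have hi0 := b_isotropic hb (i0_ne_rev hn)
  -- the two good subgroups
  have hQS : Qv q (b (i0 hn)) ≤ (S : Subgroup G) := by
    rw [hS]; exact PsuC1.Qv_le_Usub hF hb hn
  have hQfn : (groupFusionSystem (S : Subgroup G)).IsFullyNormalized (Qv q (b (i0 hn))) := by
    apply fullyNormalized_of_normal S hQS
    rw [hS]
    intro u hu
    exact fix_mem_normalizer_Qv hF hb hn (Usub_fix_b0 hb hn hu)
  have hQc : (groupFusionSystem (S : Subgroup G)).IsCentric (Qv q (b (i0 hn))) :=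
    PsuC3.centric_of_pcentralizer S.isPGroup' hQS (fun x hx hc => PsuC1.Qv_pcentral hF hb hn p hx hc)
  have hRS : RW hF b ≤ (S : Subgroup G) := by
    rw [hS]; exact PsuC2.RW_le_Usub hF hb
  have hRfn : (groupFusionSystem (S : Subgroup G)).IsFullyNormalized (RW hF b) := by
    apply fullyNormalized_of_normal S hRS
    rw [hS]
    intro u hu
    exact PsuC2.mem_normalizer_RW hF hb (PsuC2.Bsub_stab_W hF hb (Usub_le_Bsub hb hu))
  have hRc : (groupFusionSystem (S : Subgroup G)).IsCentric (RW hF b) :=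
    PsuC3.centric_of_pcentralizer S.isPGroup' hRS (fun x hx hc => PsuC2.RW_pcentral hF hb hn p hx hc)
  apply Cfsg.Agent.Helper84.PslCrit.simple_crit S
  · -- `S ≠ ⊥`
    obtain ⟨κ, hκ0, hκ⟩ := exists_kappa hF
    intro hbot
    have hmem : eich hF (b (i0 hn)) 0 κ ∈ (S : Subgroup G) := by
      rw [hS]
      exact eich0_mem_Usub hF hb hn (H_zero_right hF _) (by rw [H_zero_right hF, add_zero]; exact hκ)
    rw [hbot, Subgroup.mem_bot] at hmem
    have h1 := eich_act hF hi0 (H_zero_right hF _)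
      (by rw [H_zero_right hF, add_zero]; exact hκ) (b (Fin.rev (i0 hn)))
    rw [hmem, actv_one, hb (Fin.rev (i0 hn)) (i0 hn), if_pos (Fin.rev_rev _).symm,
      H_zero_right hF] at h1
    have h2 : (κ * 1) • b (i0 hn) = 0 := by
      have h3 : b (Fin.rev (i0 hn)) = b (Fin.rev (i0 hn)) + (κ * 1) • b (i0 hn) :=
        h1.trans (by module)
      exact left_eq_add.1 h3
    rcases smul_eq_zero.1 h2 with h | h
    · exact hκ0 (by simpa using h)
    · exact b_ne_zero hF hb _ h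
  · -- strongly closed subgroups
    intro T hT
    by_cases hT1 : T = ⊥
    · left; exact hT1
    right
    have hTS : T ≤ (S : Subgroup G) := hT.1
    apply le_antisymm hTS
    obtain ⟨z, hzT, hz1, hzc⟩ := exists_central_of_stronglyClosed S.isPGroup' hT hT1
    have hKU : T ≤ Usub hb := by rw [← hS]; exact hTS
    have hK : ∀ x ∈ T, ∀ g : G, g * x * g⁻¹ ∈ Usub hb → g * x * g⁻¹ ∈ T := by
      intro x hx g hg
      exact conj_mem_of_stronglyClosed hT hx g (by rw [hS]; exact hg)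
    obtain ⟨a0, ha0, rfl⟩ := PsuS1.center_eq_transvection hF hb hn (hKU hzT)
      (fun y hy => hzc y (by rw [hS]; exact hy))
    have ha00 : a0 ≠ 0 := by
      rintro rfl
      exact hz1 (eich_one hF hi0)
    have hX0 := PsuS1.X0_mem hF hb hn hK ha00 ha0 hzT
    have h01 := PsuS1.root01_mem hF hb hn hKU hK hX0
    have h0r1 := PsuS1.root0r1_mem hF hb hn hKU hK hX0
    have hQ1 := PsuS2.Q1_mem hF hb hn hKU hK hX0 h01 h0r1
    have hall := PsuS2.eich_mem_of_Q1 hF hb hn hK (fun w a h1 h2 => hQ1 w a h1 h2)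
    rw [hS]
    refine (PsuS8.Usub_le_closure hF hb).trans ((Subgroup.closure_le _).2 ?_)
    rintro x ⟨k, w, a, hk, hw, ha, rfl⟩
    exact hall k hk w a hw ha
  · -- generation of the normalizer
    intro g hg
    rw [hS] at hg
    have hgB : g ∈ Bsub hb := PsuB.normalizer_le_Bsub hF hb hg
    have hNS : ∀ k : G, k ∈ Bsub hb → k ∈ Subgroup.normalizer ((S : Subgroup G) : Set G) := by
      intro k hk
      rw [hS]
      exact Bsub_le_normalizer hb hk
    -- the scalar on `b 0`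
    have hg0 := Bsub_b0 hF hb hn hgB
    set s := co q b (actv g (b (i0 hn))) (i0 hn) with hs
    have hs0 : s ≠ 0 := by
      intro h0
      rw [h0, zero_smul] at hg0
      have := actv_inv_actv g (b (i0 hn))
      rw [hg0, actv_zero] at this
      exact b_ne_zero hF hb _ this.symm
    have hhB := PsuH.hel_mem_Bsub hF hb hn hs0
    have hh0 := PsuH.hel_b0 hF hb hn hs0
    set h := hel hF b hn s with hh
    have hg1B : h⁻¹ * g ∈ Bsub hb := Subgroup.mul_mem _ (Subgroup.inv_mem _ hhB) hgB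
    have hg10 : actv (h⁻¹ * g) (b (i0 hn)) = b (i0 hn) := by
      rw [actv_mul, hg0, actv_smul]
      have := actv_inv h _ _ hh0
      rw [actv_smul] at this
      have e : b (i0 hn) = s⁻¹ • (s • b (i0 hn)) := by rw [smul_smul, inv_mul_cancel₀ hs0, one_smul]
      have e2 : actv h⁻¹ (b (i0 hn)) = s⁻¹ • b (i0 hn) := by
        conv_lhs => rw [e, actv_smul, actv_inv h _ _ hh0]
      rw [e2, smul_smul, mul_inv_cancel₀ hs0, one_smul]
    obtain ⟨w, a, huw, ha, hew⟩ := PsuE.exists_eich_fix hF hb hn hg10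
    set e := eich hF (b (i0 hn)) w a with he
    have heU : e ∈ Usub hb := eich0_mem_Usub hF hb hn huw ha
    have he0 : actv e (b (i0 hn)) = b (i0 hn) := Usub_fix_b0 hb hn heU
    have hg2B : e⁻¹ * (h⁻¹ * g) ∈ Bsub hb :=
      Subgroup.mul_mem _ (Subgroup.inv_mem _ (Usub_le_Bsub hb heU)) hg1B
    have hg20 : actv (e⁻¹ * (h⁻¹ * g)) (b (i0 hn)) = b (i0 hn) := by
      rw [actv_mul, hg10]
      exact actv_inv e _ _ he0
    have hg2l : actv (e⁻¹ * (h⁻¹ * g)) (b (Fin.rev (i0 hn))) = b (Fin.rev (i0 hn)) := by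
      rw [actv_mul, ← hew]
      exact actv_inv_actv e _
    obtain ⟨z, u, hzu, hzB, hzPG, huU⟩ := fix_decomp hF hb hn p hg2B hg20 hg2l
    have hgdec : g = h * e * z * u := by
      have : e⁻¹ * (h⁻¹ * g) = z * u := hzu
      calc g = h * e * (e⁻¹ * (h⁻¹ * g)) := by group
        _ = h * e * z * u := by rw [this]; group
    rw [hgdec]
    refine Subgroup.mul_mem _ (Subgroup.mul_mem _ (Subgroup.mul_mem _ ?_ ?_) ?_) ?_
    · exact Subgroup.subset_closure ⟨hNS h hhB, RW hF b, hRfn, hRc, hel_mem_PG hF hb hn p s⟩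
    · exact Subgroup.subset_closure ⟨hNS e (Usub_le_Bsub hb heU), Qv q (b (i0 hn)), hQfn, hQc,
        Usub_le_PG_Qv hF hb hn p heU⟩
    · exact Subgroup.subset_closure ⟨hNS z hzB, Qv q (b (i0 hn)), hQfn, hQc, hzPG⟩
    · exact Subgroup.subset_closure ⟨hNS u (Usub_le_Bsub hb huU), Qv q (b (i0 hn)), hQfn, hQc,
        Usub_le_PG_Qv hF hb hn p huU⟩

end main

/-! ### passing to `PSU_n` -/

theorem psu_simple (hF : Fintype.card F = q ^ 2) (hn : 4 ≤ n) (p : ℕ) [Fact p.Prime]
    [CharP F p] (S : Sylow p (Cfsg.PSU n F q)) :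
    (groupFusionSystem (S : Subgroup (Cfsg.PSU n F q))).IsSimple p := by
  obtain ⟨b, hb⟩ := Cfsg.Agent.Helper87.PsuHB.exists_hb hF n
  obtain ⟨S0, hS0⟩ := PsuB.exists_sylow_Usub hF (b := b) hb p
  have h := su_simple hF hb hn p S0 hS0
  have hpq : p ∣ q := by
    have h1 : ((Fintype.card F : ℕ) : F) = 0 := Nat.cast_card_eq_zero F
    have h2 : p ∣ Fintype.card F := (CharP.cast_eq_zero_iff F p _).1 h1
    rw [hF] at h2
    exact (Fact.out : p.Prime).dvd_of_dvd_pow h2
  have hpZ : ¬ p ∣ Nat.card (Subgroup.center (Cfsg.SU n F q)) := by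
    rw [Cfsg.Agent.Helper5.card_center_SU hF (by omega)]
    intro hd
    have h3 : p ∣ q + 1 := hd.trans (Nat.gcd_dvd_right _ _)
    have h4 : p ∣ 1 := (Nat.dvd_add_right hpq).1 h3
    exact (Fact.out : p.Prime).one_lt.ne' (Nat.dvd_one.1 h4)
  exact Cfsg.Agent.Helper87.PsuQuot.simple_quot (Subgroup.center (Cfsg.SU n F q)) le_rfl hpZ S0 h S

end Cfsg.Agent.Helper87.PsuF
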