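import Mathlib
import Cfsg.Prelude.Def_FusionSystem
import Cfsg.Prelude.Def_FusionReduction
import Cfsg.Agent.Lib.Helper87.SubModel
import Cfsg.Agent.Lib.Helper87.ModelUnique
import Cfsg.Agent.Lib.Helper88.FusionCentricUnique
import Cfsg.Agent.Lib.Helper46.Involves2
import Cfsg.Agent.Lib.Helper84.FusNorm
import Cfsg.Agent.S5096

set_option autoImplicit false
set_option linter.unusedSectionVars false
set_option linter.unusedVariables false
set_option linter.style.haveILetI false

/-! # Section-freeness at the radical centric subgroups suffices -/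

namespace Cfsg.Agent.Helper87.QdRadical

open Cfsg Cfsg.FusionSystem Cfsg.Agent.Helper87 Cfsg.Agent.Helper85 Cfsg.Agent.Helper87.ModelSolv
  Cfsg.Agent.Helper87.ModelUnique Cfsg.Agent.Helper87.SubModel

section Radical

variable {Ω : Type*} [Group Ω] {T : Subgroup Ω} [Finite T] {p : ℕ} [Fact p.Prime]
  {E : FusionSystem T} {G : Type*} [Group G] {ι : T →* G}

/-- if `O_p` of a model is the image of the normal subgroup `Q`, then `Q` is radical -/
theorem isRadical_of_pCore_eq (hG : E.IsModel p G ι) {Q : Subgroup Ω} (hQ : E.IsNormal Q)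
    (h : pCore p G = imageAlong ι Q) : E.IsRadical p Q := by
  obtain ⟨hfin, hr, ⟨T', hT'⟩, hcen⟩ := hG
  haveI := hfin
  have hQT : Q ≤ T := hQ.1
  haveI hN : (imageAlong ι Q).Normal := h ▸ pCore_normal p G
  refine ⟨hQT, ?_⟩
  set A := E.autGroup Q with hA
  let ρ' : G →* ↥A := (autHom ι hr.1 hQT).codRestrict A (fun g => autHom_mem_autGroup hr hQT g)
  have hρ's : Function.Surjective ρ' := by
    rintro ⟨α, hα⟩
    obtain ⟨g, hg⟩ := exists_autHom_eq hr hQT hα
    exact ⟨g, Subtype.ext hg⟩
  have hker : ρ'.ker ≤ pCore p G := by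
    intro g hg
    have h1 : g ∈ (autHom ι hr.1 hQT).ker := by
      rw [MonoidHom.mem_ker] at hg ⊢
      exact congrArg Subtype.val hg
    rw [ker_autHom] at h1
    apply hcen
    rw [h]
    exact h1
  have hkp : IsPGroup p ρ'.ker := (pCore_isPGroup (p := p) (G := G)).to_le hker
  haveI : Finite ↥A := Finite.of_surjective ρ' hρ's
  -- inner automorphisms are images of elements of `ι Q`
  have hinn : ∀ q : Q, autHom ι hr.1 hQT (ι ⟨q, hQT q.2⟩) = MulAut.conj q := by
    intro q
    apply MulEquiv.ext
    intro x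
    apply Subtype.ext
    rw [autHom_iota]
    rfl
  apply le_antisymm
  · rintro _ ⟨β, hβ, rfl⟩
    obtain ⟨g, rfl⟩ := hρ's β
    have h1 : g ∈ (pCore p ↥A).comap ρ' := hβ
    have h2 : (pCore p ↥A).comap ρ' ≤ pCore p G := by
      haveI : (pCore p ↥A).Normal := pCore_normal p ↥A
      exact le_pCore inferInstance ((pCore_isPGroup (p := p) (G := ↥A)).comap_of_ker_isPGroup ρ' hkp)
    have h3 := h2 h1
    rw [h] at h3
    obtain ⟨q, hqT, hq, rfl⟩ := mem_img.1 h3
    refine ⟨⟨q, hq⟩, ?_⟩
    rw [au_mem ι hqT]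
    exact (hinn ⟨q, hq⟩).symm
  · rintro _ ⟨q, rfl⟩
    have h1 : ι ⟨q, hQT q.2⟩ ∈ pCore p G := by
      rw [h]
      exact mem_img.2 ⟨q, hQT q.2, q.2, au_mem ι (hQT q.2)⟩
    have h2 : (pCore p G).map ρ' ≤ pCore p ↥A := by
      haveI : (pCore p G).Normal := pCore_normal p G
      exact le_pCore (Subgroup.Normal.map inferInstance ρ' hρ's)
        ((pCore_isPGroup (p := p) (G := G)).map ρ')
    have h3 := h2 ⟨_, h1, rfl⟩
    refine ⟨ρ' (ι ⟨q, hQT q.2⟩), h3, ?_⟩
    exact hinn q

end Radical

section Main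

universe u

variable {Ω : Type u} [Group Ω] {S : Subgroup Ω} [Finite S] {p : ℕ} [Fact p.Prime]
  {F : FusionSystem S}

/-- `H`-freeness of the local models at the radical centric fully normalized subgroups gives
`H`-freeness at all centric fully normalized subgroups, given the existence of models (with the
centralizer of the image of the normal centric subgroup inside that image). -/
theorem sectionFree_of_radical (hS : IsPGroup p S) (hF : F.IsSaturated p)
    (hex : ∀ (R : Subgroup Ω) (E : FusionSystem (normalizerIn S R)), E.IsSaturated p →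
      E.IsNormal R → E.IsCentric R →
      ∃ (G : Type u) (_ : Group G) (ι : ↥(normalizerIn S R) →* G), E.IsModel p G ι ∧
        Subgroup.centralizer ((imageAlong ι R : Subgroup G) : Set G) ≤ imageAlong ι R)
    {H : Type*} [Group H]
    (h : ∀ Q : Subgroup Ω, F.IsFullyNormalized Q → F.IsCentric Q → F.IsRadical p Q →
      ∀ N : FusionSystem (normalizerIn S Q), F.IsNormalizerSystem Q N →
      ∀ (L : Type u) [Group L] (ι : ↥(normalizerIn S Q) →* L), N.IsModel p L ι → ¬ Involves H L) :
    F.IsSectionFree p H := by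
  have key : ∀ n : ℕ, ∀ Q : Subgroup Ω, Nat.card S - Nat.card Q = n → F.IsFullyNormalized Q →
      F.IsCentric Q → ∀ N : FusionSystem (normalizerIn S Q), F.IsNormalizerSystem Q N →
      ∀ (L : Type u) [Group L] (ι : ↥(normalizerIn S Q) →* L), N.IsModel p L ι →
        ¬ Involves H L := by
    intro n
    induction n using Nat.strong_induction_on with
    | _ n ih =>
    intro Q hn hQfn hQc N hN L _ ι hL
    by_cases hrad : F.IsRadical p Q
    · exact h Q hQfn hQc hrad N hN L ι hL
    have hQS : Q ≤ S := hQfn.1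
    haveI hfinT : Finite ↥(normalizerIn S Q) := finN Q
    have hTp : IsPGroup p ↥(normalizerIn S Q) := hS.to_le inf_le_left
    have hQT : Q ≤ normalizerIn S Q := le_normalizerIn hQS
    have hQN : N.IsNormal Q := normalizerSystem_isNormal hQS hN
    have hL' := hL
    obtain ⟨hfin, hr, ⟨T', hT'⟩, hcen⟩ := hL
    haveI := hfin
    haveI hUn : (pCore p L).Normal := pCore_normal p L
    have hNr : pCore p L ≤ ι.range := hT' ▸ pCore_le_sylow T'
    -- the preimage of `O_p(L)`
    set R₀ := preimageAlong ι (pCore p L) with hR₀def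
    have hR₀ : N.IsNormal R₀ := realized_preimage_normal hr (pCore p L) hNr
    have himg : imageAlong ι R₀ = pCore p L := img_pre (rfl : ι.range = ι.range) hNr
    have hQR₀ : Q ≤ R₀ := by
      intro q hq
      rw [hR₀def, mem_pre]
      refine ⟨hQT hq, ?_⟩
      haveI hQn : (imageAlong ι Q).Normal := model_image_normal hL' hQN
      have hQp : IsPGroup p ↥(imageAlong ι Q) :=
        ((hS.to_le hQS).comap_subtype (K := normalizerIn S Q)).map ι
      exact le_pCore hQn hQp (mem_img.2 ⟨q, hQT hq, hq, rfl⟩)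
    have hne : R₀ ≠ Q := by
      intro heq
      apply hrad
      have h1 : N.IsRadical p Q := isRadical_of_pCore_eq hL' hQN (by rw [← himg, heq])
      refine ⟨hQS, ?_⟩
      rw [← autGroup_normalizerSystem_self hQS hN]
      exact h1.2
    have hR₀T : R₀ ≤ normalizerIn S Q := hR₀.1
    have hR₀S : R₀ ≤ S := hR₀T.trans inf_le_left
    haveI : Finite R₀ := finite_of_le hR₀S
    have hlt : Nat.card Q < Nat.card R₀ := by
      rcases (Subgroup.card_le_of_le hQR₀).lt_or_eq with h1 | h1
      · exact h1
      · exact absurd (Subgroup.eq_of_le_of_card_ge hQR₀ h1.ge).symm hne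
    -- a fully normalized conjugate
    obtain ⟨R, hconj, hRfn⟩ := Cfsg.Agent.Helper87.exists_fullyNormalized_conj F hR₀S
    obtain ⟨φ, hφ, hφR⟩ := exists_map_normalizer_to_fullyNormalized hS hF hRfn hconj
    have hRS : R ≤ S := hRfn.1
    have hRc : F.IsCentric R :=
      isCentric_of_conj (Cfsg.Agent.Helper88.isCentric_of_le hQc hQR₀ hR₀S) hconj
    obtain ⟨N', hN'⟩ := Cfsg.Agent.S5096.result F R hRS
    have hN'sat : N'.IsSaturated p :=
      Cfsg.Agent.Helper84.normalizerSystem_saturated F hS hF hRfn N' hN'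
    have hRN' : N'.IsNormal R := normalizerSystem_isNormal hRS hN'
    have hRcN' : N'.IsCentric R := normalizerSystem_isCentric hRc hN'
    obtain ⟨L', _, ι', hLm, hcenR⟩ := hex R N' hN'sat hRN' hRcN'
    have hcard : Nat.card R₀ = Nat.card R := hφR.card_eq
    haveI : Finite R := finite_of_le hRS
    have hRle : Nat.card R ≤ Nat.card S := Subgroup.card_le_of_le hRS
    have hih : ¬ Involves H L' :=
      ih (Nat.card S - Nat.card R) (by omega) R rfl hRfn hRc N' hN' L' ι' hLm
    -- the model of `N_F(Q)` inside `L'`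
    have d : Data F p Q R₀ R φ N N' ι' :=
      ⟨hS, hF, hQfn, hN, hR₀, hQR₀, hφ, hφR, hN', hLm, hcenR⟩
    obtain ⟨e, -⟩ := ModelUnique.exists_iso hL' d.isModel
    intro hinv
    apply hih
    apply Cfsg.Agent.Helper46.involves_of_involves_subgroup d.HL
    exact Cfsg.Agent.Helper46.involves_trans hinv
      (Cfsg.Agent.Helper46.involves_of_surjective_top e.symm.toMonoidHom e.symm.surjective)
  intro Q hQfn hQc N hN L _ ι hL
  exact key _ Q rfl hQfn hQc N hN L ι hL

end Main

end Cfsg.Agent.Helper87.QdRadical
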