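import Mathlib
import Cfsg.Agent.Lib.Helper93.RU0
import Cfsg.Agent.Lib.Helper35.RJ0
import Cfsg.Agent.Lib.Helper87.RJP
import Cfsg.Agent.Lib.Helper40.RJR1a

/-!
# RJ piece (R1) seed (helper87), for helper35's RJ server (S2279):
instantiation of the abstract seed (R1a) with `a_{-1}, a_0, a_1`, `φ_{-1}, φ_0, φ_1`.
-/

set_option autoImplicit false

namespace Cfsg.Agent.Helper87.RJ

open Matrix Cfsg.Agent.Helper93.RU Cfsg.Agent.Helper35.RJ

variable {F : Type*} [Field F] {m : ℕ}

/-- `π(i) = 0` in the window `0 ≤ i ≤ m + 1` -/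
theorem h87_pi_window (i : ℕ) (hi : i ≤ m + 1) : piZ m F (i : ℤ) = 0 := by
  rw [pi_nat, Nat.choose_eq_zero_of_lt (by omega)]
  simp

/-- (R1) -/
theorem seed (hm : 1 ≤ m) (lam : F) :
    let s0 := sK (m := m) lam 0
    let s1 := sK (m := m) lam 1
    let c := s1 * s0 * s1⁻¹ * s0⁻¹
    c * s0 * c⁻¹ * s0⁻¹ = Tjk 1 (-1) (lam ^ 3) := by
  have hε : ((-1 : F) ^ (m + 2)) * ((-1 : F) ^ (m + 2)) = 1 := by
    rw [← pow_add, ← two_mul, pow_mul]; simp
  have p0 : piZ m F 0 = 0 := by
    have := h87_pi_window (F := F) (m := m) 0 (by omega)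
    simpa using this
  have p1 : piZ m F 1 = 0 := by
    have := h87_pi_window (F := F) (m := m) 1 (by omega)
    simpa using this
  have p2 : piZ m F 2 = 0 := by
    have := h87_pi_window (F := F) (m := m) 2 (by omega)
    simpa using this
  have key := Cfsg.Agent.Helper40.RJ.seed_abs (F := F) (m := m)
    (aV m F (-1)) (aV m F 0) (aV m F 1) (phV m F (-1)) (phV m F 0) (phV m F 1)
    lam ((-1 : F) ^ (m + 2)) (piZ m F (-2)) hε
    (by rw [pair]; simpa using p0)
    (by rw [pair]; simpa using p1)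
    (by rw [pair]; norm_num; exact p2)
    (by rw [pair]; simpa using pi_neg_one (F := F) (m := m))
    (by rw [pair]; simpa using p0)
    (by rw [pair]; simpa using p1)
    (by rw [pair]; norm_num)
    (by rw [pair]; simpa using pi_neg_one (F := F) (m := m))
    (by rw [pair]; simpa using p0)
  intro s0 s1 c
  have e0 : s0 = tvS (aV m F (-1)) (lam • phV m F (-1)) * (tvS (aV m F 0) (lam • phV m F 0))⁻¹ := by
    show sK lam 0 = _
    unfold sK Tjk
    norm_num
  have e1 : s1 = tvS (aV m F 0) (lam • phV m F 0) * (tvS (aV m F 1) (lam • phV m F 1))⁻¹ := by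
    show sK lam 1 = _
    unfold sK Tjk
    norm_num
  have hc : c = s1 * s0 * s1⁻¹ * s0⁻¹ := rfl
  rw [hc, e0, e1]
  exact key

end Cfsg.Agent.Helper87.RJ
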