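import Mathlib
import Cfsg.Agent.Lib.Helper93.RU0
import Cfsg.Agent.Lib.Helper35.RJ0
import Cfsg.Agent.Lib.Helper87.RJR1
import Cfsg.Agent.Lib.Helper74.RJT

/-!
# RJ piece (L1) Lam_seed (helper87), for helper35's RJ server (S2279).
-/

set_option autoImplicit false

namespace Cfsg.Agent.Helper87.RJ

open Matrix Cfsg.Agent.Helper93.RU Cfsg.Agent.Helper35.RJ

variable {F : Type*} [Field F] {m : ℕ}

/-- (L1) -/
theorem Lam_seed (hm : 1 ≤ m) (H : Subgroup (SLm m F)) (lam : F) (hu : uEl m F ∈ H)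
    (hs : ∀ k : ℤ, sK lam k ∈ H) : lam ^ 3 ∈ Lam H 2 := by
  have h0 := hs 0
  have h1 := hs 1
  have hseed := seed (F := F) (m := m) hm lam
  simp only at hseed
  have hc : sK lam 1 * sK lam 0 * (sK lam 1)⁻¹ * (sK lam 0)⁻¹ ∈ H :=
    H.mul_mem (H.mul_mem (H.mul_mem h1 h0) (H.inv_mem h1)) (H.inv_mem h0)
  have hT : Tjk (m := m) 1 (-1) (lam ^ 3) ∈ H := by
    rw [← hseed]
    exact H.mul_mem (H.mul_mem (H.mul_mem hc h0) (H.inv_mem hc)) (H.inv_mem h0)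
  have p2 : piZ m F ((1 : ℤ) - (-1)) = 0 := by
    have := h87_pi_window (F := F) (m := m) 2 (by omega)
    norm_num
    simpa using this
  have hsh := Cfsg.Agent.Helper74.RJ.Tjk_shift (F := F) (m := m) 1 1 (-1) p2 (lam ^ 3)
  have hu1 : (uEl m F) ^ (1 : ℤ) ∈ H := by rw [zpow_one]; exact hu
  have hmem : Tjk (m := m) ((1 : ℤ) + 1) ((-1 : ℤ) + 1) (lam ^ 3) ∈ H := by
    rw [← hsh]
    exact H.mul_mem (H.mul_mem hu1 hT) (H.inv_mem hu1)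
  show Tjk (m := m) ((2 : ℕ) : ℤ) 0 (lam ^ 3) ∈ H
  have e1 : ((2 : ℕ) : ℤ) = (1 : ℤ) + 1 := by norm_num
  have e2 : (0 : ℤ) = (-1 : ℤ) + 1 := by norm_num
  rw [e1]
  rw [e2]
  exact hmem

end Cfsg.Agent.Helper87.RJ
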