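import Mathlib
import Cfsg.Agent.Lib.Helper93.RU0
import Cfsg.Agent.Lib.Helper35.RJ0
import Cfsg.Agent.Lib.Helper34.RUB3
import Cfsg.Agent.Lib.Helper21.RUE1
import Cfsg.Agent.Lib.Helper21.RUE2
import Cfsg.Agent.Lib.Helper74.RJS0
import Cfsg.Agent.Lib.Helper53.RJL
import Cfsg.Agent.Lib.Helper53.RJR3
import Cfsg.Agent.Lib.Helper77.RJF
import Cfsg.Agent.Lib.Helper16.RJW2
import Cfsg.Agent.Lib.Helper70.RJCR
import Cfsg.Agent.Lib.Helper87.RJL1
import Cfsg.Agent.Lib.Helper87.RJW3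

/-!
# RJ project (S2279): assembly of helper35's plan (tools/rj_asm_helper35.lean.txt) against the landed pieces
(second assembler: helper87).  `SL_{m+3}(F)`, `m ≥ 1`, is generated by the two conjugate regular unipotents
`J = uEl` and `g J g⁻¹`, `g = hEl λ`, `λ` a generator of `Fˣ`.
-/

set_option autoImplicit false

namespace Cfsg.Agent.Helper87.RJAsm

open Matrix Cfsg.Agent.Helper93.RU Cfsg.Agent.Helper35.RJ

variable {F : Type*} [Field F] {m : ℕ}

/-- core: a subgroup containing `J` and `g J g⁻¹` is everything -/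
theorem core [Fintype F] (hm : 1 ≤ m) (lam : F) (hlam : lam ≠ 0)
    (hgen : ∀ a : F, a ≠ 0 → ∃ k : ℕ, a = lam ^ k) (H : Subgroup (SLm m F))
    (hu : uEl m F ∈ H) (hv : hEl lam * uEl m F * (hEl lam)⁻¹ ∈ H) : H = ⊤ := by
  classical
  have hs : ∀ k : ℤ, sK lam k ∈ H := fun k => Cfsg.Agent.Helper74.RJ.sK_mem H lam hu hv k
  -- the additive subgroups
  have hex : ∀ d : ℕ, ∃ L : AddSubgroup F, d ≤ m + 1 → (L : Set F) = Lam H d := by
    intro d
    by_cases hd : d ≤ m + 1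
    · obtain ⟨L, hL⟩ := Cfsg.Agent.Helper53.RJ.Lam_addSubgroup H d hd
      exact ⟨L, fun _ => hL⟩
    · exact ⟨⊤, fun h => absurd h hd⟩
  choose L hL using hex
  have hmem : ∀ d, d ≤ m + 1 → ∀ x : F, x ∈ L d ↔ x ∈ Lam H d := by
    intro d hd x
    constructor
    · intro hx
      have : x ∈ (L d : Set F) := hx
      rwa [hL d hd] at this
    · intro hx
      have : x ∈ (L d : Set F) := by rw [hL d hd]; exact hx
      exact this
  have h1 : lam ^ 3 ∈ L 2 :=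
    (hmem 2 (by omega) _).2 (Cfsg.Agent.Helper87.RJ.Lam_seed hm H lam hu hs)
  have h2 : ∀ d, d ≤ m → ∀ x ∈ L d, lam * x ∈ L (d + 1) := by
    intro d hd x hx
    exact (hmem (d + 1) (by omega) _).2
      (Cfsg.Agent.Helper53.RJ.Lam_step H lam hu hs d hd x ((hmem d (by omega) _).1 hx))
  have h3 : ∀ d d' r, d ≤ m + 1 → d' ≤ m + 1 → m + 2 ≤ r → r ≤ d + d' → ∀ x ∈ L d, ∀ y ∈ L d',
      (Nat.choose r (m + 2) : F) * x * y ∈ L (d + d' - r) := by
    intro d d' r hd hd' hr hr' x hx y hy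
    exact (hmem (d + d' - r) (by omega) _).2
      (Cfsg.Agent.Helper53.RJ.prod_rule H hu d d' r hd hd' hr hr' x y
        ((hmem d hd _).1 hx) ((hmem d' hd' _).1 hy))
  have hfill := Cfsg.Agent.Helper77.RJ.field_fill hm lam hlam hgen L h1 h2 h3
  have hall : ∀ d, d ≤ m + 1 → ∀ x : F, x ∈ Lam H d := by
    intro d hd x
    refine (hmem d hd x).1 ?_
    rw [hfill d hd]
    exact AddSubgroup.mem_top x
  have hlast := Cfsg.Agent.Helper16.RJ.last_mem_W H hu hall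
  exact Cfsg.Agent.Helper21.RU.eq_top_of_W H
    (fun k => Cfsg.Agent.Helper87.RJ.all_mem_W H hu hlast k)

theorem main [Fintype F] (m : ℕ) (hm : 1 ≤ m) :
    ∃ u g : SLm m F, (IsNilpotent (u.1 - 1) ∧ (u.1 - 1) ^ (m + 2) ≠ 0) ∧
      Subgroup.closure ({u, g * u * g⁻¹} : Set (SLm m F)) = ⊤ := by
  obtain ⟨lam, hlam, hgen⟩ := Cfsg.Agent.Helper21.RU.exists_generator (F := F)
  refine ⟨uEl m F, hEl lam, Cfsg.Agent.Helper34.RU.uEl_regular, ?_⟩
  apply core hm lam hlam (fun a ha => by obtain ⟨k, _, hk⟩ := hgen a ha; exact ⟨k, hk⟩)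
  · exact Subgroup.subset_closure (by simp)
  · exact Subgroup.subset_closure (by simp)

/-- the statement of S2279 -/
theorem final {F : Type*} [Field F] [Fintype F] (n : ℕ) (hn : 4 ≤ n) :
    (∃ u v : Matrix.SpecialLinearGroup (Fin n) F, (IsNilpotent ((u : Matrix (Fin n) (Fin n) F) - 1) ∧ ((u : Matrix (Fin n) (Fin n) F) - 1) ^ (n - 1) ≠ 0) ∧ (IsNilpotent ((v : Matrix (Fin n) (Fin n) F) - 1) ∧ ((v : Matrix (Fin n) (Fin n) F) - 1) ^ (n - 1) ≠ 0) ∧
      Subgroup.closure ({u, v} : Set (Matrix.SpecialLinearGroup (Fin n) F)) = ⊤) ∧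
    ((Fintype.card F).Prime → ∃ u g : Matrix.SpecialLinearGroup (Fin n) F, (IsNilpotent ((u : Matrix (Fin n) (Fin n) F) - 1) ∧ ((u : Matrix (Fin n) (Fin n) F) - 1) ^ (n - 1) ≠ 0) ∧
      Subgroup.closure ({u, g * u * g⁻¹} : Set (Matrix.SpecialLinearGroup (Fin n) F)) = ⊤) := by
  obtain ⟨m, rfl⟩ : ∃ m, n = m + 3 := ⟨n - 3, by omega⟩
  have hm : 1 ≤ m := by omega
  obtain ⟨u, g, hreg, hcl⟩ := main (F := F) m hm
  have hreg' := Cfsg.Agent.Helper70.RJ.conj_regular u g hreg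
  refine ⟨⟨u, g * u * g⁻¹, ?_, ?_, hcl⟩, fun _ => ⟨u, g, ?_, hcl⟩⟩
  · simpa using hreg
  · simpa using hreg'
  · simpa using hreg

end Cfsg.Agent.Helper87.RJAsm
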