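import Mathlib
import Cfsg.Agent.Lib.Helper93.RU0
import Cfsg.Agent.Lib.Helper35.RJ0
import Cfsg.Agent.Lib.Helper34.RUB3
import Cfsg.Agent.Lib.Helper12.RUD1
import Cfsg.Agent.Lib.Helper44.RUD2

/-!
# RJ piece (W3) all_mem_W (helper87), for helper35's RJ server (S2279).
`J e_k = e_k + e_{k-1}`: downward induction from `e_last`.
-/

set_option autoImplicit false

namespace Cfsg.Agent.Helper87.RJ

open Matrix Cfsg.Agent.Helper93.RU Cfsg.Agent.Helper35.RJ

variable {F : Type*} [Field F] {m : ℕ}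

/-- `J e_{k+1} = e_{k+1} + e_k` -/
theorem h87_uEl_mulVec_eV (k : ℕ) (hk : k + 1 < m + 3) :
    (uEl m F).1 *ᵥ eV (⟨k + 1, hk⟩ : Fin (m + 3)) =
      eV (⟨k + 1, hk⟩ : Fin (m + 3)) + eV (⟨k, by omega⟩ : Fin (m + 3)) := by
  rw [Cfsg.Agent.Helper34.RU.h34_uEl_val]
  unfold eV
  rw [Matrix.mulVec_single_one]
  ext i
  rw [Matrix.col_apply, Matrix.add_apply, Cfsg.Agent.Helper34.RU.h34_Nmat_apply, Matrix.one_apply,
    Pi.add_apply, Pi.single_apply, Pi.single_apply]
  congr 1
  · by_cases h : i.val + 1 = k + 1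
    · rw [if_pos h, if_pos (Fin.ext (by simp only []; omega))]
    · rw [if_neg h, if_neg]
      intro h'
      apply h
      rw [h']
  

/-- (W3) -/
theorem all_mem_W (H : Subgroup (SLm m F)) (hu : uEl m F ∈ H) (h : eV (lastI m) ∈ Wset H)
    (k : Fin (m + 3)) : eV k ∈ Wset H := by
  -- downward induction on `j = m + 2 - k`
  have key : ∀ j : ℕ, ∀ k : Fin (m + 3), k.val + j = m + 2 → eV k ∈ Wset H := by
    intro j
    induction j with
    | zero =>
      intro k hk
      have : k = lastI m := Fin.ext (by show k.val = m + 2; omega)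
      rw [this]; exact h
    | succ j ih =>
      intro k hk
      have hk1 : k.val + 1 < m + 3 := by omega
      have h1 : (eV (⟨k.val + 1, hk1⟩ : Fin (m + 3)) : Fin (m + 3) → F) ∈ Wset H :=
        ih ⟨k.val + 1, hk1⟩ (by simp only []; omega)
      have h2 := Cfsg.Agent.Helper44.RU.W_conj H (uEl m F) hu _ h1
      rw [h87_uEl_mulVec_eV k.val hk1] at h2
      have h3 := Cfsg.Agent.Helper44.RU.W_smul H (-1 : F) _ h1
      have h4 := Cfsg.Agent.Helper12.RU.W_add H _ _ h2 h3
      have e : (eV (⟨k.val + 1, hk1⟩ : Fin (m + 3)) : Fin (m + 3) → F) + eV (⟨k.val, by omega⟩ : Fin (m + 3)) +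
          (-1 : F) • eV (⟨k.val + 1, hk1⟩ : Fin (m + 3)) = eV k := by
        have : (⟨k.val, by omega⟩ : Fin (m + 3)) = k := Fin.ext rfl
        rw [this]
        simp
      rw [e] at h4
      exact h4
  exact key (m + 2 - k.val) k (by have := k.isLt; omega)

end Cfsg.Agent.Helper87.RJ
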