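import Mathlib

set_option autoImplicit false

/-!
# Automorphisms of order prime to `p` and subgroups of exponent `p` (or `4`)

A Thompson-style lemma: a set of automorphisms of order prime to `p` of a finite `p`-group, closed under
conjugation by a group `A` of automorphisms, which fixes every `A`-invariant subgroup of exponent `p`
(`4` when `p = 2`) inside an `A`-invariant subgroup `R`, fixes `R`.  Then a criterion for a subgroup `T ≤ A`
to lie in a normal `p`-subgroup of `A`.
-/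

namespace Cfsg.Agent.Helper87.SmallExp

open scoped commutatorElement

section Heis

variable {G : Type*} [Group G]

theorem pow_mul_comm_central {x y w : G} (hw : y * x = x * y * w) (hwy : Commute w y) (k : ℕ) :
    y ^ k * x = x * y ^ k * w ^ k := by
  induction k with
  | zero => simp
  | succ k ih =>
    calc y ^ (k + 1) * x = y ^ k * (y * x) := by rw [pow_succ, mul_assoc]
      _ = y ^ k * (x * y * w) := by rw [hw]
      _ = (y ^ k * x) * y * w := by simp only [mul_assoc]
      _ = x * y ^ k * w ^ k * y * w := by rw [ih]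
      _ = x * y ^ k * (w ^ k * y) * w := by simp only [mul_assoc]
      _ = x * y ^ k * (y * w ^ k) * w := by rw [(hwy.pow_left k).eq]
      _ = x * y ^ (k + 1) * w ^ (k + 1) := by rw [pow_succ, pow_succ]; simp only [mul_assoc]

theorem mul_pow_central {x y w : G} (hw : y * x = x * y * w) (hwx : Commute w x)
    (hwy : Commute w y) (n : ℕ) :
    (x * y) ^ n = x ^ n * y ^ n * w ^ (n.choose 2) := by
  induction n with
  | zero => simp
  | succ n ih =>
    have h1 := pow_mul_comm_central hw hwy n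
    have hc : (n + 1).choose 2 = n + n.choose 2 := by
      rw [Nat.choose_succ_succ' n 1, Nat.choose_one_right]
    calc (x * y) ^ (n + 1) = (x * y) ^ n * (x * y) := pow_succ _ _
      _ = x ^ n * y ^ n * w ^ (n.choose 2) * (x * y) := by rw [ih]
      _ = x ^ n * y ^ n * (w ^ (n.choose 2) * x) * y := by simp only [mul_assoc]
      _ = x ^ n * y ^ n * (x * w ^ (n.choose 2)) * y := by rw [(hwx.pow_left _).eq]
      _ = x ^ n * (y ^ n * x) * (w ^ (n.choose 2) * y) := by simp only [mul_assoc]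
      _ = x ^ n * (x * y ^ n * w ^ n) * (y * w ^ (n.choose 2)) := by
          rw [h1, (hwy.pow_left _).eq]
      _ = x ^ n * x * y ^ n * (w ^ n * y) * w ^ (n.choose 2) := by simp only [mul_assoc]
      _ = x ^ n * x * y ^ n * (y * w ^ n) * w ^ (n.choose 2) := by rw [(hwy.pow_left n).eq]
      _ = x ^ (n + 1) * y ^ (n + 1) * w ^ ((n + 1).choose 2) := by
          rw [hc, pow_succ, pow_succ, pow_add]; simp only [mul_assoc]

/-- the exponent bound: `p` for odd `p`, and `4` for `p = 2` -/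
def sq (p : ℕ) : ℕ := if p = 2 then 4 else p

theorem mul_pow_sq {p : ℕ} [hp : Fact p.Prime] {x y w : G} (hw : y * x = x * y * w)
    (hwx : Commute w x) (hwy : Commute w y) (hyp : Commute (y ^ p) x) :
    (x * y) ^ sq p = x ^ sq p * y ^ sq p := by
  have h1 := pow_mul_comm_central hw hwy p
  rw [hyp.eq] at h1
  have hwp : w ^ p = 1 := by
    have : x * y ^ p * 1 = x * y ^ p * w ^ p := by rw [mul_one]; exact h1
    exact (mul_left_cancel this).symm
  have h2 : w ^ ((sq p).choose 2) = 1 := by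
    unfold sq
    split_ifs with h2
    · subst h2
      have : Nat.choose 4 2 = 2 * 3 := by decide
      rw [this, pow_mul, hwp, one_pow]
    · have hlt : 2 < p := lt_of_le_of_ne hp.out.two_le (Ne.symm h2)
      obtain ⟨c, hc⟩ := hp.out.dvd_choose_self (by norm_num : (2 : ℕ) ≠ 0) hlt
      rw [hc, pow_mul, hwp, one_pow]
  rw [mul_pow_central hw hwx hwy, h2, mul_one]

end Heis

section Coprime

variable {P : Type*} [Group P] {p : ℕ} [hp : Fact p.Prime]

omit hp in
theorem fix_of_coprime (hP : IsPGroup p P) (b : MulAut P) (hb : (orderOf b).Coprime p) (x : P)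
    (h : b (x⁻¹ * b x) = x⁻¹ * b x) : b x = x := by
  have hbx : b x = x * (x⁻¹ * b x) := by rw [mul_inv_cancel_left]
  have hpow : ∀ k : ℕ, (b ^ k) x = x * (x⁻¹ * b x) ^ k := by
    intro k
    induction k with
    | zero => simp
    | succ k ih =>
      rw [pow_succ', MulAut.mul_apply, ih, map_mul, map_pow, h, pow_succ']
      rw [← mul_assoc, mul_inv_cancel_left]
  have h1 := hpow (orderOf b)
  rw [pow_orderOf_eq_one, MulAut.one_apply] at h1
  have h2 : (x⁻¹ * b x) ^ orderOf b = 1 := by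
    have : x * 1 = x * (x⁻¹ * b x) ^ orderOf b := by rw [mul_one]; exact h1
    exact (mul_left_cancel this).symm
  obtain ⟨j, hj⟩ := hP (x⁻¹ * b x)
  have h3 : orderOf (x⁻¹ * b x) ∣ orderOf b := orderOf_dvd_of_pow_eq_one h2
  have h4 : orderOf (x⁻¹ * b x) ∣ p ^ j := orderOf_dvd_of_pow_eq_one hj
  have hcop : Nat.Coprime (orderOf b) (p ^ j) := Nat.Coprime.pow_right j hb
  have h5 : orderOf (x⁻¹ * b x) = 1 := by
    have := Nat.dvd_gcd h3 h4
    rw [hcop.gcd_eq_one] at this
    exact Nat.dvd_one.1 this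
  rw [orderOf_eq_one_iff] at h5
  rw [hbx, h5, mul_one]

theorem isPGroup_of_coprime_trivial {G : Type*} [Group G] [Finite G] (N : Subgroup G)
    (h : ∀ b ∈ N, (orderOf b).Coprime p → b = 1) : IsPGroup p N := by
  intro g
  obtain ⟨k, m, hm, hkm⟩ :=
    Nat.exists_eq_pow_mul_and_not_dvd (orderOf_pos (g : G)).ne' p hp.out.ne_one
  refine ⟨k, ?_⟩
  have h1 : ((g : G) ^ p ^ k) ^ m = 1 := by
    rw [← pow_mul, ← hkm, pow_orderOf_eq_one]
  have h2 : orderOf ((g : G) ^ p ^ k) ∣ m := orderOf_dvd_of_pow_eq_one h1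
  have h3 : Nat.Coprime m p := ((Nat.Prime.coprime_iff_not_dvd hp.out).2 hm).symm
  have h4 : Nat.Coprime (orderOf ((g : G) ^ p ^ k)) p := Nat.Coprime.coprime_dvd_left h2 h3
  have h5 := h _ (N.pow_mem g.2 _) h4
  exact Subtype.ext (by simpa using h5)

end Coprime

section Thompson

variable {P : Type*} [Group P] [Finite P] {p : ℕ} [hp : Fact p.Prime]

theorem card_lt_of_lt' {H K : Subgroup P} (h : H < K) : Nat.card H < Nat.card K := by
  apply lt_of_le_of_ne (Subgroup.card_le_of_le h.le)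
  intro heq
  exact absurd (Subgroup.eq_of_le_of_card_ge h.le heq.ge) (ne_of_lt h)

/-- a nontrivial subgroup `R` of a finite `p`-group has a proper subgroup containing all commutators
and `p`-th powers of elements of `R` -/
theorem exists_lt_frattini_like (hP : IsPGroup p P) {R : Subgroup P} (hR : R ≠ ⊥) :
    ∃ M : Subgroup P, M < R ∧ (∀ x ∈ R, ∀ y ∈ R, ⁅x, y⁆ ∈ M) ∧ ∀ x ∈ R, x ^ p ∈ M := by
  have hRp : IsPGroup p R := hP.to_subgroup R
  obtain ⟨k, hk⟩ := IsPGroup.iff_card.1 hRp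
  have hk0 : k ≠ 0 := by
    rintro rfl
    rw [pow_zero] at hk
    exact hR (Subgroup.card_eq_one.1 hk)
  obtain ⟨M, hM⟩ := Sylow.exists_subgroup_card_pow_prime (G := R) p
    (show p ^ (k - 1) ∣ Nat.card R by rw [hk]; exact pow_dvd_pow p (Nat.sub_le k 1))
  have hidx : M.index = p := by
    have h1 := M.card_mul_index
    rw [hM, hk] at h1
    have h2 : p ^ k = p ^ (k - 1) * p := by
      rw [← pow_succ]; congr 1; omega
    rw [h2] at h1
    exact Nat.eq_of_mul_eq_mul_left (pow_pos hp.out.pos _) h1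
  have hMn : M.Normal := by
    apply Subgroup.normal_of_index_eq_minFac_card
    rw [hidx, hk, Nat.Prime.pow_minFac hp.out hk0]
  have hcardQ : Nat.card (R ⧸ M) = p := by rw [← Subgroup.index_eq_card, hidx]
  have : Fact (Nat.card (R ⧸ M)).Prime := ⟨by rw [hcardQ]; exact hp.out⟩
  have hcyc : IsCyclic (R ⧸ M) := isCyclic_of_prime_card (p := Nat.card (R ⧸ M)) rfl
  have hcomm : ∀ a b : R ⧸ M, a * b = b * a := by
    intro a b
    obtain ⟨g, hg⟩ := hcyc.exists_generator
    obtain ⟨i, rfl⟩ := Subgroup.mem_zpowers_iff.1 (hg a)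
    obtain ⟨j, rfl⟩ := Subgroup.mem_zpowers_iff.1 (hg b)
    rw [← zpow_add, ← zpow_add, add_comm]
  refine ⟨M.map R.subtype, ?_, ?_, ?_⟩
  · refine lt_of_le_of_ne (Subgroup.map_subtype_le M) ?_
    intro heq
    have : M = ⊤ := by
      rw [eq_top_iff]
      intro x _
      have hx : (x : P) ∈ M.map R.subtype := by rw [heq]; exact x.2
      obtain ⟨y, hy, hyx⟩ := hx
      have : y = x := Subtype.ext hyx
      rwa [← this]
    rw [this, Subgroup.index_top] at hidx
    exact hp.out.one_lt.ne hidx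
  · intro x hx y hy
    refine Subgroup.mem_map.2 ⟨⁅(⟨x, hx⟩ : R), ⟨y, hy⟩⁆, ?_, rfl⟩
    rw [← QuotientGroup.eq_one_iff]
    show (QuotientGroup.mk' M) ⁅(⟨x, hx⟩ : R), ⟨y, hy⟩⁆ = 1
    rw [map_commutatorElement, commutatorElement_eq_one_iff_mul_comm]
    exact hcomm _ _
  · intro x hx
    refine Subgroup.mem_map.2 ⟨(⟨x, hx⟩ : R) ^ p, ?_, rfl⟩
    rw [← QuotientGroup.eq_one_iff, QuotientGroup.mk_pow]
    conv_lhs => rw [← hcardQ]
    exact pow_card_eq_one'

/-- Thompson-style lemma.  `B` is a set of automorphisms of order prime to `p`, contained in `A` and closed under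
`A`-conjugation.  If `B` fixes every `A`-invariant subgroup of `R` of exponent dividing `sq p`, then `B` fixes `R`. -/
theorem fix_of_fix_smallExp (hP : IsPGroup p P) (A : Subgroup (MulAut P)) (B : Set (MulAut P))
    (hBA : ∀ b ∈ B, b ∈ A) (hBp : ∀ b ∈ B, (orderOf b).Coprime p)
    (hconj : ∀ a ∈ A, ∀ b ∈ B, a * b * a⁻¹ ∈ B) :
    ∀ (n : ℕ) (R : Subgroup P), Nat.card R = n → (∀ a ∈ A, ∀ x ∈ R, a x ∈ R) →
      (∀ D : Subgroup P, D ≤ R → (∀ a ∈ A, ∀ x ∈ D, a x ∈ D) → (∀ x ∈ D, x ^ sq p = 1) →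
        ∀ b ∈ B, ∀ x ∈ D, b x = x) →
      ∀ b ∈ B, ∀ x ∈ R, b x = x := by
  intro n
  induction n using Nat.strong_induction_on with
  | _ n ih =>
  intro R hcard hRA hD
  -- the commutator subgroup `[R, B]`
  set R₁ : Subgroup P := Subgroup.closure {g | ∃ x ∈ R, ∃ b ∈ B, g = x⁻¹ * b x} with hR₁
  have hR₁R : R₁ ≤ R := by
    rw [hR₁, Subgroup.closure_le]
    rintro _ ⟨x, hx, b, hb, rfl⟩
    exact R.mul_mem (R.inv_mem hx) (hRA b (hBA b hb) x hx)
  have hR₁A : ∀ a ∈ A, ∀ g ∈ R₁, a g ∈ R₁ := by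
    intro a ha g hg
    have : R₁ ≤ R₁.comap a.toMonoidHom := by
      rw [hR₁, Subgroup.closure_le]
      rintro _ ⟨x, hx, b, hb, rfl⟩
      refine Subgroup.mem_comap.2 ?_
      apply Subgroup.subset_closure
      refine ⟨a x, hRA a ha x hx, a * b * a⁻¹, hconj a ha b hb, ?_⟩
      simp [MulAut.mul_apply]
    exact this hg
  rcases lt_or_eq_of_le hR₁R with hlt | heq
  · -- `[R, B] < R`
    have hfix := ih (Nat.card R₁) (by rw [← hcard]; exact card_lt_of_lt' hlt) R₁ rfl hR₁A
      (fun D hDR => hD D (hDR.trans hR₁R))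
    intro b hb x hx
    apply fix_of_coprime hP b (hBp b hb) x
    exact hfix b hb _ (Subgroup.subset_closure ⟨x, hx, b, hb, rfl⟩)
  · -- `[R, B] = R`
    by_cases hbot : R = ⊥
    · intro b hb x hx
      rw [hbot, Subgroup.mem_bot] at hx
      rw [hx, map_one]
    set K : Subgroup P := Subgroup.closure
      ({g | ∃ x ∈ R, ∃ y ∈ R, g = ⁅x, y⁆} ∪ {g | ∃ x ∈ R, g = x ^ p}) with hK
    obtain ⟨M, hMR, hMc, hMp⟩ := exists_lt_frattini_like hP hbot
    have hKM : K ≤ M := by
      rw [hK, Subgroup.closure_le]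
      rintro _ (⟨x, hx, y, hy, rfl⟩ | ⟨x, hx, rfl⟩)
      · exact hMc x hx y hy
      · exact hMp x hx
    have hKR : K < R := lt_of_le_of_lt hKM hMR
    have hKA : ∀ a ∈ A, ∀ g ∈ K, a g ∈ K := by
      intro a ha g hg
      have : K ≤ K.comap a.toMonoidHom := by
        rw [hK, Subgroup.closure_le]
        rintro _ (⟨x, hx, y, hy, rfl⟩ | ⟨x, hx, rfl⟩)
        · refine Subgroup.mem_comap.2 ?_
          apply Subgroup.subset_closure
          left
          exact ⟨a x, hRA a ha x hx, a y, hRA a ha y hy, map_commutatorElement a x y⟩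
        · refine Subgroup.mem_comap.2 ?_
          apply Subgroup.subset_closure
          right
          exact ⟨a x, hRA a ha x hx, map_pow a x p⟩
      exact this hg
    have hKfix := ih (Nat.card K) (by rw [← hcard]; exact card_lt_of_lt' hKR) K rfl hKA
      (fun D hDK => hD D (hDK.trans hKR.le))
    have hcomK : ∀ x ∈ R, ∀ y ∈ R, ⁅x, y⁆ ∈ K := fun x hx y hy =>
      Subgroup.subset_closure (Or.inl ⟨x, hx, y, hy, rfl⟩)
    have hpowK : ∀ x ∈ R, x ^ p ∈ K := fun x hx =>
      Subgroup.subset_closure (Or.inr ⟨x, hx, rfl⟩)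
    have hKn : ∀ r ∈ R, ∀ k ∈ K, r * k * r⁻¹ ∈ K := by
      intro r hr k hk
      have h1 : r * k * r⁻¹ = ⁅r, k⁆ * k := by
        rw [commutatorElement_def]; simp [mul_assoc]
      rw [h1]
      exact K.mul_mem (hcomK r hr k (hKR.le hk)) hk
    -- `K` is central in `R`
    have hcent : ∀ k ∈ K, ∀ r ∈ R, r * k = k * r := by
      intro k hk
      have : R₁ ≤ Subgroup.centralizer {k} := by
        rw [hR₁, Subgroup.closure_le]
        rintro _ ⟨x, hx, b, hb, rfl⟩
        rw [SetLike.mem_coe, Subgroup.mem_centralizer_iff]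
        intro h hh
        rw [Set.mem_singleton_iff] at hh
        subst hh
        have e1 := hKfix b hb _ (hKn x hx h hk)
        have e2 := hKfix b hb h hk
        rw [map_mul, map_mul, map_inv, e2] at e1
        -- e1 : b x * h * (b x)⁻¹ = x * h * x⁻¹
        calc h * (x⁻¹ * b x) = x⁻¹ * (x * h * x⁻¹) * b x := by simp [mul_assoc]
          _ = x⁻¹ * (b x * h * (b x)⁻¹) * b x := by rw [e1]
          _ = x⁻¹ * b x * h := by simp [mul_assoc]
      intro r hr
      have hr1 : r ∈ R₁ := by rw [heq]; exact hr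
      have := this hr1
      rw [Subgroup.mem_centralizer_iff] at this
      exact (this k rfl).symm
    have hmul : ∀ x ∈ R, ∀ y ∈ R, (x * y) ^ sq p = x ^ sq p * y ^ sq p := by
      intro x hx y hy
      have hwK : y⁻¹ * x⁻¹ * y * x ∈ K := by
        have := hcomK y⁻¹ (R.inv_mem hy) x⁻¹ (R.inv_mem hx)
        rw [commutatorElement_def, inv_inv, inv_inv] at this
        exact this
      apply mul_pow_sq (w := y⁻¹ * x⁻¹ * y * x)
      · simp [mul_assoc]
      · exact (hcent _ hwK x hx).symm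
      · exact (hcent _ hwK y hy).symm
      · exact (hcent _ (hpowK y hy) x hx).symm
    have hsqK : ∀ x ∈ R, x ^ sq p ∈ K := by
      intro x hx
      unfold sq
      split_ifs with h2
      · have := hpowK x hx
        rw [h2] at this
        have h4 : x ^ 4 = (x ^ 2) ^ 2 := by rw [← pow_mul]
        rw [h4]
        exact K.pow_mem this 2
      · exact hpowK x hx
    let D : Subgroup P :=
      { carrier := {x | x ∈ R ∧ x ^ sq p = 1}
        mul_mem' := by
          rintro x y ⟨hx, hx1⟩ ⟨hy, hy1⟩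
          exact ⟨R.mul_mem hx hy, by rw [hmul x hx y hy, hx1, hy1, mul_one]⟩
        one_mem' := ⟨R.one_mem, one_pow _⟩
        inv_mem' := by
          rintro x ⟨hx, hx1⟩
          exact ⟨R.inv_mem hx, by rw [inv_pow, hx1, inv_one]⟩ }
    have hDR : D ≤ R := fun x hx => hx.1
    have hDfix := hD D hDR
      (fun a ha x hx => ⟨hRA a ha x hx.1, by rw [← map_pow, hx.2, map_one]⟩)
      (fun x hx => hx.2)
    have hRD : R ≤ D := by
      rw [← heq, hR₁, Subgroup.closure_le]
      rintro _ ⟨x, hx, b, hb, rfl⟩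
      have hbx : b x ∈ R := hRA b (hBA b hb) x hx
      refine ⟨R.mul_mem (R.inv_mem hx) hbx, ?_⟩
      rw [hmul _ (R.inv_mem hx) _ hbx, ← map_pow, hKfix b hb _ (hsqK x hx), inv_pow,
        inv_mul_cancel]
    intro b hb x hx
    exact hDfix b hb x (hRD hx)

end Thompson

section Main

variable {P : Type*} [Group P] [Finite P] {p : ℕ} [hp : Fact p.Prime]

/-- Criterion for `T ≤ A` to lie in a normal `p`-subgroup of `A`.  `R` is an `A`-invariant subgroup containing all
commutators `x⁻¹ b(x)` with `b ∈ A` of order prime to `p`; `Z` is a chain of subgroups from `⊥` to `⊤`, stabilized by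
`T`, whose members are preserved by `A` as far as the elements of `R` of order dividing `sq p` are concerned. -/
theorem exists_normal_pgroup (hP : IsPGroup p P) (A T : Subgroup (MulAut P)) (hTA : T ≤ A)
    (R : Subgroup P) (hR : ∀ a ∈ A, ∀ x ∈ R, a x ∈ R)
    (hRb : ∀ b ∈ A, (orderOf b).Coprime p → ∀ x : P, x⁻¹ * b x ∈ R)
    (Z : ℕ → Subgroup P) (hZ0 : Z 0 = ⊥) (n : ℕ) (hZn : Z n = ⊤)
    (hZT : ∀ t ∈ T, ∀ i, ∀ x ∈ Z (i + 1), x⁻¹ * t x ∈ Z i)
    (hZA : ∀ a ∈ A, ∀ x ∈ R, x ^ sq p = 1 → ∀ i, x ∈ Z i → a x ∈ Z i) :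
    ∃ N : Subgroup (MulAut P), N ≤ A ∧ T ≤ N ∧ (∀ a ∈ A, ∀ g ∈ N, a * g * a⁻¹ ∈ N) ∧
      IsPGroup p N := by
  have : Finite (MulAut P) :=
    Finite.of_injective (fun e : MulAut P => (e : P → P)) DFunLike.coe_injective
  set N : Subgroup (MulAut P) := Subgroup.closure {g | ∃ a ∈ A, ∃ t ∈ T, g = a * t * a⁻¹} with hN
  have hNA : N ≤ A := by
    rw [hN, Subgroup.closure_le]
    rintro _ ⟨a, ha, t, ht, rfl⟩
    exact A.mul_mem (A.mul_mem ha (hTA ht)) (A.inv_mem ha)
  have hTN : T ≤ N := by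
    intro t ht
    apply Subgroup.subset_closure
    exact ⟨1, A.one_mem, t, ht, by simp⟩
  have hNconj : ∀ a ∈ A, ∀ g ∈ N, a * g * a⁻¹ ∈ N := by
    intro a ha g hg
    have : N ≤ N.comap (MulAut.conj a).toMonoidHom := by
      rw [hN, Subgroup.closure_le]
      rintro _ ⟨c, hc, t, ht, rfl⟩
      refine Subgroup.mem_comap.2 ?_
      apply Subgroup.subset_closure
      refine ⟨a * c, A.mul_mem ha hc, t, ht, ?_⟩
      show a * (c * t * c⁻¹) * a⁻¹ = _
      rw [mul_inv_rev]
      simp only [mul_assoc]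
    exact this hg
  refine ⟨N, hNA, hTN, hNconj, ?_⟩
  apply isPGroup_of_coprime_trivial
  -- the set of elements of `N` of order prime to `p`
  set B : Set (MulAut P) := {b | b ∈ N ∧ (orderOf b).Coprime p} with hB
  have hBA : ∀ b ∈ B, b ∈ A := fun b hb => hNA hb.1
  have hBp : ∀ b ∈ B, (orderOf b).Coprime p := fun b hb => hb.2
  have hconj : ∀ a ∈ A, ∀ b ∈ B, a * b * a⁻¹ ∈ B := by
    intro a ha b hb
    refine ⟨hNconj a ha b hb.1, ?_⟩
    have : orderOf (a * b * a⁻¹) = orderOf b := by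
      have := MulEquiv.orderOf_eq (MulAut.conj a) b
      rwa [MulAut.conj_apply] at this
    rw [this]
    exact hb.2
  have key : ∀ b ∈ B, ∀ x ∈ R, b x = x := by
    apply fix_of_fix_smallExp hP A B hBA hBp hconj (Nat.card R) R rfl hR
    intro D hDR hDA hDexp
    -- the chain `D ⊓ Z i`
    have hCA : ∀ a ∈ A, ∀ i, ∀ x ∈ D ⊓ Z i, a x ∈ D ⊓ Z i := by
      intro a ha i x hx
      exact ⟨hDA a ha x hx.1, hZA a ha x (hDR hx.1) (hDexp x hx.1) i hx.2⟩
    let Stab : Subgroup (MulAut P) :=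
      { carrier := {g | g ∈ A ∧ ∀ i, ∀ x ∈ D ⊓ Z (i + 1), x⁻¹ * g x ∈ D ⊓ Z i}
        mul_mem' := by
          rintro g h ⟨hgA, hg⟩ ⟨hhA, hh⟩
          refine ⟨A.mul_mem hgA hhA, fun i x hx => ?_⟩
          have h1 := hh i x hx
          have h2 := hg i x hx
          have h3 := hCA g hgA i _ h1
          have e : x⁻¹ * (g * h) x = (x⁻¹ * g x) * g (x⁻¹ * h x) := by
            rw [MulAut.mul_apply, map_mul, map_inv]
            simp only [mul_assoc, mul_inv_cancel_left]
          rw [e]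
          exact (D ⊓ Z i).mul_mem h2 h3
        one_mem' := by
          refine ⟨A.one_mem, fun i x _ => ?_⟩
          rw [MulAut.one_apply, inv_mul_cancel]
          exact (D ⊓ Z i).one_mem
        inv_mem' := by
          rintro g ⟨hgA, hg⟩
          refine ⟨A.inv_mem hgA, fun i x hx => ?_⟩
          have hy := hCA g⁻¹ (A.inv_mem hgA) (i + 1) x hx
          have h1 := hg i _ hy
          rw [MulAut.apply_inv_self] at h1
          have e : x⁻¹ * g⁻¹ x = ((g⁻¹ x)⁻¹ * x)⁻¹ := by
            rw [mul_inv_rev, inv_inv]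
          rw [e]
          exact (D ⊓ Z i).inv_mem h1 }
    have hStabT : T ≤ Stab := by
      intro t ht
      refine ⟨hTA ht, fun i x hx => ⟨?_, hZT t ht i x hx.2⟩⟩
      exact D.mul_mem (D.inv_mem hx.1) (hDA t (hTA ht) x hx.1)
    have hStabconj : ∀ a ∈ A, ∀ g ∈ Stab, a * g * a⁻¹ ∈ Stab := by
      rintro a ha g ⟨hgA, hg⟩
      refine ⟨A.mul_mem (A.mul_mem ha hgA) (A.inv_mem ha), fun i x hx => ?_⟩
      have hy := hCA a⁻¹ (A.inv_mem ha) (i + 1) x hx
      have h1 := hg i _ hy
      have h2 := hCA a ha i _ h1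
      have e : x⁻¹ * (a * g * a⁻¹) x = a ((a⁻¹ x)⁻¹ * g (a⁻¹ x)) := by
        rw [MulAut.mul_apply, MulAut.mul_apply, map_mul, map_inv, MulAut.apply_inv_self]
      rw [e]
      exact h2
    have hNStab : N ≤ Stab := by
      rw [hN, Subgroup.closure_le]
      rintro _ ⟨a, ha, t, ht, rfl⟩
      exact hStabconj a ha t (hStabT ht)
    intro b hb
    have hbS : b ∈ Stab := hNStab hb.1
    have hfix : ∀ i, ∀ x ∈ D ⊓ Z i, b x = x := by
      intro i
      induction i with
      | zero =>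
        intro x hx
        rw [hZ0, inf_bot_eq, Subgroup.mem_bot] at hx
        rw [hx, map_one]
      | succ i ih =>
        intro x hx
        apply fix_of_coprime hP b hb.2 x
        exact ih _ (hbS.2 i x hx)
    intro x hx
    exact hfix n x ⟨hx, by rw [hZn]; exact Subgroup.mem_top x⟩
  intro b hbN hbp
  have hbB : b ∈ B := ⟨hbN, hbp⟩
  ext x
  rw [MulAut.one_apply]
  apply fix_of_coprime hP b hbp x
  exact key b hbB _ (hRb b (hNA hbN) hbp x)

end Main

end Cfsg.Agent.Helper87.SmallExp
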