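import Mathlib

set_option autoImplicit false

namespace Cfsg.Agent.Helper87

section SqStab

variable {R : Type*} [CommGroup R]

/-- automorphisms of a commutative group acting trivially modulo squares -/
def sqStab (R : Type*) [CommGroup R] : Subgroup (MulAut R) where
  carrier := {β | ∀ v, ∃ w, v⁻¹ * β v = w ^ 2}
  one_mem' := fun v => ⟨1, by simp⟩
  mul_mem' := fun {α β} hα hβ v => by
    obtain ⟨w₁, h1⟩ := hβ v
    obtain ⟨w₂, h2⟩ := hα (β v)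
    refine ⟨w₁ * w₂, ?_⟩
    rw [mul_pow, ← h1, ← h2, MulAut.mul_apply]
    group
  inv_mem' := fun {β} hβ v => by
    obtain ⟨w, h1⟩ := hβ (β⁻¹ v)
    rw [MulAut.apply_inv_self] at h1
    refine ⟨w⁻¹, ?_⟩
    rw [inv_pow, ← h1]
    group

theorem mem_sqStab {β : MulAut R} : β ∈ sqStab R ↔ ∀ v, ∃ w, v⁻¹ * β v = w ^ 2 := Iff.rfl

theorem sqStab_conj (γ : MulAut R) {β : MulAut R} (hβ : β ∈ sqStab R) :
    γ * β * γ⁻¹ ∈ sqStab R := by
  intro v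
  obtain ⟨w, hw⟩ := hβ (γ⁻¹ v)
  refine ⟨γ w, ?_⟩
  rw [← map_pow, ← hw, map_mul, map_inv, MulAut.apply_inv_self]
  rfl

theorem sqStab_pow {β : MulAut R} (hβ : β ∈ sqStab R) (i : ℕ) :
    ∀ v, ∃ w, v⁻¹ * (β ^ (2 ^ i)) v = w ^ (2 ^ (i + 1)) := by
  induction i with
  | zero =>
    intro v
    obtain ⟨w, hw⟩ := hβ v
    exact ⟨w, by simpa using hw⟩
  | succ i ih =>
    intro v
    obtain ⟨w, hw⟩ := ih v
    obtain ⟨u, hu⟩ := ih w
    have h1 : (β ^ (2 ^ i)) v = v * w ^ (2 ^ (i + 1)) := by rw [← hw]; group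
    have h2 : (β ^ (2 ^ i)) w = w * u ^ (2 ^ (i + 1)) := by rw [← hu]; group
    refine ⟨w * u ^ (2 ^ i), ?_⟩
    have e1 : β ^ (2 ^ (i + 1)) = β ^ (2 ^ i) * β ^ (2 ^ i) := by
      rw [← pow_add, pow_succ, mul_two]
    rw [e1, MulAut.mul_apply, h1, map_mul, map_pow, h2, h1]
    have e2 : (2 : ℕ) ^ (i + 1 + 1) = 2 ^ (i + 1) * 2 := pow_succ _ _
    have e3 : (2 : ℕ) ^ (i + 1) = 2 ^ i * 2 := pow_succ _ _
    rw [e2, mul_pow, mul_pow, pow_mul, pow_mul, ← pow_mul u, ← pow_mul u, ← pow_mul u]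
    have e4 : 2 ^ (i + 1) * 2 ^ (i + 1) = 2 ^ i * 2 ^ (i + 1) * 2 := by
      rw [e3]; ring
    rw [e4, pow_two]
    have : v⁻¹ * (v * w ^ 2 ^ (i + 1) * (w ^ 2 ^ (i + 1) * u ^ (2 ^ i * 2 ^ (i + 1) * 2))) =
        w ^ 2 ^ (i + 1) * w ^ 2 ^ (i + 1) * u ^ (2 ^ i * 2 ^ (i + 1) * 2) := by group
    exact this

theorem sqStab_isPGroup [Finite R] (hR : IsPGroup 2 R) (K : Subgroup (MulAut R)) :
    IsPGroup 2 ((sqStab R).subgroupOf K) := by
  obtain ⟨a, ha⟩ := IsPGroup.iff_card.1 hR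
  intro g
  refine ⟨a, ?_⟩
  apply Subtype.ext
  apply Subtype.ext
  have hg : (g : MulAut R) ∈ sqStab R := Subgroup.mem_subgroupOf.1 g.2
  show (((g ^ 2 ^ a : (sqStab R).subgroupOf K) : K) : MulAut R) = 1
  rw [Subgroup.coe_pow, Subgroup.coe_pow]
  ext v
  obtain ⟨w, hw⟩ := sqStab_pow hg a v
  have h1 : w ^ 2 ^ (a + 1) = 1 := by
    rw [pow_succ, pow_mul, ← ha, pow_card_eq_one', one_pow]
  rw [h1] at hw
  have : ((g : MulAut R) ^ 2 ^ a) v = v := by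
    rw [inv_mul_eq_one] at hw
    exact hw.symm
  simpa using this

end SqStab

end Cfsg.Agent.Helper87
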