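import Mathlib
import Cfsg.Prelude.Def_LieRecognition

set_option autoImplicit false

/-!
# The model group of type A

`TA F φ` is the group on `F × F` with `(x, y) * (x', y') = (x + x', y + y' + φ x * x')`.
It is isomorphic to `Cfsg.suzukiTypeA F φ`.
-/

namespace Cfsg.Agent.Helper87.TypeA

/-- The carrier of the model group. -/
@[ext]
structure TA (F : Type*) [Field F] (φ : F →+* F) where
  x : F
  y : F

variable {F : Type*} [Field F] {φ : F →+* F}

instance : Mul (TA F φ) := ⟨fun a b => ⟨a.x + b.x, a.y + b.y + φ a.x * b.x⟩⟩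
instance : One (TA F φ) := ⟨⟨0, 0⟩⟩
instance : Inv (TA F φ) := ⟨fun a => ⟨-a.x, -a.y + φ a.x * a.x⟩⟩

@[simp] theorem mul_x (a b : TA F φ) : (a * b).x = a.x + b.x := rfl
@[simp] theorem mul_y (a b : TA F φ) : (a * b).y = a.y + b.y + φ a.x * b.x := rfl
@[simp] theorem one_x : (1 : TA F φ).x = 0 := rfl
@[simp] theorem one_y : (1 : TA F φ).y = 0 := rfl
@[simp] theorem inv_x (a : TA F φ) : (a⁻¹).x = -a.x := rfl
@[simp] theorem inv_y (a : TA F φ) : (a⁻¹).y = -a.y + φ a.x * a.x := rfl

instance : Group (TA F φ) where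
  mul_assoc a b c := by
    ext
    · simp [add_assoc]
    · simp only [mul_y, mul_x, map_add]; ring
  one_mul a := by ext <;> simp
  mul_one a := by ext <;> simp
  inv_mul_cancel a := by
    ext
    · simp
    · simp only [mul_y, inv_y, inv_x, map_neg, one_y]; ring

instance [Finite F] : Finite (TA F φ) :=
  Finite.of_injective (fun t : TA F φ => (t.x, t.y))
    (fun a b h => TA.ext (congrArg Prod.fst h) (congrArg Prod.snd h))

theorem zmap_injective_aux (y y' : F) (h : (⟨0, y⟩ : TA F φ) = ⟨0, y'⟩) : y = y' :=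
  congrArg TA.y h

/-- the matrix attached to an element of the model group -/
def toMat (a : TA F φ) : Matrix (Fin 3) (Fin 3) F :=
  !![1, 0, 0; a.x, 1, 0; a.y, φ a.x, 1]

theorem toMat_mul (a b : TA F φ) : toMat (a * b) = toMat a * toMat b := by
  unfold toMat
  rw [Matrix.mul_fin_three]
  simp only [mul_x, mul_y, map_add]
  congr 1
  ext i j
  fin_cases i <;> fin_cases j <;> simp <;> ring

theorem toMat_one : toMat (1 : TA F φ) = 1 := by
  unfold toMat
  ext i j
  fin_cases i <;> fin_cases j <;> simp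

/-- the matrix representation as a monoid hom -/
def toMatHom : TA F φ →* Matrix (Fin 3) (Fin 3) F where
  toFun := toMat
  map_one' := toMat_one
  map_mul' := toMat_mul

/-- the matrix representation with values in `GL` -/
noncomputable def toGL : TA F φ →* GL (Fin 3) F := (toMatHom (φ := φ)).toHomUnits

theorem toGL_val (a : TA F φ) : ((toGL a : GL (Fin 3) F) : Matrix (Fin 3) (Fin 3) F) = toMat a := rfl

theorem toMat_injective : Function.Injective (toMat (φ := φ)) := by
  intro a b h
  have h1 := congrFun (congrFun h 1) 0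
  have h2 := congrFun (congrFun h 2) 0
  simp [toMat] at h1 h2
  exact TA.ext h1 h2

theorem toGL_injective : Function.Injective (toGL (φ := φ)) := by
  intro a b h
  apply toMat_injective
  rw [← toGL_val, ← toGL_val, h]

theorem range_toGL : (toGL (φ := φ)).range = Cfsg.suzukiTypeA F φ := by
  unfold Cfsg.suzukiTypeA
  have hset : {g : GL (Fin 3) F | ∃ x y : F,
      (g : Matrix (Fin 3) (Fin 3) F) = !![1, 0, 0; x, 1, 0; y, φ x, 1]} =
      ((toGL (φ := φ)).range : Set (GL (Fin 3) F)) := by
    ext g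
    constructor
    · rintro ⟨x, y, hg⟩
      refine ⟨⟨x, y⟩, ?_⟩
      apply Units.ext
      rw [toGL_val, hg]; rfl
    · rintro ⟨a, rfl⟩
      exact ⟨a.x, a.y, rfl⟩
  rw [hset, Subgroup.closure_eq]

/-- the model group is isomorphic to the matrix group of type A -/
noncomputable def equivSuzukiTypeA : TA F φ ≃* Cfsg.suzukiTypeA F φ :=
  (MonoidHom.ofInjective (toGL_injective (φ := φ))).trans
    (MulEquiv.subgroupCongr (range_toGL (φ := φ)))

/-- the central subgroup `{(0, y)}` -/
def ZZ (F : Type*) [Field F] (φ : F →+* F) : Subgroup (TA F φ) where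
  carrier := {t | t.x = 0}
  mul_mem' := by
    intro a b ha hb
    change _ = _ at ha hb ⊢
    simp [ha, hb]
  one_mem' := rfl
  inv_mem' := by
    intro a ha
    change _ = _ at ha ⊢
    simp [ha]

theorem mem_ZZ (t : TA F φ) : t ∈ ZZ F φ ↔ t.x = 0 := Iff.rfl

theorem ZZ_le_center : ZZ F φ ≤ Subgroup.center (TA F φ) := by
  intro t ht
  rw [mem_ZZ] at ht
  rw [Subgroup.mem_center_iff]
  intro s
  ext
  · simp [add_comm]
  · simp only [mul_y, ht, map_zero, zero_mul, mul_zero, add_zero]; ring

/-- the embedding `y ↦ (0, y)` of the additive group of `F` -/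
def zmap (F : Type*) [Field F] (φ : F →+* F) (y : F) : TA F φ := ⟨0, y⟩

theorem zmap_add (y y' : F) : zmap F φ (y + y') = zmap F φ y * zmap F φ y' := by
  ext <;> simp [zmap]

theorem sq_eq [CharP F 2] (t : TA F φ) : t * t = zmap F φ (φ t.x * t.x) := by
  ext
  · simp [zmap, CharTwo.add_self_eq_zero]
  · simp [zmap, CharTwo.add_self_eq_zero]

end Cfsg.Agent.Helper87.TypeA
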