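import Mathlib
import Cfsg.Agent.Lib.Helper92.U6Defs

/-!
# U6 (COMP), part 0: the code of a vector of `F4^6` and the property checked on the table `isoL`
(helper92's lemma server for S1684)
-/

set_option autoImplicit false

namespace Cfsg.Agent.Helper87.U6

open Cfsg.Agent.Helper92.U6

/-- the code `0..3` of an element of `F4` -/
def h87dg (x : F) : ℕ := x.1.val + 2 * x.2.val

theorem h87dg_lt : ∀ x : F, h87dg x < 4 := by decide

theorem h87fc_dg : ∀ x : F, fc (h87dg x) = x := by decide

/-- the code `< 4096` of a vector (Horner form) -/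
def h87code (w : Fin 6 → F) : ℕ :=
  h87dg (w 0) + 4 * (h87dg (w 1) + 4 * (h87dg (w 2) + 4 * (h87dg (w 3) + 4 * (h87dg (w 4) + 4 * h87dg (w 5)))))

theorem h87code_lt (w : Fin 6 → F) : h87code w < 4096 := by
  have h0 := h87dg_lt (w 0)
  have h1 := h87dg_lt (w 1)
  have h2 := h87dg_lt (w 2)
  have h3 := h87dg_lt (w 3)
  have h4 := h87dg_lt (w 4)
  have h5 := h87dg_lt (w 5)
  unfold h87code
  omega

theorem h87vecOfCode_code (w : Fin 6 → F) : vecOfCode (h87code w) = w := by
  have h0 := h87dg_lt (w 0)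
  have h1 := h87dg_lt (w 1)
  have h2 := h87dg_lt (w 2)
  have h3 := h87dg_lt (w 3)
  have h4 := h87dg_lt (w 4)
  have h5 := h87dg_lt (w 5)
  funext k
  unfold vecOfCode
  have key : h87code w / 4 ^ k.val % 4 = h87dg (w k) := by
    unfold h87code
    fin_cases k
    · show _ / 4 ^ 0 % 4 = h87dg (w 0)
      norm_num
      omega
    · show _ / 4 ^ 1 % 4 = h87dg (w 1)
      norm_num
      omega
    · show _ / 4 ^ 2 % 4 = h87dg (w 2)
      norm_num
      omega
    · show _ / 4 ^ 3 % 4 = h87dg (w 3)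
      norm_num
      omega
    · show _ / 4 ^ 4 % 4 = h87dg (w 4)
      norm_num
      omega
    · show _ / 4 ^ 5 % 4 = h87dg (w 5)
      norm_num
      omega
  rw [key, h87fc_dg]

/-- the property of the table entry number `c` -/
def h87P (c : ℕ) : Prop :=
  vecOfCode c = 0 ∨ hf (vecOfCode c) (vecOfCode c) ≠ 0 ∨
    (isoL.getD c 0 / 4 < 693 ∧ fc (isoL.getD c 0 % 4) ≠ 0 ∧
      vecOfCode c = fc (isoL.getD c 0 % 4) • vec (isoL.getD c 0 / 4))

instance h87P_dec : DecidablePred h87P := fun c => by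
  unfold h87P
  infer_instance

end Cfsg.Agent.Helper87.U6
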