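import Mathlib
import Cfsg.Agent.Lib.Helper87.U6COMP0

/-!
# U6 (COMP), part b: kernel check of a quarter of the table `isoL` (helper92's lemma server for S1684)
-/

set_option autoImplicit false

namespace Cfsg.Agent.Helper87.U6

open Cfsg.Agent.Helper92.U6

set_option maxRecDepth 1000000 in
theorem h87chunk4 : ∀ c < 256, h87P (256 * 4 + c) := by
  decide +kernel

set_option maxRecDepth 1000000 in
theorem h87chunk5 : ∀ c < 256, h87P (256 * 5 + c) := by
  decide +kernel

set_option maxRecDepth 1000000 in
theorem h87chunk6 : ∀ c < 256, h87P (256 * 6 + c) := by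
  decide +kernel

set_option maxRecDepth 1000000 in
theorem h87chunk7 : ∀ c < 256, h87P (256 * 7 + c) := by
  decide +kernel

end Cfsg.Agent.Helper87.U6
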