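import Mathlib
import Cfsg.Agent.Lib.Helper87.U6COMP0
import Cfsg.Agent.Lib.Helper87.U6COMPa
import Cfsg.Agent.Lib.Helper87.U6COMPb
import Cfsg.Agent.Lib.Helper87.U6COMPc
import Cfsg.Agent.Lib.Helper87.U6COMPd

/-!
# U6 (COMP): every non-zero isotropic vector of `F4^6` is a scalar multiple of one of the 693
(helper92's lemma server for S1684; name + statement verbatim from `tools/u6_sigs_helper92.lean.txt`)
-/

set_option autoImplicit false

namespace Cfsg.Agent.Helper87.U6

open Cfsg.Agent.Helper92.U6

/-- the whole table `isoL` is right -/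
theorem h87table : ∀ c < 4096, h87P c := by
  intro c hc
  have h1 : c = 256 * (c / 256) + c % 256 := (Nat.div_add_mod c 256).symm
  have h2 : c % 256 < 256 := Nat.mod_lt _ (by norm_num)
  have h3 : c / 256 < 16 := by omega
  rw [h1]
  generalize c / 256 = j at h3
  generalize c % 256 = r at h2
  interval_cases j
  · exact h87chunk0 r h2
  · exact h87chunk1 r h2
  · exact h87chunk2 r h2
  · exact h87chunk3 r h2
  · exact h87chunk4 r h2
  · exact h87chunk5 r h2
  · exact h87chunk6 r h2
  · exact h87chunk7 r h2
  · exact h87chunk8 r h2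
  · exact h87chunk9 r h2
  · exact h87chunk10 r h2
  · exact h87chunk11 r h2
  · exact h87chunk12 r h2
  · exact h87chunk13 r h2
  · exact h87chunk14 r h2
  · exact h87chunk15 r h2

/-- (COMP) completeness: every non-zero isotropic vector is a scalar multiple of one of the 693. -/
theorem exists_smul_vec (w : Fin 6 → F) (hw : w ≠ 0) (hiso : hf w w = 0) :
    ∃ i < 693, ∃ c : F, c ≠ 0 ∧ w = c • vec i := by
  have h := h87table (h87code w) (h87code_lt w)
  unfold h87P at h
  rw [h87vecOfCode_code] at h
  rcases h with h | h | ⟨h1, h2, h3⟩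
  · exact absurd h hw
  · exact absurd hiso h
  · exact ⟨_, h1, _, h2, h3⟩

end Cfsg.Agent.Helper87.U6
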