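import Mathlib
import Cfsg.Agent.Lib.Helper92.U6Defs

/-!
# U6 (ISOV): the 693 vectors of `U6Data` are isotropic
(helper92's lemma server for S1684; name + statement verbatim from `tools/u6_sigs_helper92.lean.txt`)
-/

set_option autoImplicit false

namespace Cfsg.Agent.Helper87.U6

open Cfsg.Agent.Helper92.U6

set_option maxRecDepth 1000000 in
/-- (ISOV) the 693 vectors are isotropic. -/
theorem vec_isotropic : ∀ i < 693, hf (vec i) (vec i) = 0 := by
  decide +kernel

end Cfsg.Agent.Helper87.U6
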