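import Mathlib
import Cfsg.Agent.Lib.Helper92.U6Defs

/-!
# U6 (TREE): the Schreier tree of `U6Data` reaches every index from the root `0`
(helper92's lemma server for S1684; name + statement verbatim from `tools/u6_sigs_helper92.lean.txt`)
-/

set_option autoImplicit false

namespace Cfsg.Agent.Helper87.U6

open Cfsg.Agent.Helper92.U6

set_option maxRecDepth 1000000 in
/-- (TREE) the Schreier tree of U6Data reaches every index from the root `0`. -/
theorem tree_ok : ∀ j < 693, j ≠ 0 → treeG.getD j 0 < 9 ∧ treeP.getD j 0 < 693 ∧
    act (treeG.getD j 0) (treeP.getD j 0) = j ∧ treeR.getD (treeP.getD j 0) 0 < treeR.getD j 0 := by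
  decide +kernel

end Cfsg.Agent.Helper87.U6
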